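import Mathlib.RingTheory.Ideal.AssociatedPrime.Finiteness
import Mathlib.RingTheory.Ideal.AssociatedPrime.Basic
import Mathlib.RingTheory.Regular.IsSMulRegular
import Mathlib.RingTheory.LocalRing.ResidueField.Basic
import Mathlib.RingTheory.Ideal.Operations

set_option autoImplicit false
universe u v

namespace Groth.Agent.Lib.Helper29

open IsLocalRing

/-- Over a Noetherian ring, `x` is not `N`-regular iff it lies in some associated prime. -/
theorem not_isSMulRegular_iff_mem_biUnion_ass (A : Type u) [CommRing A] [IsNoetherianRing A]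
    (N : Type v) [AddCommGroup N] [Module A N] (x : A) :
    ¬ IsSMulRegular N x ↔ x ∈ ⋃ p ∈ associatedPrimes A N, (p : Set A) := by
  rw [biUnion_associatedPrimes_eq_zero_divisors, isSMulRegular_iff_right_eq_zero_of_smul]
  simp only [Set.mem_ofPred_eq]
  constructor
  · intro h
    by_contra h'
    apply h
    intro m hm
    by_contra hm0
    exact h' ⟨m, hm0, hm⟩
  · rintro ⟨m, hm0, hm⟩ h
    exact hm0 (h m hm)

/-- Local Noetherian, finite module: every element of the maximal ideal is a zero divisor iff the
maximal ideal is associated. -/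
theorem forall_not_isSMulRegular_iff_maximalIdeal_mem_ass (A : Type u) [CommRing A] [IsLocalRing A]
    [IsNoetherianRing A] (N : Type v) [AddCommGroup N] [Module A N] [Module.Finite A N] :
    (∀ x ∈ maximalIdeal A, ¬ IsSMulRegular N x) ↔ maximalIdeal A ∈ associatedPrimes A N := by
  constructor
  · intro h
    have hsub : ((maximalIdeal A : Ideal A) : Set A) ⊆ ⋃ p ∈ associatedPrimes A N, (p : Set A) := by
      intro x hx
      exact (not_isSMulRegular_iff_mem_biUnion_ass A N x).mp (h x hx)
    have hfin : (associatedPrimes A N).Finite := associatedPrimes.finite A N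
    have hsub' : ((maximalIdeal A : Ideal A) : Set A) ⊆
        ⋃ p ∈ ((hfin.toFinset : Finset (Ideal A)) : Set (Ideal A)), ((id p : Ideal A) : Set A) := by
      simpa using hsub
    rw [Ideal.subset_union_prime (f := id) (maximalIdeal A) (maximalIdeal A)] at hsub'
    · obtain ⟨p, hp, hle⟩ := hsub'
      have hp' : p ∈ associatedPrimes A N := by simpa using hp
      have hprime : p.IsPrime := hp'.isPrime
      have : maximalIdeal A = p :=
        (maximalIdeal.isMaximal A).eq_of_le hprime.ne_top hle
      rw [this]; exact hp'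
    · intro p hp _ _
      have hp' : p ∈ associatedPrimes A N := by simpa using hp
      exact hp'.isPrime
  · intro h x hx
    rw [not_isSMulRegular_iff_mem_biUnion_ass]
    exact Set.mem_biUnion h hx

/-- The residue field as an `A`-module is the quotient module `A ⧸ 𝔪`. -/
def residueFieldLinearEquiv (A : Type u) [CommRing A] [IsLocalRing A] :
    (A ⧸ maximalIdeal A) ≃ₗ[A] ResidueField A where
  toFun := id
  invFun := id
  map_add' := fun _ _ => rfl
  map_smul' := fun _ _ => rfl
  left_inv := fun _ => rfl
  right_inv := fun _ => rfl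

theorem exists_injective_iff_nontrivial_hom_quot (A : Type u) [CommRing A] [IsLocalRing A]
    (N : Type v) [AddCommGroup N] [Module A N] :
    (∃ f : (A ⧸ maximalIdeal A) →ₗ[A] N, Function.Injective f) ↔
      Nontrivial ((A ⧸ maximalIdeal A) →ₗ[A] N) := by
  constructor
  · rintro ⟨f, hf⟩
    refine ⟨⟨f, 0, ?_⟩⟩
    intro h
    have h1 : f (Submodule.Quotient.mk (1 : A)) = 0 := by rw [h]; rfl
    have h2 : (Submodule.Quotient.mk (1 : A) : A ⧸ maximalIdeal A) = 0 :=
      hf (by rw [h1, map_zero])
    rw [Submodule.Quotient.mk_eq_zero] at h2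
    exact (maximalIdeal.isMaximal A).ne_top ((Ideal.eq_top_iff_one _).mpr h2)
  · intro h
    obtain ⟨f, hf⟩ := exists_ne (0 : (A ⧸ maximalIdeal A) →ₗ[A] N)
    refine ⟨f, ?_⟩
    rw [← LinearMap.ker_eq_bot]
    by_contra hker
    apply hf
    obtain ⟨z, hz, hz0⟩ := (Submodule.ne_bot_iff _).mp hker
    obtain ⟨b, rfl⟩ := Submodule.Quotient.mk_surjective _ z
    have hb : b ∉ maximalIdeal A := by
      intro hb
      apply hz0
      exact (Submodule.Quotient.mk_eq_zero _).mpr hb
    have hbu : IsUnit b := by
      by_contra hnu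
      exact hb ((mem_maximalIdeal b).mpr hnu)
    obtain ⟨u, rfl⟩ := hbu
    rw [LinearMap.mem_ker] at hz
    refine LinearMap.ext fun y => ?_
    obtain ⟨a, rfl⟩ := Submodule.Quotient.mk_surjective _ y
    have : (Submodule.Quotient.mk a : A ⧸ maximalIdeal A) =
        ((a * (↑u⁻¹ : A)) • (Submodule.Quotient.mk (u : A)) : A ⧸ maximalIdeal A) := by
      rw [← Submodule.Quotient.mk_smul]
      congr 1
      simp [mul_assoc]
    rw [this, map_smul, hz, smul_zero]
    rfl

/-- The maximal ideal is associated iff there is a nonzero map from the residue field. -/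
theorem maximalIdeal_mem_ass_iff_nontrivial_hom (A : Type u) [CommRing A] [IsLocalRing A]
    [IsNoetherianRing A] (N : Type v) [AddCommGroup N] [Module A N] :
    maximalIdeal A ∈ associatedPrimes A N ↔ Nontrivial (ResidueField A →ₗ[A] N) := by
  rw [AssociatedPrimes.mem_iff, isAssociatedPrime_iff_exists_injective_linearMap]
  have h1 : (maximalIdeal A).IsPrime := inferInstance
  rw [and_iff_right h1, exists_injective_iff_nontrivial_hom_quot]
  exact (LinearEquiv.arrowCongr (residueFieldLinearEquiv A) (LinearEquiv.refl A N)).toEquiv.nontrivial_congr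

end Groth.Agent.Lib.Helper29
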