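import Mathlib.Algebra.Category.ModuleCat.InjectiveDimension
import Mathlib.Algebra.Category.ModuleCat.Ext.HasExt
import Mathlib.Algebra.Homology.DerivedCategory.Ext.ExactSequences
import Mathlib.Algebra.Module.Injective
import Mathlib.RingTheory.Ideal.Quotient.Operations

set_option autoImplicit false
universe u

namespace Groth.Agent.Lib.Helper29

open CategoryTheory Abelian

variable (A : Type u) [CommRing A]

/-- Baer's criterion in Ext form. -/
theorem injective_of_ext_one_quotient_subsingleton (M : ModuleCat.{u} A)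
    (h : ∀ I : Ideal A, Subsingleton (Ext (ModuleCat.of A (A ⧸ I)) M 1)) :
    Injective M := by
  rw [← Module.injective_iff_injective_object]
  apply Module.Baer.injective
  intro I g
  let S : ShortComplex (ModuleCat.{u} A) :=
    ModuleCat.shortComplexOfCompEqZero I.subtype I.mkQ
      (by ext x; exact (Submodule.Quotient.mk_eq_zero I).mpr x.2)
  have hS : S.ShortExact := ModuleCat.shortComplex_shortExact S
    (LinearMap.exact_subtype_mkQ I) (Submodule.injective_subtype I) (Submodule.mkQ_surjective I)
  have := h I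
  obtain ⟨x₂, hx₂⟩ := Ext.contravariant_sequence_exact₁ hS M (Ext.mk₀ (ModuleCat.ofHom g))
    (n₁ := 1) (by norm_num) (Subsingleton.elim _ _)
  obtain ⟨g', rfl⟩ := Ext.mk₀_bijective _ _ |>.2 x₂
  rw [Ext.mk₀_comp_mk₀] at hx₂
  have hx := (Ext.mk₀_bijective _ _).1 hx₂
  refine ⟨g'.hom, fun x hx' => ?_⟩
  have := congrArg (fun φ => φ.hom ⟨x, hx'⟩) hx
  exact this

theorem hasInjectiveDimensionLT_succ_of_ext_quotient (n : ℕ) :
    ∀ (M : ModuleCat.{u} A),
      (∀ I : Ideal A, Subsingleton (Ext (ModuleCat.of A (A ⧸ I)) M (n + 1))) →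
      HasInjectiveDimensionLT M (n + 1) := by
  induction n with
  | zero =>
    intro M h
    have := injective_of_ext_one_quotient_subsingleton A M h
    infer_instance
  | succ n ih =>
    intro M h
    let ⟨J, _, f, _⟩ := EnoughInjectives.presentation M
    have injf : Function.Injective f.hom := (ModuleCat.mono_iff_injective f).mp ‹_›
    let S : ShortComplex (ModuleCat.{u} A) :=
      ModuleCat.shortComplexOfCompEqZero _ _ f.hom.exact_map_mkQ_range.linearMap_comp_eq_zero
    have hS : S.ShortExact := ModuleCat.shortComplex_shortExact S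
      f.hom.exact_map_mkQ_range injf (Submodule.mkQ_surjective _)
    have hJ : Injective S.X₂ := ‹Injective J›
    rw [← hS.hasInjectiveDimensionLT_X₃_iff n hJ]
    apply ih
    intro I'
    refine ⟨fun x y => ?_⟩
    have hz : ∀ x : Ext (ModuleCat.of A (A ⧸ I')) S.X₃ (n + 1), x = 0 := by
      intro x
      have h1 : x.comp hS.extClass (rfl : n + 1 + 1 = n + 1 + 1) = 0 :=
        (h I').elim _ _
      obtain ⟨x₂, rfl⟩ := Ext.covariant_sequence_exact₃ _ hS x rfl h1
      rw [Ext.eq_zero_of_injective x₂, Ext.zero_comp]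
    rw [hz x, hz y]

theorem hasInjectiveDimensionLT_succ_iff_ext_quotient (M : ModuleCat.{u} A) (n : ℕ) :
    HasInjectiveDimensionLT M (n + 1) ↔
      ∀ I : Ideal A, Subsingleton (Ext (ModuleCat.of A (A ⧸ I)) M (n + 1)) :=
  ⟨fun _ _ => HasInjectiveDimensionLT.subsingleton M (n + 1) (n + 1) le_rfl _,
    hasInjectiveDimensionLT_succ_of_ext_quotient A n M⟩

end Groth.Agent.Lib.Helper29
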