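import Mathlib.RingTheory.Support
import Mathlib.RingTheory.KrullDimension.Module
import Mathlib.RingTheory.Localization.AtPrime.Basic
import Mathlib.Order.KrullDimension

/-!
# Support of a localized module; `dim M_p + dim M/pM ≤ dim M`
-/

set_option autoImplicit false
universe u

namespace Groth.Agent.Lib.Helper29.SuppLoc

open Pointwise

section General

variable {R : Type*} [CommRing R] (S : Submonoid R) {R' : Type*} [CommRing R'] [Algebra R R']
  [IsLocalization S R']
  {M M' : Type*} [AddCommGroup M] [Module R M] [AddCommGroup M'] [Module R M']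
  (f : M →ₗ[R] M') [IsLocalizedModule S f] [Module R' M'] [IsScalarTower R R' M']

include S f in
/-- A prime of the localized ring is in the support of the localized module iff its contraction is
in the support of the module. -/
theorem mem_support_iff_comap_mem_support (Q : PrimeSpectrum R') :
    Q ∈ Module.support R' M' ↔
      PrimeSpectrum.comap (algebraMap R R') Q ∈ Module.support R M := by
  rw [Module.mem_support_iff', Module.mem_support_iff']
  constructor
  · rintro ⟨x, hx⟩
    obtain ⟨⟨m, s⟩, rfl⟩ := IsLocalizedModule.mk'_surjective S f x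
    refine ⟨m, fun r hr h0 => ?_⟩
    refine hx (algebraMap R R' r) hr ?_
    simp only [Function.uncurry_apply_pair]
    rw [algebraMap_smul, ← IsLocalizedModule.mk'_smul, h0, IsLocalizedModule.mk'_zero]
  · rintro ⟨m, hm⟩
    refine ⟨f m, fun r' hr' h0 => ?_⟩
    obtain ⟨a, s, rfl⟩ := IsLocalization.exists_mk'_eq S r'
    have h1 : (algebraMap R R' a) • f m = 0 := by
      have : algebraMap R R' a = algebraMap R R' s * IsLocalization.mk' R' a s := by
        rw [mul_comm, IsLocalization.mk'_spec]
      rw [this, mul_smul, h0, smul_zero]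
    rw [algebraMap_smul, ← map_smul, IsLocalizedModule.eq_zero_iff S] at h1
    obtain ⟨t, ht⟩ := h1
    have h2 : (t : R) * a ∈ (PrimeSpectrum.comap (algebraMap R R') Q).asIdeal := by
      by_contra hn
      exact hm _ hn (by rw [mul_smul]; exact ht)
    rw [PrimeSpectrum.comap_asIdeal, Ideal.mem_comap, map_mul] at h2
    have hu : IsUnit (algebraMap R R' (t : R)) := IsLocalization.map_units R' t
    have h3 : algebraMap R R' a ∈ Q.asIdeal := by
      rcases Q.isPrime.mem_or_mem h2 with h | h
      · exact absurd (Q.asIdeal.eq_top_of_isUnit_mem h hu) Q.isPrime.ne_top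
      · exact h
    apply hr'
    rw [IsLocalization.mk'_eq_mul_mk'_one]
    exact Ideal.mul_mem_right _ _ h3

end General

section Dim

variable (A : Type u) [CommRing A] (M : Type u) [AddCommGroup M] [Module A M]

/-- Contraction from `A_p` is injective on prime spectra. -/
theorem comap_injective_atPrime (p : Ideal A) [p.IsPrime]
    {Q Q' : PrimeSpectrum (Localization.AtPrime p)}
    (h : PrimeSpectrum.comap (algebraMap A (Localization.AtPrime p)) Q =
      PrimeSpectrum.comap (algebraMap A (Localization.AtPrime p)) Q') : Q = Q' := by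
  apply PrimeSpectrum.ext
  have h' : Q.asIdeal.comap (algebraMap A (Localization.AtPrime p)) =
      Q'.asIdeal.comap (algebraMap A (Localization.AtPrime p)) :=
    congrArg PrimeSpectrum.asIdeal h
  have h'' : Q.asIdeal.under A = Q'.asIdeal.under A := h'
  rw [← IsLocalization.map_under p.primeCompl (Localization.AtPrime p) Q.asIdeal,
    ← IsLocalization.map_under p.primeCompl (Localization.AtPrime p) Q'.asIdeal, h'']

theorem comap_le_atPrime (p : Ideal A) [p.IsPrime] (Q : PrimeSpectrum (Localization.AtPrime p)) :
    (PrimeSpectrum.comap (algebraMap A (Localization.AtPrime p)) Q).asIdeal ≤ p := by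
  intro x hx
  by_contra hxp
  have hu : IsUnit (algebraMap A (Localization.AtPrime p) x) :=
    IsLocalization.map_units (Localization.AtPrime p) (⟨x, hxp⟩ : p.primeCompl)
  exact Q.isPrime.ne_top (Q.asIdeal.eq_top_of_isUnit_mem hx hu)

/-- `dim_{A_p} M_p + dim_A M/pM ≤ dim_A M` for a finite module `M` and a prime `p`
(EGA 0_IV 16.1.5-type inequality). -/
theorem supportDim_localizedModule_add_supportDim_quotient_le [Module.Finite A M]
    (p : Ideal A) [hpp : p.IsPrime] :
    Module.supportDim (Localization.AtPrime p) (LocalizedModule p.primeCompl M) +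
        Module.supportDim A (M ⧸ (p • (⊤ : Submodule A M))) ≤ Module.supportDim A M := by
  by_cases hp : (⟨p, hpp⟩ : PrimeSpectrum A) ∈ Module.support A M
  · let a : Module.support A M := ⟨⟨p, hpp⟩, hp⟩
    have : Nonempty (Module.support A M) := ⟨a⟩
    have h0 : ((Order.height a + Order.coheight a : ℕ∞) : WithBot ℕ∞) ≤ Module.supportDim A M := by
      unfold Module.supportDim
      rw [Order.krullDim_eq_iSup_height_add_coheight_of_nonempty]
      exact WithBot.coe_le_coe.2 (le_iSup (fun a : Module.support A M =>
        Order.height a + Order.coheight a) a)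
    have h1 : Module.supportDim (Localization.AtPrime p) (LocalizedModule p.primeCompl M) ≤
        ((Order.height a : ℕ∞) : WithBot ℕ∞) := by
      rw [Order.height_eq_krullDim_Iic]
      unfold Module.supportDim
      let f : Module.support (Localization.AtPrime p) (LocalizedModule p.primeCompl M) →
          Set.Iic a := fun Q =>
        ⟨⟨PrimeSpectrum.comap (algebraMap A (Localization.AtPrime p)) Q.1,
          (mem_support_iff_comap_mem_support p.primeCompl
            (LocalizedModule.mkLinearMap p.primeCompl M) Q.1).1 Q.2⟩,
          comap_le_atPrime A p Q.1⟩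
      apply Order.krullDim_le_of_strictMono f
      intro Q Q' hQQ'
      refine lt_of_le_of_ne ?_ ?_
      · exact Ideal.comap_mono (show Q.1.asIdeal ≤ Q'.1.asIdeal from hQQ'.le)
      · intro heq
        have h1 : PrimeSpectrum.comap (algebraMap A (Localization.AtPrime p)) Q.1 =
            PrimeSpectrum.comap (algebraMap A (Localization.AtPrime p)) Q'.1 :=
          congrArg (fun z : Set.Iic a => z.1.1) heq
        exact hQQ'.ne (Subtype.ext (comap_injective_atPrime A p h1))
    have h2 : Module.supportDim A (M ⧸ (p • (⊤ : Submodule A M))) ≤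
        ((Order.coheight a : ℕ∞) : WithBot ℕ∞) := by
      rw [Order.coheight_eq_krullDim_Ici]
      unfold Module.supportDim
      have hsupp : ∀ x : PrimeSpectrum A, x ∈ Module.support A (M ⧸ (p • (⊤ : Submodule A M))) →
          x ∈ Module.support A M ∧ p ≤ x.asIdeal := by
        intro x hx
        rw [Module.support_quotient] at hx
        exact ⟨hx.1, by simpa [PrimeSpectrum.mem_zeroLocus] using hx.2⟩
      let f : Module.support A (M ⧸ (p • (⊤ : Submodule A M))) → Set.Ici a := fun x =>
        ⟨⟨x.1, (hsupp x.1 x.2).1⟩, (hsupp x.1 x.2).2⟩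
      apply Order.krullDim_le_of_strictMono f
      intro x y hxy
      exact hxy
    calc _ ≤ ((Order.height a : ℕ∞) : WithBot ℕ∞) + ((Order.coheight a : ℕ∞) : WithBot ℕ∞) :=
          add_le_add h1 h2
      _ = ((Order.height a + Order.coheight a : ℕ∞) : WithBot ℕ∞) := rfl
      _ ≤ _ := h0
  · have : Subsingleton (LocalizedModule p.primeCompl M) := Module.notMem_support_iff.1 hp
    rw [Module.supportDim_eq_bot_of_subsingleton, WithBot.bot_add]
    exact bot_le

end Dim

end Groth.Agent.Lib.Helper29.SuppLoc
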