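import Groth.Agent.Lib.Helper29.Depth
import Groth.Agent.Lib.Helper29.AssDepth
import Groth.Agent.Lib.Helper29.SuppLoc
import Mathlib.RingTheory.Regular.Flat

/-!
# Cohen–Macaulay modules: basic theory on top of `LocCoh.IsCohenMacaulayModule`
-/

set_option autoImplicit false
universe u

namespace Groth.Agent.Lib.Helper29.CMLib

open RingTheory.Sequence IsLocalRing Pointwise
open Groth.Agent.Lib.Helper29 Groth.Agent.Lib.Helper29.DepthLib

section Congr

variable {A : Type u} [CommRing A] (I : Ideal A)

theorem smul_top_eq_top_of_equiv {M N : Type u} [AddCommGroup M] [Module A M] [AddCommGroup N]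
    [Module A N] (e : M ≃ₗ[A] N) (h : I • (⊤ : Submodule A M) = ⊤) :
    I • (⊤ : Submodule A N) = ⊤ := by
  have := congrArg (Submodule.map e.toLinearMap) h
  rw [Submodule.map_smul'', Submodule.map_top, LinearEquiv.range] at this
  exact this

theorem idealDepth_congr {M N : Type u} [AddCommGroup M] [Module A M] [AddCommGroup N]
    [Module A N] (e : M ≃ₗ[A] N) : LocCoh.idealDepth I M = LocCoh.idealDepth I N := by
  unfold LocCoh.idealDepth
  have h1 : I • (⊤ : Submodule A M) = ⊤ ↔ I • (⊤ : Submodule A N) = ⊤ :=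
    ⟨smul_top_eq_top_of_equiv I e, smul_top_eq_top_of_equiv I e.symm⟩
  have h2 : ∀ rs : List A, IsWeaklyRegular M rs ↔ IsWeaklyRegular N rs :=
    fun rs => e.isWeaklyRegular_congr rs
  simp only [h1, h2]

theorem depth_congr [IsLocalRing A] {M N : Type u} [AddCommGroup M] [Module A M] [AddCommGroup N]
    [Module A N] (e : M ≃ₗ[A] N) : LocCoh.depth A M = LocCoh.depth A N :=
  idealDepth_congr _ e

theorem isCohenMacaulayModule_congr [IsLocalRing A] {M N : Type u} [AddCommGroup M] [Module A M]
    [AddCommGroup N] [Module A N] (e : M ≃ₗ[A] N) :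
    LocCoh.IsCohenMacaulayModule A M ↔ LocCoh.IsCohenMacaulayModule A N := by
  unfold LocCoh.IsCohenMacaulayModule
  rw [Module.supportDim_eq_of_equiv e, depth_congr e]

end Congr

section WithBotENat

theorem withBot_add_one_cancel {a b : WithBot ℕ∞} (h : a + 1 = b + 1) : a = b := by
  induction a with
  | bot =>
    induction b with
    | bot => rfl
    | coe b =>
      rw [WithBot.bot_add] at h
      exact absurd h.symm (by
        rw [show ((b : WithBot ℕ∞) + 1) = ((b + 1 : ℕ∞) : WithBot ℕ∞) from rfl]
        exact WithBot.coe_ne_bot)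
  | coe a =>
    induction b with
    | bot =>
      rw [WithBot.bot_add] at h
      exact absurd h (by
        rw [show ((a : WithBot ℕ∞) + 1) = ((a + 1 : ℕ∞) : WithBot ℕ∞) from rfl]
        exact WithBot.coe_ne_bot)
    | coe b =>
      have h' : ((a + 1 : ℕ∞) : WithBot ℕ∞) = ((b + 1 : ℕ∞) : WithBot ℕ∞) := by
        simpa using h
      have h'' : a + 1 = b + 1 := WithBot.coe_injective h'
      rw [ENat.add_left_injective_of_ne_top ENat.one_ne_top h'']

end WithBotENat

section CM

variable (A : Type u) [CommRing A] [IsLocalRing A] [IsNoetherianRing A]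
  (M : Type u) [AddCommGroup M] [Module A M] [Module.Finite A M]

omit [IsNoetherianRing A] [Module.Finite A M] in
theorem nontrivial_of_isCM (hM : LocCoh.IsCohenMacaulayModule A M) : Nontrivial M := by
  rw [← Module.supportDim_ne_bot_iff_nontrivial A, hM]
  exact WithBot.coe_ne_bot

/-- A Cohen–Macaulay module has finite dimension `n = depth`. -/
theorem exists_nat_of_isCM (hM : LocCoh.IsCohenMacaulayModule A M) :
    ∃ n : ℕ, LocCoh.depth A M = n ∧ Module.supportDim A M = (n : WithBot ℕ∞) := by
  have : Nontrivial M := nontrivial_of_isCM A M hM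
  obtain ⟨n, hn⟩ := ENat.ne_top_iff_exists.1 (depth_ne_top A M)
  refine ⟨n, hn.symm, ?_⟩
  rw [hM, ← hn]
  rfl

/-- `M/xM` is Cohen–Macaulay for `x ∈ 𝔪` regular on the Cohen–Macaulay module `M`. -/
theorem isCM_quotSMulTop (hM : LocCoh.IsCohenMacaulayModule A M) {x : A}
    (hxm : x ∈ maximalIdeal A) (hx : IsSMulRegular M x) :
    LocCoh.IsCohenMacaulayModule A (QuotSMulTop x M) := by
  have : Nontrivial M := nontrivial_of_isCM A M hM
  have h1 := Module.supportDim_quotSMulTop_succ_eq_supportDim hx hxm
  have h2 := depth_quotSMulTop_add_one A M hxm hx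
  unfold LocCoh.IsCohenMacaulayModule at hM ⊢
  apply withBot_add_one_cancel
  rw [h1, hM, ← h2]
  rfl

omit [IsLocalRing A] [IsNoetherianRing A] in
theorem ringKrullDim_quotient_le_supportDim_of_mem_support {p : PrimeSpectrum A}
    (hp : p ∈ Module.support A M) :
    ringKrullDim (A ⧸ p.asIdeal) ≤ Module.supportDim A M := by
  rw [Module.supportDim_eq_ringKrullDim_quotient_annihilator]
  have hle : Module.annihilator A M ≤ p.asIdeal := Module.mem_support_iff_of_finite.1 hp
  exact ringKrullDim_le_of_surjective (Ideal.Quotient.factor hle)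
    (Ideal.Quotient.factor_surjective hle)

/-- All associated primes of a Cohen–Macaulay module have `dim A/p = dim M`. -/
theorem ringKrullDim_quotient_eq_of_isCM (hM : LocCoh.IsCohenMacaulayModule A M) {p : Ideal A}
    (hp : p ∈ associatedPrimes A M) : ringKrullDim (A ⧸ p) = Module.supportDim A M := by
  have : Nontrivial M := nontrivial_of_isCM A M hM
  refine le_antisymm (ringKrullDim_quotient_le_supportDim A M hp) ?_
  rw [hM]
  exact depth_le_ringKrullDim_quotient A M hp

/-- On a Cohen–Macaulay module, an element of `𝔪` that drops the dimension is regular. -/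
theorem isSMulRegular_of_isCM_of_supportDim (hM : LocCoh.IsCohenMacaulayModule A M) {x : A}
    (hxm : x ∈ maximalIdeal A)
    (h : Module.supportDim A (QuotSMulTop x M) + 1 = Module.supportDim A M) :
    IsSMulRegular M x := by
  have hnt : Nontrivial M := nontrivial_of_isCM A M hM
  by_contra hx
  rw [not_isSMulRegular_iff_mem_biUnion_ass] at hx
  simp only [Set.mem_iUnion, SetLike.mem_coe, exists_prop] at hx
  obtain ⟨p, hp, hxp⟩ := hx
  have hpp : p.IsPrime := IsAssociatedPrime.isPrime hp
  have hdim := ringKrullDim_quotient_eq_of_isCM A M hM hp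
  have hpS : (⟨p, hpp⟩ : PrimeSpectrum A) ∈ Module.support A (QuotSMulTop x M) := by
    rw [Module.support_quotSMulTop]
    refine ⟨?_, ?_⟩
    · rw [Module.mem_support_iff_of_finite, ← Submodule.annihilator_top]
      exact IsAssociatedPrime.annihilator_le hp
    · simpa using hxp
  have hle := ringKrullDim_quotient_le_supportDim_of_mem_support A (QuotSMulTop x M) hpS
  rw [show (⟨p, hpp⟩ : PrimeSpectrum A).asIdeal = p from rfl, hdim, ← h] at hle
  obtain ⟨n, -, hn⟩ := exists_nat_of_isCM A M hM
  have hQ : Nontrivial (QuotSMulTop x M) := nontrivial_quotSMulTop A M hxm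
  have hb : Module.supportDim A (QuotSMulTop x M) ≠ ⊥ := Module.supportDim_ne_bot_of_nontrivial A _
  rw [hn] at h
  generalize Module.supportDim A (QuotSMulTop x M) = d at hle hb h
  induction d with
  | bot => exact hb rfl
  | coe d =>
    have h' : d + 1 = (n : ℕ∞) := by exact_mod_cast h
    have hd' : d + 1 ≤ d := by exact_mod_cast hle
    have hdt : d ≠ ⊤ := by
      rintro rfl
      simp at h'
    obtain ⟨k, rfl⟩ := ENat.ne_top_iff_exists.1 hdt
    have : k + 1 ≤ k := by exact_mod_cast hd'
    omega

/-- `dim M ≤ dim M/(xs)M + length xs` for `xs ⊆ 𝔪`. -/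
theorem supportDim_le_quotient_add_length (xs : List A) :
    ∀ (M : Type u) [AddCommGroup M] [Module A M] [Module.Finite A M],
      (∀ x ∈ xs, x ∈ maximalIdeal A) →
      Module.supportDim A M ≤
        Module.supportDim A (M ⧸ (Ideal.ofList xs • (⊤ : Submodule A M))) + xs.length := by
  induction xs with
  | nil =>
    intro M _ _ _ _
    rw [Ideal.ofList_nil, Submodule.bot_smul]
    simp [Module.supportDim_eq_of_equiv (Submodule.quotEquivOfEqBot (⊥ : Submodule A M) rfl)]
  | cons x xs ih =>
    intro M _ _ _ hmem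
    have hxm : x ∈ maximalIdeal A := hmem x (List.mem_cons_self)
    have hmem' : ∀ y ∈ xs, y ∈ maximalIdeal A := fun y hy => hmem y (List.mem_cons_of_mem _ hy)
    rw [Module.supportDim_eq_of_equiv
      (Submodule.quotOfListConsSMulTopEquivQuotSMulTopInner M x xs)]
    have h1 := Module.supportDim_le_supportDim_quotSMulTop_succ (M := M) hxm
    have h2 := ih (QuotSMulTop x M) hmem'
    calc Module.supportDim A M ≤ Module.supportDim A (QuotSMulTop x M) + 1 := h1
      _ ≤ (Module.supportDim A (QuotSMulTop x M ⧸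
            (Ideal.ofList xs • (⊤ : Submodule A (QuotSMulTop x M)))) + xs.length) + 1 := by
          gcongr
      _ = _ := by rw [List.length_cons, add_assoc]; push_cast; rfl

/-- EGA 0_IV 16.5.6 : on a Cohen–Macaulay module, a sequence in `𝔪` is regular iff it drops the
dimension by its length; the quotient is then Cohen–Macaulay. -/
theorem isWeaklyRegular_iff_of_isCM (xs : List A) :
    ∀ (M : Type u) [AddCommGroup M] [Module A M] [Module.Finite A M],
      LocCoh.IsCohenMacaulayModule A M → (∀ x ∈ xs, x ∈ maximalIdeal A) →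
      (IsWeaklyRegular M xs ↔
        Module.supportDim A (M ⧸ (Ideal.ofList xs • (⊤ : Submodule A M))) + xs.length =
          Module.supportDim A M) ∧
      (IsWeaklyRegular M xs →
        LocCoh.IsCohenMacaulayModule A (M ⧸ (Ideal.ofList xs • (⊤ : Submodule A M)))) := by
  induction xs with
  | nil =>
    intro M _ _ _ hM _
    have e : (M ⧸ (Ideal.ofList ([] : List A) • (⊤ : Submodule A M))) ≃ₗ[A] M :=
      Submodule.quotEquivOfEqBot _ (by rw [Ideal.ofList_nil, Submodule.bot_smul])
    refine ⟨⟨fun _ => ?_, fun _ => IsWeaklyRegular.nil A M⟩, fun _ => ?_⟩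
    · rw [Module.supportDim_eq_of_equiv e]; simp
    · exact (isCohenMacaulayModule_congr e).2 hM
  | cons x xs ih =>
    intro M _ _ _ hM hmem
    have hxm : x ∈ maximalIdeal A := hmem x (List.mem_cons_self)
    have hmem' : ∀ y ∈ xs, y ∈ maximalIdeal A := fun y hy => hmem y (List.mem_cons_of_mem _ hy)
    have e := Submodule.quotOfListConsSMulTopEquivQuotSMulTopInner M x xs
    rw [Module.supportDim_eq_of_equiv e, isWeaklyRegular_cons_iff, isCohenMacaulayModule_congr e]
    have hlen : ((x :: xs).length : WithBot ℕ∞) = (xs.length : WithBot ℕ∞) + 1 := by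
      rw [List.length_cons]; push_cast; rfl
    rw [hlen, ← add_assoc]
    refine ⟨⟨?_, ?_⟩, ?_⟩
    · rintro ⟨hx, hxs⟩
      have hQ := isCM_quotSMulTop A M hM hxm hx
      rw [((ih (QuotSMulTop x M) hQ hmem').1).1 hxs]
      exact Module.supportDim_quotSMulTop_succ_eq_supportDim hx hxm
    · intro h
      have h1 := Module.supportDim_le_supportDim_quotSMulTop_succ (M := M) hxm
      have h2 := supportDim_le_quotient_add_length A xs (QuotSMulTop x M) hmem'
      have h3 : Module.supportDim A (QuotSMulTop x M) + 1 = Module.supportDim A M := by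
        refine le_antisymm ?_ h1
        rw [← h]
        gcongr
      have hx : IsSMulRegular M x := isSMulRegular_of_isCM_of_supportDim A M hM hxm h3
      have hQ := isCM_quotSMulTop A M hM hxm hx
      refine ⟨hx, ((ih (QuotSMulTop x M) hQ hmem').1).2 ?_⟩
      apply withBot_add_one_cancel
      rw [h, h3]
    · rintro ⟨hx, hxs⟩
      have hQ := isCM_quotSMulTop A M hM hxm hx
      exact (ih (QuotSMulTop x M) hQ hmem').2 hxs

omit [Module.Finite A M] in
/-- The dimension of a nonzero module over a Noetherian local ring is a natural number. -/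
theorem exists_nat_supportDim [Nontrivial M] : ∃ n : ℕ, Module.supportDim A M = (n : WithBot ℕ∞) := by
  have hb : Module.supportDim A M ≠ ⊥ := Module.supportDim_ne_bot_of_nontrivial A M
  have ht : Module.supportDim A M < ⊤ :=
    lt_of_le_of_lt (Module.supportDim_le_ringKrullDim A M) ringKrullDim_lt_top
  generalize Module.supportDim A M = d at hb ht
  induction d with
  | bot => exact absurd rfl hb
  | coe d =>
    have hdt : d ≠ ⊤ := by
      rintro rfl
      exact lt_irrefl _ ht
    obtain ⟨k, rfl⟩ := ENat.ne_top_iff_exists.1 hdt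
    exact ⟨k, rfl⟩

theorem isCM_of_forall_ass_aux (n : ℕ) :
    ∀ (M : Type u) [AddCommGroup M] [Module A M] [Module.Finite A M] [Nontrivial M],
      Module.supportDim A M = (n : WithBot ℕ∞) →
      (∀ xs : List A, (∀ x ∈ xs, x ∈ maximalIdeal A) →
        Module.supportDim A (M ⧸ (Ideal.ofList xs • (⊤ : Submodule A M))) + xs.length =
          Module.supportDim A M →
        ∀ p ∈ associatedPrimes A (M ⧸ (Ideal.ofList xs • (⊤ : Submodule A M))),
          ringKrullDim (A ⧸ p) =
            Module.supportDim A (M ⧸ (Ideal.ofList xs • (⊤ : Submodule A M)))) →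
      LocCoh.IsCohenMacaulayModule A M := by
  induction n with
  | zero =>
    intro M _ _ _ _ hd _
    unfold LocCoh.IsCohenMacaulayModule
    refine le_antisymm ?_ (depth_le_supportDim A M)
    rw [hd]
    exact_mod_cast bot_le (a := LocCoh.depth A M)
  | succ n ih =>
    intro M _ _ _ _ hd h
    -- no associated prime is maximal
    have e0 : (M ⧸ (Ideal.ofList ([] : List A) • (⊤ : Submodule A M))) ≃ₗ[A] M :=
      Submodule.quotEquivOfEqBot _ (by rw [Ideal.ofList_nil, Submodule.bot_smul])
    have h0 : ∀ p ∈ associatedPrimes A M, ringKrullDim (A ⧸ p) = Module.supportDim A M := by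
      intro p hp
      have := h [] (by simp) (by rw [Module.supportDim_eq_of_equiv e0]; simp) p
        (by rw [LinearEquiv.AssociatedPrimes.eq e0]; exact hp)
      rw [this, Module.supportDim_eq_of_equiv e0]
    have hm : maximalIdeal A ∉ associatedPrimes A M := by
      intro hmA
      have h1 := h0 _ hmA
      rw [hd] at h1
      have h2 : ringKrullDim (A ⧸ maximalIdeal A) = 0 := ringKrullDim_eq_zero_of_isField
        ((Ideal.Quotient.maximal_ideal_iff_isField_quotient _).1 inferInstance)
      rw [h2] at h1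
      have : (0 : ℕ) = n + 1 := by exact_mod_cast h1
      omega
    rw [← forall_not_isSMulRegular_iff_maximalIdeal_mem_ass] at hm
    push Not at hm
    obtain ⟨x, hxm, hx⟩ := hm
    have hQ : Nontrivial (QuotSMulTop x M) := nontrivial_quotSMulTop A M hxm
    have hdQ1 := Module.supportDim_quotSMulTop_succ_eq_supportDim hx hxm
    have hdQ : Module.supportDim A (QuotSMulTop x M) = (n : WithBot ℕ∞) := by
      apply withBot_add_one_cancel
      rw [hdQ1, hd]
      push_cast
      rfl
    have hCM : LocCoh.IsCohenMacaulayModule A (QuotSMulTop x M) := by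
      apply ih (QuotSMulTop x M) hdQ
      intro ys hys hdim p hp
      have e := Submodule.quotOfListConsSMulTopEquivQuotSMulTopInner M x ys
      have hmem : ∀ y ∈ x :: ys, y ∈ maximalIdeal A := by
        intro y hy
        rcases List.mem_cons.1 hy with h | h
        · rw [h]; exact hxm
        · exact hys y h
      have := h (x :: ys) hmem (by
        rw [Module.supportDim_eq_of_equiv e, List.length_cons, ← hdQ1, ← hdim, add_assoc]
        push_cast
        rfl) p (by rw [LinearEquiv.AssociatedPrimes.eq e]; exact hp)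
      rw [this, Module.supportDim_eq_of_equiv e]
    unfold LocCoh.IsCohenMacaulayModule at hCM ⊢
    rw [← hdQ1, hCM, ← depth_quotSMulTop_add_one A M hxm hx]
    rfl

/-- EGA 0_IV 16.5.4-type criterion: unmixedness of all parameter quotients implies
Cohen–Macaulay. -/
theorem isCM_of_forall_ass [Nontrivial M]
    (h : ∀ xs : List A, (∀ x ∈ xs, x ∈ maximalIdeal A) →
        Module.supportDim A (M ⧸ (Ideal.ofList xs • (⊤ : Submodule A M))) + xs.length =
          Module.supportDim A M →
        ∀ p ∈ associatedPrimes A (M ⧸ (Ideal.ofList xs • (⊤ : Submodule A M))),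
          ringKrullDim (A ⧸ p) =
            Module.supportDim A (M ⧸ (Ideal.ofList xs • (⊤ : Submodule A M)))) :
    LocCoh.IsCohenMacaulayModule A M := by
  obtain ⟨n, hn⟩ := exists_nat_supportDim A M
  exact isCM_of_forall_ass_aux A n M hn h

end CM

section Avoid

/-- If an ideal consists of zero divisors on a finite module over a Noetherian ring, it lies in an
associated prime. -/
theorem exists_mem_ass_ge (A : Type u) [CommRing A] [IsNoetherianRing A] (N : Type u)
    [AddCommGroup N] [Module A N] [Module.Finite A N] (I : Ideal A)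
    (h : ∀ x ∈ I, ¬ IsSMulRegular N x) : ∃ q ∈ associatedPrimes A N, I ≤ q := by
  have hsub : ((I : Ideal A) : Set A) ⊆ ⋃ p ∈ associatedPrimes A N, (p : Set A) := by
    intro x hx
    exact (not_isSMulRegular_iff_mem_biUnion_ass A N x).mp (h x hx)
  have hfin : (associatedPrimes A N).Finite := associatedPrimes.finite A N
  have hsub' : ((I : Ideal A) : Set A) ⊆
      ⋃ p ∈ ((hfin.toFinset : Finset (Ideal A)) : Set (Ideal A)), ((id p : Ideal A) : Set A) := by
    simpa using hsub
  rw [Ideal.subset_union_prime (f := id) I I] at hsub'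
  · obtain ⟨p, hp, hle⟩ := hsub'
    exact ⟨p, by simpa using hp, hle⟩
  · intro p hp _ _
    have hp' : p ∈ associatedPrimes A N := by simpa using hp
    exact hp'.isPrime

end Avoid

section Prime

variable (A : Type u) [CommRing A] (M : Type u) [AddCommGroup M] [Module A M] [Module.Finite A M]

/-- `dim M/pM = dim A/p` for `p ∈ Supp M`. -/
theorem supportDim_quotient_smul_top_eq (p : PrimeSpectrum A) (hp : p ∈ Module.support A M) :
    Module.supportDim A (M ⧸ (p.asIdeal • (⊤ : Submodule A M))) = ringKrullDim (A ⧸ p.asIdeal) := by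
  apply le_antisymm
  · rw [Module.supportDim_eq_ringKrullDim_quotient_annihilator]
    have hle : p.asIdeal ≤ Module.annihilator A (M ⧸ (p.asIdeal • (⊤ : Submodule A M))) := by
      intro a ha
      rw [Module.mem_annihilator]
      intro x
      obtain ⟨m, rfl⟩ := Submodule.Quotient.mk_surjective _ x
      rw [← Submodule.Quotient.mk_smul, Submodule.Quotient.mk_eq_zero]
      exact Submodule.smul_mem_smul ha Submodule.mem_top
    exact ringKrullDim_le_of_surjective (Ideal.Quotient.factor hle)
      (Ideal.Quotient.factor_surjective hle)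
  · apply ringKrullDim_quotient_le_supportDim_of_mem_support
    rw [Module.support_quotient]
    exact ⟨hp, by simp [PrimeSpectrum.mem_zeroLocus]⟩

end Prime

section CMPrime

variable (A : Type u) [CommRing A] [IsLocalRing A] [IsNoetherianRing A]
  (M : Type u) [AddCommGroup M] [Module A M] [Module.Finite A M]

theorem not_add_one_le_of_eq_nat {d : WithBot ℕ∞} {n : ℕ} (hd : d = (n : WithBot ℕ∞)) :
    ¬ d + 1 ≤ d := by
  subst hd
  intro h
  have : n + 1 ≤ n := by exact_mod_cast h
  omega

/-- In a Cohen–Macaulay module, an associated prime contained in a prime `p` with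
`dim A/p = dim M` equals `p`. -/
theorem eq_of_le_of_mem_ass_of_isCM (hM : LocCoh.IsCohenMacaulayModule A M) {q : Ideal A}
    (hq : q ∈ associatedPrimes A M) {p : Ideal A} [p.IsPrime] (hqp : q ≤ p)
    (hdim : ringKrullDim (A ⧸ p) = Module.supportDim A M) : q = p := by
  by_contra hne
  have hqprime : q.IsPrime := IsAssociatedPrime.isPrime hq
  have hlt : q < p := lt_of_le_of_ne hqp hne
  have h1 := ringKrullDim_quotient_succ_le_of_lt A hlt
  rw [ringKrullDim_quotient_eq_of_isCM A M hM hq, hdim] at h1
  obtain ⟨n, -, hn⟩ := exists_nat_of_isCM A M hM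
  exact not_add_one_le_of_eq_nat hn h1

/-- In a Cohen–Macaulay module `M`, a prime `p ∈ Supp M` with `dim A/p = dim M` is an associated
prime, minimal among associated primes. -/
theorem mem_ass_of_isCM_of_dim_eq (hM : LocCoh.IsCohenMacaulayModule A M) (p : PrimeSpectrum A)
    (hp : p ∈ Module.support A M)
    (hdim : ringKrullDim (A ⧸ p.asIdeal) = Module.supportDim A M) :
    p.asIdeal ∈ associatedPrimes A M ∧
      ∀ q ∈ associatedPrimes A M, q ≤ p.asIdeal → q = p.asIdeal := by
  have hann : Module.annihilator A M ≤ p.asIdeal := Module.mem_support_iff_of_finite.1 hp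
  obtain ⟨q', hq', hle⟩ := Ideal.exists_minimalPrimes_le hann
  have hq'A : q' ∈ associatedPrimes A M :=
    Module.associatedPrimes.minimalPrimes_annihilator_subset_associatedPrimes A M hq'
  have := eq_of_le_of_mem_ass_of_isCM A M hM hq'A hle hdim
  refine ⟨this ▸ hq'A, fun q hq hqp => eq_of_le_of_mem_ass_of_isCM A M hM hq hqp hdim⟩

omit [IsLocalRing A] [IsNoetherianRing A] in
theorem ofList_le_of_forall_mem {I : Ideal A} {rs : List A} (h : ∀ r ∈ rs, r ∈ I) :
    Ideal.ofList rs ≤ I := by
  unfold Ideal.ofList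
  rw [Ideal.span_le]
  intro r hr
  exact h r hr

/-- Key lemma: in a Cohen–Macaulay module `M`, a maximal `M`-regular sequence inside a prime
`p ∈ Supp M` has length `dim M - dim A/p`. -/
theorem exists_regular_in_prime_of_isCM (hM : LocCoh.IsCohenMacaulayModule A M)
    (p : PrimeSpectrum A) (hp : p ∈ Module.support A M) :
    ∃ rs : List A, IsWeaklyRegular M rs ∧ (∀ r ∈ rs, r ∈ p.asIdeal) ∧
      ringKrullDim (A ⧸ p.asIdeal) + rs.length = Module.supportDim A M := by
  have hnt : Nontrivial M := nontrivial_of_isCM A M hM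
  have hpm : p.asIdeal ≤ maximalIdeal A := le_maximalIdeal p.isPrime.ne_top
  have hpM : p.asIdeal • (⊤ : Submodule A M) ≠ ⊤ := by
    intro h
    apply maximalIdeal_smul_top_ne_top A M
    have h1 : p.asIdeal • (⊤ : Submodule A M) ≤ maximalIdeal A • (⊤ : Submodule A M) :=
      Submodule.smul_mono_left hpm
    exact eq_top_iff.2 (le_of_eq_of_le h.symm h1)
  obtain ⟨rs, hreg, hmem, hmax, -⟩ := exists_maximal_regular p.asIdeal M hpM
  refine ⟨rs, hreg, hmem, ?_⟩
  have hmem' : ∀ r ∈ rs, r ∈ maximalIdeal A := fun r hr => hpm (hmem r hr)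
  obtain ⟨h1, h2⟩ := isWeaklyRegular_iff_of_isCM A rs M hM hmem'
  have hN := h2 hreg
  have hdimN := h1.1 hreg
  -- `p` consists of zero divisors on `N`
  have hzd : ∀ x ∈ p.asIdeal,
      ¬ IsSMulRegular (M ⧸ (Ideal.ofList rs • (⊤ : Submodule A M))) x := by
    intro x hx hxreg
    apply hmax x hx
    rw [isWeaklyRegular_append_iff]
    exact ⟨hreg, (isWeaklyRegular_singleton_iff _ x).2 hxreg⟩
  obtain ⟨q, hq, hpq⟩ := exists_mem_ass_ge A _ p.asIdeal hzd
  have hqprime : q.IsPrime := IsAssociatedPrime.isPrime hq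
  have hpN : p ∈ Module.support A (M ⧸ (Ideal.ofList rs • (⊤ : Submodule A M))) := by
    rw [Module.support_quotient]
    refine ⟨hp, ?_⟩
    rw [PrimeSpectrum.mem_zeroLocus]
    exact ofList_le_of_forall_mem A hmem
  have hle1 : ringKrullDim (A ⧸ q) ≤ ringKrullDim (A ⧸ p.asIdeal) :=
    ringKrullDim_le_of_surjective (Ideal.Quotient.factor hpq)
      (Ideal.Quotient.factor_surjective hpq)
  have hle2 := ringKrullDim_quotient_le_supportDim_of_mem_support A _ hpN
  rw [ringKrullDim_quotient_eq_of_isCM A _ hN hq] at hle1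
  rw [← hdimN, le_antisymm hle2 hle1]

end CMPrime

section Loc

variable (A : Type u) [CommRing A] [IsLocalRing A] [IsNoetherianRing A]
  (M : Type u) [AddCommGroup M] [Module A M] [Module.Finite A M]

theorem le_of_add_le_nat {a b : WithBot ℕ∞} {l n : ℕ} (h1 : a + (l : WithBot ℕ∞) = n)
    (h2 : b + a ≤ (n : WithBot ℕ∞)) : b ≤ (l : WithBot ℕ∞) := by
  induction a with
  | bot => rw [WithBot.bot_add] at h1; exact absurd h1.symm (WithBot.coe_ne_bot (a := (n : ℕ∞)))
  | coe a =>
    induction b with
    | bot => exact bot_le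
    | coe b =>
      have h1' : a + (l : ℕ∞) = n := by exact_mod_cast h1
      have h2' : b + a ≤ (n : ℕ∞) := by exact_mod_cast h2
      have hat : a ≠ ⊤ := by rintro rfl; simp at h1'
      have hbt : b ≠ ⊤ := by rintro rfl; simp at h2'
      obtain ⟨k, rfl⟩ := ENat.ne_top_iff_exists.1 hat
      obtain ⟨j, rfl⟩ := ENat.ne_top_iff_exists.1 hbt
      have h1'' : k + l = n := by exact_mod_cast h1'
      have h2'' : j + k ≤ n := by exact_mod_cast h2'
      have : j ≤ l := by omega
      exact_mod_cast this

/-- EGA 0_IV 16.5.10: localizations of Cohen–Macaulay modules at primes of the support are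
Cohen–Macaulay, and `dim M = dim M/pM + dim M_p`. -/
theorem isCM_localizedModule_and_dim (hM : LocCoh.IsCohenMacaulayModule A M)
    (p : PrimeSpectrum A) (hp : p ∈ Module.support A M) :
    LocCoh.IsCohenMacaulayModule (Localization.AtPrime p.asIdeal)
        (LocalizedModule p.asIdeal.primeCompl M) ∧
      Module.supportDim A M =
        Module.supportDim A (M ⧸ (p.asIdeal • (⊤ : Submodule A M))) +
          Module.supportDim (Localization.AtPrime p.asIdeal)
            (LocalizedModule p.asIdeal.primeCompl M) := by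
  obtain ⟨rs, hreg, hmem, hdim⟩ := exists_regular_in_prime_of_isCM A M hM p hp
  obtain ⟨n, -, hn⟩ := exists_nat_of_isCM A M hM
  have hntp : Nontrivial (LocalizedModule p.asIdeal.primeCompl M) := Module.mem_support_iff.1 hp
  have hreg' : IsWeaklyRegular (LocalizedModule p.asIdeal.primeCompl M)
      (rs.map (algebraMap A (Localization.AtPrime p.asIdeal))) :=
    hreg.of_isLocalizedModule (Localization.AtPrime p.asIdeal) p.asIdeal.primeCompl
      (LocalizedModule.mkLinearMap p.asIdeal.primeCompl M)
  have hmem' : ∀ r ∈ rs.map (algebraMap A (Localization.AtPrime p.asIdeal)),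
      r ∈ maximalIdeal (Localization.AtPrime p.asIdeal) := by
    intro r hr
    obtain ⟨a, ha, rfl⟩ := List.mem_map.1 hr
    rw [IsLocalization.AtPrime.to_map_mem_maximal_iff (Localization.AtPrime p.asIdeal) p.asIdeal]
    exact hmem a ha
  have h1 : (rs.length : ℕ∞) ≤ LocCoh.depth (Localization.AtPrime p.asIdeal)
      (LocalizedModule p.asIdeal.primeCompl M) := by
    have := length_le_idealDepth (maximalIdeal (Localization.AtPrime p.asIdeal))
      (LocalizedModule p.asIdeal.primeCompl M) hreg' hmem'
    rw [List.length_map] at this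
    exact this
  have h2 := depth_le_supportDim (Localization.AtPrime p.asIdeal)
    (LocalizedModule p.asIdeal.primeCompl M)
  have h3 := SuppLoc.supportDim_localizedModule_add_supportDim_quotient_le A M p.asIdeal
  rw [supportDim_quotient_smul_top_eq A M p hp] at h3 ⊢
  rw [hn] at h3 hdim
  have h4 : Module.supportDim (Localization.AtPrime p.asIdeal)
      (LocalizedModule p.asIdeal.primeCompl M) ≤ (rs.length : WithBot ℕ∞) :=
    le_of_add_le_nat hdim h3
  have h1' : (rs.length : WithBot ℕ∞) ≤ ((LocCoh.depth (Localization.AtPrime p.asIdeal)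
      (LocalizedModule p.asIdeal.primeCompl M) : ℕ∞) : WithBot ℕ∞) := by
    exact_mod_cast h1
  have h5 : Module.supportDim (Localization.AtPrime p.asIdeal)
      (LocalizedModule p.asIdeal.primeCompl M) = (rs.length : WithBot ℕ∞) :=
    le_antisymm h4 (h1'.trans h2)
  refine ⟨le_antisymm (h4.trans h1') h2, ?_⟩
  rw [h5, hn, hdim]

theorem nat_eq_of_add_eq {a : WithBot ℕ∞} {l r n : ℕ} (h1 : a + (l : WithBot ℕ∞) = n)
    (h2 : a + (r : WithBot ℕ∞) = n) : l = r := by
  induction a with
  | bot => rw [WithBot.bot_add] at h1; exact absurd h1.symm (WithBot.coe_ne_bot (a := (n : ℕ∞)))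
  | coe a =>
    have h1' : a + (l : ℕ∞) = n := by exact_mod_cast h1
    have h2' : a + (r : ℕ∞) = n := by exact_mod_cast h2
    have hat : a ≠ ⊤ := by rintro rfl; simp at h1'
    obtain ⟨k, rfl⟩ := ENat.ne_top_iff_exists.1 hat
    have h1'' : k + l = n := by exact_mod_cast h1'
    have h2'' : k + r = n := by exact_mod_cast h2'
    omega

theorem eq_of_add_nat_eq {a b : WithBot ℕ∞} {r n : ℕ} (h1 : a + (r : WithBot ℕ∞) = n)
    (h2 : b + (r : WithBot ℕ∞) = n) : a = b := by
  induction a with
  | bot => rw [WithBot.bot_add] at h1; exact absurd h1.symm (WithBot.coe_ne_bot (a := (n : ℕ∞)))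
  | coe a =>
    induction b with
    | bot => rw [WithBot.bot_add] at h2; exact absurd h2.symm (WithBot.coe_ne_bot (a := (n : ℕ∞)))
    | coe b =>
      have h1' : a + (r : ℕ∞) = n := by exact_mod_cast h1
      have h2' : b + (r : ℕ∞) = n := by exact_mod_cast h2
      have hat : a ≠ ⊤ := by rintro rfl; simp at h1'
      have hbt : b ≠ ⊤ := by rintro rfl; simp at h2'
      obtain ⟨k, rfl⟩ := ENat.ne_top_iff_exists.1 hat
      obtain ⟨j, rfl⟩ := ENat.ne_top_iff_exists.1 hbt
      have h1'' : k + r = n := by exact_mod_cast h1'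
      have h2'' : j + r = n := by exact_mod_cast h2'
      have : k = j := by omega
      rw [this]

/-- EGA 0_IV 16.5.9-type statement: regular sequences of length `dim M - dim M/pM` inside
a prime `p` of the support of a Cohen–Macaulay module. -/
theorem regular_in_prime_of_isCM (hM : LocCoh.IsCohenMacaulayModule A M) (p : PrimeSpectrum A)
    (hp : p ∈ Module.support A M) (r : ℕ)
    (hr : Module.supportDim A (M ⧸ (p.asIdeal • (⊤ : Submodule A M))) + r =
      Module.supportDim A M) :
    (∃ xs : List A, xs.length = r ∧ (∀ x ∈ xs, x ∈ p.asIdeal) ∧ IsWeaklyRegular M xs) ∧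
      ∀ xs : List A, xs.length = r → (∀ x ∈ xs, x ∈ p.asIdeal) → IsWeaklyRegular M xs →
        Module.supportDim A (M ⧸ (Ideal.ofList xs • (⊤ : Submodule A M))) =
            Module.supportDim A (M ⧸ (p.asIdeal • (⊤ : Submodule A M))) ∧
          Module.supportDim A (M ⧸ (p.asIdeal • (⊤ : Submodule A M))) =
            ringKrullDim (A ⧸ p.asIdeal) ∧
          p.asIdeal ∈ associatedPrimes A (M ⧸ (Ideal.ofList xs • (⊤ : Submodule A M))) ∧
          ∀ q ∈ associatedPrimes A (M ⧸ (Ideal.ofList xs • (⊤ : Submodule A M))),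
            q ≤ p.asIdeal → q = p.asIdeal := by
  have hk := supportDim_quotient_smul_top_eq A M p hp
  obtain ⟨n, -, hn⟩ := exists_nat_of_isCM A M hM
  have hpm : p.asIdeal ≤ maximalIdeal A := le_maximalIdeal p.isPrime.ne_top
  rw [hk, hn] at hr
  refine ⟨?_, ?_⟩
  · obtain ⟨rs, hreg, hmem, hdim⟩ := exists_regular_in_prime_of_isCM A M hM p hp
    rw [hn] at hdim
    exact ⟨rs, nat_eq_of_add_eq hdim hr, hmem, hreg⟩
  · intro xs hlen hmem hreg
    have hmem' : ∀ r ∈ xs, r ∈ maximalIdeal A := fun r hr => hpm (hmem r hr)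
    obtain ⟨h1, h2⟩ := isWeaklyRegular_iff_of_isCM A xs M hM hmem'
    have hN := h2 hreg
    have hdimN := h1.1 hreg
    rw [hlen, hn] at hdimN
    have hNp : Module.supportDim A (M ⧸ (Ideal.ofList xs • (⊤ : Submodule A M))) =
        ringKrullDim (A ⧸ p.asIdeal) := eq_of_add_nat_eq hdimN hr
    have hpN : p ∈ Module.support A (M ⧸ (Ideal.ofList xs • (⊤ : Submodule A M))) := by
      rw [Module.support_quotient]
      refine ⟨hp, ?_⟩
      rw [PrimeSpectrum.mem_zeroLocus]
      exact ofList_le_of_forall_mem A hmem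
    obtain ⟨h3, h4⟩ := mem_ass_of_isCM_of_dim_eq A _ hN p hpN hNp.symm
    exact ⟨hNp.trans hk.symm, hk, h3, h4⟩

/-- A prime of the support with `dim A/p = dim N` is minimal in the support. -/
theorem le_of_le_of_mem_support_of_dim_eq [Nontrivial M] {p p' : Ideal A} [p.IsPrime]
    [hp' : p'.IsPrime] (hp'S : (⟨p', hp'⟩ : PrimeSpectrum A) ∈ Module.support A M)
    (hle : p' ≤ p) (hdim : ringKrullDim (A ⧸ p) = Module.supportDim A M) : p ≤ p' := by
  by_contra hne
  have hlt : p' < p := lt_of_le_of_ne hle (fun h => hne (h ▸ le_rfl))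
  have h1 := ringKrullDim_quotient_succ_le_of_lt A hlt
  have h2 := ringKrullDim_quotient_le_supportDim_of_mem_support A M hp'S
  obtain ⟨n, hn⟩ := exists_nat_supportDim A M
  rw [hdim] at h1
  exact not_add_one_le_of_eq_nat hn (h1.trans h2)

end Loc

end Groth.Agent.Lib.Helper29.CMLib
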