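import Groth.Agent.Lib.Helper29.CMRing

/-!
# Depth of localizations: `depth M_s ≤ depth M_p + ht(s/p)`
-/

set_option autoImplicit false
universe u

namespace Groth.Agent.Lib.Helper29.DepthLoc

open RingTheory.Sequence IsLocalRing Pointwise
open Groth.Agent.Lib.Helper29 Groth.Agent.Lib.Helper29.DepthLib Groth.Agent.Lib.Helper29.CMLib
open Groth.Agent.Lib.Helper29.DepthFinite Groth.Agent.Lib.Helper29.CMRing

section QuotLoc

variable {R : Type u} [CommRing R] (S : Submonoid R) (M : Type u) [AddCommGroup M] [Module R M]

theorem localized_smul_top (x : R) :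
    (x • (⊤ : Submodule R M)).localized S =
      algebraMap R (Localization S) x • (⊤ : Submodule (Localization S) (LocalizedModule S M)) := by
  rw [← Submodule.ideal_span_singleton_smul x (⊤ : Submodule R M), Submodule.localized,
    localized'_smul_top S (LocalizedModule.mkLinearMap S M), Ideal.map_span, Set.image_singleton,
    Submodule.ideal_span_singleton_smul]

/-- `(M/xM)_S ≅ M_S/(x/1)M_S`. -/
noncomputable def quotSMulTopLocEquiv (x : R) :
    QuotSMulTop (algebraMap R (Localization S) x) (LocalizedModule S M) ≃ₗ[Localization S]
      LocalizedModule S (QuotSMulTop x M) :=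
  (Submodule.quotEquivOfEq _ _ (localized_smul_top S M x).symm).trans
    (localizedQuotientEquiv S (x • (⊤ : Submodule R M)))

end QuotLoc

section Avoid

/-- Prime avoidance for a finite set of primes. -/
theorem exists_le_of_forall_exists_mem {R : Type u} [CommRing R] (T : Set (Ideal R))
    (hT : T.Finite) (hprime : ∀ q ∈ T, q.IsPrime) (I : Ideal R)
    (h : ∀ x ∈ I, ∃ q ∈ T, x ∈ q) : ∃ q ∈ T, I ≤ q := by
  have hsub : ((I : Ideal R) : Set R) ⊆
      ⋃ p ∈ ((hT.toFinset : Finset (Ideal R)) : Set (Ideal R)), ((id p : Ideal R) : Set R) := by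
    intro x hx
    obtain ⟨q, hq, hxq⟩ := h x hx
    simp only [Set.Finite.coe_toFinset, id_eq, Set.mem_iUnion, SetLike.mem_coe, exists_prop]
    exact ⟨q, hq, hxq⟩
  rw [Ideal.subset_union_prime (f := id) I I] at hsub
  · obtain ⟨p, hp, hle⟩ := hsub
    exact ⟨p, by simpa using hp, hle⟩
  · intro p hp _ _
    exact hprime p (by simpa using hp)

end Avoid

section Main

variable (R : Type u) [CommRing R] [IsNoetherianRing R]

/-- `x/1` is `M_s`-regular when `x` avoids the associated primes of `M` contained in `s`. -/
theorem isSMulRegular_localizedModule_of_avoid (M : Type u) [AddCommGroup M] [Module R M]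
    (s : Ideal R) [s.IsPrime] (x : R)
    (hx : ∀ q ∈ associatedPrimes R M, q ≤ s → x ∉ q) :
    IsSMulRegular (LocalizedModule s.primeCompl M) (algebraMap R (Localization.AtPrime s) x) := by
  by_contra h
  rw [not_isSMulRegular_iff_mem_biUnion_ass] at h
  simp only [Set.mem_iUnion, SetLike.mem_coe, exists_prop] at h
  obtain ⟨Q, hQ, hxQ⟩ := h
  have hQp : Q.IsPrime := IsAssociatedPrime.isPrime hQ
  have h1 := Module.associatedPrimes.comap_mem_associatedPrimes_of_mem_associatedPrimes_of_isLocalizedModule_of_fg
    s.primeCompl (LocalizedModule.mkLinearMap s.primeCompl M) Q hQ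
    ((isNoetherianRing_iff_ideal_fg R).mp inferInstance _)
  have h2 : Q.comap (algebraMap R (Localization.AtPrime s)) ≤ s :=
    SuppLoc.comap_le_atPrime R s ⟨Q, hQp⟩
  exact hx _ h1 h2 hxQ

omit [IsNoetherianRing R] in
/-- `dim R_s/pR_s = ht(s/p)`. -/
theorem ringKrullDim_localization_quotient_eq_height (p s : Ideal R) [p.IsPrime] [s.IsPrime]
    (hps : p ≤ s) :
    ringKrullDim (Localization.AtPrime s ⧸ p.map (algebraMap R (Localization.AtPrime s))) =
      ((s.map (Ideal.Quotient.mk p)).height : WithBot ℕ∞) := by
  have hprime : (s.map (Ideal.Quotient.mk p)).IsPrime :=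
    Ideal.map_isPrime_of_surjective Ideal.Quotient.mk_surjective (by rw [Ideal.mk_ker]; exact hps)
  have heq : Algebra.algebraMapSubmonoid (R ⧸ p) s.primeCompl =
      (s.map (Ideal.Quotient.mk p)).primeCompl := by
    ext y
    obtain ⟨x, rfl⟩ := Ideal.Quotient.mk_surjective y
    simp only [Algebra.algebraMapSubmonoid, Submonoid.mem_map, Ideal.mem_primeCompl_iff,
      Ideal.Quotient.algebraMap_eq]
    constructor
    · rintro ⟨z, hz, hzx⟩ hmem
      rw [Ideal.mem_map_iff_of_surjective _ Ideal.Quotient.mk_surjective] at hmem
      obtain ⟨w, hw, hwx⟩ := hmem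
      have : z - w ∈ p := by
        rw [← Ideal.Quotient.eq, hzx, hwx]
      have : z ∈ s := by
        have h1 : z = (z - w) + w := by ring
        rw [h1]
        exact s.add_mem (hps this) hw
      exact hz this
    · intro h
      exact ⟨x, fun hx => h (Ideal.mem_map_of_mem _ hx), rfl⟩
  have hloc : IsLocalization.AtPrime
      (Localization.AtPrime s ⧸ p.map (algebraMap R (Localization.AtPrime s)))
      (s.map (Ideal.Quotient.mk p)) := by
    unfold IsLocalization.AtPrime
    rw [← heq]
    infer_instance
  exact IsLocalization.AtPrime.ringKrullDim_eq_height (s.map (Ideal.Quotient.mk p)) _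

omit [IsNoetherianRing R] in
theorem depth_eq_top_of_subsingleton (A : Type u) [CommRing A] [IsLocalRing A] (N : Type u)
    [AddCommGroup N] [Module A N] [Subsingleton N] : LocCoh.depth A N = ⊤ := by
  unfold LocCoh.depth LocCoh.idealDepth
  rw [if_pos (Subsingleton.elim _ _)]

theorem depth_localization_le_aux (p s : Ideal R) [p.IsPrime] [s.IsPrime] (hps : p ≤ s) (m : ℕ) :
    ∀ (M : Type u) [AddCommGroup M] [Module R M] [Module.Finite R M],
      LocCoh.depth (Localization.AtPrime s) (LocalizedModule s.primeCompl M) = m →
      (m : ℕ∞) ≤ LocCoh.depth (Localization.AtPrime p) (LocalizedModule p.primeCompl M) +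
        (s.map (Ideal.Quotient.mk p)).height := by
  induction m with
  | zero => intro M _ _ _ _; exact bot_le
  | succ m ih =>
    intro M _ _ _ hd
    by_cases hMp : Subsingleton (LocalizedModule p.primeCompl M)
    · rw [depth_eq_top_of_subsingleton, top_add]; exact le_top
    rw [not_subsingleton_iff_nontrivial] at hMp
    have hMs : Nontrivial (LocalizedModule s.primeCompl M) := by
      have h1 : (⟨p, inferInstance⟩ : PrimeSpectrum R) ∈ Module.support R M :=
        Module.mem_support_iff.2 hMp
      have h2 : (⟨s, inferInstance⟩ : PrimeSpectrum R) ∈ Module.support R M :=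
        Module.mem_support_mono (show (⟨p, inferInstance⟩ : PrimeSpectrum R) ≤ ⟨s, inferInstance⟩
          from hps) h1
      exact Module.mem_support_iff.1 h2
    by_cases hA : ∃ q ∈ associatedPrimes R M, p ≤ q ∧ q ≤ s
    · -- Case A
      obtain ⟨q, hq, hpq, hqs⟩ := hA
      have hqp : q.IsPrime := IsAssociatedPrime.isPrime hq
      have hdisj : Disjoint (s.primeCompl : Set R) (q : Set R) := by
        rw [Set.disjoint_left]
        intro x hx hxq
        exact hx (hqs hxq)
      have hQ : q.map (algebraMap R (Localization.AtPrime s)) ∈
          associatedPrimes (Localization.AtPrime s) (LocalizedModule s.primeCompl M) := by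
        apply Module.associatedPrimes.mem_associatedPrimes_of_comap_mem_associatedPrimes_of_isLocalizedModule
          s.primeCompl (LocalizedModule.mkLinearMap s.primeCompl M)
        have : (q.map (algebraMap R (Localization.AtPrime s))).comap
            (algebraMap R (Localization.AtPrime s)) = q :=
          IsLocalization.under_map_of_isPrime_disjoint s.primeCompl (Localization.AtPrime s)
            hqp hdisj
        rw [this]
        exact hq
      have h1 := depth_le_ringKrullDim_quotient (Localization.AtPrime s)
        (LocalizedModule s.primeCompl M) hQ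
      have hle : p.map (algebraMap R (Localization.AtPrime s)) ≤
          q.map (algebraMap R (Localization.AtPrime s)) := Ideal.map_mono hpq
      have h2 : ringKrullDim (Localization.AtPrime s ⧸ q.map (algebraMap R (Localization.AtPrime s)))
          ≤ ringKrullDim (Localization.AtPrime s ⧸ p.map (algebraMap R (Localization.AtPrime s))) :=
        ringKrullDim_le_of_surjective (Ideal.Quotient.factor hle)
          (Ideal.Quotient.factor_surjective hle)
      rw [ringKrullDim_localization_quotient_eq_height R p s hps] at h2
      have h3 : LocCoh.depth (Localization.AtPrime s) (LocalizedModule s.primeCompl M) ≤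
          (s.map (Ideal.Quotient.mk p)).height := WithBot.coe_le_coe.1 (h1.trans h2)
      rw [hd] at h3
      exact h3.trans le_add_self
    · -- Case B
      push Not at hA
      have hT : ({q ∈ associatedPrimes R M | q ≤ s} : Set (Ideal R)).Finite :=
        (associatedPrimes.finite R M).subset (fun q hq => hq.1)
      have hex : ∃ x ∈ p, ∀ q ∈ associatedPrimes R M, q ≤ s → x ∉ q := by
        by_contra hcon
        push Not at hcon
        obtain ⟨q, hq, hpq⟩ := exists_le_of_forall_exists_mem _ hT
          (fun q hq => IsAssociatedPrime.isPrime hq.1) p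
          (fun x hx => by
            obtain ⟨q, hq, hqs, hxq⟩ := hcon x hx
            exact ⟨q, ⟨hq, hqs⟩, hxq⟩)
        exact hA q hq.1 hpq hq.2
      obtain ⟨x, hxp, hx⟩ := hex
      have hxs : x ∈ s := hps hxp
      have hregs := isSMulRegular_localizedModule_of_avoid R M s x hx
      have hregp := isSMulRegular_localizedModule_of_avoid R M p x
        (fun q hq hqp => hx q hq (hqp.trans hps))
      have hms : algebraMap R (Localization.AtPrime s) x ∈ maximalIdeal (Localization.AtPrime s) :=
        (IsLocalization.AtPrime.to_map_mem_maximal_iff (Localization.AtPrime s) s x).2 hxs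
      have hmp : algebraMap R (Localization.AtPrime p) x ∈ maximalIdeal (Localization.AtPrime p) :=
        (IsLocalization.AtPrime.to_map_mem_maximal_iff (Localization.AtPrime p) p x).2 hxp
      have h1 := depth_quotSMulTop_add_one (Localization.AtPrime s)
        (LocalizedModule s.primeCompl M) hms hregs
      have h2 := depth_quotSMulTop_add_one (Localization.AtPrime p)
        (LocalizedModule p.primeCompl M) hmp hregp
      rw [depth_congr (quotSMulTopLocEquiv s.primeCompl M x)] at h1
      rw [depth_congr (quotSMulTopLocEquiv p.primeCompl M x)] at h2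
      have hd' : LocCoh.depth (Localization.AtPrime s)
          (LocalizedModule s.primeCompl (QuotSMulTop x M)) = m := by
        rw [hd] at h1
        have h3 : LocCoh.depth (Localization.AtPrime s)
            (LocalizedModule s.primeCompl (QuotSMulTop x M)) + 1 = (m : ℕ∞) + 1 := by
          rw [h1]; push_cast; rfl
        exact ENat.add_left_injective_of_ne_top ENat.one_ne_top h3
      have := ih (QuotSMulTop x M) hd'
      rw [← h2]
      calc ((m + 1 : ℕ) : ℕ∞) = (m : ℕ∞) + 1 := by push_cast; rfl
        _ ≤ (LocCoh.depth (Localization.AtPrime p)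
              (LocalizedModule p.primeCompl (QuotSMulTop x M)) +
              (s.map (Ideal.Quotient.mk p)).height) + 1 := by gcongr
        _ = _ := by rw [add_right_comm]

/-- `depth M_s ≤ depth M_p + ht(s/p)` for primes `p ⊆ s` and a finite module `M` over a
Noetherian ring. -/
theorem depth_localization_le (M : Type u) [AddCommGroup M] [Module R M] [Module.Finite R M]
    (p s : Ideal R) [p.IsPrime] [s.IsPrime] (hps : p ≤ s) :
    LocCoh.depth (Localization.AtPrime s) (LocalizedModule s.primeCompl M) ≤
      LocCoh.depth (Localization.AtPrime p) (LocalizedModule p.primeCompl M) +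
        (s.map (Ideal.Quotient.mk p)).height := by
  by_cases hMs : Subsingleton (LocalizedModule s.primeCompl M)
  · have hMp : Subsingleton (LocalizedModule p.primeCompl M) := by
      by_contra hne
      rw [not_subsingleton_iff_nontrivial] at hne
      have h1 : (⟨p, inferInstance⟩ : PrimeSpectrum R) ∈ Module.support R M :=
        Module.mem_support_iff.2 hne
      have h2 : (⟨s, inferInstance⟩ : PrimeSpectrum R) ∈ Module.support R M :=
        Module.mem_support_mono (show (⟨p, inferInstance⟩ : PrimeSpectrum R) ≤ ⟨s, inferInstance⟩
          from hps) h1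
      have hnt : Nontrivial (LocalizedModule s.primeCompl M) := Module.mem_support_iff.1 h2
      exact not_subsingleton _ hMs
    rw [depth_eq_top_of_subsingleton (Localization.AtPrime p), top_add]
    exact le_top
  · rw [not_subsingleton_iff_nontrivial] at hMs
    obtain ⟨m, hm⟩ := ENat.ne_top_iff_exists.1
      (depth_ne_top (Localization.AtPrime s) (LocalizedModule s.primeCompl M))
    rw [← hm]
    exact depth_localization_le_aux R p s hps m M hm.symm

end Main

end Groth.Agent.Lib.Helper29.DepthLoc
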