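import Groth.Prelude
import Groth.Agent.Lib.Helper29.CM
import Groth.Agent.Lib.Helper29.SuppLoc
import Groth.Agent.Lib.Helper29.DepthLoc

/-!
# Chains of primes in rings with Cohen–Macaulay modules of full support

* `dim_eq_add_height`: `dim R = dim R/p + ht p` in a local ring with a CM module of full support.
* `height_succ_of_covBy_of_isCMRing`: in a CM ring, `p ⋖ q` implies `ht q = ht p + 1`.
* `length_add_height_head_of_isCMRing`: saturated chains in CM rings have length `ht q - ht p`.
* `isCatenary_of_surjective`: quotients of CM rings are catenary.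
-/

set_option autoImplicit false
universe u

namespace Groth.Agent.Lib.Helper29.Catenary

theorem support_self_univ (R : Type u) [CommRing R] : Module.support R R = Set.univ := by
  ext p
  simp only [Set.mem_univ, iff_true]
  rw [Module.mem_support_iff']
  refine ⟨1, fun r hr h0 => hr ?_⟩
  rw [smul_eq_mul, mul_one] at h0
  rw [h0]
  exact p.asIdeal.zero_mem

theorem supportDim_eq_of_support_univ {R M : Type u} [CommRing R] [AddCommGroup M] [Module R M]
    (hsupp : Module.support R M = Set.univ) : Module.supportDim R M = ringKrullDim R := by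
  unfold Module.supportDim ringKrullDim
  rw [hsupp]
  exact Order.krullDim_eq_of_orderIso OrderIso.Set.univ

theorem support_localized_univ {R M : Type u} [CommRing R] [AddCommGroup M] [Module R M]
    (hsupp : Module.support R M = Set.univ) (q : Ideal R) [q.IsPrime] :
    Module.support (Localization.AtPrime q) (LocalizedModule q.primeCompl M) = Set.univ := by
  ext Q
  simp only [Set.mem_univ, iff_true]
  rw [Groth.Agent.Lib.Helper29.SuppLoc.mem_support_iff_comap_mem_support q.primeCompl
    (LocalizedModule.mkLinearMap q.primeCompl M) Q, hsupp]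
  exact Set.mem_univ _

/-- `dim R = dim R/p + ht p` when `R` has a CM module with full support. -/
theorem dim_eq_add_height {R M : Type u} [CommRing R] [IsLocalRing R] [IsNoetherianRing R]
    [AddCommGroup M] [Module R M] [Module.Finite R M] (hM : LocCoh.IsCohenMacaulayModule R M)
    (hsupp : Module.support R M = Set.univ) (p : Ideal R) [hp : p.IsPrime] :
    ringKrullDim R = ringKrullDim (R ⧸ p) + (p.height : WithBot ℕ∞) := by
  have hmem : (⟨p, hp⟩ : PrimeSpectrum R) ∈ Module.support R M := by rw [hsupp]; exact Set.mem_univ _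
  have h := (Groth.Agent.Lib.Helper29.CMLib.isCM_localizedModule_and_dim R M hM ⟨p, hp⟩ hmem).2
  rw [Groth.Agent.Lib.Helper29.CMLib.supportDim_quotient_smul_top_eq R M ⟨p, hp⟩ hmem,
    supportDim_eq_of_support_univ hsupp,
    supportDim_eq_of_support_univ (support_localized_univ hsupp p),
    IsLocalization.AtPrime.ringKrullDim_eq_height p (Localization.AtPrime p)] at h
  exact h

/-- Height of `q/p` is one when `p ⋖ q` in the prime spectrum. -/
theorem height_map_mk_eq_one {R : Type u} [CommRing R] (p q : PrimeSpectrum R) (hcov : p ⋖ q) :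
    (q.asIdeal.map (Ideal.Quotient.mk p.asIdeal)).height = 1 := by
  have hpq : p.asIdeal ≤ q.asIdeal := hcov.1.le
  have hprime : (q.asIdeal.map (Ideal.Quotient.mk p.asIdeal)).IsPrime :=
    Ideal.map_isPrime_of_surjective Ideal.Quotient.mk_surjective (by rw [Ideal.mk_ker]; exact hpq)
  have hcomap : (q.asIdeal.map (Ideal.Quotient.mk p.asIdeal)).comap (Ideal.Quotient.mk p.asIdeal)
      = q.asIdeal := by
    rw [Ideal.comap_map_of_surjective _ Ideal.Quotient.mk_surjective, ← RingHom.ker_eq_comap_bot,
      Ideal.mk_ker]
    exact sup_eq_left.2 hpq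
  apply le_antisymm
  · have : (q.asIdeal.map (Ideal.Quotient.mk p.asIdeal)).height ≤ ((1 : ℕ) : ℕ∞) := by
      rw [Ideal.height_le_iff]
      intro Q hQ hlt
      let Q' : PrimeSpectrum R := ⟨Q.comap (Ideal.Quotient.mk p.asIdeal), inferInstance⟩
      have h1 : p ≤ Q' := by
        change p.asIdeal ≤ Q.comap (Ideal.Quotient.mk p.asIdeal)
        intro x hx
        rw [Ideal.mem_comap, Ideal.Quotient.eq_zero_iff_mem.2 hx]
        exact Q.zero_mem
      have h2 : Q' < q := by
        rw [← PrimeSpectrum.asIdeal_lt_asIdeal]
        change Q.comap (Ideal.Quotient.mk p.asIdeal) < q.asIdeal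
        rw [← hcomap]
        refine lt_of_le_of_ne (Ideal.comap_mono hlt.le) ?_
        intro heq
        have := congrArg (Ideal.map (Ideal.Quotient.mk p.asIdeal)) heq
        rw [Ideal.map_comap_of_surjective _ Ideal.Quotient.mk_surjective,
          Ideal.map_comap_of_surjective _ Ideal.Quotient.mk_surjective] at this
        exact hlt.ne this
      have h3 : Q' = p := by
        by_contra hne
        exact hcov.2 (lt_of_le_of_ne h1 (Ne.symm hne)) h2
      have hQ0 : Q = ⊥ := by
        have h4 : Q.comap (Ideal.Quotient.mk p.asIdeal) = p.asIdeal := congrArg (·.asIdeal) h3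
        rw [← Ideal.map_comap_of_surjective _ Ideal.Quotient.mk_surjective Q, h4,
          Ideal.map_quotient_self]
      rw [hQ0, Ideal.height_bot]
      exact zero_lt_one
    exact_mod_cast this
  · by_contra hlt
    have h0 : (q.asIdeal.map (Ideal.Quotient.mk p.asIdeal)).height = 0 :=
      Order.lt_one_iff.1 (not_le.1 hlt)
    rw [Ideal.height_eq_zero_iff_eq_bot] at h0
    have : q.asIdeal ≤ p.asIdeal := by
      rw [← hcomap, h0, ← RingHom.ker_eq_comap_bot, Ideal.mk_ker]
    exact hcov.1.not_ge this

/-- `ht q = ht p + 1` for `p ⋖ q` when `R_q` has a finite CM module with full support. -/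
theorem height_succ_of_covBy_of_localization {R : Type u} [CommRing R] [IsNoetherianRing R]
    (p q : PrimeSpectrum R) (hcov : p ⋖ q) {N : Type u} [AddCommGroup N]
    [Module (Localization.AtPrime q.asIdeal) N] [Module.Finite (Localization.AtPrime q.asIdeal) N]
    (hN : LocCoh.IsCohenMacaulayModule (Localization.AtPrime q.asIdeal) N)
    (hsupp : Module.support (Localization.AtPrime q.asIdeal) N = Set.univ) :
    q.asIdeal.height = p.asIdeal.height + 1 := by
  have hpq : p.asIdeal ≤ q.asIdeal := hcov.1.le
  have hdisj : Disjoint (q.asIdeal.primeCompl : Set R) (p.asIdeal : Set R) := by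
    rw [Set.disjoint_left]
    intro x hx hxp
    exact hx (hpq hxp)
  have hP : (p.asIdeal.map (algebraMap R (Localization.AtPrime q.asIdeal))).IsPrime :=
    IsLocalization.isPrime_of_isPrime_disjoint q.asIdeal.primeCompl _ p.asIdeal inferInstance hdisj
  have h := dim_eq_add_height hN hsupp
    (p.asIdeal.map (algebraMap R (Localization.AtPrime q.asIdeal)))
  rw [IsLocalization.AtPrime.ringKrullDim_eq_height q.asIdeal (Localization.AtPrime q.asIdeal),
    Groth.Agent.Lib.Helper29.DepthLoc.ringKrullDim_localization_quotient_eq_height R p.asIdeal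
      q.asIdeal hpq,
    IsLocalization.height_map_of_disjoint q.asIdeal.primeCompl p.asIdeal hdisj,
    height_map_mk_eq_one p q hcov] at h
  have h' : (q.asIdeal.height : WithBot ℕ∞) = ((p.asIdeal.height + 1 : ℕ∞) : WithBot ℕ∞) := by
    rw [h, add_comm]
    rfl
  exact_mod_cast h'

/-- `ht q = ht p + 1` for `p ⋖ q` when `R` is local with a finite CM module with full support. -/
theorem height_succ_of_covBy {R M : Type u} [CommRing R] [IsLocalRing R] [IsNoetherianRing R]
    [AddCommGroup M] [Module R M] [Module.Finite R M] (hM : LocCoh.IsCohenMacaulayModule R M)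
    (hsupp : Module.support R M = Set.univ) (p q : PrimeSpectrum R) (hcov : p ⋖ q) :
    q.asIdeal.height = p.asIdeal.height + 1 := by
  have hmem : q ∈ Module.support R M := by rw [hsupp]; exact Set.mem_univ _
  have hMq := (Groth.Agent.Lib.Helper29.CMLib.isCM_localizedModule_and_dim R M hM q hmem).1
  exact height_succ_of_covBy_of_localization p q hcov hMq (support_localized_univ hsupp q.asIdeal)

/-- In a CM ring, `p ⋖ q` implies `ht q = ht p + 1`. -/
theorem height_succ_of_covBy_of_isCMRing {R : Type u} [CommRing R] [LocCoh.IsCohenMacaulayRing R]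
    (p q : PrimeSpectrum R) (hcov : p ⋖ q) : q.asIdeal.height = p.asIdeal.height + 1 := by
  have h := LocCoh.IsCohenMacaulayRing.isCohenMacaulayLocalRing_localization q.asIdeal
  exact height_succ_of_covBy_of_localization p q hcov
    (N := Localization.AtPrime q.asIdeal) h.supportDim_eq_depth (support_self_univ _)

/-- General form: if every covering step raises height by one then saturated chains have length
`ht last - ht head`. -/
theorem length_add_height_head {R : Type u} [CommRing R]
    (hstep : ∀ p q : PrimeSpectrum R, p ⋖ q → q.asIdeal.height = p.asIdeal.height + 1)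
    (s : LTSeries (PrimeSpectrum R))
    (hsat : ∀ i : Fin s.length, s (Fin.castSucc i) ⋖ s (Fin.succ i)) :
    (s.length : ℕ∞) + s.head.asIdeal.height = s.last.asIdeal.height := by
  have key : ∀ i : Fin (s.length + 1),
      (s i).asIdeal.height = ((i : ℕ) : ℕ∞) + s.head.asIdeal.height := by
    intro i
    induction i using Fin.induction with
    | zero =>
      simp [RelSeries.head]
    | succ i ih =>
      rw [hstep _ _ (hsat i), ih]
      simp only [Fin.val_castSucc, Fin.val_succ, Nat.cast_add, Nat.cast_one]
      ring
  have := key (Fin.last s.length)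
  rw [Fin.val_last] at this
  exact this.symm

theorem length_add_height_head_of_isCMRing {R : Type u} [CommRing R] [LocCoh.IsCohenMacaulayRing R]
    (s : LTSeries (PrimeSpectrum R))
    (hsat : ∀ i : Fin s.length, s (Fin.castSucc i) ⋖ s (Fin.succ i)) :
    (s.length : ℕ∞) + s.head.asIdeal.height = s.last.asIdeal.height :=
  length_add_height_head height_succ_of_covBy_of_isCMRing s hsat


section Surj

variable {T S : Type u} [CommRing T] [CommRing S] (φ : T →+* S) (hφ : Function.Surjective φ)

include hφ in
theorem comap_le_comap_iff (p q : PrimeSpectrum S) :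
    PrimeSpectrum.comap φ p ≤ PrimeSpectrum.comap φ q ↔ p ≤ q := by
  change p.asIdeal.comap φ ≤ q.asIdeal.comap φ ↔ p.asIdeal ≤ q.asIdeal
  exact Ideal.comap_le_comap_iff_of_surjective φ hφ _ _

include hφ in
theorem comap_strictMono : StrictMono (PrimeSpectrum.comap φ) := by
  intro p q hpq
  rw [lt_iff_le_not_ge] at hpq ⊢
  rw [comap_le_comap_iff φ hφ, comap_le_comap_iff φ hφ]
  exact hpq

include hφ in
theorem comap_covBy {p q : PrimeSpectrum S} (h : p ⋖ q) :
    PrimeSpectrum.comap φ p ⋖ PrimeSpectrum.comap φ q := by
  refine ⟨comap_strictMono φ hφ h.1, ?_⟩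
  intro r hr1 hr2
  have hker : RingHom.ker φ ≤ r.asIdeal := by
    have h1 : RingHom.ker φ ≤ (PrimeSpectrum.comap φ p).asIdeal := by
      change RingHom.ker φ ≤ p.asIdeal.comap φ
      rw [RingHom.ker_eq_comap_bot]
      exact Ideal.comap_mono bot_le
    exact h1.trans hr1.le
  have hprime : (r.asIdeal.map φ).IsPrime := Ideal.map_isPrime_of_surjective hφ hker
  let r' : PrimeSpectrum S := ⟨r.asIdeal.map φ, hprime⟩
  have hr' : PrimeSpectrum.comap φ r' = r := by
    ext1
    change (r.asIdeal.map φ).comap φ = r.asIdeal
    rw [Ideal.comap_map_of_surjective φ hφ, ← RingHom.ker_eq_comap_bot]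
    exact sup_eq_left.2 hker
  rw [← hr'] at hr1 hr2
  have h1 : p < r' := by
    rw [lt_iff_le_not_ge] at hr1 ⊢
    rw [comap_le_comap_iff φ hφ, comap_le_comap_iff φ hφ] at hr1
    exact hr1
  have h2 : r' < q := by
    rw [lt_iff_le_not_ge] at hr2 ⊢
    rw [comap_le_comap_iff φ hφ, comap_le_comap_iff φ hφ] at hr2
    exact hr2
  exact h.2 h1 h2

include hφ in
/-- Quotients of Noetherian rings in which covering steps raise the height by one are catenary. -/
theorem isCatenary_of_surjective_of_step [IsNoetherianRing T]
    (hstep : ∀ p q : PrimeSpectrum T, p ⋖ q → q.asIdeal.height = p.asIdeal.height + 1) :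
    CAlg.IsCatenary S := by
  have hfin : ∀ Q : PrimeSpectrum T, Q.asIdeal.height ≠ ⊤ := fun Q =>
    Ideal.height_ne_top_of_isPrime
  constructor
  · intro p q _
    refine ⟨(PrimeSpectrum.comap φ q).asIdeal.height.toNat, ?_⟩
    intro s _ hlast
    have h1 : ((s.map _ (comap_strictMono φ hφ)).length : ℕ∞) ≤
        Order.height (s.map _ (comap_strictMono φ hφ)).last := Order.length_le_height_last
    rw [LTSeries.last_map, hlast, ← PrimeSpectrum.height_eq_orderHeight] at h1
    have h2 : (s.map _ (comap_strictMono φ hφ)).length = s.length := rfl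
    rw [h2] at h1
    rw [← ENat.natCast_toNat (hfin _)] at h1
    exact_mod_cast h1
  · intro s t hhead hlast hs ht
    have e1 := length_add_height_head hstep (s.map _ (comap_strictMono φ hφ))
      (fun i => comap_covBy φ hφ (hs i))
    have e2 := length_add_height_head hstep (t.map _ (comap_strictMono φ hφ))
      (fun i => comap_covBy φ hφ (ht i))
    rw [LTSeries.head_map, LTSeries.last_map] at e1 e2
    rw [hhead, hlast] at e1
    have h1 : (s.map _ (comap_strictMono φ hφ)).length = s.length := rfl
    have h2 : (t.map _ (comap_strictMono φ hφ)).length = t.length := rfl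
    rw [h1] at e1
    rw [h2] at e2
    have e3 : (s.length : ℕ∞) + (PrimeSpectrum.comap φ t.head).asIdeal.height =
        (t.length : ℕ∞) + (PrimeSpectrum.comap φ t.head).asIdeal.height := e1.trans e2.symm
    have e4 := ENat.add_left_injective_of_ne_top (hfin _) e3
    exact_mod_cast e4

include hφ in
/-- Quotients of Cohen–Macaulay rings are catenary. -/
theorem isCatenary_of_surjective [LocCoh.IsCohenMacaulayRing T] : CAlg.IsCatenary S :=
  isCatenary_of_surjective_of_step φ hφ height_succ_of_covBy_of_isCMRing

end Surj

end Groth.Agent.Lib.Helper29.Catenary
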