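import Groth.Agent.Lib.Helper29.FlatLocal

/-!
# Consequences of the depth formula for flat local homomorphisms
-/

set_option autoImplicit false
set_option linter.unusedSectionVars false
universe u

namespace Groth.Agent.Lib.Helper29.FlatLocal

open RingTheory.Sequence IsLocalRing TensorProduct
open Groth.Agent.Lib.Helper29

section FiniteLength

variable (B : Type u) [CommRing B] [IsLocalRing B] [IsNoetherianRing B]

/-- A nonzero module of finite length over a local ring has depth `0`. -/
theorem depth_eq_zero_of_isFiniteLength (F : Type u) [AddCommGroup F] [Module B F]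
    [Module.Finite B F] [Nontrivial F] (hF : IsFiniteLength B F) : LocCoh.depth B F = 0 := by
  rw [depth_eq_zero_iff_forall_not_isSMulRegular B F (maximalIdeal_smul_top_ne_top B F)]
  intro y hy hreg
  have hart : IsArtinian B F := (isFiniteLength_iff_isNoetherian_isArtinian.1 hF).2
  have hsurj : Function.Surjective (LinearMap.lsmul B F y) :=
    IsArtinian.surjective_of_injective_endomorphism (LinearMap.lsmul B F y) hreg
  apply maximalIdeal_smul_top_ne_top B F
  rw [eq_top_iff]
  intro z _
  obtain ⟨w, rfl⟩ := hsurj z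
  exact Submodule.smul_mem_smul hy Submodule.mem_top

end FiniteLength

section DimLe

variable (A B : Type u) [CommRing A] [CommRing B] [IsLocalRing A] [IsLocalRing B]
  [IsNoetherianRing A] [IsNoetherianRing B] [Algebra A B] [IsLocalHom (algebraMap A B)]

/-- Elements of the maximal ideal act nilpotently on a module of dimension `≤ 0`. -/
theorem exists_pow_mem_annihilator (M₀ : Type u) [AddCommGroup M₀] [Module A M₀]
    [Module.Finite A M₀] (h : Module.supportDim A M₀ ≤ 0) {a : A} (ha : a ∈ maximalIdeal A) :
    ∃ k : ℕ, a ^ k ∈ Module.annihilator A M₀ := by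
  have hfl := DimTheory.isFiniteLength_of_supportDim_le_zero M₀ h
  have hart : IsArtinian A M₀ := (isFiniteLength_iff_isNoetherian_isArtinian.1 hfl).2
  have hR := DimTheory.isArtinianRing_quotient_annihilator_of_isArtinian (A := A) M₀
  obtain ⟨k, hk⟩ := IsArtinianRing.isNilpotent_jacobson_bot (R := A ⧸ Module.annihilator A M₀)
  refine ⟨k, ?_⟩
  have hmem : Ideal.Quotient.mk (Module.annihilator A M₀) a ∈
      Ideal.jacobson (⊥ : Ideal (A ⧸ Module.annihilator A M₀)) := by
    rw [Ideal.mem_jacobson_bot]
    intro y
    obtain ⟨y', rfl⟩ := Ideal.Quotient.mk_surjective y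
    rw [← map_mul, ← map_one (Ideal.Quotient.mk (Module.annihilator A M₀)), ← map_add]
    apply IsUnit.map
    have h1 : a * y' ∈ maximalIdeal A := Ideal.mul_mem_right _ _ ha
    by_contra hcon
    have h2 : a * y' + 1 ∈ maximalIdeal A := hcon
    have h3 := Ideal.sub_mem _ h2 h1
    rw [add_sub_cancel_left] at h3
    exact (Ideal.ne_top_iff_one _).1 (maximalIdeal.isMaximal A).ne_top h3
  have h2 : (Ideal.Quotient.mk (Module.annihilator A M₀) a) ^ k ∈
      (Ideal.jacobson (⊥ : Ideal (A ⧸ Module.annihilator A M₀))) ^ k := Ideal.pow_mem_pow hmem k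
  rw [hk, Ideal.zero_eq_bot, Ideal.mem_bot, ← map_pow, Ideal.Quotient.eq_zero_iff_mem] at h2
  exact h2

variable (M : Type u) [AddCommGroup M] [Module A M]
  (N : Type u) [AddCommGroup N] [Module B N] [Module A N] [IsScalarTower A B N]

/-- `n ⊗ m' ∈ I^e (N ⊗ M)` for `m' ∈ I M`. -/
theorem tmul_mem_map_smul_top (I : Ideal A) (n : N) {m' : M}
    (hm' : m' ∈ I • (⊤ : Submodule A M)) :
    n ⊗ₜ[A] m' ∈ I.map (algebraMap A B) • (⊤ : Submodule B (N ⊗[A] M)) := by
  refine Submodule.smul_induction_on (p := fun m' => n ⊗ₜ[A] m' ∈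
    I.map (algebraMap A B) • (⊤ : Submodule B (N ⊗[A] M))) hm' ?_ ?_
  · intro i hi m _
    have h1 : n ⊗ₜ[A] (i • m) = algebraMap A B i • (n ⊗ₜ[A] m) := by
      rw [algebraMap_smul_eq, TensorProduct.tmul_smul]
    rw [h1]
    exact Submodule.smul_mem_smul (Ideal.mem_map_of_mem _ hi) Submodule.mem_top
  · intro x y hx hy
    rw [TensorProduct.tmul_add]
    exact add_mem hx hy

omit [IsLocalRing A] [IsLocalRing B] [IsNoetherianRing A] [IsNoetherianRing B]
  [IsLocalHom (algebraMap A B)] in
theorem subsingleton_tensor_of_right [Subsingleton M] : Subsingleton (N ⊗[A] M) := by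
  refine ⟨fun p q => ?_⟩
  have key : ∀ p : N ⊗[A] M, p = 0 := by
    intro p
    induction p with
    | zero => rfl
    | add a b ha hb => rw [ha, hb, add_zero]
    | tmul n m => rw [Subsingleton.elim m 0, TensorProduct.tmul_zero]
  rw [key p, key q]

/-- EGA IV 6.1.? / 0_IV 16.3.9: `dim_B (N ⊗_A M) ≤ dim_A M + dim_B (N/𝔪N)`. -/
theorem supportDim_tensor_le [Module.Finite A M] [Module.Finite B N] :
    Module.supportDim B (N ⊗[A] M) ≤ Module.supportDim A M +
      Module.supportDim B (N ⧸ ((maximalIdeal A).map (algebraMap A B) • (⊤ : Submodule B N))) := by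
  rcases subsingleton_or_nontrivial M with hM | hM
  · have := subsingleton_tensor_of_right A M N
    rw [(Module.supportDim_eq_bot_iff_subsingleton B (N ⊗[A] M)).2 this]
    exact bot_le
  obtain ⟨n, hn⟩ := DimTheory.exists_nat_supportDim A M
  obtain ⟨ys, hys, hlen, hdim0⟩ := DimTheory.exists_parameters n M hn
  have hjac : Ring.jacobson A = maximalIdeal A := by
    rw [← Ideal.jacobson_bot]
    exact IsLocalRing.jacobson_eq_maximalIdeal ⊥ bot_ne_top
  have hfin : Module.Finite B (N ⊗[A] M) := finite_tensor A B N M
  have hzs : ∀ z ∈ ys.map (algebraMap A B), z ∈ maximalIdeal B := by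
    intro z hz
    obtain ⟨y, hy, rfl⟩ := List.mem_map.1 hz
    exact DepthFinite.algebraMap_mem_maximalIdeal A B (hjac ▸ hys y hy)
  have h1 := CMLib.supportDim_le_quotient_add_length B (ys.map (algebraMap A B)) (N ⊗[A] M) hzs
  have hsub : Module.support B ((N ⊗[A] M) ⧸
        (Ideal.ofList (ys.map (algebraMap A B)) • (⊤ : Submodule B (N ⊗[A] M)))) ⊆
      Module.support B
        (N ⧸ ((maximalIdeal A).map (algebraMap A B) • (⊤ : Submodule B N))) := by
    intro q hq
    have hq' := Module.mem_support_iff_of_finite.1 hq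
    rw [Module.support_quotient]
    refine ⟨Module.mem_support_iff_of_finite.2 ?_, ?_⟩
    · intro b hb
      apply hq'
      rw [Module.mem_annihilator]
      intro z
      obtain ⟨p, rfl⟩ := Submodule.Quotient.mk_surjective _ z
      rw [← Submodule.Quotient.mk_smul]
      have hp : b • p = 0 := by
        induction p with
        | zero => rw [smul_zero]
        | add x y hx hy => rw [smul_add, hx, hy, add_zero]
        | tmul n m =>
          rw [TensorProduct.smul_tmul', Module.mem_annihilator.1 hb n, TensorProduct.zero_tmul]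
      rw [hp, Submodule.Quotient.mk_zero]
    · rw [PrimeSpectrum.mem_zeroLocus, SetLike.coe_subset_coe, Ideal.map_le_iff_le_comap]
      intro a ha
      rw [Ideal.mem_comap]
      obtain ⟨k, hk⟩ := exists_pow_mem_annihilator A _ hdim0 ha
      apply q.2.mem_of_pow_mem k
      apply hq'
      rw [Module.mem_annihilator]
      intro z
      obtain ⟨p, rfl⟩ := Submodule.Quotient.mk_surjective _ z
      rw [← Submodule.Quotient.mk_smul, Submodule.Quotient.mk_eq_zero, ← Ideal.map_ofList]
      induction p with
      | zero => rw [smul_zero]; exact zero_mem _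
      | add x y hx hy => rw [smul_add]; exact add_mem hx hy
      | tmul n m =>
        have h2 : (algebraMap A B a) ^ k • (n ⊗ₜ[A] m) = n ⊗ₜ[A] (a ^ k • m) := by
          rw [← map_pow, algebraMap_smul_eq, TensorProduct.tmul_smul]
        rw [h2]
        apply tmul_mem_map_smul_top
        rw [← Submodule.Quotient.mk_eq_zero, Submodule.Quotient.mk_smul]
        exact Module.mem_annihilator.1 hk _
  have h2 : Module.supportDim B ((N ⊗[A] M) ⧸
        (Ideal.ofList (ys.map (algebraMap A B)) • (⊤ : Submodule B (N ⊗[A] M)))) ≤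
      Module.supportDim B
        (N ⧸ ((maximalIdeal A).map (algebraMap A B) • (⊤ : Submodule B N))) :=
    Order.krullDim_le_of_strictMono (Set.inclusion hsub) (fun _ _ h => h)
  calc Module.supportDim B (N ⊗[A] M)
      ≤ _ := h1
    _ ≤ Module.supportDim B
        (N ⧸ ((maximalIdeal A).map (algebraMap A B) • (⊤ : Submodule B N))) + (n : WithBot ℕ∞) := by
      rw [List.length_map, hlen]
      exact add_le_add h2 le_rfl
    _ = _ := by rw [hn, add_comm]


end DimLe


section DimEq

variable (A B : Type u) [CommRing A] [CommRing B] [IsLocalRing A] [IsLocalRing B]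
  [IsNoetherianRing A] [IsNoetherianRing B] [Algebra A B] [IsLocalHom (algebraMap A B)]

/-- The dimension of a nonzero finite module is attained at a prime of its support. -/
theorem exists_mem_support_dim_eq (M : Type u) [AddCommGroup M] [Module A M] [Module.Finite A M]
    [Nontrivial M] : ∃ p ∈ Module.support A M,
      ringKrullDim (A ⧸ p.asIdeal) = Module.supportDim A M := by
  obtain ⟨n, hn⟩ := DimTheory.exists_nat_supportDim A M
  have hle : (n : WithBot ℕ∞) ≤ Order.krullDim (Module.support A M) := hn.ge
  obtain ⟨l, hl⟩ := Order.le_krullDim_iff.1 hle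
  refine ⟨l.head.1, l.head.2, le_antisymm
    (CMLib.ringKrullDim_quotient_le_supportDim_of_mem_support A M l.head.2) ?_⟩
  rw [hn, ← hl]
  exact DimTheory.length_le_ringKrullDim_quotient_head _ l

variable (N : Type u) [AddCommGroup N] [Module B N] [Module A N] [IsScalarTower A B N]
  [Module.Finite B N] [Module.Flat A N] [Nontrivial N]

theorem supportDim_tensor_ge_aux (n : ℕ) :
    ∀ (M : Type u) [AddCommGroup M] [Module A M] [Module.Finite A M] [Nontrivial M],
      Module.supportDim A M = (n : WithBot ℕ∞) →
      (n : WithBot ℕ∞) + Module.supportDim B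
        (N ⧸ ((maximalIdeal A).map (algebraMap A B) • (⊤ : Submodule B N))) ≤
        Module.supportDim B (N ⊗[A] M) := by
  induction n with
  | zero =>
    intro M _ _ _ _ hn
    have hfl := DimTheory.isFiniteLength_of_supportDim_le_zero M (le_of_eq hn)
    have h0 := depth_eq_zero_of_isFiniteLength A M hfl
    obtain ⟨j, hj⟩ := exists_fibre_injection A B N M h0
    simpa using Module.supportDim_le_of_injective j hj
  | succ n ih =>
    intro M _ _ _ _ hn
    obtain ⟨p, hp, hdim⟩ := exists_mem_support_dim_eq A M
    have hmin := DimTheory.mem_minimalPrimes_of_dim_eq M p hp hdim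
    have hass : p.asIdeal ∈ associatedPrimes A M :=
      Module.associatedPrimes.minimalPrimes_annihilator_subset_associatedPrimes A M hmin
    rw [AssociatedPrimes.mem_iff, isAssociatedPrime_iff_exists_injective_linearMap] at hass
    obtain ⟨-, ι, hι⟩ := hass
    -- reduce to `A/p`
    have hinj := Module.Flat.lTensor_preserves_injective_linearMap (M := N) ι hι
    have h1 : Module.supportDim B (N ⊗[A] (A ⧸ p.asIdeal)) ≤ Module.supportDim B (N ⊗[A] M) :=
      Module.supportDim_le_of_injective
        (TensorProduct.AlgebraTensorModule.lTensor B N ι) hinj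
    refine le_trans ?_ h1
    have hdimp : Module.supportDim A (A ⧸ p.asIdeal) = ((n + 1 : ℕ) : WithBot ℕ∞) := by
      rw [Module.supportDim_quotient_eq_ringKrullDim, hdim, hn]
    have hpm : p.asIdeal ≠ maximalIdeal A := by
      intro h
      have h0 : ringKrullDim (A ⧸ p.asIdeal) = 0 := by
        rw [h]
        exact ringKrullDim_eq_zero_of_isField
          ((Ideal.Quotient.maximal_ideal_iff_isField_quotient _).1 (maximalIdeal.isMaximal A))
      rw [← Module.supportDim_quotient_eq_ringKrullDim, hdimp] at h0
      have : (n + 1 : ℕ) = 0 := by exact_mod_cast h0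
      omega
    have hlt : p.asIdeal < maximalIdeal A :=
      lt_of_le_of_ne (le_maximalIdeal p.2.ne_top) hpm
    obtain ⟨x, hxm, hxp⟩ := Set.exists_of_ssubset hlt
    have hreg : IsSMulRegular (A ⧸ p.asIdeal) x := by
      intro n₁ n₂ h12
      obtain ⟨a₁, rfl⟩ := Ideal.Quotient.mk_surjective n₁
      obtain ⟨a₂, rfl⟩ := Ideal.Quotient.mk_surjective n₂
      have h' : Ideal.Quotient.mk p.asIdeal (x * a₁) = Ideal.Quotient.mk p.asIdeal (x * a₂) := h12
      rw [Ideal.Quotient.eq, ← mul_sub] at h'
      rw [Ideal.Quotient.eq]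
      exact (p.2.mem_or_mem h').resolve_left hxp
    have hnt1 : Nontrivial (A ⧸ p.asIdeal) := Ideal.Quotient.nontrivial_iff.2 p.2.ne_top
    have hnt2 : Nontrivial (QuotSMulTop x (A ⧸ p.asIdeal)) :=
      DepthLib.nontrivial_quotSMulTop A (A ⧸ p.asIdeal) hxm
    have hd2 : Module.supportDim A (QuotSMulTop x (A ⧸ p.asIdeal)) = (n : WithBot ℕ∞) := by
      have h3 := Module.supportDim_quotSMulTop_succ_eq_supportDim hreg hxm
      rw [hdimp] at h3
      apply CMLib.withBot_add_one_cancel
      rw [h3]
      push_cast
      rfl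
    have ih' := ih (QuotSMulTop x (A ⧸ p.asIdeal)) hd2
    have hfin : Module.Finite B (N ⊗[A] (A ⧸ p.asIdeal)) := finite_tensor A B N _
    have hregB : IsSMulRegular (N ⊗[A] (A ⧸ p.asIdeal)) (algebraMap A B x) :=
      isSMulRegular_tensor_right A B (A ⧸ p.asIdeal) N hreg
    have hxB : algebraMap A B x ∈ maximalIdeal B :=
      DepthFinite.algebraMap_mem_maximalIdeal A B hxm
    have h4 := Module.supportDim_quotSMulTop_succ_eq_supportDim hregB hxB
    rw [Module.supportDim_eq_of_equiv
      (quotSMulTopTensorEquivRight A B (A ⧸ p.asIdeal) N x)] at h4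
    rw [← h4]
    calc ((n + 1 : ℕ) : WithBot ℕ∞) + Module.supportDim B
          (N ⧸ ((maximalIdeal A).map (algebraMap A B) • (⊤ : Submodule B N)))
        = ((n : WithBot ℕ∞) + Module.supportDim B
          (N ⧸ ((maximalIdeal A).map (algebraMap A B) • (⊤ : Submodule B N)))) + 1 := by
          push_cast
          ring
      _ ≤ _ := add_le_add ih' le_rfl

/-- EGA IV 6.1.2: `dim_B (N ⊗_A M) = dim_A M + dim_B (N/𝔪N)` for `N` flat over `A`. -/
theorem supportDim_tensor_eq (M : Type u) [AddCommGroup M] [Module A M] [Module.Finite A M]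
    [Nontrivial M] :
    Module.supportDim B (N ⊗[A] M) = Module.supportDim A M + Module.supportDim B
        (N ⧸ ((maximalIdeal A).map (algebraMap A B) • (⊤ : Submodule B N))) := by
  refine le_antisymm (supportDim_tensor_le A B M N) ?_
  obtain ⟨n, hn⟩ := DimTheory.exists_nat_supportDim A M
  rw [hn]
  exact supportDim_tensor_ge_aux A B N n M hn

end DimEq


section ChangeRing

/-- The support dimension does not change along a surjective ring homomorphism. -/
theorem supportDim_eq_of_surjective (B B' : Type u) [CommRing B] [CommRing B'] [Algebra B B']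
    (hsurj : Function.Surjective (algebraMap B B'))
    (F : Type u) [AddCommGroup F] [Module B F] [Module B' F] [IsScalarTower B B' F]
    [Module.Finite B F] : Module.supportDim B' F = Module.supportDim B F := by
  have hfin : Module.Finite B' F := Module.Finite.of_restrictScalars_finite B B' F
  rw [Module.supportDim_eq_ringKrullDim_quotient_annihilator,
    Module.supportDim_eq_ringKrullDim_quotient_annihilator]
  let φ : B →+* B' ⧸ Module.annihilator B' F :=
    (Ideal.Quotient.mk (Module.annihilator B' F)).comp (algebraMap B B')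
  have hφ : Function.Surjective φ := Ideal.Quotient.mk_surjective.comp hsurj
  have hker : RingHom.ker φ = Module.annihilator B F := by
    ext b
    rw [RingHom.mem_ker]
    change Ideal.Quotient.mk _ (algebraMap B B' b) = 0 ↔ _
    rw [Ideal.Quotient.eq_zero_iff_mem, Module.mem_annihilator, Module.mem_annihilator]
    constructor
    · intro h f
      rw [← algebraMap_smul B' b f]
      exact h f
    · intro h f
      rw [algebraMap_smul B' b f]
      exact h f
  exact (ringKrullDim_eq_of_ringEquiv
    ((Ideal.quotEquivOfEq hker.symm).trans (RingHom.quotientKerEquivOfSurjective hφ))).symm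

end ChangeRing

section CMIff

variable (A B : Type u) [CommRing A] [CommRing B] [IsLocalRing A] [IsLocalRing B]
  [IsNoetherianRing A] [IsNoetherianRing B] [Algebra A B] [IsLocalHom (algebraMap A B)]
  (M : Type u) [AddCommGroup M] [Module A M] [Module.Finite A M] [Nontrivial M]
  (N : Type u) [AddCommGroup N] [Module B N] [Module A N] [IsScalarTower A B N]
  [Module.Finite B N] [Nontrivial N] [Module.Flat A N]

/-- EGA IV 6.3.3 over `B`: `N ⊗ M` is Cohen–Macaulay iff `M` and the closed fibre are. -/
theorem isCohenMacaulayModule_tensor_iff :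
    LocCoh.IsCohenMacaulayModule B (N ⊗[A] M) ↔
      (LocCoh.IsCohenMacaulayModule A M ∧ LocCoh.IsCohenMacaulayModule B
        (N ⧸ ((maximalIdeal A).map (algebraMap A B) • (⊤ : Submodule B N)))) := by
  have hntF := nontrivial_fibMod A B N
  unfold LocCoh.IsCohenMacaulayModule
  rw [supportDim_tensor_eq A B N M, depth_tensor A B M N]
  obtain ⟨a, ha⟩ := DimTheory.exists_nat_supportDim A M
  obtain ⟨b, hb⟩ := DimTheory.exists_nat_supportDim B
    (N ⧸ ((maximalIdeal A).map (algebraMap A B) • (⊤ : Submodule B N)))
  obtain ⟨a', ha'⟩ := ENat.ne_top_iff_exists.1 (DepthLib.depth_ne_top A M)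
  obtain ⟨b', hb'⟩ := ENat.ne_top_iff_exists.1 (DepthLib.depth_ne_top B
    (N ⧸ ((maximalIdeal A).map (algebraMap A B) • (⊤ : Submodule B N))))
  have h1 := DepthLib.depth_le_supportDim A M
  have h2 := DepthLib.depth_le_supportDim B
    (N ⧸ ((maximalIdeal A).map (algebraMap A B) • (⊤ : Submodule B N)))
  rw [ha, hb, ← ha', ← hb'] at *
  have h1' : a' ≤ a := by exact_mod_cast h1
  have h2' : b' ≤ b := by exact_mod_cast h2
  constructor
  · intro h
    have h' : a + b = a' + b' := by exact_mod_cast h
    have e1 : a = a' := by omega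
    have e2 : b = b' := by omega
    subst e1 e2
    exact ⟨rfl, rfl⟩
  · rintro ⟨e1, e2⟩
    have e1' : a = a' := by exact_mod_cast e1
    have e2' : b = b' := by exact_mod_cast e2
    subst e1' e2'
    push_cast
    rfl

end CMIff


end Groth.Agent.Lib.Helper29.FlatLocal
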