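import Groth.Agent.Lib.Helper29.DepthFinite
import Mathlib.RingTheory.Flat.FaithfullyFlat.Algebra
import Mathlib.RingTheory.Regular.Flat

/-!
# Depth and flat base change
-/

set_option autoImplicit false
universe u

namespace Groth.Agent.Lib.Helper29.DepthFlat

open RingTheory.Sequence IsLocalRing Pointwise TensorProduct
open Groth.Agent.Lib.Helper29 Groth.Agent.Lib.Helper29.DepthLib Groth.Agent.Lib.Helper29.CMLib
open Groth.Agent.Lib.Helper29.DepthFinite

variable (A B : Type u) [CommRing A] [CommRing B] [Algebra A B] (I : Ideal A)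

theorem smul_top_eq_top_baseChange (M : Type u) [AddCommGroup M] [Module A M]
    (h : I • (⊤ : Submodule A M) = ⊤) :
    I.map (algebraMap A B) • (⊤ : Submodule B (B ⊗[A] M)) = ⊤ := by
  rw [eq_top_iff]
  suffices hs : ∀ x : B ⊗[A] M, x ∈ I.map (algebraMap A B) • (⊤ : Submodule B (B ⊗[A] M)) from
    fun x _ => hs x
  intro x
  induction x using TensorProduct.induction_on with
  | zero => exact Submodule.zero_mem _
  | tmul b m =>
    have hm : m ∈ I • (⊤ : Submodule A M) := by rw [h]; exact Submodule.mem_top
    refine Submodule.smul_induction_on hm ?_ ?_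
    · intro a ha m' _
      have : b ⊗ₜ[A] (a • m') = algebraMap A B a • (b ⊗ₜ[A] m') := by
        rw [TensorProduct.smul_tmul', smul_eq_mul, ← Algebra.smul_def, TensorProduct.smul_tmul]
      rw [this]
      exact Submodule.smul_mem_smul (Ideal.mem_map_of_mem _ ha) Submodule.mem_top
    · intro m1 m2 h1 h2
      rw [TensorProduct.tmul_add]
      exact Submodule.add_mem _ h1 h2
  | add x y hx hy => exact Submodule.add_mem _ hx hy

variable [IsNoetherianRing A] [IsNoetherianRing B]

omit [IsNoetherianRing A] [IsNoetherianRing B] in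
/-- Depth can only go up under flat base change. -/
theorem idealDepth_le_baseChange [Module.Flat A B] (M : Type u) [AddCommGroup M] [Module A M] :
    LocCoh.idealDepth I M ≤ LocCoh.idealDepth (I.map (algebraMap A B)) (B ⊗[A] M) := by
  by_cases h' : I.map (algebraMap A B) • (⊤ : Submodule B (B ⊗[A] M)) = ⊤
  · have : LocCoh.idealDepth (I.map (algebraMap A B)) (B ⊗[A] M) = ⊤ := by
      unfold LocCoh.idealDepth; rw [if_pos h']
    rw [this]; exact le_top
  · have h : I • (⊤ : Submodule A M) ≠ ⊤ := fun h => h' (smul_top_eq_top_baseChange A B I M h)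
    have hL : LocCoh.idealDepth I M = ⨆ (rs : List A)
        (_ : IsWeaklyRegular M rs ∧ ∀ r ∈ rs, r ∈ I), (rs.length : ℕ∞) := by
      unfold LocCoh.idealDepth; rw [if_neg h]
    rw [hL]
    refine iSup₂_le ?_
    rintro rs ⟨hreg, hmem⟩
    have hreg' : IsWeaklyRegular (B ⊗[A] M) (rs.map (algebraMap A B)) :=
      hreg.of_flat_of_isBaseChange (TensorProduct.isBaseChange A M B)
    have hmem' : ∀ r ∈ rs.map (algebraMap A B), r ∈ I.map (algebraMap A B) := by
      intro r hr
      obtain ⟨a, ha, rfl⟩ := List.mem_map.1 hr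
      exact Ideal.mem_map_of_mem _ (hmem a ha)
    have := length_le_idealDepth (I.map (algebraMap A B)) (B ⊗[A] M) hreg' hmem'
    rw [List.length_map] at this
    exact this

theorem idealDepth_baseChange_aux [Module.FaithfullyFlat A B] (n : ℕ) :
    ∀ (M : Type u) [AddCommGroup M] [Module A M] [Module.Finite A M],
      I • (⊤ : Submodule A M) ≠ ⊤ → LocCoh.idealDepth I M = n →
      LocCoh.idealDepth (I.map (algebraMap A B)) (B ⊗[A] M) = n := by
  induction n with
  | zero =>
    intro M _ _ _ hne hd
    have hneB : I.map (algebraMap A B) • (⊤ : Submodule B (B ⊗[A] M)) ≠ ⊤ :=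
      (IsBaseChange.map_smul_top_ne_top_iff_of_faithfullyFlat A M (TensorProduct.isBaseChange A M B) I).2 hne
    have hd' : LocCoh.idealDepth I M = 0 := by exact_mod_cast hd
    rw [idealDepth_eq_zero_iff_forall_not_isSMulRegular I M hne] at hd'
    obtain ⟨q, hq, hIq⟩ := exists_mem_ass_ge A M I hd'
    obtain ⟨hqp, m, hm⟩ := isAssociatedPrime_iff.1 hq
    have hm0 : m ≠ 0 := by
      rintro rfl
      apply hqp.ne_top
      rw [hm, Ideal.eq_top_iff_one, Submodule.mem_colon_singleton, smul_zero]
      exact Submodule.zero_mem _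
    have hm1 : (1 : B) ⊗ₜ[A] m ≠ 0 := by
      intro h0
      apply hm0
      apply Module.FaithfullyFlat.tensorProduct_mk_injective (A := A) (B := B) M
      simpa using h0
    have hle : I.map (algebraMap A B) ≤
        Submodule.colon (⊥ : Submodule B (B ⊗[A] M)) {(1 : B) ⊗ₜ[A] m} := by
      rw [Ideal.map_le_iff_le_comap]
      intro x hx
      rw [Ideal.mem_comap, Submodule.mem_colon_singleton, Submodule.mem_bot]
      have := hIq hx
      rw [hm, Submodule.mem_colon_singleton, Submodule.mem_bot] at this
      rw [algebraMap_smul, ← TensorProduct.tmul_smul, this, TensorProduct.tmul_zero]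
    have : LocCoh.idealDepth (I.map (algebraMap A B)) (B ⊗[A] M) = 0 := by
      rw [idealDepth_eq_zero_iff_forall_not_isSMulRegular _ _ hneB]
      intro b hb hreg
      have h1 := hle hb
      rw [Submodule.mem_colon_singleton, Submodule.mem_bot] at h1
      exact hm1 (hreg (by show b • _ = b • 0; rw [h1, smul_zero]))
    exact_mod_cast this
  | succ n ih =>
    intro M _ _ _ hne hd
    have hneB : I.map (algebraMap A B) • (⊤ : Submodule B (B ⊗[A] M)) ≠ ⊤ :=
      (IsBaseChange.map_smul_top_ne_top_iff_of_faithfullyFlat A M (TensorProduct.isBaseChange A M B) I).2 hne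
    have hne0 : LocCoh.idealDepth I M ≠ 0 := by
      rw [hd]; exact_mod_cast Nat.succ_ne_zero n
    rw [Ne, idealDepth_eq_zero_iff_forall_not_isSMulRegular I M hne] at hne0
    push Not at hne0
    obtain ⟨x, hxI, hx⟩ := hne0
    have hxB : IsSMulRegular (B ⊗[A] M) (algebraMap A B x) :=
      hx.of_flat_of_isBaseChange (TensorProduct.isBaseChange A M B)
    have hxIB : algebraMap A B x ∈ I.map (algebraMap A B) := Ideal.mem_map_of_mem _ hxI
    have h1 := idealDepth_quotSMulTop_add_one I M hne hxI hx
    have h2 := idealDepth_quotSMulTop_add_one (I.map (algebraMap A B)) (B ⊗[A] M) hneB hxIB hxB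
    have e := QuotSMulTop.algebraMapTensorEquivTensorQuotSMulTop x M B
    have hdQ : LocCoh.idealDepth I (QuotSMulTop x M) = n := by
      rw [hd] at h1
      have h3 : LocCoh.idealDepth I (QuotSMulTop x M) + 1 = (n : ℕ∞) + 1 := by
        rw [h1]; push_cast; rfl
      exact ENat.add_left_injective_of_ne_top ENat.one_ne_top h3
    have hneQ : I • (⊤ : Submodule A (QuotSMulTop x M)) ≠ ⊤ :=
      Groth.Agent.S5151.smul_top_quotSMulTop_ne_top hxI hne
    have := ih (QuotSMulTop x M) hneQ hdQ
    rw [← h2, idealDepth_congr _ e, this]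
    push_cast
    rfl

/-- Depth is invariant under faithfully flat base change. -/
theorem idealDepth_baseChange_eq [Module.FaithfullyFlat A B] (M : Type u) [AddCommGroup M]
    [Module A M] [Module.Finite A M] :
    LocCoh.idealDepth (I.map (algebraMap A B)) (B ⊗[A] M) = LocCoh.idealDepth I M := by
  by_cases h : I • (⊤ : Submodule A M) = ⊤
  · have h' := smul_top_eq_top_baseChange A B I M h
    unfold LocCoh.idealDepth
    rw [if_pos h, if_pos h']
  · obtain ⟨n, hn⟩ := ENat.ne_top_iff_exists.1 (idealDepth_ne_top I M h)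
    rw [idealDepth_baseChange_aux A B I n M h hn.symm, hn]

end Groth.Agent.Lib.Helper29.DepthFlat
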