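import Groth.Agent.Lib.Helper29.CM

/-!
# Depth and finite ring maps
-/

set_option autoImplicit false
universe u

namespace Groth.Agent.Lib.Helper29.DepthFinite

open RingTheory.Sequence IsLocalRing Pointwise
open Groth.Agent.Lib.Helper29 Groth.Agent.Lib.Helper29.DepthLib Groth.Agent.Lib.Helper29.CMLib

section Zero

variable {A : Type u} [CommRing A] (I : Ideal A) (M : Type u) [AddCommGroup M] [Module A M]

/-- `I`-depth zero iff every element of `I` is a zero divisor (when `I M ≠ M`). -/
theorem idealDepth_eq_zero_iff_forall_not_isSMulRegular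
    (hM : I • (⊤ : Submodule A M) ≠ ⊤) :
    LocCoh.idealDepth I M = 0 ↔ ∀ x ∈ I, ¬ IsSMulRegular M x := by
  constructor
  · intro h x hx hreg
    have h1 : IsWeaklyRegular M [x] := (isWeaklyRegular_singleton_iff M x).2 hreg
    have h2 := length_le_idealDepth I M h1 (by simpa using hx)
    rw [h] at h2
    simp at h2
  · intro h
    unfold LocCoh.idealDepth
    rw [if_neg hM, ← le_zero_iff]
    refine iSup₂_le ?_
    rintro rs ⟨hreg, hmem⟩
    cases rs with
    | nil => simp
    | cons x rs' =>
      exfalso
      rw [isWeaklyRegular_cons_iff] at hreg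
      exact h x (hmem x (by simp)) hreg.1

end Zero

section Finite

variable {A B : Type u} [CommRing A] [IsNoetherianRing A] [CommRing B] [Algebra A B]
  [Module.Finite A B] (a : Ideal A)

omit [IsNoetherianRing A] [Module.Finite A B] in
theorem smul_top_eq_top_iff (M : Type u) [AddCommGroup M] [Module B M] [Module A M]
    [IsScalarTower A B M] :
    a.map (algebraMap A B) • (⊤ : Submodule B M) = ⊤ ↔ a • (⊤ : Submodule A M) = ⊤ := by
  have h := Ideal.smul_restrictScalars (R := A) (S := B) a (⊤ : Submodule B M)
  rw [Submodule.restrictScalars_top] at h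
  constructor
  · intro h1
    rw [← h, h1, Submodule.restrictScalars_top]
  · intro h1
    rw [h1] at h
    apply Submodule.restrictScalars_injective A
    rw [h, Submodule.restrictScalars_top]

omit [IsNoetherianRing A] [Module.Finite A B] in
theorem isSMulRegular_algebraMap_iff (M : Type u) [AddCommGroup M] [Module B M] [Module A M]
    [IsScalarTower A B M] (x : A) : IsSMulRegular M (algebraMap A B x) ↔ IsSMulRegular M x := by
  unfold IsSMulRegular
  have : (fun m : M => algebraMap A B x • m) = fun m : M => x • m := by
    funext m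
    exact algebraMap_smul B x m
  rw [this]

theorem idealDepth_map_aux (n : ℕ) :
    ∀ (M : Type u) [AddCommGroup M] [Module B M] [Module A M] [IsScalarTower A B M]
      [Module.Finite B M], a • (⊤ : Submodule A M) ≠ ⊤ → LocCoh.idealDepth a M = n →
      LocCoh.idealDepth (a.map (algebraMap A B)) M = n := by
  have hBN : IsNoetherianRing B := IsNoetherianRing.of_finite A B
  induction n with
  | zero =>
    intro M _ _ _ _ _ hne hd
    have hfin : Module.Finite A M := Module.Finite.trans B M
    have hneB : a.map (algebraMap A B) • (⊤ : Submodule B M) ≠ ⊤ :=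
      fun h => hne ((smul_top_eq_top_iff a M).1 h)
    have hd' : LocCoh.idealDepth a M = 0 := by exact_mod_cast hd
    rw [idealDepth_eq_zero_iff_forall_not_isSMulRegular a M hne] at hd'
    obtain ⟨q, hq, haq⟩ := exists_mem_ass_ge A M a hd'
    obtain ⟨hqp, m, hm⟩ := isAssociatedPrime_iff.1 hq
    have hm0 : m ≠ 0 := by
      rintro rfl
      apply hqp.ne_top
      rw [hm, Ideal.eq_top_iff_one, Submodule.mem_colon_singleton, smul_zero]
      exact Submodule.zero_mem _
    have hle : a.map (algebraMap A B) ≤ Submodule.colon (⊥ : Submodule B M) {m} := by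
      rw [Ideal.map_le_iff_le_comap]
      intro x hx
      rw [Ideal.mem_comap, Submodule.mem_colon_singleton, algebraMap_smul, Submodule.mem_bot]
      have := haq hx
      rw [hm, Submodule.mem_colon_singleton, Submodule.mem_bot] at this
      exact this
    have : LocCoh.idealDepth (a.map (algebraMap A B)) M = 0 := by
      rw [idealDepth_eq_zero_iff_forall_not_isSMulRegular _ M hneB]
      intro b hb hreg
      have h1 := hle hb
      rw [Submodule.mem_colon_singleton, Submodule.mem_bot] at h1
      exact hm0 (hreg (by show b • m = b • 0; rw [h1, smul_zero]))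
    exact_mod_cast this
  | succ n ih =>
    intro M _ _ _ _ _ hne hd
    have hfin : Module.Finite A M := Module.Finite.trans B M
    have hneB : a.map (algebraMap A B) • (⊤ : Submodule B M) ≠ ⊤ :=
      fun h => hne ((smul_top_eq_top_iff a M).1 h)
    have hne0 : LocCoh.idealDepth a M ≠ 0 := by
      rw [hd]; exact_mod_cast Nat.succ_ne_zero n
    rw [Ne, idealDepth_eq_zero_iff_forall_not_isSMulRegular a M hne] at hne0
    push Not at hne0
    obtain ⟨x, hxa, hx⟩ := hne0
    have hxB : IsSMulRegular M (algebraMap A B x) := (isSMulRegular_algebraMap_iff M x).2 hx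
    have hxaB : algebraMap A B x ∈ a.map (algebraMap A B) := Ideal.mem_map_of_mem _ hxa
    have h1 := idealDepth_quotSMulTop_add_one a M hne hxa hx
    have h2 := idealDepth_quotSMulTop_add_one (a.map (algebraMap A B)) M hneB hxaB hxB
    -- the two quotients agree as `A`-modules
    have hsub : (algebraMap A B x • (⊤ : Submodule B M)).restrictScalars A =
        x • (⊤ : Submodule A M) := by
      ext m
      simp only [Submodule.restrictScalars_mem, Submodule.mem_smul_pointwise_iff_exists,
        Submodule.mem_top, true_and, algebraMap_smul]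
    let e : QuotSMulTop x M ≃ₗ[A] QuotSMulTop (algebraMap A B x) M :=
      (Submodule.quotEquivOfEq _ _ hsub.symm).trans
        (Submodule.Quotient.restrictScalarsEquiv A (algebraMap A B x • (⊤ : Submodule B M)))
    have hdQ : LocCoh.idealDepth a (QuotSMulTop (algebraMap A B x) M) = n := by
      rw [← idealDepth_congr a e]
      rw [hd] at h1
      have h3 : LocCoh.idealDepth a (QuotSMulTop x M) + 1 = (n : ℕ∞) + 1 := by
        rw [h1]; push_cast; rfl
      exact ENat.add_left_injective_of_ne_top ENat.one_ne_top h3
    have hneQ : a • (⊤ : Submodule A (QuotSMulTop (algebraMap A B x) M)) ≠ ⊤ := by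
      intro h
      exact Groth.Agent.S5151.smul_top_quotSMulTop_ne_top hxa hne
        (smul_top_eq_top_of_equiv a e.symm h)
    have := ih (QuotSMulTop (algebraMap A B x) M) hneQ hdQ
    rw [← h2, this]
    push_cast
    rfl

/-- Depth along a finite ring map: `depth_A(a, M) = depth_B(aB, M)`. -/
theorem idealDepth_map_eq (M : Type u) [AddCommGroup M] [Module B M] [Module A M]
    [IsScalarTower A B M] [Module.Finite B M] :
    LocCoh.idealDepth a M = LocCoh.idealDepth (a.map (algebraMap A B)) M := by
  by_cases h : a • (⊤ : Submodule A M) = ⊤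
  · have h' := (smul_top_eq_top_iff (B := B) a M).2 h
    unfold LocCoh.idealDepth
    rw [if_pos h, if_pos h']
  · have hfin : Module.Finite A M := Module.Finite.trans B M
    obtain ⟨n, hn⟩ := ENat.ne_top_iff_exists.1 (idealDepth_ne_top a M h)
    rw [idealDepth_map_aux a n M h hn.symm, hn]

end Finite

section LocalHom

/-- A module killed by a maximal ideal is semisimple (adapted from the file of S6476). -/
theorem semisimple_of_killed {R : Type u} [CommRing R] (m : Ideal R) [m.IsMaximal]
    (N : Type u) [AddCommGroup N] [Module R N] (h : ∀ a ∈ m, ∀ x : N, a • x = 0) :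
    IsSemisimpleModule R N := by
  classical
  let φ : N → (R ⧸ m) →ₗ[R] N := fun x =>
    Submodule.liftQ m (LinearMap.toSpanSingleton R N x) (by
      intro a ha
      simp only [LinearMap.mem_ker, LinearMap.toSpanSingleton_apply]
      exact h a ha x)
  let Φ : (N →₀ (R ⧸ m)) →ₗ[R] N := Finsupp.lsum R φ
  have hΦ : Function.Surjective Φ := fun x => ⟨Finsupp.single x 1, by
    simp only [Φ, φ, Finsupp.lsum_single]
    have : (1 : R ⧸ m) = Submodule.Quotient.mk (1 : R) := rfl
    rw [this, Submodule.liftQ_apply, LinearMap.toSpanSingleton_apply, one_smul]⟩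
  have hs : IsSimpleModule R (R ⧸ m) :=
    isSimpleModule_iff_quot_maximal.mpr ⟨m, inferInstance, ⟨LinearEquiv.refl _ _⟩⟩
  exact IsSemisimpleModule.of_surjective Φ hΦ

variable (A B : Type u) [CommRing A] [CommRing B] [IsLocalRing A] [IsLocalRing B]
  [IsNoetherianRing A] [IsNoetherianRing B] [Algebra A B] [IsLocalHom (algebraMap A B)]

omit [IsNoetherianRing A] [IsNoetherianRing B] in
theorem algebraMap_mem_maximalIdeal {x : A} (hx : x ∈ maximalIdeal A) :
    algebraMap A B x ∈ maximalIdeal B := by
  rw [mem_maximalIdeal, mem_nonunits_iff] at hx ⊢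
  exact fun h => hx (isUnit_of_map_unit (algebraMap A B) x h)

omit [IsNoetherianRing B] [IsLocalHom (algebraMap A B)] in
/-- Depth-zero case: if `𝔪_A` is associated to `M` over `A` then every element of `𝔪_B` is a zero
divisor on `M`. -/
theorem forall_not_isSMulRegular_of_mem_ass (M : Type u) [AddCommGroup M] [Module B M]
    [Module A M] [IsScalarTower A B M] [Module.Finite A M]
    (h : maximalIdeal A ∈ associatedPrimes A M) : ∀ b ∈ maximalIdeal B, ¬ IsSMulRegular M b := by
  intro b hb hreg
  obtain ⟨-, m, hm⟩ := isAssociatedPrime_iff.1 h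
  have hm0 : m ≠ 0 := by
    rintro rfl
    apply (maximalIdeal.isMaximal A).ne_top
    rw [hm, Ideal.eq_top_iff_one, Submodule.mem_colon_singleton, smul_zero]
    exact Submodule.zero_mem _
  have hkillm : ∀ a ∈ maximalIdeal A, a • m = 0 := by
    intro a ha
    rw [hm, Submodule.mem_colon_singleton, Submodule.mem_bot] at ha
    exact ha
  let N : Submodule B M := Submodule.span B {m}
  have hNoeth : IsNoetherian A M := isNoetherian_of_isNoetherianRing_of_finite A M
  have hfin : Module.Finite A N :=
    Module.Finite.of_injective (N.subtype.restrictScalars A) (Subtype.val_injective)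
  have hkill : ∀ a ∈ maximalIdeal A, ∀ x : N, a • x = 0 := by
    intro a ha x
    apply Subtype.ext
    obtain ⟨c, hc⟩ := Submodule.mem_span_singleton.1 x.2
    show a • (x : M) = 0
    rw [← hc, smul_comm, hkillm a ha, smul_zero]
  have hss : IsSemisimpleModule A N := semisimple_of_killed (maximalIdeal A) N hkill
  have hArt : IsArtinian A N := (IsSemisimpleModule.finite_tfae.out 0 2).mp hfin
  let f : N →ₗ[A] N := (LinearMap.lsmul B N b).restrictScalars A
  have hfinj : Function.Injective f := by
    intro x y hxy
    apply Subtype.ext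
    apply hreg
    exact congrArg Subtype.val hxy
  have hfsurj : Function.Surjective f := IsArtinian.surjective_of_injective_endomorphism f hfinj
  have hle : N ≤ maximalIdeal B • N := by
    intro x hx
    obtain ⟨y, hy⟩ := hfsurj ⟨x, hx⟩
    have : x = b • (y : M) := (congrArg Subtype.val hy).symm
    rw [this]
    exact Submodule.smul_mem_smul hb y.2
  have hbot : N = ⊥ := Submodule.eq_bot_of_le_smul_of_le_jacobson_bot (maximalIdeal B) N
    (Submodule.fg_span_singleton m) hle (maximalIdeal_le_jacobson _)
  apply hm0
  have : m ∈ N := Submodule.mem_span_singleton_self m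
  rw [hbot, Submodule.mem_bot] at this
  exact this

theorem depth_eq_of_isLocalHom_aux (n : ℕ) :
    ∀ (M : Type u) [AddCommGroup M] [Module B M] [Module A M] [IsScalarTower A B M]
      [Module.Finite A M] [Nontrivial M], LocCoh.depth A M = n → LocCoh.depth B M = n := by
  induction n with
  | zero =>
    intro M _ _ _ _ _ _ hd
    have hfinB : Module.Finite B M := Module.Finite.of_restrictScalars_finite A B M
    have hd' : LocCoh.depth A M = 0 := by exact_mod_cast hd
    rw [depth_eq_zero_iff_maximalIdeal_mem_ass] at hd'
    have := forall_not_isSMulRegular_of_mem_ass A B M hd'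
    rw [← depth_eq_zero_iff_forall_not_isSMulRegular B M (maximalIdeal_smul_top_ne_top B M)] at this
    exact_mod_cast this
  | succ n ih =>
    intro M _ _ _ _ _ _ hd
    have hfinB : Module.Finite B M := Module.Finite.of_restrictScalars_finite A B M
    have hne0 : LocCoh.depth A M ≠ 0 := by
      rw [hd]; exact_mod_cast Nat.succ_ne_zero n
    rw [Ne, depth_eq_zero_iff_forall_not_isSMulRegular A M (maximalIdeal_smul_top_ne_top A M)]
      at hne0
    push Not at hne0
    obtain ⟨x, hxm, hx⟩ := hne0
    have hxB : IsSMulRegular M (algebraMap A B x) := by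
      unfold IsSMulRegular at hx ⊢
      have : (fun m : M => algebraMap A B x • m) = fun m : M => x • m := by
        funext m
        exact algebraMap_smul B x m
      rw [this]
      exact hx
    have hxmB : algebraMap A B x ∈ maximalIdeal B := algebraMap_mem_maximalIdeal A B hxm
    have h1 := depth_quotSMulTop_add_one A M hxm hx
    have h2 := depth_quotSMulTop_add_one B M hxmB hxB
    have hsub : (algebraMap A B x • (⊤ : Submodule B M)).restrictScalars A =
        x • (⊤ : Submodule A M) := by
      ext m
      simp only [Submodule.restrictScalars_mem, Submodule.mem_smul_pointwise_iff_exists,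
        Submodule.mem_top, true_and, algebraMap_smul]
    let e : QuotSMulTop x M ≃ₗ[A] QuotSMulTop (algebraMap A B x) M :=
      (Submodule.quotEquivOfEq _ _ hsub.symm).trans
        (Submodule.Quotient.restrictScalarsEquiv A (algebraMap A B x • (⊤ : Submodule B M)))
    have hdQ : LocCoh.depth A (QuotSMulTop (algebraMap A B x) M) = n := by
      rw [← depth_congr e]
      rw [hd] at h1
      have h3 : LocCoh.depth A (QuotSMulTop x M) + 1 = (n : ℕ∞) + 1 := by
        rw [h1]; push_cast; rfl
      exact ENat.add_left_injective_of_ne_top ENat.one_ne_top h3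
    have hfinQ : Module.Finite A (QuotSMulTop (algebraMap A B x) M) := Module.Finite.equiv e
    have hntQ : Nontrivial (QuotSMulTop (algebraMap A B x) M) := nontrivial_quotSMulTop B M hxmB
    have := ih (QuotSMulTop (algebraMap A B x) M) hdQ
    rw [← h2, this]
    push_cast
    rfl

/-- EGA 0_IV 16.4.8: depth is insensitive to a local homomorphism along which the module is
finite. -/
theorem depth_eq_of_isLocalHom (M : Type u) [AddCommGroup M] [Module B M] [Module A M]
    [IsScalarTower A B M] [Module.Finite A M] : LocCoh.depth A M = LocCoh.depth B M := by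
  rcases subsingleton_or_nontrivial M with hM | hM
  · unfold LocCoh.depth LocCoh.idealDepth
    rw [if_pos (Subsingleton.elim _ _), if_pos (Subsingleton.elim _ _)]
  · obtain ⟨n, hn⟩ := ENat.ne_top_iff_exists.1 (depth_ne_top A M)
    rw [depth_eq_of_isLocalHom_aux A B n M hn.symm, hn]

end LocalHom

end Groth.Agent.Lib.Helper29.DepthFinite
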