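import Groth.Agent.Lib.Helper29.DepthFlat
import Mathlib.Algebra.Module.LocalizedModule.Submodule
import Mathlib.RingTheory.LocalProperties.Basic
import Mathlib.RingTheory.Ideal.AssociatedPrime.Localization
import Mathlib.RingTheory.Ideal.Height

/-!
# Cohen–Macaulay rings: depth versus height
-/

set_option autoImplicit false
universe u

namespace Groth.Agent.Lib.Helper29.CMRing

open RingTheory.Sequence IsLocalRing Pointwise
open Groth.Agent.Lib.Helper29 Groth.Agent.Lib.Helper29.DepthLib Groth.Agent.Lib.Helper29.CMLib
open Groth.Agent.Lib.Helper29.DepthFinite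

section LocQuot

variable {R : Type*} [CommRing R] (S : Submonoid R) {R' : Type*} [CommRing R'] [Algebra R R']
  [IsLocalization S R']
  {M M' : Type*} [AddCommGroup M] [Module R M] [AddCommGroup M'] [Module R M']
  [Module R' M'] [IsScalarTower R R' M'] (f : M →ₗ[R] M') [IsLocalizedModule S f]

include S f in
theorem localized'_smul_top (I : Ideal R) :
    (I • (⊤ : Submodule R M)).localized' R' S f =
      I.map (algebraMap R R') • (⊤ : Submodule R' M') := by
  rw [Submodule.localized'_smul, Ideal.localized'_eq_map, Submodule.localized'_top]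

include S f in
/-- Associated primes of `M/IM` localize to associated primes of `M'/IM'`. -/
theorem mem_ass_quotient_of_isLocalizedModule (I : Ideal R) (P : Ideal R')
    (hP : P.comap (algebraMap R R') ∈ associatedPrimes R (M ⧸ I • (⊤ : Submodule R M))) :
    P ∈ associatedPrimes R'
      (M' ⧸ (I.map (algebraMap R R')) • (⊤ : Submodule R' M')) := by
  have h := Module.associatedPrimes.mem_associatedPrimes_of_comap_mem_associatedPrimes_of_isLocalizedModule
    S ((I • (⊤ : Submodule R M)).toLocalizedQuotient' R' S f) P hP
  rw [localized'_smul_top S f I] at h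
  exact h

end LocQuot

section Iterated

variable {A : Type u} [CommRing A] [IsNoetherianRing A] (I : Ideal A)

/-- Depth drops by the length of a regular sequence in `I`. -/
theorem idealDepth_quotient_ofList_add_length (rs : List A) :
    ∀ (M : Type u) [AddCommGroup M] [Module A M] [Module.Finite A M],
      I • (⊤ : Submodule A M) ≠ ⊤ → IsWeaklyRegular M rs → (∀ r ∈ rs, r ∈ I) →
      LocCoh.idealDepth I (M ⧸ (Ideal.ofList rs • (⊤ : Submodule A M))) + rs.length =
        LocCoh.idealDepth I M := by
  induction rs with
  | nil =>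
    intro M _ _ _ _ _ _
    have e : (M ⧸ (Ideal.ofList ([] : List A) • (⊤ : Submodule A M))) ≃ₗ[A] M :=
      Submodule.quotEquivOfEqBot _ (by rw [Ideal.ofList_nil, Submodule.bot_smul])
    rw [idealDepth_congr I e]
    simp
  | cons x rs ih =>
    intro M _ _ _ hne hreg hmem
    have hxI : x ∈ I := hmem x (List.mem_cons_self)
    have hmem' : ∀ y ∈ rs, y ∈ I := fun y hy => hmem y (List.mem_cons_of_mem _ hy)
    rw [isWeaklyRegular_cons_iff] at hreg
    have e := Submodule.quotOfListConsSMulTopEquivQuotSMulTopInner M x rs
    have hneQ : I • (⊤ : Submodule A (QuotSMulTop x M)) ≠ ⊤ :=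
      Groth.Agent.S5151.smul_top_quotSMulTop_ne_top hxI hne
    have h1 := ih (QuotSMulTop x M) hneQ hreg.2 hmem'
    have h2 := idealDepth_quotSMulTop_add_one I M hne hxI hreg.1
    rw [idealDepth_congr I e, List.length_cons, ← h2, ← h1, add_assoc]
    push_cast
    rfl

end Iterated

section Height

variable (R : Type u) [CommRing R] [IsNoetherianRing R]

/-- A regular sequence inside a prime `p` has length at most `height p`. -/
theorem length_le_height_of_isWeaklyRegular {p : Ideal R} [p.IsPrime] {rs : List R}
    (hreg : IsWeaklyRegular R rs) (hmem : ∀ r ∈ rs, r ∈ p) : (rs.length : ℕ∞) ≤ p.height := by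
  have hreg' : IsWeaklyRegular (Localization.AtPrime p)
      (rs.map (algebraMap R (Localization.AtPrime p))) :=
    hreg.of_isLocalization (Localization.AtPrime p) p.primeCompl
  have hmem' : ∀ r ∈ rs.map (algebraMap R (Localization.AtPrime p)),
      r ∈ maximalIdeal (Localization.AtPrime p) := by
    intro r hr
    obtain ⟨a, ha, rfl⟩ := List.mem_map.1 hr
    rw [IsLocalization.AtPrime.to_map_mem_maximal_iff (Localization.AtPrime p) p]
    exact hmem a ha
  have h1 := length_le_idealDepth (maximalIdeal (Localization.AtPrime p))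
    (Localization.AtPrime p) hreg' hmem'
  rw [List.length_map] at h1
  have h2 := depth_le_supportDim (Localization.AtPrime p) (Localization.AtPrime p)
  rw [Module.supportDim_self_eq_ringKrullDim,
    IsLocalization.AtPrime.ringKrullDim_eq_height p (Localization.AtPrime p)] at h2
  have h3 : LocCoh.depth (Localization.AtPrime p) (Localization.AtPrime p) ≤ p.height :=
    WithBot.coe_le_coe.1 h2
  exact h1.trans h3

/-- `depth(a, R) ≤ height a` for a proper ideal `a` of a Noetherian ring. -/
theorem idealDepth_le_height {a : Ideal R} (ha : a ≠ ⊤) : LocCoh.idealDepth a R ≤ a.height := by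
  have haR : a • (⊤ : Submodule R R) ≠ ⊤ := by
    rw [smul_eq_mul, Ideal.mul_top]; exact ha
  unfold LocCoh.idealDepth
  rw [if_neg haR, Ideal.height_eq_inf_minimalPrimes]
  refine iSup₂_le ?_
  rintro rs ⟨hreg, hmem⟩
  refine le_iInf₂ ?_
  intro p hp
  have : p.IsPrime := hp.1.1
  exact length_le_height_of_isWeaklyRegular R hreg (fun r hr => hp.1.2 (hmem r hr))

/-- In a Noetherian ring whose localization at `q` is Cohen–Macaulay, if `q` is associated to
`R/(rs)` for a regular sequence `rs ⊆ q` then `height q = length rs`. -/
theorem height_eq_length_of_mem_ass {q : Ideal R} [q.IsPrime]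
    (hCM : LocCoh.IsCohenMacaulayLocalRing (Localization.AtPrime q)) {rs : List R}
    (hreg : IsWeaklyRegular R rs) (hmem : ∀ r ∈ rs, r ∈ q)
    (hq : q ∈ associatedPrimes R (R ⧸ (Ideal.ofList rs • (⊤ : Submodule R R)))) :
    q.height = rs.length := by
  have hreg' : IsWeaklyRegular (Localization.AtPrime q)
      (rs.map (algebraMap R (Localization.AtPrime q))) :=
    hreg.of_isLocalization (Localization.AtPrime q) q.primeCompl
  have hmem' : ∀ r ∈ rs.map (algebraMap R (Localization.AtPrime q)),
      r ∈ maximalIdeal (Localization.AtPrime q) := by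
    intro r hr
    obtain ⟨a, ha, rfl⟩ := List.mem_map.1 hr
    rw [IsLocalization.AtPrime.to_map_mem_maximal_iff (Localization.AtPrime q) q]
    exact hmem a ha
  have hass : maximalIdeal (Localization.AtPrime q) ∈ associatedPrimes (Localization.AtPrime q)
      (Localization.AtPrime q ⧸ (Ideal.ofList (rs.map (algebraMap R (Localization.AtPrime q))) •
        (⊤ : Submodule (Localization.AtPrime q) (Localization.AtPrime q)))) := by
    rw [← Ideal.map_ofList]
    apply mem_ass_quotient_of_isLocalizedModule q.primeCompl
      (Algebra.linearMap R (Localization.AtPrime q))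
    have : (maximalIdeal (Localization.AtPrime q)).comap
        (algebraMap R (Localization.AtPrime q)) = q :=
      IsLocalization.AtPrime.under_maximalIdeal (Localization.AtPrime q) q
    rw [this]
    exact hq
  have h0 : LocCoh.depth (Localization.AtPrime q) (Localization.AtPrime q ⧸
      (Ideal.ofList (rs.map (algebraMap R (Localization.AtPrime q))) •
        (⊤ : Submodule (Localization.AtPrime q) (Localization.AtPrime q)))) = 0 :=
    (depth_eq_zero_iff_maximalIdeal_mem_ass _ _).2 hass
  have h1 := idealDepth_quotient_ofList_add_length (maximalIdeal (Localization.AtPrime q))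
    (rs.map (algebraMap R (Localization.AtPrime q))) (Localization.AtPrime q)
    (maximalIdeal_smul_top_ne_top _ _) hreg' hmem'
  have h0' : LocCoh.idealDepth (maximalIdeal (Localization.AtPrime q)) (Localization.AtPrime q ⧸
      (Ideal.ofList (rs.map (algebraMap R (Localization.AtPrime q))) •
        (⊤ : Submodule (Localization.AtPrime q) (Localization.AtPrime q)))) = 0 := h0
  rw [h0', zero_add, List.length_map] at h1
  have h2 : Module.supportDim (Localization.AtPrime q) (Localization.AtPrime q) =
      ((LocCoh.depth (Localization.AtPrime q) (Localization.AtPrime q) : ℕ∞) : WithBot ℕ∞) :=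
    hCM.supportDim_eq_depth
  rw [Module.supportDim_self_eq_ringKrullDim,
    IsLocalization.AtPrime.ringKrullDim_eq_height q (Localization.AtPrime q)] at h2
  have h3 : q.height = LocCoh.depth (Localization.AtPrime q) (Localization.AtPrime q) :=
    WithBot.coe_injective h2
  rw [h3]
  exact h1.symm

/-- A Noetherian ring is Cohen–Macaulay iff `depth(a, R) = height a` for every proper ideal. -/
theorem isCohenMacaulayRing_iff_idealDepth_eq_height :
    LocCoh.IsCohenMacaulayRing R ↔
      ∀ a : Ideal R, a ≠ ⊤ → LocCoh.idealDepth a R = a.height := by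
  constructor
  · intro hCM a ha
    refine le_antisymm (idealDepth_le_height R ha) ?_
    have haR : a • (⊤ : Submodule R R) ≠ ⊤ := by
      rw [smul_eq_mul, Ideal.mul_top]; exact ha
    obtain ⟨rs, hreg, hmem, hmax, hlen⟩ := exists_maximal_regular a R haR
    have hzd : ∀ x ∈ a, ¬ IsSMulRegular (R ⧸ (Ideal.ofList rs • (⊤ : Submodule R R))) x := by
      intro x hx hxreg
      apply hmax x hx
      rw [isWeaklyRegular_append_iff]
      exact ⟨hreg, (isWeaklyRegular_singleton_iff _ x).2 hxreg⟩
    obtain ⟨q, hq, haq⟩ := exists_mem_ass_ge R _ a hzd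
    have hqp : q.IsPrime := IsAssociatedPrime.isPrime hq
    have hCMq := hCM.isCohenMacaulayLocalRing_localization q
    have := height_eq_length_of_mem_ass R hCMq hreg (fun r hr => haq (hmem r hr)) hq
    rw [← hlen, ← this]
    exact Ideal.height_mono haq
  · intro h
    refine LocCoh.IsCohenMacaulayRing.mk ?_
    intro p hp
    refine LocCoh.IsCohenMacaulayLocalRing.mk ?_
    have hpR : p • (⊤ : Submodule R R) ≠ ⊤ := by
      rw [smul_eq_mul, Ideal.mul_top]; exact hp.ne_top
    obtain ⟨rs, hreg, hmem, -, hlen⟩ := exists_maximal_regular p R hpR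
    rw [h p hp.ne_top] at hlen
    have hreg' : IsWeaklyRegular (Localization.AtPrime p)
        (rs.map (algebraMap R (Localization.AtPrime p))) :=
      hreg.of_isLocalization (Localization.AtPrime p) p.primeCompl
    have hmem' : ∀ r ∈ rs.map (algebraMap R (Localization.AtPrime p)),
        r ∈ maximalIdeal (Localization.AtPrime p) := by
      intro r hr
      obtain ⟨a, ha, rfl⟩ := List.mem_map.1 hr
      rw [IsLocalization.AtPrime.to_map_mem_maximal_iff (Localization.AtPrime p) p]
      exact hmem a ha
    have h1 := length_le_idealDepth (maximalIdeal (Localization.AtPrime p))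
      (Localization.AtPrime p) hreg' hmem'
    rw [List.length_map, hlen] at h1
    have h2 := depth_le_supportDim (Localization.AtPrime p) (Localization.AtPrime p)
    rw [Module.supportDim_self_eq_ringKrullDim,
      IsLocalization.AtPrime.ringKrullDim_eq_height p (Localization.AtPrime p)] at h2 ⊢
    have h3 : LocCoh.depth (Localization.AtPrime p) (Localization.AtPrime p) ≤ p.height :=
      WithBot.coe_le_coe.1 h2
    have h4 : LocCoh.depth (Localization.AtPrime p) (Localization.AtPrime p) = p.height :=
      le_antisymm h3 h1
    rw [h4]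

end Height

section CMIdeal

variable (R : Type u) [CommRing R] [IsLocalRing R] [IsNoetherianRing R]

/-- For a Cohen–Macaulay module `M` and a proper ideal `I`:
`dim M = dim M/IM + depth(I, M)`. -/
theorem supportDim_eq_add_idealDepth_of_isCM (I : Ideal R) (hI : I ≠ ⊤) (M : Type u)
    [AddCommGroup M] [Module R M] [Module.Finite R M] (hM : LocCoh.IsCohenMacaulayModule R M) :
    Module.supportDim R M = Module.supportDim R (M ⧸ (I • (⊤ : Submodule R M))) +
      ((LocCoh.idealDepth I M : ℕ∞) : WithBot ℕ∞) := by
  have hnt : Nontrivial M := nontrivial_of_isCM R M hM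
  have hIm : I ≤ maximalIdeal R := le_maximalIdeal hI
  have hIM : I • (⊤ : Submodule R M) ≠ ⊤ := by
    intro h
    apply maximalIdeal_smul_top_ne_top R M
    have h1 : I • (⊤ : Submodule R M) ≤ maximalIdeal R • (⊤ : Submodule R M) :=
      Submodule.smul_mono_left hIm
    exact eq_top_iff.2 (le_of_eq_of_le h.symm h1)
  obtain ⟨rs, hreg, hmem, hmax, hlen⟩ := exists_maximal_regular I M hIM
  have hmem' : ∀ r ∈ rs, r ∈ maximalIdeal R := fun r hr => hIm (hmem r hr)
  obtain ⟨h1, h2⟩ := isWeaklyRegular_iff_of_isCM R rs M hM hmem'
  have hN := h2 hreg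
  have hdimN := h1.1 hreg
  have hzd : ∀ x ∈ I, ¬ IsSMulRegular (M ⧸ (Ideal.ofList rs • (⊤ : Submodule R M))) x := by
    intro x hx hxreg
    apply hmax x hx
    rw [isWeaklyRegular_append_iff]
    exact ⟨hreg, (isWeaklyRegular_singleton_iff _ x).2 hxreg⟩
  obtain ⟨q, hq, hIq⟩ := exists_mem_ass_ge R _ I hzd
  have hqp : q.IsPrime := IsAssociatedPrime.isPrime hq
  have hJI : Ideal.ofList rs ≤ I := ofList_le_of_forall_mem R hmem
  -- `dim M/IM = dim N`
  have hle : Module.supportDim R (M ⧸ (I • (⊤ : Submodule R M))) ≤
      Module.supportDim R (M ⧸ (Ideal.ofList rs • (⊤ : Submodule R M))) := by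
    have hsub : Ideal.ofList rs • (⊤ : Submodule R M) ≤ I • (⊤ : Submodule R M) :=
      Submodule.smul_mono_left hJI
    exact Module.supportDim_le_of_surjective (Submodule.factor hsub)
      (Submodule.factor_surjective hsub)
  have hqS : (⟨q, hqp⟩ : PrimeSpectrum R) ∈ Module.support R (M ⧸ (I • (⊤ : Submodule R M))) := by
    rw [Module.support_quotient]
    refine ⟨?_, ?_⟩
    · have hqN : (⟨q, hqp⟩ : PrimeSpectrum R) ∈
          Module.support R (M ⧸ (Ideal.ofList rs • (⊤ : Submodule R M))) := by
        rw [Module.mem_support_iff_of_finite, ← Submodule.annihilator_top]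
        exact IsAssociatedPrime.annihilator_le hq
      rw [Module.support_quotient] at hqN
      exact hqN.1
    · rw [PrimeSpectrum.mem_zeroLocus]; exact hIq
  have hge := ringKrullDim_quotient_le_supportDim_of_mem_support R _ hqS
  rw [show (⟨q, hqp⟩ : PrimeSpectrum R).asIdeal = q from rfl,
    ringKrullDim_quotient_eq_of_isCM R _ hN hq] at hge
  rw [le_antisymm hle hge, ← hlen, ← hdimN]
  rfl

end CMIdeal

section DepthLoc

variable (R : Type u) [CommRing R] [IsNoetherianRing R]
  (M : Type u) [AddCommGroup M] [Module R M] [Module.Finite R M]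

omit [IsNoetherianRing R] [Module.Finite R M] in
theorem isWeaklyRegular_localizedModule {q : Ideal R} [q.IsPrime] {rs : List R}
    (hreg : IsWeaklyRegular M rs) (hmem : ∀ r ∈ rs, r ∈ q) :
    IsWeaklyRegular (LocalizedModule q.primeCompl M)
        (rs.map (algebraMap R (Localization.AtPrime q))) ∧
      ∀ r ∈ rs.map (algebraMap R (Localization.AtPrime q)),
        r ∈ maximalIdeal (Localization.AtPrime q) := by
  refine ⟨hreg.of_isLocalizedModule (Localization.AtPrime q) q.primeCompl
    (LocalizedModule.mkLinearMap q.primeCompl M), ?_⟩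
  intro r hr
  obtain ⟨a, ha, rfl⟩ := List.mem_map.1 hr
  rw [IsLocalization.AtPrime.to_map_mem_maximal_iff (Localization.AtPrime q) q]
  exact hmem a ha

omit [IsNoetherianRing R] [Module.Finite R M] in
/-- A regular sequence in `q` gives a lower bound for the depth of `M_q`. -/
theorem length_le_depth_localizedModule {q : Ideal R} [q.IsPrime] {rs : List R}
    (hreg : IsWeaklyRegular M rs) (hmem : ∀ r ∈ rs, r ∈ q) :
    (rs.length : ℕ∞) ≤ LocCoh.depth (Localization.AtPrime q) (LocalizedModule q.primeCompl M) := by
  obtain ⟨h1, h2⟩ := isWeaklyRegular_localizedModule R M hreg hmem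
  have := length_le_idealDepth (maximalIdeal (Localization.AtPrime q))
    (LocalizedModule q.primeCompl M) h1 h2
  rw [List.length_map] at this
  exact this

/-- If `q` is associated to `M/(rs)M` for an `M`-regular sequence `rs ⊆ q`, then
`depth M_q = length rs`. -/
theorem depth_localizedModule_eq_length_of_mem_ass {q : Ideal R} [q.IsPrime] {rs : List R}
    (hreg : IsWeaklyRegular M rs) (hmem : ∀ r ∈ rs, r ∈ q)
    (hq : q ∈ associatedPrimes R (M ⧸ (Ideal.ofList rs • (⊤ : Submodule R M)))) :
    LocCoh.depth (Localization.AtPrime q) (LocalizedModule q.primeCompl M) = rs.length := by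
  obtain ⟨hreg', hmem'⟩ := isWeaklyRegular_localizedModule R M hreg hmem
  have hass : maximalIdeal (Localization.AtPrime q) ∈ associatedPrimes (Localization.AtPrime q)
      (LocalizedModule q.primeCompl M ⧸
        (Ideal.ofList (rs.map (algebraMap R (Localization.AtPrime q))) •
          (⊤ : Submodule (Localization.AtPrime q) (LocalizedModule q.primeCompl M)))) := by
    rw [← Ideal.map_ofList]
    apply mem_ass_quotient_of_isLocalizedModule q.primeCompl
      (LocalizedModule.mkLinearMap q.primeCompl M)
    have : (maximalIdeal (Localization.AtPrime q)).comap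
        (algebraMap R (Localization.AtPrime q)) = q :=
      IsLocalization.AtPrime.under_maximalIdeal (Localization.AtPrime q) q
    rw [this]
    exact hq
  have hntQ : Nontrivial (LocalizedModule q.primeCompl M ⧸
        (Ideal.ofList (rs.map (algebraMap R (Localization.AtPrime q))) •
          (⊤ : Submodule (Localization.AtPrime q) (LocalizedModule q.primeCompl M)))) := by
    by_contra hne
    rw [not_nontrivial_iff_subsingleton] at hne
    rw [associatedPrimes.eq_empty_of_subsingleton] at hass
    exact hass
  have hnt : Nontrivial (LocalizedModule q.primeCompl M) := by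
    by_contra hne
    rw [not_nontrivial_iff_subsingleton] at hne
    exact not_subsingleton _ (inferInstance : Subsingleton (LocalizedModule q.primeCompl M ⧸
        (Ideal.ofList (rs.map (algebraMap R (Localization.AtPrime q))) •
          (⊤ : Submodule (Localization.AtPrime q) (LocalizedModule q.primeCompl M)))))
  have h0 : LocCoh.idealDepth (maximalIdeal (Localization.AtPrime q))
      (LocalizedModule q.primeCompl M ⧸
        (Ideal.ofList (rs.map (algebraMap R (Localization.AtPrime q))) •
          (⊤ : Submodule (Localization.AtPrime q) (LocalizedModule q.primeCompl M)))) = 0 :=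
    (depth_eq_zero_iff_maximalIdeal_mem_ass _ _).2 hass
  have h1 := idealDepth_quotient_ofList_add_length (maximalIdeal (Localization.AtPrime q))
    (rs.map (algebraMap R (Localization.AtPrime q))) (LocalizedModule q.primeCompl M)
    (maximalIdeal_smul_top_ne_top _ _) hreg' hmem'
  rw [h0, zero_add, List.length_map] at h1
  exact h1.symm

/-- `depth_I(M) = inf_{p ⊇ I} depth M_p`. -/
theorem idealDepth_eq_iInf_depth_localization (I : Ideal R) :
    LocCoh.idealDepth I M = ⨅ (p : PrimeSpectrum R) (_ : I ≤ p.asIdeal),
      LocCoh.depth (Localization.AtPrime p.asIdeal) (LocalizedModule p.asIdeal.primeCompl M) := by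
  by_cases hIM : I • (⊤ : Submodule R M) = ⊤
  · have hL : LocCoh.idealDepth I M = ⊤ := by unfold LocCoh.idealDepth; rw [if_pos hIM]
    rw [hL]
    symm
    rw [iInf_eq_top]
    intro p
    rw [iInf_eq_top]
    intro hp
    have hsub : Subsingleton (LocalizedModule p.asIdeal.primeCompl M) := by
      rw [← Module.notMem_support_iff]
      intro hpS
      have hQ : Subsingleton (M ⧸ I • (⊤ : Submodule R M)) := by
        rw [hIM]; infer_instance
      have : p ∈ Module.support R (M ⧸ I • (⊤ : Submodule R M)) := by
        rw [Module.support_quotient]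
        exact ⟨hpS, by rw [PrimeSpectrum.mem_zeroLocus]; exact hp⟩
      rw [Module.support_eq_empty] at this
      exact this
    unfold LocCoh.depth LocCoh.idealDepth
    rw [if_pos (Subsingleton.elim _ _)]
  · obtain ⟨rs, hreg, hmem, hmax, hlen⟩ := exists_maximal_regular I M hIM
    apply le_antisymm
    · refine le_iInf₂ ?_
      intro p hp
      rw [← hlen]
      exact length_le_depth_localizedModule R M hreg (fun r hr => hp (hmem r hr))
    · have hzd : ∀ x ∈ I, ¬ IsSMulRegular (M ⧸ (Ideal.ofList rs • (⊤ : Submodule R M))) x := by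
        intro x hx hxreg
        apply hmax x hx
        rw [isWeaklyRegular_append_iff]
        exact ⟨hreg, (isWeaklyRegular_singleton_iff _ x).2 hxreg⟩
      obtain ⟨q, hq, hIq⟩ := exists_mem_ass_ge R _ I hzd
      have hqp : q.IsPrime := IsAssociatedPrime.isPrime hq
      have := depth_localizedModule_eq_length_of_mem_ass R M hreg (fun r hr => hIq (hmem r hr)) hq
      rw [← hlen, ← this]
      exact iInf₂_le (⟨q, hqp⟩ : PrimeSpectrum R) hIq

end DepthLoc

end Groth.Agent.Lib.Helper29.CMRing
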