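import Groth.Agent.Lib.Helper29.CM
import Groth.Agent.Lib.Helper29.DepthLoc
import Mathlib.RingTheory.KrullDimension.Regular

/-!
# Dimension theory over semi-local Noetherian rings
-/

set_option autoImplicit false
universe u

namespace Groth.Agent.Lib.Helper29.DimTheory

open RingTheory.Sequence IsLocalRing Pointwise
open Groth.Agent.Lib.Helper29 Groth.Agent.Lib.Helper29.DepthLib Groth.Agent.Lib.Helper29.CMLib

section Basic

variable (A : Type u) [CommRing A] [IsNoetherianRing A] [Finite (MaximalSpectrum A)]

theorem ringKrullDim_ne_top : ringKrullDim A ≠ ⊤ := by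
  rcases subsingleton_or_nontrivial A with h | h
  · rw [ringKrullDim_eq_bot_of_subsingleton]; exact bot_ne_top
  · rw [← Ideal.sup_isMaximal_height_eq_ringKrullDim]
    have hne : Nonempty (MaximalSpectrum A) := by
      obtain ⟨m, hm⟩ := Ideal.exists_maximal A
      exact ⟨⟨m, hm⟩⟩
    obtain ⟨m₀, hm₀⟩ := Finite.exists_max (fun m : MaximalSpectrum A => m.asIdeal.height)
    have hle : (⨆ (I : Ideal A) (_ : I.IsMaximal), I.height) ≤ m₀.asIdeal.height := by
      refine iSup_le fun I => iSup_le fun hI => ?_
      exact hm₀ ⟨I, hI⟩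
    have hlt : m₀.asIdeal.height < ⊤ := by
      have := m₀.isMaximal
      exact Ideal.height_lt_top (Ideal.IsPrime.ne_top')
    intro h
    have h2 : (⨆ (I : Ideal A) (_ : I.IsMaximal), I.height) = ⊤ := by
      exact_mod_cast h
    rw [h2] at hle
    exact absurd hle (not_le.2 hlt)

theorem supportDim_ne_top (M : Type u) [AddCommGroup M] [Module A M] :
    Module.supportDim A M ≠ ⊤ := by
  intro h
  have := Module.supportDim_le_ringKrullDim A M
  rw [h, top_le_iff] at this
  exact ringKrullDim_ne_top A this

theorem exists_nat_supportDim (M : Type u) [AddCommGroup M] [Module A M] [Nontrivial M] :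
    ∃ n : ℕ, Module.supportDim A M = (n : WithBot ℕ∞) := by
  have h1 := supportDim_ne_top A M
  have h2 := Module.supportDim_ne_bot_of_nontrivial A M
  induction h : Module.supportDim A M with
  | bot => exact absurd h h2
  | coe d =>
    induction d with
    | top => exact absurd h h1
    | coe n => exact ⟨n, rfl⟩

end Basic

section Order

theorem add_one_le_of_lt {a b : WithBot ℕ∞} (h : a < b) : a + 1 ≤ b := by
  induction a with
  | bot => simp
  | coe a =>
    induction b with
    | bot => exact absurd h (not_lt_bot)
    | coe b =>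
      have h' : a < b := WithBot.coe_lt_coe.1 h
      have := Order.add_one_le_of_lt h'
      exact_mod_cast this

theorem krullDim_add_one_le {α : Type*} [Preorder α] {b : WithBot ℕ∞}
    (h : ∀ p : LTSeries α, (p.length : WithBot ℕ∞) + 1 ≤ b) : Order.krullDim α + 1 ≤ b := by
  rcases isEmpty_or_nonempty α with he | hne
  · rw [Order.krullDim_eq_bot]; simp
  · induction b with
    | bot =>
      obtain ⟨a⟩ := hne
      have := h (RelSeries.singleton _ a)
      simp at this
    | coe b =>
      induction b with
      | top => exact le_top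
      | coe n =>
        cases n with
        | zero =>
          obtain ⟨a⟩ := hne
          have := h (RelSeries.singleton _ a)
          exfalso
          have h2 : ((0 : ℕ) : WithBot ℕ∞) + 1 ≤ ((0 : ℕ) : WithBot ℕ∞) := by simpa using this
          have h3 : ((0 + 1 : ℕ) : WithBot ℕ∞) ≤ ((0 : ℕ) : WithBot ℕ∞) := by exact_mod_cast h2
          have h4 : (0 + 1 : ℕ) ≤ 0 := by exact_mod_cast h3
          omega
        | succ m =>
          have h1 : Order.krullDim α ≤ (m : WithBot ℕ∞) := by
            refine iSup_le fun p => ?_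
            have := h p
            have h3 : ((p.length + 1 : ℕ) : WithBot ℕ∞) ≤ ((m + 1 : ℕ) : WithBot ℕ∞) := by
              exact_mod_cast this
            have h4 : p.length + 1 ≤ m + 1 := by exact_mod_cast h3
            have h5 : p.length ≤ m := by omega
            exact_mod_cast h5
          calc Order.krullDim α + 1 ≤ (m : WithBot ℕ∞) + 1 := by gcongr
            _ = _ := by push_cast; rfl

theorem length_le_ringKrullDim_quotient_head {A : Type u} [CommRing A]
    (S : Set (PrimeSpectrum A)) (p : LTSeries S) :
    (p.length : WithBot ℕ∞) ≤ ringKrullDim (A ⧸ p.head.1.asIdeal) := by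
  rw [ringKrullDim_quotient]
  let q : LTSeries (PrimeSpectrum.zeroLocus (p.head.1.asIdeal : Set A)) :=
    { length := p.length
      toFun := fun i => ⟨(p i).1, by
        rw [PrimeSpectrum.mem_zeroLocus]
        have : p.head ≤ p i := LTSeries.head_le p i
        exact this⟩
      step := fun i => p.step i }
  exact Order.LTSeries.length_le_krullDim q

end Order

section Quot

variable {A : Type u} [CommRing A] [IsNoetherianRing A] [Finite (MaximalSpectrum A)]
  (M : Type u) [AddCommGroup M] [Module A M] [Module.Finite A M]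

omit [IsNoetherianRing A] [Finite (MaximalSpectrum A)] [Module.Finite A M] in
theorem mem_jacobson_annihilator {x : A} (hx : x ∈ Ring.jacobson A) :
    x ∈ (Module.annihilator A M).jacobson := by
  have : Ring.jacobson A = (⊥ : Ideal A).jacobson := (Ideal.jacobson_bot).symm
  rw [this] at hx
  exact Ideal.jacobson_mono bot_le hx

omit [Finite (MaximalSpectrum A)] in
theorem supportDim_le_quotSMulTop_add_one {x : A} (hx : x ∈ Ring.jacobson A) :
    Module.supportDim A M ≤ Module.supportDim A (QuotSMulTop x M) + 1 :=
  Module.supportDim_le_supportDim_quotSMulTop_succ_of_mem_jacobson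
    (mem_jacobson_annihilator M hx)

omit [IsNoetherianRing A] [Finite (MaximalSpectrum A)] in
/-- If `x` avoids all top-dimensional primes of `Supp M` then `dim M/xM + 1 ≤ dim M`. -/
theorem supportDim_quotSMulTop_add_one_le {x : A}
    (h : ∀ p : PrimeSpectrum A, p ∈ Module.support A M →
        ringKrullDim (A ⧸ p.asIdeal) = Module.supportDim A M → x ∉ p.asIdeal) :
    Module.supportDim A (QuotSMulTop x M) + 1 ≤ Module.supportDim A M := by
  unfold Module.supportDim
  apply krullDim_add_one_le
  intro p
  have h1 := length_le_ringKrullDim_quotient_head _ p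
  have hmem : p.head.1 ∈ Module.support A M ∩ PrimeSpectrum.zeroLocus {x} := by
    have h0 : p.head.1 ∈ Module.support A (QuotSMulTop x M) := p.head.2
    have hs := Module.support_quotSMulTop (R := A) (M := M) x
    exact hs ▸ h0
  have hx : x ∈ p.head.1.asIdeal := by
    have := hmem.2
    rw [PrimeSpectrum.mem_zeroLocus] at this
    exact this (Set.mem_singleton x)
  have h2 := ringKrullDim_quotient_le_supportDim_of_mem_support A M hmem.1
  have h3 : ringKrullDim (A ⧸ p.head.1.asIdeal) < Module.supportDim A M :=
    lt_of_le_of_ne h2 (fun heq => h _ hmem.1 heq hx)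
  exact add_one_le_of_lt (lt_of_le_of_lt h1 h3)

theorem supportDim_quotSMulTop_add_one_eq_iff {x : A} (hx : x ∈ Ring.jacobson A) :
    Module.supportDim A (QuotSMulTop x M) + 1 = Module.supportDim A M ↔
      ∀ p : PrimeSpectrum A, p ∈ Module.support A M →
        ringKrullDim (A ⧸ p.asIdeal) = Module.supportDim A M → x ∉ p.asIdeal := by
  constructor
  · intro heq p hp hdim hxp
    have hmem : p ∈ Module.support A (QuotSMulTop x M) := by
      rw [Module.support_quotSMulTop]
      exact ⟨hp, by rw [PrimeSpectrum.mem_zeroLocus]; intro y hy; rw [Set.mem_singleton_iff] at hy; rw [hy]; exact hxp⟩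
    have h2 := ringKrullDim_quotient_le_supportDim_of_mem_support A (QuotSMulTop x M) hmem
    rw [hdim, ← heq] at h2
    have : Nontrivial (QuotSMulTop x M) := by
      rw [← Module.supportDim_ne_bot_iff_nontrivial A]
      intro hb
      rw [Module.supportDim_eq_bot_iff_subsingleton, ← Module.support_eq_empty_iff (R := A)] at hb
      rw [hb] at hmem
      exact hmem
    obtain ⟨n, hn⟩ := exists_nat_supportDim A (QuotSMulTop x M)
    exact not_add_one_le_of_eq_nat hn h2
  · intro h
    exact le_antisymm (supportDim_quotSMulTop_add_one_le M h)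
      (supportDim_le_quotSMulTop_add_one M hx)

end Quot

section FiniteLength

variable {A : Type u} [CommRing A] [IsNoetherianRing A]
  (N : Type u) [AddCommGroup N] [Module A N] [Module.Finite A N]

omit [IsNoetherianRing A] in
theorem isArtinianRing_quotient_annihilator_of_isArtinian [IsArtinian A N] :
    IsArtinianRing (A ⧸ Module.annihilator A N) := by
  obtain ⟨n, s, hs⟩ := Module.Finite.exists_fin (R := A) (M := N)
  let f : A →ₗ[A] (Fin n → N) := LinearMap.pi (fun i => LinearMap.toSpanSingleton A N (s i))
  have hker : LinearMap.ker f = Module.annihilator A N := by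
    ext a
    rw [LinearMap.mem_ker, Module.mem_annihilator]
    constructor
    · intro h m
      have hm : m ∈ Submodule.span A (Set.range s) := by rw [hs]; trivial
      induction hm using Submodule.span_induction with
      | mem x hx =>
        obtain ⟨i, rfl⟩ := hx
        have := congrFun h i
        simpa [f] using this
      | zero => simp
      | add x y _ _ hx hy => rw [smul_add, hx, hy, add_zero]
      | smul r x _ hx => rw [smul_comm, hx, smul_zero]
    · intro h
      ext i
      simpa [f] using h (s i)
  have h1 : IsArtinian A (A ⧸ LinearMap.ker f) :=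
    isArtinian_of_linearEquiv (LinearMap.quotKerEquivRange f).symm
  rw [hker] at h1
  exact isArtinian_of_tower A h1

omit [IsNoetherianRing A] in
theorem supportDim_le_zero_of_isFiniteLength (h : IsFiniteLength A N) :
    Module.supportDim A N ≤ 0 := by
  rw [isFiniteLength_iff_isNoetherian_isArtinian] at h
  have : IsArtinian A N := h.2
  have := isArtinianRing_quotient_annihilator_of_isArtinian (A := A) N
  rw [Module.supportDim_eq_ringKrullDim_quotient_annihilator]
  have h0 : Ring.KrullDimLE 0 (A ⧸ Module.annihilator A N) := inferInstance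
  rw [Ring.krullDimLE_iff] at h0
  exact_mod_cast h0

theorem isFiniteLength_of_supportDim_le_zero (h : Module.supportDim A N ≤ 0) :
    IsFiniteLength A N := by
  rw [Module.supportDim_eq_ringKrullDim_quotient_annihilator] at h
  have h0 : Ring.KrullDimLE 0 (A ⧸ Module.annihilator A N) := by
    rw [Ring.krullDimLE_iff]; exact_mod_cast h
  have hart : IsArtinianRing (A ⧸ Module.annihilator A N) :=
    IsNoetherianRing.isArtinianRing_of_krullDimLE_zero
  let _ : Module (A ⧸ Module.annihilator A N) N := Module.quotientAnnihilator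
  have : IsScalarTower A (A ⧸ Module.annihilator A N) N :=
    Module.IsTorsionBySet.isScalarTower (Module.isTorsionBySet_annihilator A N)
  have : Module.Finite (A ⧸ Module.annihilator A N) N :=
    Module.Finite.of_restrictScalars_finite A _ _
  have h1 : IsArtinian (A ⧸ Module.annihilator A N) N := inferInstance
  have h2 : IsArtinian A N := isArtinian_of_surjective_algebraMap (R := A ⧸ Module.annihilator A N)
    Ideal.Quotient.mk_surjective
  rw [isFiniteLength_iff_isNoetherian_isArtinian]
  exact ⟨inferInstance, h2⟩

theorem isFiniteLength_iff_supportDim_le_zero :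
    IsFiniteLength A N ↔ Module.supportDim A N ≤ 0 :=
  ⟨supportDim_le_zero_of_isFiniteLength N, isFiniteLength_of_supportDim_le_zero N⟩

end FiniteLength

section Avoid

variable {A : Type u} [CommRing A] [IsNoetherianRing A] [Finite (MaximalSpectrum A)]

omit [IsNoetherianRing A] in
theorem isMaximal_of_jacobson_le {p : Ideal A} [hp : p.IsPrime] (h : Ring.jacobson A ≤ p) :
    p.IsMaximal := by
  have hfin : Set.Finite {I : Ideal A | I.IsMaximal} := by
    rw [← MaximalSpectrum.range_asIdeal]
    exact Set.finite_range _
  rw [Ring.jacobson_eq_sInf_isMaximal] at h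
  have h2 : hfin.toFinset.inf id ≤ p := by
    refine le_trans ?_ h
    refine le_sInf fun I hI => ?_
    exact Finset.inf_le (f := id) ((Set.Finite.mem_toFinset hfin).2 hI)
  obtain ⟨m, hm, hmp⟩ := (Ideal.IsPrime.inf_le' hp).1 h2
  have hm' : m.IsMaximal := (Set.Finite.mem_toFinset hfin).1 hm
  have : m = p := hm'.eq_of_le hp.ne_top hmp
  exact this ▸ hm'

variable (N : Type u) [AddCommGroup N] [Module A N] [Module.Finite A N]

/-- Top-dimensional primes of the support are minimal over the annihilator. -/
theorem mem_minimalPrimes_of_dim_eq (p : PrimeSpectrum A) (hp : p ∈ Module.support A N)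
    (hdim : ringKrullDim (A ⧸ p.asIdeal) = Module.supportDim A N) :
    p.asIdeal ∈ (Module.annihilator A N).minimalPrimes := by
  have hnt : Nontrivial N := by
    rw [← Module.supportDim_ne_bot_iff_nontrivial A]
    intro hb
    rw [Module.supportDim_eq_bot_iff_subsingleton, ← Module.support_eq_empty_iff (R := A)] at hb
    rw [hb] at hp
    exact hp
  obtain ⟨n, hn⟩ := exists_nat_supportDim A N
  refine ⟨⟨p.2, Module.mem_support_iff_of_finite.1 hp⟩, ?_⟩
  rintro q ⟨hq, hqa⟩ hqp
  by_contra hne
  have hlt : q < p.asIdeal := lt_of_le_of_ne hqp (fun h => hne (h ▸ le_rfl))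
  have h1 := ringKrullDim_quotient_succ_le_of_lt A hlt
  have h2 := ringKrullDim_quotient_le_supportDim_of_mem_support A N (p := ⟨q, hq⟩)
    (Module.mem_support_iff_of_finite.2 hqa)
  rw [hdim] at h1
  exact not_add_one_le_of_eq_nat hn (h1.trans h2)

/-- Existence of a parameter element in the Jacobson radical. -/
theorem exists_mem_jacobson_supportDim_quotSMulTop_add_one_eq
    (h : ¬ Module.supportDim A N ≤ 0) :
    ∃ x ∈ Ring.jacobson A,
      Module.supportDim A (QuotSMulTop x N) + 1 = Module.supportDim A N := by
  let T : Set (Ideal A) := {q | ∃ p : PrimeSpectrum A, p.asIdeal = q ∧ p ∈ Module.support A N ∧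
    ringKrullDim (A ⧸ p.asIdeal) = Module.supportDim A N}
  have hTfin : T.Finite := by
    refine (Ideal.finite_minimalPrimes_of_isNoetherianRing A (Module.annihilator A N)).subset ?_
    rintro q ⟨p, rfl, hp, hdim⟩
    exact mem_minimalPrimes_of_dim_eq N p hp hdim
  have hTprime : ∀ q ∈ T, q.IsPrime := by
    rintro q ⟨p, rfl, _, _⟩
    exact p.2
  have hex : ∃ x ∈ Ring.jacobson A, ∀ q ∈ T, x ∉ q := by
    by_contra hcon
    push Not at hcon
    obtain ⟨q, ⟨p, rfl, hp, hdim⟩, hle⟩ :=
      DepthLoc.exists_le_of_forall_exists_mem T hTfin hTprime (Ring.jacobson A) hcon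
    have hmax : p.asIdeal.IsMaximal := isMaximal_of_jacobson_le hle
    have h0 : ringKrullDim (A ⧸ p.asIdeal) = 0 :=
      ringKrullDim_eq_zero_of_isField ((Ideal.Quotient.maximal_ideal_iff_isField_quotient _).1 hmax)
    rw [h0] at hdim
    exact h (le_of_eq hdim.symm)
  obtain ⟨x, hxJ, hx⟩ := hex
  refine ⟨x, hxJ, (supportDim_quotSMulTop_add_one_eq_iff N hxJ).2 ?_⟩
  intro p hp hdim
  exact hx p.asIdeal ⟨p, rfl, hp, hdim⟩

end Avoid

section Params

variable {A : Type u} [CommRing A]

/-- `M/(xs ++ ys)M ≃ (M/(xs)M)/(ys)(M/(xs)M)`. -/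
noncomputable def quotOfListAppendEquiv (M : Type u) [AddCommGroup M] [Module A M]
    (xs ys : List A) :
    (M ⧸ (Ideal.ofList (xs ++ ys) • ⊤ : Submodule A M)) ≃ₗ[A]
      (M ⧸ (Ideal.ofList xs • ⊤ : Submodule A M)) ⧸
        (Ideal.ofList ys • ⊤ : Submodule A (M ⧸ (Ideal.ofList xs • ⊤ : Submodule A M))) :=
  Submodule.quotEquivOfEq _ _ (by rw [Ideal.ofList_append, Submodule.sup_smul]) ≪≫ₗ
    (Submodule.quotientQuotientEquivQuotientSup (Ideal.ofList xs • ⊤)
      (Ideal.ofList ys • ⊤)).symm ≪≫ₗ
      Submodule.quotEquivOfEq _ _ (by rw [Submodule.map_smul'', Submodule.map_top,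
        Submodule.range_mkQ])

variable [IsNoetherianRing A] [Finite (MaximalSpectrum A)]

omit [Finite (MaximalSpectrum A)] in
/-- `dim M ≤ dim M/(xs)M + length xs` for `xs` in the Jacobson radical. -/
theorem supportDim_le_quotient_add_length (xs : List A) :
    ∀ (M : Type u) [AddCommGroup M] [Module A M] [Module.Finite A M],
      (∀ x ∈ xs, x ∈ Ring.jacobson A) →
      Module.supportDim A M ≤
        Module.supportDim A (M ⧸ (Ideal.ofList xs • (⊤ : Submodule A M))) + xs.length := by
  induction xs with
  | nil =>
    intro M _ _ _ _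
    rw [Ideal.ofList_nil, Submodule.bot_smul]
    simp [Module.supportDim_eq_of_equiv (Submodule.quotEquivOfEqBot (⊥ : Submodule A M) rfl)]
  | cons x xs ih =>
    intro M _ _ _ hmem
    have hxm : x ∈ Ring.jacobson A := hmem x (List.mem_cons_self)
    have hmem' : ∀ y ∈ xs, y ∈ Ring.jacobson A := fun y hy => hmem y (List.mem_cons_of_mem _ hy)
    rw [Module.supportDim_eq_of_equiv
      (Submodule.quotOfListConsSMulTopEquivQuotSMulTopInner M x xs)]
    have h1 := supportDim_le_quotSMulTop_add_one M hxm
    have h2 := ih (QuotSMulTop x M) hmem'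
    calc Module.supportDim A M ≤ Module.supportDim A (QuotSMulTop x M) + 1 := h1
      _ ≤ (Module.supportDim A (QuotSMulTop x M ⧸
            (Ideal.ofList xs • (⊤ : Submodule A (QuotSMulTop x M)))) + xs.length) + 1 := by
          gcongr
      _ = _ := by rw [List.length_cons, add_assoc]; push_cast; rfl

/-- Existence of a system of parameters in the Jacobson radical. -/
theorem exists_parameters (n : ℕ) :
    ∀ (M : Type u) [AddCommGroup M] [Module A M] [Module.Finite A M],
      Module.supportDim A M = (n : WithBot ℕ∞) →
      ∃ ys : List A, (∀ y ∈ ys, y ∈ Ring.jacobson A) ∧ ys.length = n ∧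
        Module.supportDim A (M ⧸ (Ideal.ofList ys • (⊤ : Submodule A M))) ≤ 0 := by
  induction n with
  | zero =>
    intro M _ _ _ hM
    refine ⟨[], by simp, rfl, ?_⟩
    rw [Ideal.ofList_nil, Submodule.bot_smul,
      Module.supportDim_eq_of_equiv (Submodule.quotEquivOfEqBot (⊥ : Submodule A M) rfl), hM]
    rfl
  | succ n ih =>
    intro M _ _ _ hM
    have hnot : ¬ Module.supportDim A M ≤ 0 := by
      rw [hM]
      intro h
      have : ((n + 1 : ℕ) : WithBot ℕ∞) ≤ ((0 : ℕ) : WithBot ℕ∞) := by exact_mod_cast h
      have : n + 1 ≤ 0 := by exact_mod_cast this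
      omega
    obtain ⟨x, hxJ, hx⟩ := exists_mem_jacobson_supportDim_quotSMulTop_add_one_eq M hnot
    have hdim : Module.supportDim A (QuotSMulTop x M) = (n : WithBot ℕ∞) := by
      apply withBot_add_one_cancel
      rw [hx, hM]; push_cast; rfl
    obtain ⟨ys, hys, hlen, hle⟩ := ih (QuotSMulTop x M) hdim
    refine ⟨x :: ys, ?_, by rw [List.length_cons, hlen], ?_⟩
    · intro y hy
      rcases List.mem_cons.1 hy with rfl | hy
      · exact hxJ
      · exact hys y hy
    · rw [Module.supportDim_eq_of_equiv
        (Submodule.quotOfListConsSMulTopEquivQuotSMulTopInner M x ys)]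
      exact hle

end Params

end Groth.Agent.Lib.Helper29.DimTheory
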