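import Groth.Agent.Lib.Helper29.Bass
import Groth.Agent.Lib.Helper46.ExtRegular
import Mathlib.LinearAlgebra.Matrix.Charpoly.LinearMap

/-!
# Finite injective dimension forces `dim A ≤ depth A` (Gorenstein ⇒ Cohen–Macaulay)
-/

set_option autoImplicit false
universe u

namespace Groth.Agent.Lib.Helper29.GorCM

open CategoryTheory Abelian RingTheory.Sequence Pointwise IsLocalRing
open Groth.Agent.Lib.Helper29

variable {A : Type u} [CommRing A]

/-- Elements of the annihilator of `N` kill `Ext(N, M)`. -/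
theorem smul_ext_eq_zero_of_mem_annihilator (N M : Type u) [AddCommGroup N] [Module A N]
    [AddCommGroup M] [Module A M] {a : A} (ha : a ∈ Module.annihilator A N) (i : ℕ)
    (e : Ext (ModuleCat.of A N) (ModuleCat.of A M) i) : a • e = 0 := by
  have h0 : a • 𝟙 (ModuleCat.of A N) = 0 := by
    ext n
    exact Module.mem_annihilator.1 ha n
  rw [← Ext.mk₀_id_comp e, ← Ext.smul_comp, ← Ext.mk₀_smul, h0, Ext.mk₀_zero, Ext.zero_comp]

/-- Annihilators along a short exact sequence. -/
theorem smul_ext_eq_zero_of_exact (M : Type u) [AddCommGroup M] [Module A M]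
    (N₁ N₂ N₃ : Type u) [AddCommGroup N₁] [Module A N₁] [AddCommGroup N₂] [Module A N₂]
    [AddCommGroup N₃] [Module A N₃] (f : N₁ →ₗ[A] N₂) (g : N₂ →ₗ[A] N₃)
    (hf : Function.Injective f) (hg : Function.Surjective g) (hfg : Function.Exact f g) (i : ℕ)
    (u₁ u₃ : A)
    (h1 : ∀ e : Ext (ModuleCat.of A N₁) (ModuleCat.of A M) i, u₁ • e = 0)
    (h3 : ∀ e : Ext (ModuleCat.of A N₃) (ModuleCat.of A M) i, u₃ • e = 0) :
    ∀ e : Ext (ModuleCat.of A N₂) (ModuleCat.of A M) i, (u₃ * u₁) • e = 0 := by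
  let S : ShortComplex (ModuleCat.{u} A) :=
    ModuleCat.shortComplexOfCompEqZero f g hfg.linearMap_comp_eq_zero
  have hS : S.ShortExact :=
    { exact := ModuleCat.shortComplex_exact _ hfg
      mono_f := (ModuleCat.mono_iff_injective _).2 hf
      epi_g := (ModuleCat.epi_iff_surjective _).2 hg }
  intro e
  have h0 : (Ext.mk₀ S.f).comp (u₁ • e) (zero_add i) = 0 := by
    rw [Ext.comp_smul]
    exact h1 _
  obtain ⟨e₃, he₃⟩ := Ext.contravariant_sequence_exact₂ hS (ModuleCat.of A M) (u₁ • e) h0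
  rw [mul_smul, ← he₃, ← Ext.comp_smul, h3 e₃, Ext.comp_zero]

/-- Transport of annihilation along a linear equivalence. -/
theorem smul_ext_eq_zero_of_equiv (M : Type u) [AddCommGroup M] [Module A M]
    (N N' : Type u) [AddCommGroup N] [Module A N] [AddCommGroup N'] [Module A N']
    (e : N ≃ₗ[A] N') (i : ℕ) (u : A)
    (h : ∀ z : Ext (ModuleCat.of A N') (ModuleCat.of A M) i, u • z = 0) :
    ∀ z : Ext (ModuleCat.of A N) (ModuleCat.of A M) i, u • z = 0 := by
  have key := smul_ext_eq_zero_of_exact M PUnit.{u + 1} N N' 0 e.toLinearMap ?_ e.surjective ?_ i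
    1 u (fun z => ?_) h
  · intro z
    have := key z
    rwa [mul_one] at this
  · intro a b _
    exact Subsingleton.elim _ _
  · intro n
    constructor
    · intro hn
      refine ⟨0, ?_⟩
      have : n = 0 := e.injective (by rw [map_zero]; exact hn)
      rw [this]; rfl
    · rintro ⟨_, rfl⟩
      simp
  · rw [one_smul]
    exact (Ischebeck.subsingleton_ext_of_subsingleton PUnit.{u + 1} M i).elim _ _

/-- Prime filtration, keeping track of a multiplier outside a fixed prime `q`. -/
theorem exists_notMem_smul_ext_eq_zero [IsNoetherianRing A]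
    (M : Type u) [AddCommGroup M] [Module A M] (I q : Ideal A) [hq : q.IsPrime] (n : ℕ)
    (h : ∀ q' : Ideal A, q'.IsPrime → I ≤ q' →
      ∃ u, u ∉ q ∧ ∀ e : Ext (ModuleCat.of A (A ⧸ q')) (ModuleCat.of A M) n, u • e = 0)
    (T : Type u) [AddCommGroup T] [Module A T] [hfin : Module.Finite A T]
    (hT : I ≤ Module.annihilator A T) :
    ∃ u, u ∉ q ∧ ∀ e : Ext (ModuleCat.of A T) (ModuleCat.of A M) n, u • e = 0 := by
  revert hT
  refine IsNoetherianRing.induction_on_isQuotientEquivQuotientPrime A hfin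
    (motive := fun N _ _ _ => I ≤ Module.annihilator A N →
      ∃ u, u ∉ q ∧ ∀ e : Ext (ModuleCat.of A N) (ModuleCat.of A M) n, u • e = 0) ?_ ?_ ?_
  · intro N _ _ _ _ _
    refine ⟨1, fun h1 => hq.ne_top ((Ideal.eq_top_iff_one q).2 h1), fun e => ?_⟩
    rw [one_smul]
    exact (Ischebeck.subsingleton_ext_of_subsingleton N M n).elim _ _
  · intro N _ _ _ p e hann
    obtain ⟨u, hu, hkill⟩ := h p.asIdeal p.2 (by
      intro a ha
      have h1 := hann ha
      rw [Module.mem_annihilator] at h1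
      have h2 : a • e.symm (1 : A ⧸ p.asIdeal) = 0 := h1 _
      have h3 : a • (1 : A ⧸ p.asIdeal) = 0 := by
        have := congrArg e h2
        rwa [map_smul, map_zero, LinearEquiv.apply_symm_apply] at this
      have h4 : Ideal.Quotient.mk p.asIdeal a = 0 := by
        rw [← h3]
        change _ = Ideal.Quotient.mk p.asIdeal (a * 1)
        rw [mul_one]
      exact Ideal.Quotient.eq_zero_iff_mem.1 h4)
    exact ⟨u, hu, smul_ext_eq_zero_of_equiv M N _ e n u hkill⟩
  · intro N₁ _ _ _ N₂ _ _ _ N₃ _ _ _ f g hf hg hfg h1 h3 hann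
    obtain ⟨u₁, hu₁, hk₁⟩ := h1 (by
      intro a ha
      have h := hann ha
      rw [Module.mem_annihilator] at h ⊢
      intro x
      apply hf
      rw [map_smul, map_zero]
      exact h _)
    obtain ⟨u₃, hu₃, hk₃⟩ := h3 (by
      intro a ha
      have h := hann ha
      rw [Module.mem_annihilator] at h ⊢
      intro x
      obtain ⟨y, rfl⟩ := hg x
      rw [← map_smul, h y, map_zero])
    refine ⟨u₃ * u₁, fun hmem => ?_, smul_ext_eq_zero_of_exact M N₁ N₂ N₃ f g hf hg hfg n u₁ u₃ hk₁ hk₃⟩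
    rcases hq.mem_or_mem hmem with h' | h'
    · exact hu₃ h'
    · exact hu₁ h'

/-- The determinant trick: if `u E ⊆ x E` for a finite module `E` then some `u ^ d + x c`
kills `E`. -/
theorem exists_pow_add_mul_mem_annihilator (E : Type u) [AddCommGroup E] [Module A E]
    [Module.Finite A E] (u x : A) (h : ∀ e : E, ∃ e' : E, u • e = x • e') :
    ∃ (d : ℕ) (c : A), u ^ d + x * c ∈ Module.annihilator A E := by
  have hrange : LinearMap.range (u • (LinearMap.id : E →ₗ[A] E)) ≤
      Ideal.span {x} • (⊤ : Submodule A E) := by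
    rintro _ ⟨e, rfl⟩
    obtain ⟨e', he'⟩ := h e
    change u • e ∈ _
    rw [he']
    exact Submodule.smul_mem_smul (Ideal.mem_span_singleton_self x) Submodule.mem_top
  obtain ⟨P, hmonic, -, hcoeff, haeval⟩ :=
    LinearMap.exists_monic_and_natDegree_eq_and_coeff_mem_pow_and_aeval_eq_zero A
      (u • (LinearMap.id : E →ₗ[A] E)) (Ideal.span {x}) hrange
  have h1 : u • (LinearMap.id : E →ₗ[A] E) = algebraMap A (Module.End A E) u := by
    rw [Module.algebraMap_end_eq_smul_id]
  rw [h1, Polynomial.aeval_algebraMap_apply_eq_algebraMap_eval] at haeval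
  have hmem : Polynomial.eval u P ∈ Module.annihilator A E := by
    rw [Module.mem_annihilator]
    intro e
    have := congrArg (fun φ : Module.End A E => φ e) haeval
    simpa [Module.algebraMap_end_apply] using this
  have hsplit : ∃ c, Polynomial.eval u P = u ^ P.natDegree + x * c := by
    rw [Polynomial.eval_eq_sum_range, Finset.sum_range_succ, hmonic.coeff_natDegree, one_mul]
    have hsum : ∑ i ∈ Finset.range P.natDegree, P.coeff i * u ^ i ∈ Ideal.span {x} := by
      refine Ideal.sum_mem _ fun i hi => Ideal.mul_mem_right _ _ ?_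
      have hi' : i < P.natDegree := Finset.mem_range.1 hi
      exact Ideal.pow_le_self (by omega) (hcoeff i)
    obtain ⟨c, hc⟩ := Ideal.mem_span_singleton'.1 hsum
    exact ⟨c, by rw [← hc]; ring⟩
  obtain ⟨c, hc⟩ := hsplit
  exact ⟨P.natDegree, c, hc ▸ hmem⟩


/-- No element outside `p` kills `Ext^n(A/p, M)`. -/
def Full (M : Type u) [AddCommGroup M] [Module A M] (n : ℕ) (p : Ideal A) : Prop :=
  ∀ s : A, (∀ e : Ext (ModuleCat.of A (A ⧸ p)) (ModuleCat.of A M) n, s • e = 0) → s ∈ p

theorem mem_annihilator_quotient_of_mem {q : Ideal A} {t : A} (ht : t ∈ q) :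
    t ∈ Module.annihilator A (A ⧸ q) := by
  rw [Module.mem_annihilator]
  intro z
  obtain ⟨b, rfl⟩ := Ideal.Quotient.mk_surjective z
  change Ideal.Quotient.mk q (t * b) = 0
  rw [Ideal.Quotient.eq_zero_iff_mem]
  exact Ideal.mul_mem_right _ _ ht

theorem isSMulRegular_quotient_prime (p : Ideal A) [hp : p.IsPrime] {x : A} (hxp : x ∉ p) :
    IsSMulRegular (A ⧸ p) x := by
  intro n₁ n₂ h12
  obtain ⟨a₁, rfl⟩ := Ideal.Quotient.mk_surjective n₁
  obtain ⟨a₂, rfl⟩ := Ideal.Quotient.mk_surjective n₂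
  have h' : Ideal.Quotient.mk p (x * a₁) = Ideal.Quotient.mk p (x * a₂) := h12
  rw [Ideal.Quotient.eq, ← mul_sub] at h'
  rw [Ideal.Quotient.eq]
  exact (hp.mem_or_mem h').resolve_left hxp

/-- The key step: fullness propagates from `p` to the minimal primes of `p + (x)`, one degree
higher. -/
theorem full_succ [IsNoetherianRing A] (M : Type u) [AddCommGroup M] [Module A M]
    [Module.Finite A M] (p : Ideal A) [hp : p.IsPrime] {x : A} (hxp : x ∉ p)
    (q : Ideal A) (hq : q ∈ (p ⊔ Ideal.span {x}).minimalPrimes) (n : ℕ) (h : Full M n p) :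
    Full M (n + 1) q := by
  intro s hs
  by_contra hsq
  have hqprime : q.IsPrime := hq.1.1
  have hIq : p ⊔ Ideal.span {x} ≤ q := hq.1.2
  obtain ⟨u, hu, hkill⟩ := exists_notMem_smul_ext_eq_zero M (p ⊔ Ideal.span {x}) q (n + 1) (by
    intro q' hq' hle
    by_cases hqq : q' ≤ q
    · have hge : q ≤ q' := hq.2 ⟨hq', hle⟩ hqq
      have heq : q' = q := le_antisymm hqq hge
      subst heq
      exact ⟨s, hsq, hs⟩
    · obtain ⟨t, ht, htq⟩ := Set.not_subset.1 hqq
      exact ⟨t, htq, fun e =>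
        smul_ext_eq_zero_of_mem_annihilator (A ⧸ q') M (mem_annihilator_quotient_of_mem ht) (n + 1) e⟩)
    (QuotSMulTop x (A ⧸ p)) (by
    rw [sup_le_iff]
    constructor
    · intro a ha
      rw [Module.mem_annihilator]
      intro t
      obtain ⟨t', rfl⟩ := Submodule.mkQ_surjective _ t
      rw [← map_smul, Module.mem_annihilator.1 (mem_annihilator_quotient_of_mem ha) t', map_zero]
    · rw [Ideal.span_singleton_le_iff_mem, Module.mem_annihilator]
      intro t
      obtain ⟨t', rfl⟩ := Submodule.mkQ_surjective _ t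
      rw [← map_smul]
      exact (Submodule.Quotient.mk_eq_zero _).2
        (Submodule.smul_mem_pointwise_smul _ _ _ Submodule.mem_top))
  have hregN : IsSMulRegular (A ⧸ p) x := isSMulRegular_quotient_prime p hxp
  have hS : (ModuleCat.smulShortComplex (ModuleCat.of A (A ⧸ p)) x).ShortExact :=
    IsSMulRegular.smulShortComplex_shortExact (M := ModuleCat.of A (A ⧸ p)) hregN
  have hfin : Module.Finite A (Ext (ModuleCat.of A (A ⧸ p)) (ModuleCat.of A M) n) :=
    ModuleCat.finite_ext A (ModuleCat.of A (A ⧸ p)) (ModuleCat.of A M) n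
  have hdiv : ∀ e : Ext (ModuleCat.of A (A ⧸ p)) (ModuleCat.of A M) n,
      ∃ e' : Ext (ModuleCat.of A (A ⧸ p)) (ModuleCat.of A M) n, u • e = x • e' := by
    intro e
    have h0 : hS.extClass.comp (u • e) (show 1 + n = n + 1 by omega) = 0 :=
      (Ext.comp_smul hS.extClass e (show 1 + n = n + 1 by omega) u).trans (hkill _)
    obtain ⟨e₂, he₂⟩ := Ext.contravariant_sequence_exact₁ hS (ModuleCat.of A M) (u • e)
      (n₁ := n + 1) (by omega) h0
    obtain ⟨e₂', he₂'⟩ : ∃ e₂' : Ext (ModuleCat.of A (A ⧸ p)) (ModuleCat.of A M) n,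
        (Ext.mk₀ (x • 𝟙 (ModuleCat.of A (A ⧸ p)))).comp e₂' (zero_add n) = u • e := ⟨e₂, he₂⟩
    refine ⟨e₂', ?_⟩
    rw [← he₂', Ext.mk₀_smul, Ext.smul_comp, Ext.mk₀_id_comp]
  obtain ⟨d, c, hdc⟩ := exists_pow_add_mul_mem_annihilator _ u x hdiv
  have hmem : u ^ d + x * c ∈ p := h _ (fun e => Module.mem_annihilator.1 hdc e)
  have hxq : x ∈ q := hIq (Ideal.mem_sup_right (Ideal.mem_span_singleton_self x))
  have hpow : u ^ d ∈ q := by
    have h1 : u ^ d + x * c ∈ q := hIq (Ideal.mem_sup_left hmem)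
    have h2 : x * c ∈ q := Ideal.mul_mem_right _ _ hxq
    have := Ideal.sub_mem _ h1 h2
    rwa [add_sub_cancel_right] at this
  exact hu (hqprime.mem_of_pow_mem d hpow)

/-- Associated primes are full in degree `0`. -/
theorem full_zero_of_mem_ass [IsNoetherianRing A] (M : Type u) [AddCommGroup M] [Module A M]
    (p : Ideal A)
    (hp : p ∈ associatedPrimes A M) : Full M 0 p := by
  rw [AssociatedPrimes.mem_iff, isAssociatedPrime_iff_exists_injective_linearMap] at hp
  obtain ⟨hprime, f, hf⟩ := hp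
  intro s hs
  have h1 := hs (Ext.mk₀ (ModuleCat.ofHom f))
  rw [← Ext.mk₀_smul] at h1
  have h2 : s • ModuleCat.ofHom f = 0 := (Ext.mk₀_bijective _ _).1 (by rw [h1, Ext.mk₀_zero])
  have h3 : s • f (1 : A ⧸ p) = 0 := by
    have := congrArg (fun g => g.hom (1 : A ⧸ p)) h2
    simpa using this
  rw [← map_smul] at h3
  have h4 : s • (1 : A ⧸ p) = 0 := hf (by rw [h3, map_zero])
  have h5 : Ideal.Quotient.mk p s = 0 := by
    rw [← h4]
    change _ = Ideal.Quotient.mk p (s * 1)
    rw [mul_one]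
  exact Ideal.Quotient.eq_zero_iff_mem.1 h5


theorem enat_lt_sub_of_add_le {c : ℕ∞} {n r : ℕ} (hn : n ≤ r)
    (h : ((n + 1 : ℕ) : ℕ∞) + c ≤ (r : ℕ∞)) : c < ((r - n : ℕ) : ℕ∞) := by
  induction c with
  | top => simp at h
  | coe c =>
    have h' : n + 1 + c ≤ r := by exact_mod_cast h
    have : c < r - n := by omega
    exact_mod_cast this

/-- If `Ext^i(k, M) = 0` for `i > r` and `p` is full in degree `n` then `n + dim A/p ≤ r`. -/
theorem add_coheight_le [IsLocalRing A] [IsNoetherianRing A]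
    (M : Type u) [AddCommGroup M] [Module A M] [Module.Finite A M] (r : ℕ)
    (hr : ∀ i, r < i →
      Subsingleton (Ext (ModuleCat.of A (A ⧸ maximalIdeal A)) (ModuleCat.of A M) i))
    (I : Ideal A) : ∀ (hI : I.IsPrime) (n : ℕ), Full M n I →
      (n : ℕ∞) + Order.coheight (⟨I, hI⟩ : PrimeSpectrum A) ≤ (r : ℕ∞) := by
  refine WellFoundedGT.induction (motive := fun I => ∀ (hI : I.IsPrime) (n : ℕ), Full M n I →
      (n : ℕ∞) + Order.coheight (⟨I, hI⟩ : PrimeSpectrum A) ≤ (r : ℕ∞)) I ?_
  intro p ih hp n hfull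
  have hnr : n ≤ r := by
    by_contra hcon
    have hsub := Bass.subsingleton_ext_of_residueField M (r + 1) (fun i hi => hr i (by omega))
      (A ⧸ p) n (by omega)
    have h1 : (1 : A) ∈ p := hfull 1 (fun e => by rw [one_smul]; exact hsub.elim _ _)
    exact hp.ne_top ((Ideal.eq_top_iff_one p).2 h1)
  have hco : Order.coheight (⟨p, hp⟩ : PrimeSpectrum A) ≤ ((r - n : ℕ) : ℕ∞) := by
    rw [Order.coheight_le_coe_iff]
    intro y hy
    have hlt : p < y.asIdeal := hy
    obtain ⟨x, hxy, hxp⟩ := Set.exists_of_ssubset hlt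
    have hle : p ⊔ Ideal.span {x} ≤ y.asIdeal :=
      sup_le hlt.le ((Ideal.span_singleton_le_iff_mem _).2 hxy)
    obtain ⟨q, hq, hqy⟩ := Ideal.exists_minimalPrimes_le hle
    have hqprime : q.IsPrime := hq.1.1
    have hpq : p < q := by
      refine lt_of_le_of_ne (le_sup_left.trans hq.1.2) ?_
      intro hpq
      apply hxp
      rw [hpq]
      exact hq.1.2 (Ideal.mem_sup_right (Ideal.mem_span_singleton_self x))
    have hfull' : Full M (n + 1) q := full_succ M p (hp := hp) hxp q hq n hfull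
    have h1 := ih q hpq hqprime (n + 1) hfull'
    have h2 : Order.coheight y ≤ Order.coheight (⟨q, hqprime⟩ : PrimeSpectrum A) :=
      Order.coheight_anti (show (⟨q, hqprime⟩ : PrimeSpectrum A) ≤ y from hqy)
    exact enat_lt_sub_of_add_le hnr ((add_le_add le_rfl h2).trans h1)
  calc (n : ℕ∞) + Order.coheight (⟨p, hp⟩ : PrimeSpectrum A)
      ≤ (n : ℕ∞) + ((r - n : ℕ) : ℕ∞) := add_le_add le_rfl hco
    _ = (r : ℕ∞) := by
      have : n + (r - n) = r := by omega
      exact_mod_cast this

/-- `dim A ≤ r` as soon as `Ext^i(k, A) = 0` for `i > r`. -/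
theorem ringKrullDim_le_of_ext_vanish [IsLocalRing A] [IsNoetherianRing A] (r : ℕ)
    (hr : ∀ i, r < i →
      Subsingleton (Ext (ModuleCat.of A (A ⧸ maximalIdeal A)) (ModuleCat.of A A) i)) :
    ringKrullDim A ≤ (r : WithBot ℕ∞) := by
  unfold ringKrullDim
  rw [Order.krullDim_eq_iSup_coheight]
  refine iSup_le fun y => ?_
  obtain ⟨q, hq, hqy⟩ := Ideal.exists_minimalPrimes_le (bot_le : (⊥ : Ideal A) ≤ y.asIdeal)
  have hqprime : q.IsPrime := hq.1.1
  have hass : q ∈ associatedPrimes A A := by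
    have hann : Module.annihilator A A = ⊥ := by
      rw [eq_bot_iff]
      intro a ha
      have := Module.mem_annihilator.1 ha (1 : A)
      simpa using this
    have := Module.associatedPrimes.minimalPrimes_annihilator_subset_associatedPrimes A A
    exact this (hann ▸ hq)
  have h1 := add_coheight_le A r hr q hqprime 0 (full_zero_of_mem_ass A q hass)
  have h2 : Order.coheight y ≤ Order.coheight (⟨q, hqprime⟩ : PrimeSpectrum A) :=
    Order.coheight_anti (show (⟨q, hqprime⟩ : PrimeSpectrum A) ≤ y from hqy)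
  have h3 : Order.coheight y ≤ (r : ℕ∞) := by
    refine h2.trans (le_trans ?_ h1)
    simp
  exact_mod_cast h3


/-- If `Ext^i(k, M) = 0` for `i > r` and `Ext^r(k, M) ≠ 0` then `r ≤ depth A`. -/
theorem le_depth_of_ext_ne [IsLocalRing A] [IsNoetherianRing A]
    (M : Type u) [AddCommGroup M] [Module A M] [Module.Finite A M] (r : ℕ)
    (hr : ∀ i, r < i →
      Subsingleton (Ext (ModuleCat.of A (A ⧸ maximalIdeal A)) (ModuleCat.of A M) i))
    (hne : ¬ Subsingleton (Ext (ModuleCat.of A (A ⧸ maximalIdeal A)) (ModuleCat.of A M) r)) :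
    (r : ℕ∞) ≤ LocCoh.depth A A := by
  obtain ⟨xs, hreg, hmem, hmax, hlen⟩ := DepthLib.exists_maximal_regular (maximalIdeal A) A
    (maximalIdeal_smul_top_ne_top A A)
  have hzd : ∀ x ∈ maximalIdeal A,
      ¬ IsSMulRegular (A ⧸ (Ideal.ofList xs • (⊤ : Submodule A A))) x := by
    intro x hx hxreg
    apply hmax x hx
    rw [isWeaklyRegular_append_iff]
    exact ⟨hreg, (isWeaklyRegular_singleton_iff _ x).2 hxreg⟩
  have hass := (forall_not_isSMulRegular_iff_maximalIdeal_mem_ass A
    (A ⧸ (Ideal.ofList xs • (⊤ : Submodule A A)))).1 hzd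
  rw [AssociatedPrimes.mem_iff, isAssociatedPrime_iff_exists_injective_linearMap] at hass
  obtain ⟨-, f, hf⟩ := hass
  unfold LocCoh.depth
  rw [← hlen]
  by_contra hcon
  have hlt : xs.length < r := by
    have : ¬ (r ≤ xs.length) := fun h => hcon (by exact_mod_cast h)
    omega
  apply hne
  -- `Ext^r(A/(xs), M) = 0`
  have hN : Subsingleton (Ext (ModuleCat.of A (A ⧸ (Ideal.ofList xs • (⊤ : Submodule A A))))
      (ModuleCat.of A M) r) := by
    have h46 := (Groth.Agent.Lib.Helper46.ExtRegular.ext_quot_regular M xs hreg).1 r hlt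
    have hsub : Subsingleton (Ext (ModuleCat.of A (A ⧸ Ideal.ofList xs)) (ModuleCat.of A M) r) :=
      ⟨fun a b => by rw [h46 a, h46 b]⟩
    refine Bass.subsingleton_ext_of_equiv M _ _ (Submodule.quotEquivOfEq _ _ ?_) r hsub
    rw [smul_eq_mul, Ideal.mul_top]
  have hfg : Function.Exact f (LinearMap.range f).mkQ := LinearMap.exact_map_mkQ_range f
  let S : ShortComplex (ModuleCat.{u} A) :=
    ModuleCat.shortComplexOfCompEqZero f (LinearMap.range f).mkQ hfg.linearMap_comp_eq_zero
  have hS : S.ShortExact :=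
    { exact := ModuleCat.shortComplex_exact _ hfg
      mono_f := (ModuleCat.mono_iff_injective _).2 hf
      epi_g := (ModuleCat.epi_iff_surjective _).2 (Submodule.mkQ_surjective _) }
  have hC : Subsingleton (Ext (ModuleCat.of A
      ((A ⧸ (Ideal.ofList xs • (⊤ : Submodule A A))) ⧸ LinearMap.range f))
      (ModuleCat.of A M) (r + 1)) :=
    Bass.subsingleton_ext_of_residueField M (r + 1) (fun i hi => hr i (by omega)) _ (r + 1) le_rfl
  constructor
  have h : ∀ e : Ext (ModuleCat.of A (A ⧸ maximalIdeal A)) (ModuleCat.of A M) r, e = 0 := by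
    intro e
    have h0 : hS.extClass.comp e (show 1 + r = r + 1 by omega) = 0 := hC.elim _ _
    obtain ⟨e₂, he₂⟩ := Ext.contravariant_sequence_exact₁ hS (ModuleCat.of A M) e
      (n₁ := r + 1) (by omega) h0
    rw [← he₂, hN.elim e₂ 0, Ext.comp_zero]
  intro a b
  rw [h a, h b]


/-- A Noetherian local ring of finite injective dimension over itself is Cohen–Macaulay. -/
theorem supportDim_eq_depth_of_hasInjectiveDimensionLT [IsLocalRing A] [IsNoetherianRing A]
    (n₀ : ℕ) (h : HasInjectiveDimensionLT (ModuleCat.of A A) n₀) :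
    Module.supportDim A A = ((LocCoh.depth A A : ℕ∞) : WithBot ℕ∞) := by
  classical
  have hex : ∃ N : ℕ, ∀ i, N ≤ i →
      Subsingleton (Ext (ModuleCat.of A (A ⧸ maximalIdeal A)) (ModuleCat.of A A) i) :=
    ⟨n₀, fun i hi => HasInjectiveDimensionLT.subsingleton (ModuleCat.of A A) n₀ i hi _⟩
  have hP := Nat.find_spec hex
  have hmin := fun m => Nat.find_min hex (m := m)
  generalize Nat.find hex = N₁ at hP hmin
  cases N₁ with
  | zero =>
    exfalso
    have hsub := Bass.subsingleton_ext_of_residueField A 0 hP A 0 le_rfl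
    have h1 : (𝟙 (ModuleCat.of A A)) = 0 :=
      (Ext.mk₀_bijective _ _).1 (hsub.elim _ _)
    have h2 := congrArg (fun g => g.hom (1 : A)) h1
    simp at h2
  | succ r =>
    have hr : ∀ i, r < i →
        Subsingleton (Ext (ModuleCat.of A (A ⧸ maximalIdeal A)) (ModuleCat.of A A) i) :=
      fun i hi => hP i hi
    have hne : ¬ Subsingleton (Ext (ModuleCat.of A (A ⧸ maximalIdeal A)) (ModuleCat.of A A) r) := by
      intro hsub
      apply hmin r (by omega)
      intro i hi
      rcases Nat.eq_or_lt_of_le hi with rfl | hlt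
      · exact hsub
      · exact hr i hlt
    have h1 := ringKrullDim_le_of_ext_vanish r hr
    have h2 := le_depth_of_ext_ne A r hr hne
    rw [Module.supportDim_self_eq_ringKrullDim]
    refine le_antisymm (h1.trans (by exact_mod_cast h2)) ?_
    rw [← Module.supportDim_self_eq_ringKrullDim]
    exact DepthLib.depth_le_supportDim A A


end Groth.Agent.Lib.Helper29.GorCM
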