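import Groth.Agent.Lib.Helper29.TopDimLocal

set_option autoImplicit false
universe u

namespace Groth.Agent.Lib.Helper29

open TopologicalSpace Order Set Topology

variable {X : Type u} [TopologicalSpace X]

theorem withBot_enat_le_zero_of_lt_one (a : WithBot ℕ∞) (h : a < 1) : a ≤ 0 := by
  induction a using WithBot.recBotCoe with
  | bot => exact bot_le
  | coe n =>
    have h1 : n < 1 := by exact_mod_cast h
    rw [Order.lt_one_iff] at h1
    rw [h1]; rfl

/-- closure of a point as an irreducible closed set -/
def pointClosure (x : X) : IrreducibleCloseds X where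
  carrier := closure {x}
  isIrreducible' := isIrreducible_singleton.closure
  isClosed' := isClosed_closure

theorem topologicalKrullDim_nonneg [Nonempty X] : 0 ≤ topologicalKrullDim X := by
  unfold topologicalKrullDim
  have : Nonempty (IrreducibleCloseds X) := ⟨pointClosure (Classical.arbitrary X)⟩
  exact Order.krullDim_nonneg

/-- In a Noetherian T0 space of dimension ≤ 0, all irreducible closed sets are singletons. -/
theorem irreducibleCloseds_eq_singleton_of_dim_le_zero [NoetherianSpace X] [T0Space X]
    (h : topologicalKrullDim X ≤ 0) (Z : IrreducibleCloseds X) (x : X) (hx : x ∈ (Z : Set X)) :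
    (Z : Set X) = {x} := by
  unfold topologicalKrullDim at h
  rw [Order.krullDim_nonpos_iff_forall_isMin] at h
  obtain ⟨y, hyZ, hyc⟩ := exists_closed_point_mem Z.isClosed Z.isIrreducible.nonempty
  let Zy : IrreducibleCloseds X :=
    { carrier := {y}
      isIrreducible' := isIrreducible_singleton
      isClosed' := hyc }
  have hle : Zy ≤ Z := by
    intro z hz
    have : z = y := hz
    rw [this]; exact hyZ
  have hge : Z ≤ Zy := h Z hle
  have hxy : x = y := hge hx
  rw [hxy]
  exact Set.Subset.antisymm hge hle

theorem t1Space_of_dim_le_zero [NoetherianSpace X] [T0Space X]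
    (h : topologicalKrullDim X ≤ 0) : T1Space X := by
  refine ⟨fun x => ?_⟩
  have := irreducibleCloseds_eq_singleton_of_dim_le_zero h (pointClosure x) x
    (subset_closure (Set.mem_singleton x))
  rw [← this]
  exact (pointClosure x).isClosed

theorem finite_of_dim_le_zero [NoetherianSpace X] [T0Space X]
    (h : topologicalKrullDim X ≤ 0) : Finite X := by
  rw [← Set.finite_univ_iff, ← sUnion_irreducibleComponents]
  apply Set.Finite.sUnion NoetherianSpace.finite_irreducibleComponents
  intro Z hZ
  have hirr : IsIrreducible Z := hZ.1
  let Z' : IrreducibleCloseds X :=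
    { carrier := Z
      isIrreducible' := hirr
      isClosed' := isClosed_of_mem_irreducibleComponents Z hZ }
  obtain ⟨x, hx⟩ := hirr.nonempty
  have := irreducibleCloseds_eq_singleton_of_dim_le_zero h Z' x hx
  have hZx : Z = {x} := this
  rw [hZx]
  exact Set.finite_singleton x

theorem dim_eq_zero_iff_finite_discrete [NoetherianSpace X] [T0Space X] [Nonempty X] :
    topologicalKrullDim X = 0 ↔ Finite X ∧ DiscreteTopology X := by
  constructor
  · intro h
    have hfin : Finite X := finite_of_dim_le_zero h.le
    have : T1Space X := t1Space_of_dim_le_zero h.le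
    exact ⟨hfin, inferInstance⟩
  · rintro ⟨-, hd⟩
    exact le_antisymm (topologicalKrullDim_zero_of_discreteTopology X) topologicalKrullDim_nonneg

theorem isOpen_singleton_iff_localDim_eq_zero [NoetherianSpace X] [T0Space X] (x : X) :
    IsOpen ({x} : Set X) ↔ FlatMor.localDim X x = 0 := by
  constructor
  · intro h
    apply le_antisymm
    · let U : TopologicalSpace.Opens X := ⟨{x}, h⟩
      refine (localDim_le_dim_of_mem x U rfl).trans ?_
      have : Subsingleton (U : Set X) := by
        refine ⟨fun a b => ?_⟩
        ext
        rw [show (a : X) = x from a.2, show (b : X) = x from b.2]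
      have : DiscreteTopology (U : Set X) := inferInstance
      exact topologicalKrullDim_zero_of_discreteTopology _
    · unfold FlatMor.localDim
      refine le_iInf fun U => ?_
      have : Nonempty (U.1 : Set X) := ⟨⟨x, U.2⟩⟩
      exact topologicalKrullDim_nonneg
  · intro h
    have hlt : FlatMor.localDim X x < 1 := by rw [h]; exact zero_lt_one
    unfold FlatMor.localDim at hlt
    rw [iInf_lt_iff] at hlt
    obtain ⟨U, hU⟩ := hlt
    have hU0 : topologicalKrullDim (U.1 : Set X) ≤ 0 := withBot_enat_le_zero_of_lt_one _ hU
    have : T1Space (U.1 : Set X) := t1Space_of_dim_le_zero hU0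
    have : Finite (U.1 : Set X) := finite_of_dim_le_zero hU0
    have hopen : IsOpen ({⟨x, U.2⟩} : Set (U.1 : Set X)) := isOpen_discrete _
    have := U.1.isOpen.isOpenMap_subtype_val _ hopen
    simpa using this

end Groth.Agent.Lib.Helper29
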