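import Groth.Prelude.Def_Flat
import Mathlib.Topology.KrullDimension
import Mathlib.Topology.NoetherianSpace
import Mathlib.Topology.Semicontinuity.Basic

set_option autoImplicit false
universe u

namespace Groth.Agent.Lib.Helper29

open TopologicalSpace Order Set Topology

variable {X : Type u} [TopologicalSpace X]

/-- A chain of irreducible closed subsets whose head meets an open set `U` restricts to `U`. -/
theorem length_le_dim_of_open (U : Set X) (hU : IsOpen U)
    (p : LTSeries (IrreducibleCloseds X)) (x : X) (hx : x ∈ (p.head : Set X)) (hxU : x ∈ U) :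
    (p.length : WithBot ℕ∞) ≤ topologicalKrullDim U := by
  let e := IrreducibleCloseds.orderIsoOfIsOpenEmbedding (Subtype.val : U → X)
    hU.isOpenEmbedding_subtypeVal
  have hne : ∀ i : Fin (p.length + 1), ((Subtype.val : U → X) ⁻¹' (p i : Set X)).Nonempty := by
    intro i
    refine ⟨⟨x, hxU⟩, ?_⟩
    have : p.head ≤ p i := p.head_le i
    exact this hx
  let L : LTSeries (IrreducibleCloseds U) :=
    { length := p.length
      toFun := fun i => e.symm ⟨p i, hne i⟩
      step := fun i => by
        apply e.symm.strictMono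
        exact p.step i }
  exact L.length_le_krullDim

/-- Preimage in a subspace `S` of an irreducible set contained in `S` is irreducible. -/
theorem isIrreducible_preimage_val_of_subset (S Z : Set X) (hZ : IsIrreducible Z) (hZS : Z ⊆ S) :
    IsIrreducible ((Subtype.val : S → X) ⁻¹' Z) := by
  obtain ⟨⟨z, hz⟩, hpre⟩ := hZ
  refine ⟨⟨⟨z, hZS hz⟩, hz⟩, ?_⟩
  intro u v hu hv ⟨a, ha, hau⟩ ⟨b, hb, hbv⟩
  obtain ⟨u', hu', rfl⟩ := isOpen_induced_iff.mp hu
  obtain ⟨v', hv', rfl⟩ := isOpen_induced_iff.mp hv
  obtain ⟨c, hc, hcu, hcv⟩ := hpre u' v' hu' hv' ⟨a.1, ha, hau⟩ ⟨b.1, hb, hbv⟩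
  exact ⟨⟨c, hZS hc⟩, hc, hcu, hcv⟩

/-- A chain of irreducible closed subsets whose last term lies in `S` restricts to `S`. -/
theorem length_le_dim_of_subset (S : Set X)
    (p : LTSeries (IrreducibleCloseds X)) (h : (p.last : Set X) ⊆ S) :
    (p.length : WithBot ℕ∞) ≤ topologicalKrullDim S := by
  have hsub : ∀ i : Fin (p.length + 1), (p i : Set X) ⊆ S := by
    intro i
    have : p i ≤ p.last := p.monotone (Fin.le_last i)
    exact fun y hy => h (this hy)
  let T : Fin (p.length + 1) → IrreducibleCloseds S := fun i =>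
    { carrier := (Subtype.val : S → X) ⁻¹' (p i : Set X)
      isIrreducible' := isIrreducible_preimage_val_of_subset S _ (p i).isIrreducible (hsub i)
      isClosed' := (p i).isClosed.preimage continuous_subtype_val }
  let L : LTSeries (IrreducibleCloseds S) :=
    { length := p.length
      toFun := T
      step := fun i => by
        have hlt : p i.castSucc < p i.succ := p.step i
        refine lt_of_le_of_ne (a := T i.castSucc) (b := T i.succ) ?_ ?_
        · intro y hy
          exact hlt.le hy
        · intro heq
          apply hlt.ne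
          apply IrreducibleCloseds.ext
          apply Set.Subset.antisymm (hlt.le)
          intro y hy
          have hyS : y ∈ S := hsub _ hy
          have : (⟨y, hyS⟩ : S) ∈ (T i.succ : Set S) := hy
          rw [← heq] at this
          exact this }
  exact L.length_le_krullDim

theorem topologicalKrullDim_le_iff_forall_chain (d : WithBot ℕ∞) :
    topologicalKrullDim X ≤ d ↔
      ∀ p : LTSeries (IrreducibleCloseds X), (p.length : WithBot ℕ∞) ≤ d := by
  unfold topologicalKrullDim Order.krullDim
  exact iSup_le_iff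

theorem exists_mem_head (p : LTSeries (IrreducibleCloseds X)) : ∃ x, x ∈ (p.head : Set X) :=
  p.head.isIrreducible.nonempty

/-- Open cover. -/
theorem topologicalKrullDim_eq_iSup_of_open_cover (ι : Type*)
    (U : ι → TopologicalSpace.Opens X) (hcov : ⨆ i, U i = ⊤) :
    topologicalKrullDim X = ⨆ i, topologicalKrullDim (U i) := by
  apply le_antisymm
  · rw [topologicalKrullDim_le_iff_forall_chain]
    intro p
    obtain ⟨x, hx⟩ := exists_mem_head p
    have hxU : x ∈ ⨆ i, U i := by rw [hcov]; trivial
    obtain ⟨i, hi⟩ := TopologicalSpace.Opens.mem_iSup.mp hxU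
    exact (length_le_dim_of_open (U i : Set X) (U i).isOpen p x hx hi).trans
      (le_iSup (fun i => topologicalKrullDim (U i)) i)
  · exact iSup_le fun i => topologicalKrullDim_subspace_le X (U i : Set X)

/-- An irreducible closed set covered by a finite family of closed sets lies in one of them. -/
theorem IsIrreducible.subset_of_finite_closed_cover {Z : Set X} (hZ : IsIrreducible Z)
    {ι : Type*} (F : Set ι) (hF : F.Finite) (Y : ι → Set X) (hY : ∀ i, IsClosed (Y i))
    (hcov : Z ⊆ ⋃ i ∈ F, Y i) : ∃ i ∈ F, Z ⊆ Y i := by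
  classical
  have := isIrreducible_iff_sUnion_isClosed.mp hZ (hF.toFinset.image Y)
    (by
      intro z hz
      simp only [Finset.mem_image, Set.Finite.mem_toFinset] at hz
      obtain ⟨i, -, rfl⟩ := hz
      exact hY i)
    (by
      intro z hz
      obtain ⟨i, hi⟩ := Set.mem_iUnion.mp (hcov hz)
      obtain ⟨hiF, hzi⟩ := Set.mem_iUnion.mp hi
      refine Set.mem_sUnion.mpr ⟨Y i, ?_, hzi⟩
      simp only [Finset.coe_image, Set.Finite.coe_toFinset, Set.mem_image]
      exact ⟨i, hiF, rfl⟩)
  obtain ⟨z, hz, hZz⟩ := this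
  simp only [Finset.mem_image, Set.Finite.mem_toFinset] at hz
  obtain ⟨i, hiF, rfl⟩ := hz
  exact ⟨i, hiF, hZz⟩

/-- Locally finite closed cover. -/
theorem topologicalKrullDim_eq_iSup_of_locallyFinite_closed_cover (ι : Type*)
    (Y : ι → Set X) (hY : ∀ i, IsClosed (Y i)) (hlf : LocallyFinite Y)
    (hcov : ⋃ i, Y i = Set.univ) :
    topologicalKrullDim X = ⨆ i, topologicalKrullDim (Y i) := by
  apply le_antisymm
  · rw [topologicalKrullDim_le_iff_forall_chain]
    intro p
    obtain ⟨x, hx⟩ := exists_mem_head p
    obtain ⟨W, hW, hfin⟩ := hlf x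
    obtain ⟨U, hUW, hUo, hxU⟩ := mem_nhds_iff.mp hW
    have hxlast : x ∈ (p.last : Set X) := p.head_le_last hx
    let Y' : Option ι → Set X := fun o => Option.elim o ((p.last : Set X) ∩ Uᶜ) Y
    have hY' : ∀ o, IsClosed (Y' o) := by
      intro o
      cases o with
      | none => exact p.last.isClosed.inter hUo.isClosed_compl
      | some i => exact hY i
    let F' : Set (Option ι) := insert none (some '' {i | (Y i ∩ W).Nonempty})
    have hF' : F'.Finite := (hfin.image some).insert none
    have hcov' : (p.last : Set X) ⊆ ⋃ o ∈ F', Y' o := by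
      intro z hz
      by_cases hzU : z ∈ U
      · have : z ∈ ⋃ i, Y i := by rw [hcov]; trivial
        obtain ⟨i, hi⟩ := Set.mem_iUnion.mp this
        refine Set.mem_biUnion (x := some i) ?_ hi
        exact Set.mem_insert_of_mem _ ⟨i, ⟨z, hi, hUW hzU⟩, rfl⟩
      · exact Set.mem_biUnion (x := none) (Set.mem_insert _ _) ⟨hz, hzU⟩
    obtain ⟨o, -, hsub⟩ := IsIrreducible.subset_of_finite_closed_cover p.last.isIrreducible F' hF' Y' hY' hcov'
    cases o with
    | none =>
      exfalso
      exact (hsub hxlast).2 hxU
    | some i =>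
      exact (length_le_dim_of_subset (Y i) p hsub).trans
        (le_iSup (fun i => topologicalKrullDim (Y i)) i)
  · exact iSup_le fun i => topologicalKrullDim_subspace_le X (Y i)

end Groth.Agent.Lib.Helper29
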