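import Groth.Prelude.Def_CAlg
import Groth.Agent.Lib.Helper29.AssDepth
import Mathlib.RingTheory.Nakayama

set_option autoImplicit false
universe u v

namespace Groth.Agent.Lib.Helper29

open IsLocalRing RingTheory.Sequence

/-- Nakayama: for a nontrivial finite module over a local ring, `𝔪 M ≠ M`. -/
theorem maximalIdeal_smul_top_ne_top (A : Type u) [CommRing A] [IsLocalRing A]
    (M : Type v) [AddCommGroup M] [Module A M] [Module.Finite A M] [Nontrivial M] :
    maximalIdeal A • (⊤ : Submodule A M) ≠ ⊤ := by
  intro h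
  have : (⊤ : Submodule A M) = ⊥ :=
    Submodule.eq_bot_of_le_smul_of_le_jacobson_bot (maximalIdeal A) ⊤ Module.Finite.fg_top
      (by rw [h]) (maximalIdeal_le_jacobson _)
  exact top_ne_bot this

/-- depth zero iff every element of the maximal ideal is a zero divisor (for `𝔪 M ≠ M`). -/
theorem depth_eq_zero_iff_forall_not_isSMulRegular (A : Type u) [CommRing A] [IsLocalRing A]
    (M : Type v) [AddCommGroup M] [Module A M] (hM : maximalIdeal A • (⊤ : Submodule A M) ≠ ⊤) :
    LocCoh.depth A M = 0 ↔ ∀ x ∈ maximalIdeal A, ¬ IsSMulRegular M x := by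
  unfold LocCoh.depth LocCoh.idealDepth
  rw [if_neg hM]
  constructor
  · intro h x hx hreg
    have h1 : IsWeaklyRegular M [x] ∧ ∀ r ∈ [x], r ∈ maximalIdeal A := by
      refine ⟨?_, by simpa using hx⟩
      rw [isWeaklyRegular_cons_iff]
      exact ⟨hreg, IsWeaklyRegular.nil _ _⟩
    have h2 : (([x] : List A).length : ℕ∞) ≤
        ⨆ (rs : List A) (_ : IsWeaklyRegular M rs ∧ ∀ r ∈ rs, r ∈ maximalIdeal A),
          (rs.length : ℕ∞) :=
      le_iSup₂ (f := fun (rs : List A)
        (_ : IsWeaklyRegular M rs ∧ ∀ r ∈ rs, r ∈ maximalIdeal A) => (rs.length : ℕ∞)) [x] h1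
    rw [h] at h2
    simp at h2
  · intro h
    rw [← le_zero_iff]
    refine iSup₂_le ?_
    rintro rs ⟨hreg, hmem⟩
    cases rs with
    | nil => simp
    | cons x rs' =>
      exfalso
      rw [isWeaklyRegular_cons_iff] at hreg
      exact h x (hmem x (by simp)) hreg.1

/-- Depth zero iff the maximal ideal is associated. -/
theorem depth_eq_zero_iff_maximalIdeal_mem_ass (A : Type u) [CommRing A] [IsLocalRing A]
    [IsNoetherianRing A] (M : Type v) [AddCommGroup M] [Module A M] [Module.Finite A M] :
    LocCoh.depth A M = 0 ↔ maximalIdeal A ∈ associatedPrimes A M := by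
  rcases subsingleton_or_nontrivial M with hM | hM
  · constructor
    · intro h
      exfalso
      unfold LocCoh.depth LocCoh.idealDepth at h
      rw [if_pos (Subsingleton.elim _ _)] at h
      exact ENat.top_ne_zero h
    · intro h
      exfalso
      rw [associatedPrimes.eq_empty_of_subsingleton] at h
      exact h
  · rw [depth_eq_zero_iff_forall_not_isSMulRegular A M (maximalIdeal_smul_top_ne_top A M),
      forall_not_isSMulRegular_iff_maximalIdeal_mem_ass]

end Groth.Agent.Lib.Helper29
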