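import Groth.Agent.Lib.Helper29.DepthFinite
import Groth.Agent.Lib.Helper2.LocalFlat2

/-!
# Regular sequences on the closed fibre of a flat module (EGA 0_IV 15.1.16)
-/

set_option autoImplicit false
universe u

namespace Groth.Agent.Lib.Helper29.FlatRegular

open RingTheory.Sequence IsLocalRing Pointwise
open Groth.Agent.Lib.Helper29 Groth.Agent.Lib.Helper29.DepthFinite

section Swap

variable {B : Type u} [CommRing B] (J : Ideal B) (f : B) (M : Type u) [AddCommGroup M] [Module B M]

/-- `(M/JM)/f ≅ (M/fM)/J`. -/
noncomputable def quotSwapEquiv :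
    QuotSMulTop f (M ⧸ (J • (⊤ : Submodule B M))) ≃ₗ[B]
      (QuotSMulTop f M) ⧸ (J • (⊤ : Submodule B (QuotSMulTop f M))) := by
  have h1 : (f • (⊤ : Submodule B (M ⧸ (J • (⊤ : Submodule B M))))) =
      (f • (⊤ : Submodule B M)).map (J • (⊤ : Submodule B M)).mkQ := by
    rw [Submodule.map_pointwise_smul, Submodule.map_top, Submodule.range_mkQ]
  have h2 : (J • (⊤ : Submodule B (QuotSMulTop f M))) =
      (J • (⊤ : Submodule B M)).map (f • (⊤ : Submodule B M)).mkQ := by
    rw [Submodule.map_smul'', Submodule.map_top, Submodule.range_mkQ]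
  exact (Submodule.quotEquivOfEq _ _ h1).trans
    ((Submodule.quotientQuotientEquivQuotientSup _ _).trans
      ((Submodule.quotEquivOfEq _ _ (sup_comm _ _)).trans
        ((Submodule.quotientQuotientEquivQuotientSup _ _).symm.trans
          (Submodule.quotEquivOfEq _ _ h2.symm))))

end Swap

section Step

variable (A B : Type u) [CommRing A] [CommRing B] [IsLocalRing A] [IsLocalRing B]
  [IsNoetherianRing B] [Algebra A B] [IsLocalHom (algebraMap A B)]
  (M : Type u) [AddCommGroup M] [Module B M] [Module A M] [IsScalarTower A B M]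
  [Module.Finite B M] [Module.Flat A M]

omit [IsNoetherianRing B] [Module.Finite B M] [Module.Flat A M] in
theorem map_maximalIdeal_le : (maximalIdeal A).map (algebraMap A B) ≤ maximalIdeal B := by
  rw [Ideal.map_le_iff_le_comap]
  intro x hx
  exact algebraMap_mem_maximalIdeal A B hx

omit [IsLocalRing B] [IsNoetherianRing B] [IsLocalHom (algebraMap A B)] [Module.Finite B M]
  [Module.Flat A M] in
theorem mem_smul_top_iff (m : M) :
    m ∈ (maximalIdeal A).map (algebraMap A B) • (⊤ : Submodule B M) ↔
      m ∈ maximalIdeal A • (⊤ : Submodule A M) := by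
  have h := Ideal.smul_restrictScalars (R := A) (S := B) (maximalIdeal A) (⊤ : Submodule B M)
  rw [Submodule.restrictScalars_top] at h
  rw [← h, Submodule.restrictScalars_mem]

/-- One step: an element regular on the closed fibre of a flat module is regular, with flat
quotient. -/
theorem isSMulRegular_and_flat_of_fibre (f : B)
    (hf : IsSMulRegular (M ⧸ ((maximalIdeal A).map (algebraMap A B) • (⊤ : Submodule B M))) f) :
    IsSMulRegular M f ∧ Module.Flat A (QuotSMulTop f M) := by
  let u : M →ₗ[A] M := (LinearMap.lsmul B M f).restrictScalars A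
  have hm : (maximalIdeal A).map (algebraMap A B) ≤ Ideal.jacobson (⊥ : Ideal B) := by
    rw [IsLocalRing.jacobson_eq_maximalIdeal ⊥ bot_ne_top]
    exact map_maximalIdeal_le A B
  have h : Function.Injective (LinearMap.lTensor (ResidueField A) u) := by
    apply Groth.Agent.Lib.Helper2.lTensor_residueField_injective_of_forall
    intro n hn
    rw [← mem_smul_top_iff A B M] at hn ⊢
    have h1 : f • (Submodule.Quotient.mk n :
        M ⧸ ((maximalIdeal A).map (algebraMap A B) • (⊤ : Submodule B M))) = 0 := by
      rw [← Submodule.Quotient.mk_smul, Submodule.Quotient.mk_eq_zero]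
      exact hn
    have h2 := hf (by rw [h1, smul_zero] :
      f • (Submodule.Quotient.mk n :
        M ⧸ ((maximalIdeal A).map (algebraMap A B) • (⊤ : Submodule B M))) = f • 0)
    exact (Submodule.Quotient.mk_eq_zero _).1 h2
  obtain ⟨hinj, hflat⟩ := Groth.Agent.Lib.Helper2.injective_and_flat_quotient (S := B) u hm h
  refine ⟨hinj, ?_⟩
  have hsub : (f • (⊤ : Submodule B M)).restrictScalars A = LinearMap.range u := by
    ext m
    simp only [Submodule.restrictScalars_mem, Submodule.mem_smul_pointwise_iff_exists,
      Submodule.mem_top, true_and, LinearMap.mem_range]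
    rfl
  let e : QuotSMulTop f M ≃ₗ[A] M ⧸ LinearMap.range u :=
    (Submodule.Quotient.restrictScalarsEquiv A (f • (⊤ : Submodule B M))).symm.trans
      (Submodule.quotEquivOfEq _ _ hsub)
  exact Module.Flat.of_linearEquiv e

end Step

section Main

variable (A B : Type u) [CommRing A] [CommRing B] [IsLocalRing A] [IsLocalRing B]
  [IsNoetherianRing B] [Algebra A B] [IsLocalHom (algebraMap A B)]

/-- EGA 0_IV 15.1.16: a sequence which is regular on the closed fibre `M/𝔪_A M` of an `A`-flat
finite `B`-module is `M`-regular with `A`-flat successive quotients. -/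
theorem isWeaklyRegular_and_flat_of_fibre (fs : List B) :
    ∀ (M : Type u) [AddCommGroup M] [Module B M] [Module A M] [IsScalarTower A B M]
      [Module.Finite B M] [Module.Flat A M],
      IsWeaklyRegular (M ⧸ ((maximalIdeal A).map (algebraMap A B) • (⊤ : Submodule B M))) fs →
      IsWeaklyRegular M fs ∧
        ∀ i ≤ fs.length, Module.Flat A (M ⧸ (Ideal.ofList (fs.take i) • (⊤ : Submodule B M))) := by
  induction fs with
  | nil =>
    intro M _ _ _ _ _ _ _
    refine ⟨IsWeaklyRegular.nil B M, fun i _ => ?_⟩
    have e : (M ⧸ (Ideal.ofList (([] : List B).take i) • (⊤ : Submodule B M))) ≃ₗ[B] M :=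
      Submodule.quotEquivOfEqBot _ (by rw [List.take_nil, Ideal.ofList_nil, Submodule.bot_smul])
    exact Module.Flat.of_linearEquiv (e.restrictScalars A)
  | cons f fs ih =>
    intro M _ _ _ _ _ _ hreg
    rw [isWeaklyRegular_cons_iff] at hreg
    obtain ⟨hf, hflat⟩ := isSMulRegular_and_flat_of_fibre A B M f hreg.1
    have hreg' : IsWeaklyRegular ((QuotSMulTop f M) ⧸
        ((maximalIdeal A).map (algebraMap A B) • (⊤ : Submodule B (QuotSMulTop f M)))) fs :=
      ((quotSwapEquiv ((maximalIdeal A).map (algebraMap A B)) f M).isWeaklyRegular_congr fs).1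
        hreg.2
    obtain ⟨h1, h2⟩ := ih (QuotSMulTop f M) hreg'
    refine ⟨(isWeaklyRegular_cons_iff M f fs).2 ⟨hf, h1⟩, ?_⟩
    intro i hi
    cases i with
    | zero =>
      have e : (M ⧸ (Ideal.ofList ((f :: fs).take 0) • (⊤ : Submodule B M))) ≃ₗ[B] M :=
        Submodule.quotEquivOfEqBot _ (by rw [List.take_zero, Ideal.ofList_nil, Submodule.bot_smul])
      exact Module.Flat.of_linearEquiv (e.restrictScalars A)
    | succ j =>
      have hj : j ≤ fs.length := by simpa using hi
      have := h2 j hj
      rw [List.take_succ_cons]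
      exact Module.Flat.of_linearEquiv
        ((Submodule.quotOfListConsSMulTopEquivQuotSMulTopInner M f (fs.take j)).restrictScalars A)

end Main

end Groth.Agent.Lib.Helper29.FlatRegular
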