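import Groth.Agent.Lib.Helper29.GorCM

/-!
# Gorenstein local rings: the top `Ext` against the ring
-/

set_option autoImplicit false
universe u

namespace Groth.Agent.Lib.Helper29.GorCM

open CategoryTheory Abelian RingTheory.Sequence Pointwise IsLocalRing
open Groth.Agent.Lib.Helper29

variable {A : Type u} [CommRing A]

/-- For a Noetherian local ring of finite injective dimension over itself there is `r` with
`Ext^i(k, A) = 0` for `i > r`, `Ext^r(k, A) ≠ 0`, and `dim A = r = depth A`. -/
theorem exists_top_ext [IsLocalRing A] [IsNoetherianRing A]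
    (n₀ : ℕ) (h : HasInjectiveDimensionLT (ModuleCat.of A A) n₀) :
    ∃ r : ℕ, (∀ i, r < i →
        Subsingleton (Ext (ModuleCat.of A (A ⧸ maximalIdeal A)) (ModuleCat.of A A) i)) ∧
      ¬ Subsingleton (Ext (ModuleCat.of A (A ⧸ maximalIdeal A)) (ModuleCat.of A A) r) ∧
      ringKrullDim A = (r : WithBot ℕ∞) ∧ LocCoh.depth A A = (r : ℕ∞) := by
  classical
  have hex : ∃ N : ℕ, ∀ i, N ≤ i →
      Subsingleton (Ext (ModuleCat.of A (A ⧸ maximalIdeal A)) (ModuleCat.of A A) i) :=
    ⟨n₀, fun i hi => HasInjectiveDimensionLT.subsingleton (ModuleCat.of A A) n₀ i hi _⟩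
  have hP := Nat.find_spec hex
  have hmin := fun m => Nat.find_min hex (m := m)
  generalize Nat.find hex = N₁ at hP hmin
  cases N₁ with
  | zero =>
    exfalso
    have hsub := Bass.subsingleton_ext_of_residueField A 0 hP A 0 le_rfl
    have h1 : (𝟙 (ModuleCat.of A A)) = 0 :=
      (Ext.mk₀_bijective _ _).1 (hsub.elim _ _)
    have h2 := congrArg (fun g => g.hom (1 : A)) h1
    simp at h2
  | succ r =>
    have hr : ∀ i, r < i →
        Subsingleton (Ext (ModuleCat.of A (A ⧸ maximalIdeal A)) (ModuleCat.of A A) i) :=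
      fun i hi => hP i hi
    have hne : ¬ Subsingleton (Ext (ModuleCat.of A (A ⧸ maximalIdeal A)) (ModuleCat.of A A) r) := by
      intro hsub
      apply hmin r (by omega)
      intro i hi
      rcases Nat.eq_or_lt_of_le hi with rfl | hlt
      · exact hsub
      · exact hr i hlt
    have h1 := ringKrullDim_le_of_ext_vanish r hr
    have h2 := le_depth_of_ext_ne A r hr hne
    have h3 : ((LocCoh.depth A A : ℕ∞) : WithBot ℕ∞) ≤ ringKrullDim A := by
      rw [← Module.supportDim_self_eq_ringKrullDim]
      exact DepthLib.depth_le_supportDim A A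
    have h4 : ((r : ℕ∞) : WithBot ℕ∞) ≤ ((LocCoh.depth A A : ℕ∞) : WithBot ℕ∞) := by
      exact_mod_cast h2
    have h5 : ringKrullDim A = (r : WithBot ℕ∞) :=
      le_antisymm h1 (le_trans (by exact_mod_cast h4) h3)
    refine ⟨r, hr, hne, h5, le_antisymm ?_ h2⟩
    have h6 : ((LocCoh.depth A A : ℕ∞) : WithBot ℕ∞) ≤ ((r : ℕ∞) : WithBot ℕ∞) := by
      have := h3.trans h5.le
      exact_mod_cast this
    exact WithBot.coe_le_coe.1 h6

/-- Over a Gorenstein local ring of dimension `n`, a nonzero finite module has positive depth iff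
`Ext^n(M, A) = 0`. -/
theorem depth_pos_iff_ext_top [IsLocalRing A] [IsNoetherianRing A]
    (n₀ : ℕ) (h : HasInjectiveDimensionLT (ModuleCat.of A A) n₀) (n : ℕ)
    (hn : ringKrullDim A = (n : WithBot ℕ∞))
    (M : Type u) [AddCommGroup M] [Module A M] [Module.Finite A M] [Nontrivial M] :
    0 < LocCoh.depth A M ↔ Subsingleton (Ext (ModuleCat.of A M) (ModuleCat.of A A) n) := by
  obtain ⟨r, hr, hne, hdim, -⟩ := exists_top_ext n₀ h
  have hrn : r = n := by
    have : (r : WithBot ℕ∞) = (n : WithBot ℕ∞) := hdim.symm.trans hn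
    exact_mod_cast this
  subst hrn
  have hvan : ∀ (T : Type u) [AddCommGroup T] [Module A T] [Module.Finite A T],
      Subsingleton (Ext (ModuleCat.of A T) (ModuleCat.of A A) (r + 1)) := fun T _ _ _ =>
    Bass.subsingleton_ext_of_residueField A (r + 1) (fun i hi => hr i (by omega)) T (r + 1) le_rfl
  have hMtop : maximalIdeal A • (⊤ : Submodule A M) ≠ ⊤ := maximalIdeal_smul_top_ne_top A M
  constructor
  · intro hpos
    have hex : ∃ x ∈ maximalIdeal A, IsSMulRegular M x := by
      by_contra hcon
      push Not at hcon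
      have := (depth_eq_zero_iff_forall_not_isSMulRegular A M hMtop).2 hcon
      rw [this] at hpos
      exact lt_irrefl _ hpos
    obtain ⟨x, hxm, hxreg⟩ := hex
    exact Ischebeck.subsingleton_ext_of_regular A M hxm hxreg r (hvan _)
  · intro hsub
    by_contra hpos
    have h0 : LocCoh.depth A M = 0 := by
      rcases eq_or_ne (LocCoh.depth A M) 0 with h | h
      · exact h
      · exact absurd (pos_iff_ne_zero.2 h) hpos
    have hass := (depth_eq_zero_iff_maximalIdeal_mem_ass A M).1 h0
    rw [AssociatedPrimes.mem_iff, isAssociatedPrime_iff_exists_injective_linearMap] at hass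
    obtain ⟨-, f, hf⟩ := hass
    apply hne
    have hfg : Function.Exact f (LinearMap.range f).mkQ := LinearMap.exact_map_mkQ_range f
    let S : ShortComplex (ModuleCat.{u} A) :=
      ModuleCat.shortComplexOfCompEqZero f (LinearMap.range f).mkQ hfg.linearMap_comp_eq_zero
    have hS : S.ShortExact :=
      { exact := ModuleCat.shortComplex_exact _ hfg
        mono_f := (ModuleCat.mono_iff_injective _).2 hf
        epi_g := (ModuleCat.epi_iff_surjective _).2 (Submodule.mkQ_surjective _) }
    have hC : Subsingleton (Ext (ModuleCat.of A (M ⧸ LinearMap.range f))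
        (ModuleCat.of A A) (r + 1)) := hvan _
    constructor
    have h' : ∀ e : Ext (ModuleCat.of A (A ⧸ maximalIdeal A)) (ModuleCat.of A A) r, e = 0 := by
      intro e
      have h0 : hS.extClass.comp e (show 1 + r = r + 1 by omega) = 0 := hC.elim _ _
      obtain ⟨e₂, he₂⟩ := Ext.contravariant_sequence_exact₁ hS (ModuleCat.of A A) e
        (n₁ := r + 1) (by omega) h0
      rw [← he₂, hsub.elim e₂ 0, Ext.comp_zero]
    intro a b
    rw [h' a, h' b]

end Groth.Agent.Lib.Helper29.GorCM
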