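import Groth.Agent.Lib.Helper29.Ischebeck
import Groth.Agent.Lib.Helper29.InjDim

/-!
# Injective dimension over a Noetherian local ring is detected by the residue field
(Bruns–Herzog 3.1.12, 3.1.14)
-/

set_option autoImplicit false
universe u

namespace Groth.Agent.Lib.Helper29.Bass

open CategoryTheory Abelian RingTheory.Sequence Pointwise IsLocalRing
open Groth.Agent.Lib.Helper29

variable {A : Type u} [CommRing A]

/-- Transport along a linear equivalence. -/
theorem subsingleton_ext_of_equiv (M : Type u) [AddCommGroup M] [Module A M]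
    (N N' : Type u) [AddCommGroup N] [Module A N] [AddCommGroup N'] [Module A N']
    (e : N ≃ₗ[A] N') (i : ℕ)
    (h : Subsingleton (Ext (ModuleCat.of A N') (ModuleCat.of A M) i)) :
    Subsingleton (Ext (ModuleCat.of A N) (ModuleCat.of A M) i) := by
  refine Ischebeck.subsingleton_ext_of_exact M PUnit.{u + 1} N N' 0 e.toLinearMap ?_ e.surjective ?_ i
    (Ischebeck.subsingleton_ext_of_subsingleton _ M i) h
  · intro a b _
    exact Subsingleton.elim _ _
  · intro n
    constructor
    · intro hn
      refine ⟨0, ?_⟩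
      have : n = 0 := e.injective (by rw [map_zero]; exact hn)
      rw [this]; rfl
    · rintro ⟨_, rfl⟩
      simp

/-- Prime filtration with annihilator control. -/
theorem subsingleton_ext_of_forall_prime [IsNoetherianRing A]
    (M : Type u) [AddCommGroup M] [Module A M] (I : Ideal A) (n : ℕ)
    (h : ∀ q : Ideal A, q.IsPrime → I ≤ q →
      Subsingleton (Ext (ModuleCat.of A (A ⧸ q)) (ModuleCat.of A M) n))
    (T : Type u) [AddCommGroup T] [Module A T] [hfin : Module.Finite A T]
    (hT : I ≤ Module.annihilator A T) :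
    Subsingleton (Ext (ModuleCat.of A T) (ModuleCat.of A M) n) := by
  revert hT
  refine IsNoetherianRing.induction_on_isQuotientEquivQuotientPrime A hfin
    (motive := fun N _ _ _ => I ≤ Module.annihilator A N →
      Subsingleton (Ext (ModuleCat.of A N) (ModuleCat.of A M) n)) ?_ ?_ ?_
  · intro N _ _ _ _ _
    exact Ischebeck.subsingleton_ext_of_subsingleton N M n
  · intro N _ _ _ p e hann
    refine subsingleton_ext_of_equiv M N _ e n (h p.asIdeal p.2 ?_)
    intro a ha
    have h1 := hann ha
    rw [Module.mem_annihilator] at h1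
    have h2 : a • e.symm (1 : A ⧸ p.asIdeal) = 0 := h1 _
    have h3 : a • (1 : A ⧸ p.asIdeal) = 0 := by
      have := congrArg e h2
      rwa [map_smul, map_zero, LinearEquiv.apply_symm_apply] at this
    have h4 : Ideal.Quotient.mk p.asIdeal a = 0 := by
      rw [← h3]
      change _ = Ideal.Quotient.mk p.asIdeal (a * 1)
      rw [mul_one]
    exact Ideal.Quotient.eq_zero_iff_mem.1 h4
  · intro N₁ _ _ _ N₂ _ _ _ N₃ _ _ _ f g hf hg hfg h1 h3 hann
    refine Ischebeck.subsingleton_ext_of_exact M N₁ N₂ N₃ f g hf hg hfg n (h1 ?_) (h3 ?_)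
    · intro a ha
      have h := hann ha
      rw [Module.mem_annihilator] at h ⊢
      intro x
      apply hf
      rw [map_smul, map_zero]
      exact h _
    · intro a ha
      have h := hann ha
      rw [Module.mem_annihilator] at h ⊢
      intro x
      obtain ⟨y, rfl⟩ := hg x
      rw [← map_smul, h y, map_zero]

/-- Bruns–Herzog 3.1.12. -/
theorem subsingleton_ext_quotient_prime [IsLocalRing A] [IsNoetherianRing A]
    (M : Type u) [AddCommGroup M] [Module A M] [Module.Finite A M]
    (p : Ideal A) [hp : p.IsPrime] (hpm : p ≠ maximalIdeal A) (n : ℕ)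
    (h : ∀ q : Ideal A, q.IsPrime → p < q →
      Subsingleton (Ext (ModuleCat.of A (A ⧸ q)) (ModuleCat.of A M) (n + 1))) :
    Subsingleton (Ext (ModuleCat.of A (A ⧸ p)) (ModuleCat.of A M) n) := by
  have hlt : p < maximalIdeal A := lt_of_le_of_ne (le_maximalIdeal hp.ne_top) hpm
  obtain ⟨x, hxm, hxp⟩ := Set.exists_of_ssubset hlt
  have hregN : IsSMulRegular (A ⧸ p) x := by
    intro n₁ n₂ h12
    obtain ⟨a₁, rfl⟩ := Ideal.Quotient.mk_surjective n₁
    obtain ⟨a₂, rfl⟩ := Ideal.Quotient.mk_surjective n₂
    have h' : Ideal.Quotient.mk p (x * a₁) = Ideal.Quotient.mk p (x * a₂) := h12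
    rw [Ideal.Quotient.eq, ← mul_sub] at h'
    rw [Ideal.Quotient.eq]
    exact (hp.mem_or_mem h').resolve_left hxp
  apply Ischebeck.subsingleton_ext_of_regular M (A ⧸ p) hxm hregN n
  refine subsingleton_ext_of_forall_prime M (p ⊔ Ideal.span {x}) (n + 1) ?_ _ ?_
  · intro q hq hle
    refine h q hq (lt_of_le_of_ne (le_sup_left.trans hle) ?_)
    intro hpq
    apply hxp
    rw [hpq]
    exact hle (Ideal.mem_sup_right (Ideal.mem_span_singleton_self x))
  · rw [sup_le_iff]
    constructor
    · intro a ha
      rw [Module.mem_annihilator]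
      intro t
      obtain ⟨t', rfl⟩ := Submodule.mkQ_surjective _ t
      obtain ⟨b, rfl⟩ := Ideal.Quotient.mk_surjective t'
      rw [← map_smul]
      have : a • (Ideal.Quotient.mk p b) = 0 := by
        change Ideal.Quotient.mk p (a * b) = 0
        rw [Ideal.Quotient.eq_zero_iff_mem]
        exact Ideal.mul_mem_right _ _ ha
      rw [this, map_zero]
    · rw [Ideal.span_singleton_le_iff_mem, Module.mem_annihilator]
      intro t
      obtain ⟨t', rfl⟩ := Submodule.mkQ_surjective _ t
      rw [← map_smul]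
      exact (Submodule.Quotient.mk_eq_zero _).2
        (Submodule.smul_mem_pointwise_smul _ _ _ Submodule.mem_top)

/-- If `Ext^i(k, M) = 0` for `i ≥ N` then `Ext^i(A/p, M) = 0` for all primes `p` and `i ≥ N`. -/
theorem subsingleton_ext_quotient_of_residueField [IsLocalRing A] [IsNoetherianRing A]
    (M : Type u) [AddCommGroup M] [Module A M] [Module.Finite A M] (N : ℕ)
    (h : ∀ i, N ≤ i →
      Subsingleton (Ext (ModuleCat.of A (A ⧸ maximalIdeal A)) (ModuleCat.of A M) i))
    (p : Ideal A) (hp : p.IsPrime) :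
    ∀ i, N ≤ i → Subsingleton (Ext (ModuleCat.of A (A ⧸ p)) (ModuleCat.of A M) i) := by
  revert hp
  refine WellFoundedGT.induction (motive := fun p => p.IsPrime → ∀ i, N ≤ i →
    Subsingleton (Ext (ModuleCat.of A (A ⧸ p)) (ModuleCat.of A M) i)) p ?_
  intro p ih hp i hi
  by_cases hpm : p = maximalIdeal A
  · subst hpm
    exact h i hi
  · exact subsingleton_ext_quotient_prime M p (hp := hp) hpm i
      (fun q hq hlt => ih q hlt hq (i + 1) (by omega))

/-- If `Ext^i(k, M) = 0` for `i ≥ N` then `Ext^i(T, M) = 0` for all finite `T` and `i ≥ N`. -/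
theorem subsingleton_ext_of_residueField [IsLocalRing A] [IsNoetherianRing A]
    (M : Type u) [AddCommGroup M] [Module A M] [Module.Finite A M] (N : ℕ)
    (h : ∀ i, N ≤ i →
      Subsingleton (Ext (ModuleCat.of A (A ⧸ maximalIdeal A)) (ModuleCat.of A M) i))
    (T : Type u) [AddCommGroup T] [Module A T] [Module.Finite A T] (i : ℕ) (hi : N ≤ i) :
    Subsingleton (Ext (ModuleCat.of A T) (ModuleCat.of A M) i) :=
  subsingleton_ext_of_forall_prime M ⊥ i
    (fun q hq _ => subsingleton_ext_quotient_of_residueField M N h q hq i hi) T bot_le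

/-- Bruns–Herzog 3.1.14 (vanishing part). -/
theorem hasInjectiveDimensionLT_of_residueField [IsLocalRing A] [IsNoetherianRing A]
    (M : Type u) [AddCommGroup M] [Module A M] [Module.Finite A M] (N : ℕ)
    (h : ∀ i, N + 1 ≤ i →
      Subsingleton (Ext (ModuleCat.of A (A ⧸ maximalIdeal A)) (ModuleCat.of A M) i)) :
    HasInjectiveDimensionLT (ModuleCat.of A M) (N + 1) :=
  hasInjectiveDimensionLT_succ_of_ext_quotient A N (ModuleCat.of A M)
    (fun I => subsingleton_ext_of_residueField M (N + 1) h (A ⧸ I) (N + 1) le_rfl)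

end Groth.Agent.Lib.Helper29.Bass
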