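import Groth.Agent.Lib.Helper29.Rees
import Groth.Agent.Lib.Helper29.Bass

/-!
# A local ring is Gorenstein iff its quotient by a regular element is
-/

set_option autoImplicit false
universe u v w

namespace Groth.Agent.Lib.Helper29.ReesGor

open CategoryTheory Abelian Pointwise IsLocalRing

section General

variable {C : Type u} [Category.{v} C] [Abelian C] [HasExt.{w} C]

theorem subsingleton_ext_of_iso_left {X X' Y : C} (e : X ≅ X') (n : ℕ)
    (h : Subsingleton (Ext.{w} X' Y n)) : Subsingleton (Ext.{w} X Y n) := by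
  have key : ∀ a : Ext.{w} X Y n, a = 0 := by
    intro a
    have h1 : (Ext.mk₀ e.hom).comp ((Ext.mk₀ e.inv).comp a (zero_add n)) (zero_add n) = a := by
      rw [Ext.mk₀_comp_mk₀_assoc, e.hom_inv_id, Ext.mk₀_id_comp]
    rw [← h1, h.elim ((Ext.mk₀ e.inv).comp a (zero_add n)) 0, Ext.comp_zero]
  exact ⟨fun a b => by rw [key a, key b]⟩

theorem subsingleton_ext_of_iso_right {X Y Y' : C} (e : Y ≅ Y') (n : ℕ)
    (h : Subsingleton (Ext.{w} X Y' n)) : Subsingleton (Ext.{w} X Y n) := by
  have key : ∀ a : Ext.{w} X Y n, a = 0 := by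
    intro a
    have h1 : (a.comp (Ext.mk₀ e.hom) (add_zero n)).comp (Ext.mk₀ e.inv) (add_zero n) = a := by
      rw [Ext.comp_assoc_of_third_deg_zero, Ext.mk₀_comp_mk₀, e.hom_inv_id, Ext.comp_mk₀_id]
    rw [← h1, h.elim (a.comp (Ext.mk₀ e.hom) (add_zero n)) 0, Ext.zero_comp]
  exact ⟨fun a b => by rw [key a, key b]⟩

end General

variable {A : Type u} [CommRing A] (f : A)

/-- `A/fA ≅ A/(f)` as modules over `A/(f)`. -/
noncomputable def quotSelfIso :
    Rees.Mbar f A ≅ ModuleCat.of (A ⧸ Ideal.span {f}) (A ⧸ Ideal.span {f}) :=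
  LinearEquiv.toModuleIso
    ((Submodule.quotEquivOfEq (f • ⊤ : Submodule A A) (Ideal.span {f}) (by
      rw [← Submodule.ideal_span_singleton_smul, smul_eq_mul, Ideal.mul_top])).extendScalarsOfSurjective
        Ideal.Quotient.mk_surjective)

variable [IsLocalRing A] [IsLocalRing (A ⧸ Ideal.span {f})]

/-- The residue field of `A/(f)`, restricted to `A`, is the residue field of `A`. -/
noncomputable def resResidueIso :
    (Rees.res f).obj (ModuleCat.of (A ⧸ Ideal.span {f})
      ((A ⧸ Ideal.span {f}) ⧸ maximalIdeal (A ⧸ Ideal.span {f}))) ≅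
      ModuleCat.of A (A ⧸ maximalIdeal A) := by
  let N : ModuleCat.{u} A := (Rees.res f).obj (ModuleCat.of (A ⧸ Ideal.span {f})
      ((A ⧸ Ideal.span {f}) ⧸ maximalIdeal (A ⧸ Ideal.span {f})))
  let one : N := (1 : (A ⧸ Ideal.span {f}) ⧸ maximalIdeal (A ⧸ Ideal.span {f}))
  let φ : A →ₗ[A] N := LinearMap.toSpanSingleton A N one
  have hφ : ∀ a : A, φ a = (Ideal.Quotient.mk (maximalIdeal (A ⧸ Ideal.span {f}))
      (Ideal.Quotient.mk (Ideal.span {f}) a) : (A ⧸ Ideal.span {f}) ⧸ maximalIdeal _) := by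
    intro a
    change (Ideal.Quotient.mk (Ideal.span {f}) a) •
      (1 : (A ⧸ Ideal.span {f}) ⧸ maximalIdeal (A ⧸ Ideal.span {f})) = _
    rw [Algebra.smul_def, mul_one]
    rfl
  have hsurj : Function.Surjective φ := by
    intro z
    obtain ⟨b, rfl⟩ := Ideal.Quotient.mk_surjective (show (A ⧸ Ideal.span {f}) ⧸ maximalIdeal _ from z)
    obtain ⟨a, rfl⟩ := Ideal.Quotient.mk_surjective b
    exact ⟨a, hφ a⟩
  have hloc : IsLocalHom (Ideal.Quotient.mk (Ideal.span {f})) :=
    IsLocalHom.of_surjective _ Ideal.Quotient.mk_surjective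
  have hker : LinearMap.ker φ = maximalIdeal A := by
    ext a
    rw [LinearMap.mem_ker, hφ]
    change (Ideal.Quotient.mk (maximalIdeal (A ⧸ Ideal.span {f}))
      (Ideal.Quotient.mk (Ideal.span {f}) a) : (A ⧸ Ideal.span {f}) ⧸ maximalIdeal _) = 0 ↔ _
    rw [Ideal.Quotient.eq_zero_iff_mem, ← maximalIdeal_comap (Ideal.Quotient.mk (Ideal.span {f})),
      Ideal.mem_comap]
  exact (LinearEquiv.toModuleIso
    ((Submodule.quotEquivOfEq _ _ hker.symm).trans (φ.quotKerEquivOfSurjective hsurj))).symm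


/-- `Ext^i_{A/f}(k, A/f) = 0 ↔ Ext^{i+1}_A(k, A) = 0` for a regular element `f`. -/
theorem subsingleton_ext_quotient_iff (hreg : IsSMulRegular A f) (i : ℕ) :
    Subsingleton (Ext (ModuleCat.of (A ⧸ Ideal.span {f})
        ((A ⧸ Ideal.span {f}) ⧸ maximalIdeal (A ⧸ Ideal.span {f})))
      (ModuleCat.of (A ⧸ Ideal.span {f}) (A ⧸ Ideal.span {f})) i) ↔
    Subsingleton (Ext (ModuleCat.of A (A ⧸ maximalIdeal A)) (ModuleCat.of A A) (i + 1)) := by
  have hΦ := Rees.Φ_bijective f hreg hreg i (ModuleCat.of (A ⧸ Ideal.span {f})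
        ((A ⧸ Ideal.span {f}) ⧸ maximalIdeal (A ⧸ Ideal.span {f})))
  have h2 := (Equiv.ofBijective _ hΦ).subsingleton_congr
  constructor
  · intro h
    have h1 := subsingleton_ext_of_iso_right (X := ModuleCat.of (A ⧸ Ideal.span {f})
        ((A ⧸ Ideal.span {f}) ⧸ maximalIdeal (A ⧸ Ideal.span {f}))) (quotSelfIso f) i h
    have h3 := h2.1 h1
    exact subsingleton_ext_of_iso_left (resResidueIso f).symm (i + 1) h3
  · intro h
    have h3 := subsingleton_ext_of_iso_left (Y := ModuleCat.of A A) (resResidueIso f) (i + 1) h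
    have h1 := h2.2 h3
    exact subsingleton_ext_of_iso_right (quotSelfIso f).symm i h1

/-- A Noetherian local ring is of finite injective dimension over itself iff its quotient by a
regular element of the maximal ideal is. -/
theorem hasInjectiveDimensionLT_quotient_iff [IsNoetherianRing A] (hreg : IsSMulRegular A f) :
    (∃ n : ℕ, HasInjectiveDimensionLT (ModuleCat.of A A) n) ↔
      ∃ n : ℕ, HasInjectiveDimensionLT
        (ModuleCat.of (A ⧸ Ideal.span {f}) (A ⧸ Ideal.span {f})) n := by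
  constructor
  · rintro ⟨n, hn⟩
    refine ⟨n + 1, Bass.hasInjectiveDimensionLT_of_residueField (A ⧸ Ideal.span {f}) n ?_⟩
    intro i hi
    rw [subsingleton_ext_quotient_iff f hreg i]
    exact HasInjectiveDimensionLT.subsingleton (ModuleCat.of A A) n (i + 1) (by omega) _
  · rintro ⟨n, hn⟩
    refine ⟨n + 1, Bass.hasInjectiveDimensionLT_of_residueField A n ?_⟩
    intro i hi
    obtain ⟨j, rfl⟩ : ∃ j, i = j + 1 := ⟨i - 1, by omega⟩
    rw [← subsingleton_ext_quotient_iff f hreg j]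
    exact HasInjectiveDimensionLT.subsingleton
      (ModuleCat.of (A ⧸ Ideal.span {f}) (A ⧸ Ideal.span {f})) n j (by omega) _


end Groth.Agent.Lib.Helper29.ReesGor
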