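import Mathlib.RingTheory.Ideal.AssociatedPrime.Localization
import Mathlib.RingTheory.Support
import Mathlib.RingTheory.QuotSMulTop
import Mathlib.RingTheory.Regular.IsSMulRegular
import Mathlib.Algebra.Module.Torsion.Basic

/-!
# Associated primes of `M/tM` for a regular element `t`
-/

universe u v

namespace Groth.Agent.Lib.Helper29

open Submodule Pointwise

variable {A : Type u} [CommRing A] {M : Type v} [AddCommGroup M] [Module A M]

/-- Two ideals contained in the same primes have the same minimal primes. -/
lemma minimalPrimes_eq_of_forall_prime_le_iff {I J : Ideal A}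
    (h : ∀ P : Ideal A, P.IsPrime → (I ≤ P ↔ J ≤ P)) : I.minimalPrimes = J.minimalPrimes := by
  have : (fun P : Ideal A => P.IsPrime ∧ I ≤ P) = (fun P : Ideal A => P.IsPrime ∧ J ≤ P) := by
    funext P
    exact propext (and_congr_right (h P))
  unfold Ideal.minimalPrimes Ideal.IsMinimalPrime
  rw [this]

/-- The inclusion of the `p`-torsion into `M` stays injective modulo a regular element. -/
lemma quotSMulTop_map_torsionBySet_injective (t : A) (ht : IsSMulRegular M t) (p : Ideal A) :
    Function.Injective (QuotSMulTop.map t (torsionBySet A M (p : Set A)).subtype) := by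
  rw [injective_iff_map_eq_zero]
  intro x hx
  obtain ⟨n, rfl⟩ := Submodule.Quotient.mk_surjective _ x
  have h1 : ((n : M) : M) ∈ (t • (⊤ : Submodule A M)) := by
    have : Submodule.Quotient.mk (p := t • (⊤ : Submodule A M)) (n : M) = 0 := hx
    exact (Submodule.Quotient.mk_eq_zero _).1 this
  obtain ⟨m, -, hm⟩ := (Submodule.mem_smul_pointwise_iff_exists _ _ _).1 h1
  have hmN : m ∈ torsionBySet A M (p : Set A) := by
    rw [mem_torsionBySet_iff]
    intro a
    apply ht
    show t • ((a : A) • m) = t • 0
    rw [smul_zero, smul_comm, hm]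
    exact (mem_torsionBySet_iff _ _).1 n.2 a
  have : n = t • (⟨m, hmN⟩ : torsionBySet A M (p : Set A)) := Subtype.ext hm.symm
  rw [this]
  exact (Submodule.Quotient.mk_eq_zero _).2
    (Submodule.smul_mem_pointwise_smul _ t ⊤ Submodule.mem_top)

/-- EGA 0_IV 16.4.6-type statement: for `t` regular on `M` and `p ∈ Ass M`, the minimal primes
over `p + tA` are associated primes of `M/tM`. -/
theorem mem_associatedPrimes_quotSMulTop_of_mem_minimalPrimes [IsNoetherianRing A]
    [Module.Finite A M] (t : A) (ht : IsSMulRegular M t) (p : Ideal A)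
    (hp : p ∈ associatedPrimes A M) (q : Ideal A)
    (hq : q ∈ (p ⊔ Ideal.span {t}).minimalPrimes) :
    q ∈ associatedPrimes A (QuotSMulTop t M) := by
  obtain ⟨hpp, m₀, hm₀⟩ := isAssociatedPrime_iff.1 hp
  have hm₀N : m₀ ∈ torsionBySet A M (p : Set A) := by
    rw [mem_torsionBySet_iff]
    intro a
    have : (a : A) ∈ colon (⊥ : Submodule A M) {m₀} := hm₀ ▸ a.2
    rw [mem_colon_singleton, mem_bot] at this
    exact this
  have hann : Module.annihilator A (torsionBySet A M (p : Set A)) = p := by
    apply le_antisymm
    · intro a ha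
      have h1 := Module.mem_annihilator.1 ha ⟨m₀, hm₀N⟩
      rw [hm₀, mem_colon_singleton, mem_bot]
      exact congrArg Subtype.val h1
    · intro a ha
      rw [Module.mem_annihilator]
      intro n
      apply Subtype.ext
      exact (mem_torsionBySet_iff _ _).1 n.2 ⟨a, ha⟩
  have hsupp : ∀ P : Ideal A, P.IsPrime →
      (Module.annihilator A (QuotSMulTop t (torsionBySet A M (p : Set A))) ≤ P ↔
        p ⊔ Ideal.span {t} ≤ P) := by
    intro P hP
    have h1 : (⟨P, hP⟩ : PrimeSpectrum A) ∈
        Module.support A (QuotSMulTop t (torsionBySet A M (p : Set A))) ↔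
        Module.annihilator A (QuotSMulTop t (torsionBySet A M (p : Set A))) ≤ P := by
      rw [Module.support_eq_zeroLocus, PrimeSpectrum.mem_zeroLocus, SetLike.coe_subset_coe]
    rw [← h1, Module.support_quotSMulTop, Set.mem_inter_iff, Module.support_eq_zeroLocus, hann,
      PrimeSpectrum.mem_zeroLocus, PrimeSpectrum.mem_zeroLocus, SetLike.coe_subset_coe,
      Set.singleton_subset_iff, sup_le_iff, Ideal.span_singleton_le_iff_mem]
    rfl
  have hq' : q ∈ (Module.annihilator A
      (QuotSMulTop t (torsionBySet A M (p : Set A)))).minimalPrimes := by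
    rw [minimalPrimes_eq_of_forall_prime_le_iff hsupp]
    exact hq
  have hq'' := Module.associatedPrimes.minimalPrimes_annihilator_subset_associatedPrimes A
    (QuotSMulTop t (torsionBySet A M (p : Set A))) hq'
  exact associatedPrimes.subset_of_injective
    (quotSMulTop_map_torsionBySet_injective t ht p) hq''

end Groth.Agent.Lib.Helper29
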