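import Groth.Prelude.Def_CAlg
import Groth.Agent.S5151
import Groth.Agent.Lib.Helper29.AssQuot
import Groth.Agent.Lib.Helper29.DepthZero
import Mathlib.RingTheory.KrullDimension.Regular
import Mathlib.RingTheory.KrullDimension.Module
import Mathlib.RingTheory.Regular.RegularSequence

/-!
# Depth: basic theory on top of `LocCoh.idealDepth`
-/

set_option autoImplicit false
universe u

namespace Groth.Agent.Lib.Helper29.DepthLib

open RingTheory.Sequence IsLocalRing Pointwise

section Ideal

variable {A : Type u} [CommRing A] [IsNoetherianRing A] (I : Ideal A)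
  (M : Type u) [AddCommGroup M] [Module A M] [Module.Finite A M]

/-- A maximal regular sequence in `I` exists and computes the depth. -/
theorem exists_maximal_regular (hIM : I • (⊤ : Submodule A M) ≠ ⊤) :
    ∃ rs : List A, IsWeaklyRegular M rs ∧ (∀ r ∈ rs, r ∈ I) ∧
      (∀ r ∈ I, ¬ IsWeaklyRegular M (rs ++ [r])) ∧ (rs.length : ℕ∞) = LocCoh.idealDepth I M := by
  obtain ⟨h1, h2⟩ := Groth.Agent.S5151.result A I M hIM
  obtain ⟨rs, -, hreg, hmem, hmax⟩ := h1 [] (IsWeaklyRegular.nil A M) (by simp)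
  exact ⟨rs, hreg, hmem, hmax, h2 rs hreg hmem hmax⟩

theorem idealDepth_ne_top (hIM : I • (⊤ : Submodule A M) ≠ ⊤) : LocCoh.idealDepth I M ≠ ⊤ := by
  obtain ⟨rs, -, -, -, h⟩ := exists_maximal_regular I M hIM
  rw [← h]
  exact ENat.natCast_ne_top _

omit [IsNoetherianRing A] [Module.Finite A M] in
theorem length_le_idealDepth {rs : List A} (hreg : IsWeaklyRegular M rs) (hmem : ∀ r ∈ rs, r ∈ I) :
    (rs.length : ℕ∞) ≤ LocCoh.idealDepth I M := by
  unfold LocCoh.idealDepth
  split_ifs with h
  · exact le_top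
  · exact le_iSup₂ (f := fun (rs : List A)
      (_ : IsWeaklyRegular M rs ∧ ∀ r ∈ rs, r ∈ I) => (rs.length : ℕ∞)) rs ⟨hreg, hmem⟩

/-- Depth drops by one modulo a regular element of `I`. -/
theorem idealDepth_quotSMulTop_add_one (hIM : I • (⊤ : Submodule A M) ≠ ⊤) {x : A} (hxI : x ∈ I)
    (hx : IsSMulRegular M x) :
    LocCoh.idealDepth I (QuotSMulTop x M) + 1 = LocCoh.idealDepth I M := by
  have hIQ : I • (⊤ : Submodule A (QuotSMulTop x M)) ≠ ⊤ :=
    Groth.Agent.S5151.smul_top_quotSMulTop_ne_top hxI hIM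
  obtain ⟨rs, hreg, hmem, hmax, hlen⟩ := exists_maximal_regular I (QuotSMulTop x M) hIQ
  obtain ⟨-, h2⟩ := Groth.Agent.S5151.result A I M hIM
  have hreg' : IsWeaklyRegular M (x :: rs) := (isWeaklyRegular_cons_iff M x rs).2 ⟨hx, hreg⟩
  have hmem' : ∀ r ∈ x :: rs, r ∈ I := by
    intro r hr
    rcases List.mem_cons.1 hr with h | h
    · rw [h]; exact hxI
    · exact hmem r h
  have hmax' : ∀ r ∈ I, ¬ IsWeaklyRegular M ((x :: rs) ++ [r]) := by
    intro r hr h
    rw [List.cons_append, isWeaklyRegular_cons_iff] at h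
    exact hmax r hr h.2
  have := h2 (x :: rs) hreg' hmem' hmax'
  rw [← this, ← hlen, List.length_cons]
  push_cast
  rfl

end Ideal

section Local

variable (A : Type u) [CommRing A] [IsLocalRing A] [IsNoetherianRing A]
  (M : Type u) [AddCommGroup M] [Module A M] [Module.Finite A M]

theorem depth_ne_top [Nontrivial M] : LocCoh.depth A M ≠ ⊤ :=
  idealDepth_ne_top _ M (maximalIdeal_smul_top_ne_top A M)

theorem depth_quotSMulTop_add_one [Nontrivial M] {x : A} (hxm : x ∈ maximalIdeal A)
    (hx : IsSMulRegular M x) :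
    LocCoh.depth A (QuotSMulTop x M) + 1 = LocCoh.depth A M :=
  idealDepth_quotSMulTop_add_one _ M (maximalIdeal_smul_top_ne_top A M) hxm hx

omit [IsNoetherianRing A] in
/-- `M/xM` is nontrivial for `x ∈ 𝔪`. -/
theorem nontrivial_quotSMulTop [Nontrivial M] {x : A} (hxm : x ∈ maximalIdeal A) :
    Nontrivial (QuotSMulTop x M) := by
  apply Submodule.Quotient.nontrivial_iff.2
  intro h
  apply maximalIdeal_smul_top_ne_top A M
  have hle : x • (⊤ : Submodule A M) ≤ maximalIdeal A • (⊤ : Submodule A M) := by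
    intro m hm
    obtain ⟨m', -, rfl⟩ := (Submodule.mem_smul_pointwise_iff_exists _ _ _).1 hm
    exact Submodule.smul_mem_smul hxm (Submodule.mem_top (x := m'))
  rw [h] at hle
  exact eq_top_iff.2 hle

omit [IsLocalRing A] [IsNoetherianRing A] in
/-- `dim A/p ≤ dim M` for an associated prime `p`. -/
theorem ringKrullDim_quotient_le_supportDim {p : Ideal A} (hp : p ∈ associatedPrimes A M) :
    ringKrullDim (A ⧸ p) ≤ Module.supportDim A M := by
  rw [Module.supportDim_eq_ringKrullDim_quotient_annihilator]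
  have hle : Module.annihilator A M ≤ p := by
    rw [← Submodule.annihilator_top]
    exact IsAssociatedPrime.annihilator_le hp
  exact ringKrullDim_le_of_surjective (Ideal.Quotient.factor hle)
    (Ideal.Quotient.factor_surjective hle)

omit [IsLocalRing A] [IsNoetherianRing A] in
/-- For primes `p < q`, `dim A/q + 1 ≤ dim A/p`. -/
theorem ringKrullDim_quotient_succ_le_of_lt {p q : Ideal A} [p.IsPrime] (hpq : p < q) :
    ringKrullDim (A ⧸ q) + 1 ≤ ringKrullDim (A ⧸ p) := by
  obtain ⟨x, hxq, hxp⟩ := Set.exists_of_ssubset hpq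
  have hx0 : Ideal.Quotient.mk p x ≠ 0 := by
    rw [Ne, Ideal.Quotient.eq_zero_iff_mem]; exact hxp
  exact ringKrullDim_succ_le_of_surjective (Ideal.Quotient.factor hpq.le)
    (Ideal.Quotient.factor_surjective hpq.le) (mem_nonZeroDivisors_of_ne_zero hx0)
    (by rw [Ideal.Quotient.factor_mk, Ideal.Quotient.eq_zero_iff_mem]; exact hxq)

end Local

section DepthLeDim

variable (A : Type u) [CommRing A] [IsLocalRing A] [IsNoetherianRing A]

/-- Elements of an associated prime are zero divisors. -/
theorem not_mem_of_isSMulRegular {A : Type u} [CommRing A] [IsNoetherianRing A] {M : Type u}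
    [AddCommGroup M] [Module A M] {p : Ideal A} (hp : p ∈ associatedPrimes A M) {x : A}
    (hx : IsSMulRegular M x) : x ∉ p := by
  intro hxp
  obtain ⟨hpp, m, hm⟩ := isAssociatedPrime_iff.1 hp
  have h1 : x ∈ Submodule.colon (⊥ : Submodule A M) {m} := hm ▸ hxp
  rw [Submodule.mem_colon_singleton, Submodule.mem_bot] at h1
  have hm0 : m = 0 := hx (by show x • m = x • 0; rw [h1, smul_zero])
  apply hpp.ne_top
  rw [hm, hm0, Ideal.eq_top_iff_one, Submodule.mem_colon_singleton, smul_zero]
  exact Submodule.zero_mem _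

theorem depth_le_aux : ∀ (n : ℕ) (M : Type u) [AddCommGroup M] [Module A M] [Module.Finite A M]
    [Nontrivial M], LocCoh.depth A M = n → ∀ p ∈ associatedPrimes A M,
      (n : WithBot ℕ∞) ≤ ringKrullDim (A ⧸ p) := by
  intro n
  induction n with
  | zero =>
    intro M _ _ _ _ _ p hp
    have : p.IsPrime := IsAssociatedPrime.isPrime hp
    exact ringKrullDim_nonneg_of_nontrivial
  | succ n ih =>
    intro M _ _ _ _ hd p hp
    have hpp : p.IsPrime := IsAssociatedPrime.isPrime hp
    have hne0 : LocCoh.depth A M ≠ 0 := by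
      rw [hd]; exact_mod_cast Nat.succ_ne_zero n
    rw [Ne, depth_eq_zero_iff_forall_not_isSMulRegular A M (maximalIdeal_smul_top_ne_top A M)] at hne0
    push Not at hne0
    obtain ⟨x, hxm, hx⟩ := hne0
    have hQ : Nontrivial (QuotSMulTop x M) := nontrivial_quotSMulTop A M hxm
    have hdQ : LocCoh.depth A (QuotSMulTop x M) = n := by
      have h1 := depth_quotSMulTop_add_one A M hxm hx
      rw [hd] at h1
      have h2 : LocCoh.depth A (QuotSMulTop x M) + 1 = (n : ℕ∞) + 1 := by
        rw [h1]; push_cast; rfl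
      exact ENat.add_left_injective_of_ne_top ENat.one_ne_top h2
    have hxp : x ∉ p := not_mem_of_isSMulRegular hp hx
    have hle : p ⊔ Ideal.span {x} ≤ maximalIdeal A := by
      rw [sup_le_iff, Ideal.span_singleton_le_iff_mem]
      exact ⟨le_maximalIdeal hpp.ne_top, hxm⟩
    obtain ⟨q, hq, -⟩ := Ideal.exists_minimalPrimes_le hle
    have hqA : q ∈ associatedPrimes A (QuotSMulTop x M) :=
      mem_associatedPrimes_quotSMulTop_of_mem_minimalPrimes x hx p hp q hq
    have hpq : p < q := by
      have h1 : p ⊔ Ideal.span {x} ≤ q := hq.1.2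
      refine lt_of_le_of_ne (le_sup_left.trans h1) ?_
      intro heq
      apply hxp
      rw [heq]
      exact h1 (Ideal.mem_sup_right (Ideal.mem_span_singleton_self x))
    have h1 := ih (QuotSMulTop x M) hdQ q hqA
    have h2 := ringKrullDim_quotient_succ_le_of_lt A hpq
    calc ((n + 1 : ℕ) : WithBot ℕ∞) = (n : WithBot ℕ∞) + 1 := by push_cast; rfl
      _ ≤ ringKrullDim (A ⧸ q) + 1 := by gcongr
      _ ≤ ringKrullDim (A ⧸ p) := h2

/-- `depth M ≤ dim A/p` for every associated prime `p` of a nonzero finite module. -/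
theorem depth_le_ringKrullDim_quotient (M : Type u) [AddCommGroup M] [Module A M]
    [Module.Finite A M] [Nontrivial M] {p : Ideal A} (hp : p ∈ associatedPrimes A M) :
    ((LocCoh.depth A M : ℕ∞) : WithBot ℕ∞) ≤ ringKrullDim (A ⧸ p) := by
  obtain ⟨n, hn⟩ := ENat.ne_top_iff_exists.1 (depth_ne_top A M)
  rw [← hn]
  exact depth_le_aux A n M hn.symm p hp

/-- `depth M ≤ dim M` for a nonzero finite module. -/
theorem depth_le_supportDim (M : Type u) [AddCommGroup M] [Module A M]
    [Module.Finite A M] [Nontrivial M] :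
    ((LocCoh.depth A M : ℕ∞) : WithBot ℕ∞) ≤ Module.supportDim A M := by
  obtain ⟨p, hp⟩ := associatedPrimes.nonempty A M
  exact (depth_le_ringKrullDim_quotient A M hp).trans (ringKrullDim_quotient_le_supportDim A M hp)

end DepthLeDim

end Groth.Agent.Lib.Helper29.DepthLib
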