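import Mathlib.RingTheory.Ideal.Cotangent
import Mathlib.RingTheory.RegularLocalRing.Defs
import Mathlib.LinearAlgebra.Dimension.Constructions
import Mathlib.LinearAlgebra.FiniteDimensional.Lemmas

/-!
# Cotangent space of a quotient of a local ring

For a local ring `A` and an ideal `I ≤ 𝔪`:
`dim_k 𝔪̄/𝔪̄² + dim_k ((I + 𝔪²)/𝔪²) = dim_k 𝔪/𝔪²`, where `𝔪̄` is the maximal ideal of `A/I`.
-/

set_option autoImplicit false
universe u

namespace Groth.Agent.Lib.Helper29.CotQuot

open IsLocalRing

variable {A : Type u} [CommRing A] [IsLocalRing A]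

/-- The image of an ideal `I` in the cotangent space `𝔪/𝔪²`, as a subspace over the residue field. -/
def imageCot (I : Ideal A) : Submodule (ResidueField A) (CotangentSpace A) where
  carrier := {v | ∃ x : maximalIdeal A, (x : A) ∈ I ∧ (maximalIdeal A).toCotangent x = v}
  add_mem' := by
    rintro _ _ ⟨x, hx, rfl⟩ ⟨y, hy, rfl⟩
    exact ⟨x + y, I.add_mem hx hy, map_add _ _ _⟩
  zero_mem' := ⟨0, I.zero_mem, map_zero _⟩
  smul_mem' := by
    rintro c _ ⟨x, hx, rfl⟩
    obtain ⟨a, rfl⟩ := residue_surjective c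
    refine ⟨a • x, I.mul_mem_left a hx, ?_⟩
    rw [map_smul]
    rfl

theorem mem_imageCot {I : Ideal A} {v : CotangentSpace A} :
    v ∈ imageCot I ↔ ∃ x : maximalIdeal A, (x : A) ∈ I ∧ (maximalIdeal A).toCotangent x = v :=
  Iff.rfl

theorem imageCot_span {ι : Type*} (x : ι → maximalIdeal A) :
    imageCot (Ideal.span (Set.range fun i => (x i : A))) =
      Submodule.span (ResidueField A) (Set.range fun i => (maximalIdeal A).toCotangent (x i)) := by
  apply le_antisymm
  · rintro _ ⟨y, hy, rfl⟩
    -- `y = Σ aᵢ xᵢ`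
    have key : ∀ z ∈ Ideal.span (Set.range fun i => (x i : A)), ∀ hz : z ∈ maximalIdeal A,
        (maximalIdeal A).toCotangent ⟨z, hz⟩ ∈
          Submodule.span (ResidueField A)
            (Set.range fun i => (maximalIdeal A).toCotangent (x i)) := by
      intro z hz
      refine Submodule.span_induction ?_ ?_ ?_ ?_ hz
      · rintro _ ⟨i, rfl⟩ hz
        exact Submodule.subset_span ⟨i, rfl⟩
      · intro hz
        have : (⟨0, hz⟩ : maximalIdeal A) = 0 := rfl
        rw [this, map_zero]
        exact Submodule.zero_mem _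
      · intro a b ha hb iha ihb hz
        -- `a, b ∈ span ⊆ 𝔪`
        have hle : Ideal.span (Set.range fun i => (x i : A)) ≤ maximalIdeal A := by
          rw [Ideal.span_le]
          rintro _ ⟨i, rfl⟩
          exact (x i).2
        have ha' := hle ha
        have hb' := hle hb
        have : (⟨a + b, hz⟩ : maximalIdeal A) = ⟨a, ha'⟩ + ⟨b, hb'⟩ := rfl
        rw [this, map_add]
        exact Submodule.add_mem _ (iha ha') (ihb hb')
      · intro a b hb ihb hz
        have hle : Ideal.span (Set.range fun i => (x i : A)) ≤ maximalIdeal A := by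
          rw [Ideal.span_le]
          rintro _ ⟨i, rfl⟩
          exact (x i).2
        have hb' := hle hb
        have : (⟨a • b, hz⟩ : maximalIdeal A) = a • ⟨b, hb'⟩ := rfl
        rw [this, map_smul]
        have h2 : a • (maximalIdeal A).toCotangent ⟨b, hb'⟩ =
            (residue A a) • ((maximalIdeal A).toCotangent ⟨b, hb'⟩ : CotangentSpace A) := rfl
        rw [h2]
        exact Submodule.smul_mem _ _ (ihb hb')
    exact key y hy y.2
  · rw [Submodule.span_le]
    rintro _ ⟨i, rfl⟩
    exact ⟨x i, Ideal.subset_span ⟨i, rfl⟩, rfl⟩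

/-- The key dimension count. -/
theorem finrank_cotangentSpace_quotient_add [IsNoetherianRing A] (I : Ideal A)
    (hI : I ≤ maximalIdeal A) [IsLocalRing (A ⧸ I)] :
    Module.finrank (ResidueField (A ⧸ I)) (CotangentSpace (A ⧸ I)) +
      Module.finrank (ResidueField A) (imageCot I) =
    Module.finrank (ResidueField A) (CotangentSpace A) := by
  have hsurj : Function.Surjective (algebraMap A (A ⧸ I)) := Ideal.Quotient.mk_surjective
  have : IsLocalHom (algebraMap A (A ⧸ I)) := IsLocalHom.of_surjective _ hsurj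
  have hker : RingHom.ker (algebraMap A (A ⧸ I)) = I := Ideal.mk_ker
  have hle : RingHom.ker (algebraMap A (A ⧸ I)) ≤ maximalIdeal A := by rw [hker]; exact hI
  have comapeq : (maximalIdeal (A ⧸ I)).comap (algebraMap A (A ⧸ I)) =
      RingHom.ker (algebraMap A (A ⧸ I)) ⊔ maximalIdeal A := by
    rw [IsLocalRing.maximalIdeal_comap (algebraMap A (A ⧸ I)), sup_eq_right.mpr hle]
  let g := Ideal.mapCotangent (maximalIdeal A) (maximalIdeal (A ⧸ I)) (Algebra.ofId A (A ⧸ I))
    (le_of_le_of_eq le_sup_right comapeq.symm)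
  have surj : Function.Surjective g := Ideal.mapCotangent_surjective_of_comap_eq hsurj comapeq
  have hkerg : LinearMap.ker g = (imageCot I).restrictScalars A := by
    rw [Ideal.mapCotangent_ker_of_surjective hsurj comapeq, hker]
    ext v
    constructor
    · rintro ⟨x, hx, rfl⟩
      exact ⟨x, (Ideal.mem_inf.mp hx).1, rfl⟩
    · rintro ⟨x, hx, rfl⟩
      exact ⟨x, Ideal.mem_inf.mpr ⟨hx, x.2⟩, rfl⟩
  -- the additive equivalence `(𝔪/𝔪²)/W ≃ 𝔪̄/𝔪̄²`
  let e₁ : ((maximalIdeal A).Cotangent ⧸ LinearMap.ker g) ≃ₗ[A] (maximalIdeal (A ⧸ I)).Cotangent :=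
    g.quotKerEquivOfSurjective surj
  let e₂ : ((maximalIdeal A).Cotangent ⧸ LinearMap.ker g) ≃ₗ[A]
      (CotangentSpace A ⧸ (imageCot I).restrictScalars A) :=
    Submodule.quotEquivOfEq _ _ hkerg
  let e₃ : (CotangentSpace A ⧸ (imageCot I).restrictScalars A) ≃ₗ[A]
      (CotangentSpace A ⧸ imageCot I) :=
    Submodule.Quotient.restrictScalarsEquiv A (imageCot I)
  let e : (CotangentSpace A ⧸ imageCot I) ≃+ CotangentSpace (A ⧸ I) :=
    ((e₃.symm.trans e₂.symm).trans e₁).toAddEquiv
  have hbij : Function.Bijective (IsLocalRing.ResidueField.map (algebraMap A (A ⧸ I))) := by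
    refine ⟨RingHom.injective _, fun y => ?_⟩
    obtain ⟨y', rfl⟩ := IsLocalRing.residue_surjective y
    obtain ⟨x, rfl⟩ := hsurj y'
    exact ⟨IsLocalRing.residue A x, rfl⟩
  have rkeq := rank_eq_of_equiv_equiv _ e hbij (fun r m ↦ by
    rcases IsLocalRing.residue_surjective r with ⟨s, rfl⟩
    exact map_smul ((e₃.symm.trans e₂.symm).trans e₁) s m)
  have h1 : Module.finrank (ResidueField A) (CotangentSpace A ⧸ imageCot I) =
      Module.finrank (ResidueField (A ⧸ I)) (CotangentSpace (A ⧸ I)) := by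
    simp only [Module.finrank, rkeq]
  rw [← h1]
  exact Submodule.finrank_quotient_add_finrank (imageCot I)

end Groth.Agent.Lib.Helper29.CotQuot
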