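import Groth.Agent.Lib.Helper46.TorRegular
import Groth.Agent.Lib.Helper46.TorOne
import Groth.Agent.Lib.Helper2.LocalCriterion
import Mathlib.RingTheory.Regular.Flat
import Mathlib.RingTheory.LocalRing.ResidueField.Basic

/-!
# Flatness and regular sequences (EGA 0_IV 15.1.21)

For `fs` a sequence which is regular on `A` and on `M`, `Torᵢ(A/(fs), M) = 0` for `i ≥ 1`; combined
with the local criterion of flatness this gives: `M` is flat over `A` iff `M/(fs)M` is flat over
`A/(fs)` and `fs` is `M`-regular.
-/

set_option autoImplicit false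
universe u

namespace Groth.Agent.Lib.Helper29.RegFlat

open RingTheory.Sequence TensorProduct CategoryTheory
open Groth.Agent.Lib.Helper46 Groth.Agent.Lib.Helper46.TorShift

section Tor

variable (A : Type u) [CommRing A] (M : Type u) [AddCommGroup M] [Module A M]

/-- `Torᵢ(A/(l), M) = 0` for `i ≥ 1` when `l` is weakly regular on `A` and on `M`. -/
theorem isZero_tor_quot_of_isWeaklyRegular (l : List A) (hA : IsWeaklyRegular A l)
    (hM : IsWeaklyRegular M l) :
    ∀ i, 1 ≤ i → Limits.IsZero (T A i (A ⧸ Ideal.ofList l) M) := by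
  induction l using List.reverseRecOn with
  | nil =>
    intro i hi
    have e : (A ⧸ Ideal.ofList ([] : List A)) ≃ₗ[A] A :=
      Submodule.quotEquivOfEqBot _ Ideal.ofList_nil
    obtain ⟨k, rfl⟩ : ∃ k, i = k + 1 := ⟨i - 1, by omega⟩
    exact isZero_congr e.symm (LinearEquiv.refl A M) (k + 1) (isZero_of_flat_left A M k)
  | append_singleton l r ih =>
    have hA' := (isWeaklyRegular_append_iff A l [r]).mp hA
    have hM' := (isWeaklyRegular_append_iff M l [r]).mp hM
    have hreg := TorRegular.isSMulRegular_quot_of_snoc A l r hA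
    have hex := TorRegular.exact_quot_snoc A l r
    have hπ : Function.Surjective (Submodule.factor (TorRegular.ofList_le_snoc A l r)) :=
      Submodule.factor_surjective _
    have hr : IsSMulRegular ((A ⧸ Ideal.ofList l) ⊗[A] M) r := by
      have h1 : IsSMulRegular (M ⧸ (Ideal.ofList l • ⊤ : Submodule A M)) r :=
        (isWeaklyRegular_singleton_iff _ r).mp hM'.2
      exact ((TensorProduct.quotTensorEquivQuotSMul M (Ideal.ofList l)).isSMulRegular_congr r).mpr h1
    exact TorLinear.isZero_tor_quot_of_regular r _ hreg hex hπ (ih hA'.1 hM'.1) hr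

/-- `(l) ⊗ M → M` is injective when `l` is weakly regular on `A` and on `M`. -/
theorem rTensor_subtype_injective_of_isWeaklyRegular (l : List A) (hA : IsWeaklyRegular A l)
    (hM : IsWeaklyRegular M l) :
    Function.Injective (LinearMap.rTensor M (Ideal.ofList l).subtype) := by
  have h := isZero_tor_quot_of_isWeaklyRegular A M l hA hM 1 le_rfl
  exact (TorOne.isZero_tor_one_iff_injective_rTensor (Submodule.subtype (Ideal.ofList l))
    (Submodule.mkQ (Ideal.ofList l)) (Submodule.subtype_injective _)
    (LinearMap.exact_subtype_mkQ _) (Submodule.mkQ_surjective _)).mp h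

end Tor

section Flat

variable (A : Type u) [CommRing A] (M : Type u) [AddCommGroup M] [Module A M]

/-- `(A/J) ⊗ M ≃ M/JM` as `A/J`-modules. -/
noncomputable def quotTensorEquiv (J : Ideal A) :
    ((A ⧸ J) ⊗[A] M) ≃ₗ[A ⧸ J] (M ⧸ (J • (⊤ : Submodule A M))) :=
  (TensorProduct.quotTensorEquivQuotSMul M J).extendScalarsOfSurjective
    Ideal.Quotient.mk_surjective

theorem flat_baseChange_iff (J : Ideal A) :
    Module.Flat (A ⧸ J) ((A ⧸ J) ⊗[A] M) ↔
      Module.Flat (A ⧸ J) (M ⧸ (J • (⊤ : Submodule A M))) :=
  ⟨fun _ => Module.Flat.of_linearEquiv (quotTensorEquiv A M J).symm,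
    fun _ => Module.Flat.of_linearEquiv (quotTensorEquiv A M J)⟩

/-- A weakly regular sequence on `A` stays weakly regular on a flat module. -/
theorem isWeaklyRegular_of_flat [Module.Flat A M] (l : List A) (X : Type u) [AddCommGroup X]
    [Module A X] (hX : IsWeaklyRegular X l) : IsWeaklyRegular (X ⊗[A] M) l := by
  induction l generalizing X with
  | nil => exact IsWeaklyRegular.nil A _
  | cons x xs ih =>
    rw [isWeaklyRegular_cons_iff] at hX ⊢
    refine ⟨?_, ?_⟩
    · have hinj : Function.Injective (LinearMap.rTensor M (LinearMap.lsmul A X x)) :=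
        Module.Flat.rTensor_preserves_injective_linearMap _ hX.1
      intro a b hab
      apply hinj
      have h : ∀ c : X ⊗[A] M, LinearMap.rTensor M (LinearMap.lsmul A X x) c = x • c := by
        intro c
        induction c using TensorProduct.induction_on with
        | zero => simp
        | tmul y m => simp [TensorProduct.smul_tmul']
        | add y z hy hz => rw [map_add, hy, hz, smul_add]
      rw [h, h]
      exact hab
    · exact ((QuotSMulTop.quotSMulTopTensorEquivQuotSMulTop x M X).isWeaklyRegular_congr xs).mp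
        (ih (QuotSMulTop x X) hX.2)

theorem isWeaklyRegular_of_flat_self [Module.Flat A M] (l : List A) (hA : IsWeaklyRegular A l) :
    IsWeaklyRegular M l :=
  ((TensorProduct.lid A M).isWeaklyRegular_congr l).mp (isWeaklyRegular_of_flat A M l A hA)

end Flat

section Local

/-- EGA 0_IV 15.1.21 (the nontrivial direction). -/
theorem flat_of_flat_quotient_of_isWeaklyRegular
    (A B : Type u) [CommRing A] [CommRing B] [IsLocalRing A] [IsLocalRing B]
    [IsNoetherianRing A] [IsNoetherianRing B] [Algebra A B] [IsLocalHom (algebraMap A B)]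
    (M : Type u) [AddCommGroup M] [Module B M] [Module A M] [IsScalarTower A B M]
    [Module.Finite B M] (fs : List A)
    (hfs : ∀ f ∈ fs, f ∈ IsLocalRing.maximalIdeal A) (hA : IsWeaklyRegular A fs)
    (hM : IsWeaklyRegular M fs)
    (hflat : Module.Flat (A ⧸ Ideal.ofList fs) (M ⧸ (Ideal.ofList fs • (⊤ : Submodule A M)))) :
    Module.Flat A M := by
  have hI : (Ideal.ofList fs).map (algebraMap A B) ≤ Ideal.jacobson ⊥ := by
    rw [IsLocalRing.jacobson_eq_maximalIdeal ⊥ bot_ne_top]
    refine le_trans (Ideal.map_mono ?_) (IsLocalRing.map_maximalIdeal_le (algebraMap A B))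
    rw [Ideal.ofList, Ideal.span_le]
    intro f hf
    exact hfs f hf
  exact Groth.Agent.Lib.Helper2.flat_of_rTensor_injective_of_flat_quotient (S := B)
    (Ideal.ofList fs) hI (rTensor_subtype_injective_of_isWeaklyRegular A M fs hA hM)
    ((flat_baseChange_iff A M (Ideal.ofList fs)).mpr hflat)

theorem flat_quotient_and_isWeaklyRegular_of_flat (A : Type u) [CommRing A]
    (M : Type u) [AddCommGroup M] [Module A M] [Module.Flat A M] (fs : List A)
    (hA : IsWeaklyRegular A fs) :
    Module.Flat (A ⧸ Ideal.ofList fs) (M ⧸ (Ideal.ofList fs • (⊤ : Submodule A M))) ∧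
      IsWeaklyRegular M fs :=
  ⟨(flat_baseChange_iff A M (Ideal.ofList fs)).mp inferInstance,
    isWeaklyRegular_of_flat_self A M fs hA⟩

end Local

end Groth.Agent.Lib.Helper29.RegFlat
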