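import Groth.Agent.Lib.Helper29.CM
import Groth.Agent.S5671
import Groth.Agent.Lib.Helper83.RegQuot

/-!
# Ideals generated by regular sequences in Cohen–Macaulay / regular local rings

* `exists_isRegular_iff_of_isCM` : in a Cohen–Macaulay local ring, a proper ideal `I` is generated by
  a regular sequence iff `μ(I) + dim R/I ≤ dim R`.
-/

set_option autoImplicit false
universe u

namespace Groth.Agent.Lib.Helper29.RegIdeal

open IsLocalRing RingTheory.Sequence

theorem ofList_toList {R : Type u} [CommRing R] (s : Finset R) :
    Ideal.ofList s.toList = Ideal.span (s : Set R) := by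
  unfold Ideal.ofList
  congr 1
  ext x
  simp

theorem spanFinrank_ofList_le {R : Type u} [CommRing R] (rs : List R) :
    (Ideal.ofList rs).spanFinrank ≤ rs.length := by
  classical
  have h1 : Ideal.ofList rs = Ideal.span ((rs.toFinset : Finset R) : Set R) := by
    unfold Ideal.ofList
    congr 1
    ext x
    simp
  rw [h1]
  have := Submodule.spanFinrank_span_le_ncard_of_finite (R := R) (Finset.finite_toSet rs.toFinset)
  rw [Set.ncard_coe_finset] at this
  exact this.trans (List.toFinset_card_le rs)

/-- In a Cohen–Macaulay local ring, a proper ideal is generated by a regular sequence iff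
`μ(I) + dim R/I ≤ dim R`. -/
theorem exists_isRegular_iff_of_isCM {R : Type u} [CommRing R] [IsLocalRing R] [IsNoetherianRing R]
    (hR : LocCoh.IsCohenMacaulayModule R R) (I : Ideal R) (hI : I ≠ ⊤) :
    (∃ rs : List R, Ideal.ofList rs = I ∧ IsRegular R rs) ↔
      (I.spanFinrank : WithBot ℕ∞) + ringKrullDim (R ⧸ I) ≤ ringKrullDim R := by
  classical
  constructor
  · rintro ⟨rs, rfl, hreg⟩
    have h1 := ringKrullDim_add_length_eq_ringKrullDim_of_isRegular rs hreg
    have h2 := spanFinrank_ofList_le rs
    rw [← h1, add_comm]
    gcongr
  · intro h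
    obtain ⟨s, hcard, hspan⟩ :=
      Submodule.FG.exists_span_finset_card_eq_spanFinrank (I.fg_of_isNoetherianRing)
    have hofl : Ideal.ofList s.toList = I := by rw [ofList_toList]; exact hspan
    have hlen : s.toList.length = I.spanFinrank := by rw [Finset.length_toList, hcard]
    have hIm : I ≤ maximalIdeal R := le_maximalIdeal hI
    have hmem : ∀ x ∈ s.toList, x ∈ maximalIdeal R := by
      intro x hx
      apply hIm
      rw [← hspan]
      exact Submodule.subset_span (by simpa using hx)
    refine ⟨s.toList, hofl, ?_, ?_⟩
    · have key := (CMLib.isWeaklyRegular_iff_of_isCM R s.toList R hR hmem).1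
      rw [key]
      have h1 := CMLib.supportDim_le_quotient_add_length R s.toList R hmem
      have hIt : Ideal.ofList s.toList • (⊤ : Submodule R R) = I := by
        rw [smul_eq_mul, Ideal.mul_top, hofl]
      rw [hIt, Module.supportDim_self_eq_ringKrullDim, Module.supportDim_quotient_eq_ringKrullDim,
        hlen] at h1 ⊢
      refine le_antisymm ?_ h1
      rw [add_comm]
      exact h
    · rw [smul_eq_mul, Ideal.mul_top, hofl]
      exact fun h' => hI h'.symm

/-- Nakayama: the conormal module `I/I²` needs as many generators over `R/I` as `I` over `R`. -/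
theorem spanFinrank_cotangent {R : Type u} [CommRing R] (I : Ideal R) (hfg : I.FG)
    (hj : I ≤ Ideal.jacobson ⊥) :
    (⊤ : Submodule (R ⧸ I) I.Cotangent).spanFinrank = I.spanFinrank := by
  classical
  have h0 : (⊤ : Submodule (R ⧸ I) I.Cotangent).spanFinrank =
      (⊤ : Submodule R I.Cotangent).spanFinrank := by
    have := Submodule.spanRank_restrictScalars_eq (R := R) (S := R ⧸ I) (M := I.Cotangent)
      Ideal.Quotient.mk_surjective ⊤
    rw [Submodule.restrictScalars_top] at this
    simp only [Submodule.spanFinrank, this]
  rw [h0]
  have hfgI : (⊤ : Submodule R I).FG := (Submodule.fg_top I).2 hfg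
  apply le_antisymm
  · have h1 := Submodule.spanFinrank_map_le_of_fg I.toCotangent hfgI
    rw [Submodule.map_top, LinearMap.range_eq_top.2 I.toCotangent_surjective,
      Submodule.spanFinrank_top] at h1
    exact h1
  · have hfgC : (⊤ : Submodule R I.Cotangent).FG := by
      rw [← LinearMap.range_eq_top.2 I.toCotangent_surjective, ← Submodule.map_top]
      exact hfgI.map _
    obtain ⟨t, hcard, hspan⟩ := Submodule.FG.exists_span_finset_card_eq_spanFinrank hfgC
    choose g hg using I.toCotangent_surjective
    set s : Finset R := t.image (fun c => (g c : R)) with hs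
    have hsI : Ideal.span (s : Set R) ≤ I := by
      rw [Ideal.span_le]
      intro z hz
      simp only [hs, Finset.coe_image, Set.mem_image, Finset.mem_coe] at hz
      obtain ⟨c, _, rfl⟩ := hz
      exact (g c).2
    have hle : I ≤ Ideal.span (s : Set R) ⊔ I • I := by
      intro y hy
      have h1 : I.toCotangent ⟨y, hy⟩ ∈ Submodule.span R (t : Set I.Cotangent) := by
        rw [hspan]; trivial
      have h2 : (t : Set I.Cotangent) = I.toCotangent '' ((t.image g : Finset I) : Set I) := by
        ext w
        simp only [Finset.coe_image, Set.mem_image, Finset.mem_coe]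
        constructor
        · intro hw; exact ⟨g w, ⟨w, hw, rfl⟩, hg w⟩
        · rintro ⟨_, ⟨v, hv, rfl⟩, rfl⟩; rwa [hg v]
      rw [h2, ← Submodule.map_span] at h1
      obtain ⟨z, hz, hzy⟩ := h1
      have h3 : ((z : R) - y) ∈ I ^ 2 := by
        have := (Ideal.toCotangent_eq I (x := z) (y := ⟨y, hy⟩)).1 hzy
        exact this
      have h4 : (z : R) ∈ Ideal.span (s : Set R) := by
        have : Submodule.map (Submodule.subtype I) (Submodule.span R ((t.image g : Finset I) : Set I))
            ≤ Ideal.span (s : Set R) := by
          rw [Submodule.map_span]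
          apply Submodule.span_mono
          intro w hw
          simp only [Finset.coe_image, Set.mem_image, Finset.mem_coe, Submodule.coe_subtype] at hw
          obtain ⟨_, ⟨c, hc, rfl⟩, rfl⟩ := hw
          simp only [hs, Finset.coe_image, Set.mem_image, Finset.mem_coe]
          exact ⟨c, hc, rfl⟩
        exact this ⟨z, hz, rfl⟩
      have : y = z + -(z - y) := by ring
      rw [this]
      refine Submodule.add_mem_sup h4 (neg_mem ?_)
      rwa [pow_two] at h3
    have hIs : I ≤ Ideal.span (s : Set R) :=
      Submodule.le_of_le_smul_of_le_jacobson_bot hfg hj hle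
    have heq : Ideal.span (s : Set R) = I := le_antisymm hsI hIs
    have h1 : I.spanFinrank ≤ s.card := by
      conv_lhs => rw [← heq]
      have := Submodule.spanFinrank_span_le_ncard_of_finite (R := R) (Finset.finite_toSet s)
      rwa [Set.ncard_coe_finset] at this
    have h3 : s.card ≤ t.card := Finset.card_image_le
    omega

end Groth.Agent.Lib.Helper29.RegIdeal
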