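import Groth.Prelude
import Groth.Agent.Lib.Helper29.CM
import Groth.Agent.Lib.Helper29.CotQuot
import Groth.Agent.Lib.Helper29.FlatLocal2
import Groth.Agent.Lib.Helper29.RegFlat
import Groth.Agent.Lib.Helper29.RegIdeal
import Groth.Agent.S5671

/-!
# Dimension and embedding dimension along local homomorphisms

For a local homomorphism `A → B` of Noetherian local rings with closed fibre `B₀ = B/𝔪_A B`:
* `dim B ≤ dim A + dim B₀`, with equality if `B` is flat;
* `edim B ≤ edim A + edim B₀`;
* if `A` is regular, `B` is Cohen–Macaulay and `dim B = dim A + dim B₀` then `B` is flat.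
-/

set_option autoImplicit false
universe u

namespace Groth.Agent.Lib.Helper29.RegHom

open IsLocalRing TensorProduct RingTheory.Sequence Groth.Agent.Lib.Helper29
  Groth.Agent.Lib.Helper29.CotQuot

variable (A B : Type u) [CommRing A] [IsLocalRing A] [IsNoetherianRing A] [CommRing B]
  [IsLocalRing B] [IsNoetherianRing B] [Algebra A B] [IsLocalHom (algebraMap A B)]

omit [IsLocalRing B] [IsNoetherianRing B] [IsNoetherianRing A] [IsLocalHom (algebraMap A B)] in
theorem supportDim_fibre :
    Module.supportDim B (B ⧸ ((maximalIdeal A).map (algebraMap A B) • (⊤ : Submodule B B))) =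
      ringKrullDim (B ⧸ (maximalIdeal A).map (algebraMap A B)) := by
  rw [Module.supportDim_eq_of_equiv (Submodule.quotEquivOfEq
    ((maximalIdeal A).map (algebraMap A B) • (⊤ : Submodule B B))
    ((maximalIdeal A).map (algebraMap A B)) (by rw [smul_eq_mul, Ideal.mul_top])),
    Module.supportDim_quotient_eq_ringKrullDim]

omit [IsLocalRing A] [IsNoetherianRing A] [IsLocalRing B] [IsNoetherianRing B]
  [IsLocalHom (algebraMap A B)] in
theorem supportDim_tensor_self : Module.supportDim B (B ⊗[A] A) = ringKrullDim B := by
  rw [Module.supportDim_eq_of_equiv (TensorProduct.AlgebraTensorModule.rid A B B),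
    Module.supportDim_self_eq_ringKrullDim]

/-- `dim B ≤ dim A + dim B/𝔪_A B`. -/
theorem ringKrullDim_le_add :
    ringKrullDim B ≤ ringKrullDim A + ringKrullDim (B ⧸ (maximalIdeal A).map (algebraMap A B)) := by
  have h := FlatLocal.supportDim_tensor_le A B A B
  rw [supportDim_tensor_self, supportDim_fibre, Module.supportDim_self_eq_ringKrullDim] at h
  exact h

/-- `dim B = dim A + dim B/𝔪_A B` for flat local homomorphisms. -/
theorem ringKrullDim_eq_add [Module.Flat A B] :
    ringKrullDim B = ringKrullDim A + ringKrullDim (B ⧸ (maximalIdeal A).map (algebraMap A B)) := by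
  have h := FlatLocal.supportDim_tensor_eq A B B A
  rw [supportDim_tensor_self, supportDim_fibre, Module.supportDim_self_eq_ringKrullDim] at h
  exact h


/-- `edim B ≤ edim A + edim B/𝔪_A B`. -/
theorem finrank_cotangentSpace_le_add
    [IsLocalRing (B ⧸ (maximalIdeal A).map (algebraMap A B))] :
    Module.finrank (ResidueField B) (CotangentSpace B) ≤
      Module.finrank (ResidueField A) (CotangentSpace A) +
        Module.finrank (ResidueField (B ⧸ (maximalIdeal A).map (algebraMap A B)))
          (CotangentSpace (B ⧸ (maximalIdeal A).map (algebraMap A B))) := by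
  classical
  have hmle : (maximalIdeal A).map (algebraMap A B) ≤ maximalIdeal B :=
    IsLocalRing.map_maximalIdeal_le (algebraMap A B)
  have e2 := finrank_cotangentSpace_quotient_add ((maximalIdeal A).map (algebraMap A B)) hmle
  have hfg : Submodule.FG (maximalIdeal A) := IsNoetherian.noetherian (maximalIdeal A)
  have hfin := Submodule.FG.finite_generators hfg
  have : Fintype ↥(Submodule.generators (maximalIdeal A)) := hfin.fintype
  have hgm : ∀ i : ↥(Submodule.generators (maximalIdeal A)), algebraMap A B i ∈ maximalIdeal B :=
    fun i => hmle (Ideal.mem_map_of_mem _ (Submodule.FG.generators_mem _ i.2))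
  let x : ↥(Submodule.generators (maximalIdeal A)) → maximalIdeal B :=
    fun i => ⟨algebraMap A B i, hgm i⟩
  have h1 : (maximalIdeal A).map (algebraMap A B) = Ideal.span (Set.range fun i => (x i : B)) := by
    conv_lhs => rw [← Submodule.span_generators (maximalIdeal A)]
    change Ideal.map (algebraMap A B) (Ideal.span _) = _
    rw [Ideal.map_span]
    congr 1
    ext b
    simp [x]
  have h2 : Module.finrank (ResidueField B)
      (imageCot ((maximalIdeal A).map (algebraMap A B))) ≤ (maximalIdeal A).spanFinrank := by
    rw [h1, imageCot_span]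
    have h3 := finrank_range_le_card (R := ResidueField B)
      (fun i => (maximalIdeal B).toCotangent (x i))
    have h4 : Fintype.card ↥(Submodule.generators (maximalIdeal A)) =
        (maximalIdeal A).spanFinrank := by
      rw [← Submodule.FG.generators_ncard hfg, Set.ncard_eq_toFinset_card']
      simp
    rw [h4] at h3
    simpa [Set.finrank] using h3
  rw [spanFinrank_maximalIdeal_eq_finrank_cotangentSpace A] at h2
  omega

/-- EGA 0_IV 17.3.3 (e) ⇒ flat: if `A` is regular, `B` is CM and `dim B = dim A + dim B₀` then `B`
is flat over `A`. -/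
theorem flat_of_regular_of_isCM [IsRegularLocalRing A] (hB : LocCoh.IsCohenMacaulayModule B B)
    (hdim : ringKrullDim B =
      ringKrullDim A + ringKrullDim (B ⧸ (maximalIdeal A).map (algebraMap A B))) :
    Module.Flat A B := by
  have hAcm : LocCoh.IsCohenMacaulayModule A A := Groth.Agent.S5671.isCM_of_regular _
  have hdimF : ringKrullDim (A ⧸ maximalIdeal A) = 0 := by
    change ringKrullDim (ResidueField A) = 0
    exact ringKrullDim_eq_zero_of_field _
  obtain ⟨ys, hys, hreg⟩ := (RegIdeal.exists_isRegular_iff_of_isCM hAcm (maximalIdeal A)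
    (Ideal.IsPrime.ne_top inferInstance)).2 (by
      rw [hdimF, add_zero]
      exact IsRegularLocalRing.spanFinrank_maximalIdeal.le)
  have hlen : (ys.length : WithBot ℕ∞) = ringKrullDim A := by
    have h1 := ringKrullDim_add_length_eq_ringKrullDim_of_isRegular ys hreg
    rw [hys, hdimF, zero_add] at h1
    exact h1
  have hmem : ∀ y ∈ ys, y ∈ maximalIdeal A := by
    intro y hy
    rw [← hys]
    exact Ideal.subset_span hy
  have hmemB : ∀ b ∈ ys.map (algebraMap A B), b ∈ maximalIdeal B := by
    intro b hb
    obtain ⟨y, hy, rfl⟩ := List.mem_map.1 hb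
    exact IsLocalRing.map_maximalIdeal_le (algebraMap A B) (Ideal.mem_map_of_mem _ (hmem y hy))
  have hofList : Ideal.ofList (ys.map (algebraMap A B)) =
      (maximalIdeal A).map (algebraMap A B) := by
    rw [← hys, Ideal.map_ofList]
  have hiff := (CMLib.isWeaklyRegular_iff_of_isCM B (ys.map (algebraMap A B)) B hB hmemB).1
  have hregB : IsWeaklyRegular B (ys.map (algebraMap A B)) := by
    rw [hiff, hofList, supportDim_fibre, List.length_map, Module.supportDim_self_eq_ringKrullDim,
      hdim, hlen, add_comm]
  have hregB' : IsWeaklyRegular B ys := (isWeaklyRegular_map_algebraMap_iff B B ys).1 hregB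
  have key : ∀ (J : Ideal A), J = maximalIdeal A →
      Module.Flat (A ⧸ J) (B ⧸ (J • (⊤ : Submodule A B))) := by
    rintro J rfl
    let _ : Field (A ⧸ maximalIdeal A) := Ideal.Quotient.field (maximalIdeal A)
    infer_instance
  exact RegFlat.flat_of_flat_quotient_of_isWeaklyRegular A B B ys hmem hreg.toIsWeaklyRegular hregB'
    (key _ hys)

end Groth.Agent.Lib.Helper29.RegHom
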