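import Groth.Agent.Lib.Helper29.TopDim

set_option autoImplicit false
universe u

namespace Groth.Agent.Lib.Helper29

open TopologicalSpace Order Set Topology

variable {X : Type u} [TopologicalSpace X]

theorem localDim_le_dim_of_mem (x : X) (U : TopologicalSpace.Opens X) (hx : x ∈ U) :
    FlatMor.localDim X x ≤ topologicalKrullDim (U : Set X) := by
  unfold FlatMor.localDim
  exact iInf_le (fun U : {U : TopologicalSpace.Opens X // x ∈ U} =>
    topologicalKrullDim (U.1 : Set X)) ⟨U, hx⟩

theorem localDim_le_dim (x : X) : FlatMor.localDim X x ≤ topologicalKrullDim X :=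
  (localDim_le_dim_of_mem x ⊤ trivial).trans (topologicalKrullDim_subspace_le X _)

theorem length_le_localDim (p : LTSeries (IrreducibleCloseds X)) (x : X)
    (hx : x ∈ (p.head : Set X)) : (p.length : WithBot ℕ∞) ≤ FlatMor.localDim X x := by
  unfold FlatMor.localDim
  exact le_iInf fun U => length_le_dim_of_open (U.1 : Set X) U.1.isOpen p x hx U.2

theorem topologicalKrullDim_eq_iSup_localDim :
    topologicalKrullDim X = ⨆ x : X, FlatMor.localDim X x := by
  apply le_antisymm
  · rw [topologicalKrullDim_le_iff_forall_chain]
    intro p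
    obtain ⟨x, hx⟩ := exists_mem_head p
    exact (length_le_localDim p x hx).trans (le_iSup (fun x => FlatMor.localDim X x) x)
  · exact iSup_le fun x => localDim_le_dim x

theorem upperSemicontinuous_localDim :
    UpperSemicontinuous fun x : X => FlatMor.localDim X x := by
  intro x c hc
  unfold FlatMor.localDim at hc
  rw [iInf_lt_iff] at hc
  obtain ⟨U, hU⟩ := hc
  have : (U.1 : Set X) ∈ nhds x := U.1.isOpen.mem_nhds U.2
  filter_upwards [this] with y hy
  exact lt_of_le_of_lt (localDim_le_dim_of_mem y U.1 hy) hU

/-- In a Noetherian T0 space every nonempty closed set contains a closed point. -/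
theorem exists_closed_point_mem [NoetherianSpace X] [T0Space X] {S : Set X} (hS : IsClosed S)
    (hne : S.Nonempty) : ∃ x ∈ S, IsClosed ({x} : Set X) :=
  hS.exists_closed_singleton hne

theorem topologicalKrullDim_eq_iSup_localDim_closedPoints [NoetherianSpace X] [T0Space X] :
    topologicalKrullDim X = ⨆ x ∈ {x : X | IsClosed ({x} : Set X)}, FlatMor.localDim X x := by
  apply le_antisymm
  · rw [topologicalKrullDim_le_iff_forall_chain]
    intro p
    obtain ⟨x, hx, hxc⟩ := exists_closed_point_mem p.head.isClosed p.head.isIrreducible.nonempty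
    exact (length_le_localDim p x hx).trans
      (le_iSup₂ (f := fun x (_ : x ∈ {x : X | IsClosed ({x} : Set X)}) => FlatMor.localDim X x) x hxc)
  · exact iSup₂_le fun x _ => localDim_le_dim x

end Groth.Agent.Lib.Helper29
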