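import Groth.Agent.Lib.Helper29.ExtRegSeq
import Groth.Agent.Lib.Helper29.CM

/-!
# Depth via `Ext` (Rees), for `LocCoh.idealDepth`
-/

set_option autoImplicit false
universe u

namespace Groth.Agent.Lib.Helper29.DepthExt

open CategoryTheory Abelian RingTheory.Sequence Pointwise
open Groth.Agent.Lib.Helper29 Groth.Agent.Lib.Helper29.DepthLib Groth.Agent.Lib.Helper29.CMLib

variable {R : Type u} [CommRing R] [IsNoetherianRing R] (I : Ideal R)
  (M : Type u) [AddCommGroup M] [Module R M] [Module.Finite R M]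

omit [IsNoetherianRing R] [Module.Finite R M] in
theorem mem_annihilator_quotient {x : R} (hx : x ∈ I) :
    x ∈ Module.annihilator R (ModuleCat.of R (R ⧸ I)) := by
  rw [Module.mem_annihilator]
  intro k
  obtain ⟨a, rfl⟩ := Ideal.Quotient.mk_surjective k
  change Ideal.Quotient.mk I (x * a) = 0
  rw [Ideal.Quotient.eq_zero_iff_mem]
  exact Ideal.mul_mem_right _ _ hx

/-- `Ext^i(R/I, M) = 0` for `i < depth_I M`. -/
theorem subsingleton_ext_of_lt_idealDepth (hIM : I • (⊤ : Submodule R M) ≠ ⊤) (i : ℕ)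
    (hi : (i : ℕ∞) < LocCoh.idealDepth I M) :
    Subsingleton (Ext (ModuleCat.of R (R ⧸ I)) (ModuleCat.of R M) i) := by
  obtain ⟨rs, hreg, hmem, -, hlen⟩ := exists_maximal_regular I M hIM
  rw [← hlen] at hi
  have hi' : i < rs.length := by exact_mod_cast hi
  constructor
  intro a b
  rw [ExtRegSeq.ext_vanish _ rs M (fun x hx => mem_annihilator_quotient I (hmem x hx)) hreg i hi' a,
    ExtRegSeq.ext_vanish _ rs M (fun x hx => mem_annihilator_quotient I (hmem x hx)) hreg i hi' b]

/-- `Ext^d(R/I, M) ≠ 0` for `d = depth_I M`. -/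
theorem nontrivial_ext_of_idealDepth_eq (hIM : I • (⊤ : Submodule R M) ≠ ⊤) (d : ℕ)
    (hd : LocCoh.idealDepth I M = d) :
    Nontrivial (Ext (ModuleCat.of R (R ⧸ I)) (ModuleCat.of R M) d) := by
  obtain ⟨rs, hreg, hmem, hmax, hlen⟩ := exists_maximal_regular I M hIM
  have hlen' : rs.length = d := by
    have : (rs.length : ℕ∞) = (d : ℕ∞) := hlen.trans hd
    exact_mod_cast this
  obtain ⟨e⟩ := ExtRegSeq.ext_iso (ModuleCat.of R (R ⧸ I)) rs M
    (fun x hx => mem_annihilator_quotient I (hmem x hx)) hreg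
  rw [hlen'] at e
  -- every element of `I` is a zero divisor on `M' = M/(rs)M`
  have hzd : ∀ x ∈ I, ¬ IsSMulRegular (M ⧸ (Ideal.ofList rs • (⊤ : Submodule R M))) x := by
    intro x hx hx'
    apply hmax x hx
    rw [isWeaklyRegular_append_iff]
    refine ⟨hreg, ?_⟩
    rw [isWeaklyRegular_cons_iff]
    exact ⟨hx', IsWeaklyRegular.nil _ _⟩
  obtain ⟨q, hq, hIq⟩ := exists_mem_ass_ge R (M ⧸ (Ideal.ofList rs • (⊤ : Submodule R M))) I hzd
  obtain ⟨-, m, hm⟩ := isAssociatedPrime_iff.1 hq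
  have hm0 : m ≠ 0 := by
    rintro rfl
    apply hq.isPrime.ne_top
    rw [hm, Ideal.eq_top_iff_one, Submodule.mem_colon_singleton, smul_zero]
    exact Submodule.zero_mem _
  let φ : (R ⧸ I) →ₗ[R] (M ⧸ (Ideal.ofList rs • (⊤ : Submodule R M))) :=
    Submodule.liftQ I (LinearMap.toSpanSingleton R _ m) (by
      intro a ha
      rw [LinearMap.mem_ker, LinearMap.toSpanSingleton_apply]
      have := hIq ha
      rw [hm, Submodule.mem_colon_singleton, Submodule.mem_bot] at this
      exact this)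
  have hφ : φ ≠ 0 := by
    intro h0
    apply hm0
    have : φ (Submodule.Quotient.mk 1) = 0 := by rw [h0]; rfl
    rw [Submodule.liftQ_apply, LinearMap.toSpanSingleton_apply, one_smul] at this
    exact this
  have : Nontrivial ((R ⧸ I) →ₗ[R] (M ⧸ (Ideal.ofList rs • (⊤ : Submodule R M)))) :=
    ⟨⟨φ, 0, hφ⟩⟩
  exact e.toEquiv.symm.nontrivial

/-- Rees: `depth_I M = n` iff `Ext^i(R/I, M)` vanishes for `i < n` and not for `i = n`. -/
theorem idealDepth_eq_iff_ext (hIM : I • (⊤ : Submodule R M) ≠ ⊤) (n : ℕ) :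
    LocCoh.idealDepth I M = n ↔
      ((∀ i : ℕ, i < n → Subsingleton (Ext (ModuleCat.of R (R ⧸ I)) (ModuleCat.of R M) i)) ∧
        Nontrivial (Ext (ModuleCat.of R (R ⧸ I)) (ModuleCat.of R M) n)) := by
  obtain ⟨d, hd⟩ := ENat.ne_top_iff_exists.1 (idealDepth_ne_top I M hIM)
  constructor
  · intro h
    refine ⟨fun i hi => subsingleton_ext_of_lt_idealDepth I M hIM i ?_,
      nontrivial_ext_of_idealDepth_eq I M hIM n h⟩
    rw [h]
    exact_mod_cast hi
  · rintro ⟨h1, h2⟩
    rw [← hd]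
    have hdn : d = n := by
      rcases lt_trichotomy d n with hlt | heq | hgt
      · exfalso
        have := nontrivial_ext_of_idealDepth_eq I M hIM d hd.symm
        exact not_subsingleton _ (h1 d hlt)
      · exact heq
      · exfalso
        have := subsingleton_ext_of_lt_idealDepth I M hIM n (by rw [← hd]; exact_mod_cast hgt)
        exact not_subsingleton _ this
    rw [hdn]

end Groth.Agent.Lib.Helper29.DepthExt
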