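import Mathlib
import Groth.Agent.Lib.Helper29.CMRing
import Groth.Agent.Lib.Helper29.DimTheory
import Groth.Agent.Lib.Helper33.AuslanderBuchsbaum
import Groth.Agent.Lib.Helper20.AnnLoc
import Groth.Agent.Lib.Helper49.StalkLoc
import Groth.Agent.S0563
import Groth.Agent.S5671
import Groth.Agent.S2677

/-!
# Openness of the codepth loci over a regular ring (helper29)

For a regular ring `R` and a finite `R`-module `M` the set of primes `p` with
`dim M_p ≤ depth M_p + n` is open (EGA IV 6.11.2 for regular base).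
-/

set_option autoImplicit false
universe u
open CategoryTheory IsLocalRing

namespace Groth.Agent.Lib.Helper29.CodepthOpen

open Groth.Agent.Lib.Helper29

/-- A Cohen–Macaulay local ring is a Cohen–Macaulay ring. -/
theorem isCohenMacaulayRing_of_local (T : Type u) [CommRing T]
    [hT : LocCoh.IsCohenMacaulayLocalRing T] : LocCoh.IsCohenMacaulayRing T :=
  ⟨fun p _ => Groth.Agent.Lib.Helper49.StalkLoc.isCohenMacaulayLocalRing_localization T p⟩

/-- `dim T = dim T/J + ht J` in a Cohen–Macaulay local ring. -/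
theorem ringKrullDim_eq_quotient_add_height (T : Type u) [CommRing T]
    [hT : LocCoh.IsCohenMacaulayLocalRing T] (J : Ideal T) (hJ : J ≠ ⊤) :
    ringKrullDim T = ringKrullDim (T ⧸ J) + ((J.height : ℕ∞) : WithBot ℕ∞) := by
  have hCM : LocCoh.IsCohenMacaulayModule T T := hT.supportDim_eq_depth
  have h1 := CMRing.supportDim_eq_add_idealDepth_of_isCM T J hJ T hCM
  have hIt : J • (⊤ : Submodule T T) = J := by
    rw [smul_eq_mul, Ideal.mul_top]
  have hR : LocCoh.IsCohenMacaulayRing T := isCohenMacaulayRing_of_local T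
  rw [hIt, Module.supportDim_self_eq_ringKrullDim, Module.supportDim_quotient_eq_ringKrullDim,
    (CMRing.isCohenMacaulayRing_iff_idealDepth_eq_height T).mp hR J hJ] at h1
  exact h1

/-- Over a regular local ring: `dim N + ht (Ann N) = pd N + depth N`. -/
theorem supportDim_add_height_eq (T : Type u) [CommRing T] [IsRegularLocalRing T]
    (N : Type u) [AddCommGroup N] [Module T N] [Module.Finite T N] [Nontrivial N] (e : ℕ)
    (h1 : HasProjectiveDimensionLT (ModuleCat.of T N) (e + 1))
    (h2 : ¬ HasProjectiveDimensionLT (ModuleCat.of T N) e) :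
    Module.supportDim T N + (((Module.annihilator T N).height : ℕ∞) : WithBot ℕ∞) =
      ((e : ℕ∞) : WithBot ℕ∞) + ((LocCoh.depth T N : ℕ∞) : WithBot ℕ∞) := by
  have hCMT : LocCoh.IsCohenMacaulayLocalRing T :=
    LocCoh.IsCohenMacaulayLocalRing.mk (Groth.Agent.S5671.isCM_of_regular T)
  have hJ : Module.annihilator T N ≠ ⊤ := by
    intro h
    rw [Module.annihilator_eq_top_iff] at h
    exact not_subsingleton N h
  have hdim := ringKrullDim_eq_quotient_add_height T (Module.annihilator T N) hJ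
  rw [← Module.supportDim_eq_ringKrullDim_quotient_annihilator] at hdim
  have hAB := Groth.Agent.Lib.Helper33.AB.depth_eq_add_of_hasProjectiveDimensionLT N e h1 h2
  have hCM : Module.supportDim T T = ((LocCoh.depth T T : ℕ∞) : WithBot ℕ∞) :=
    hCMT.supportDim_eq_depth
  rw [Module.supportDim_self_eq_ringKrullDim] at hCM
  rw [← hdim, hCM, hAB]
  push_cast
  rfl

/-- Over a regular local ring: `codepth N ≤ n ↔ pd N ≤ ht (Ann N) + n`. -/
theorem codepth_le_iff (T : Type u) [CommRing T] [IsRegularLocalRing T]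
    (N : Type u) [AddCommGroup N] [Module T N] [Module.Finite T N] [Nontrivial N] (e : ℕ)
    (h1 : HasProjectiveDimensionLT (ModuleCat.of T N) (e + 1))
    (h2 : ¬ HasProjectiveDimensionLT (ModuleCat.of T N) e) (n : ℕ) :
    Module.supportDim T N ≤ ((LocCoh.depth T N : ℕ∞) : WithBot ℕ∞) + n ↔
      (e : ℕ∞) ≤ (Module.annihilator T N).height + n := by
  have hJ : Module.annihilator T N ≠ ⊤ := by
    intro h
    rw [Module.annihilator_eq_top_iff] at h
    exact not_subsingleton N h
  have key := supportDim_add_height_eq T N e h1 h2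
  obtain ⟨d, hd⟩ := DimTheory.exists_nat_supportDim T N
  obtain ⟨δ, hδ⟩ := ENat.ne_top_iff_exists.1 (DepthLib.depth_ne_top T N)
  obtain ⟨g, hg⟩ := ENat.ne_top_iff_exists.1 (Ideal.height_ne_top hJ)
  rw [hd, ← hδ, ← hg] at key
  rw [hd, ← hδ, ← hg]
  have key' : d + g = e + δ := by exact_mod_cast key
  constructor
  · intro h
    have h' : d ≤ δ + n := by exact_mod_cast h
    have : e ≤ g + n := by omega
    exact_mod_cast this
  · intro h
    have h' : e ≤ g + n := by exact_mod_cast h
    have : d ≤ δ + n := by omega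
    exact_mod_cast this

/-- Lower bound for the height of an extended ideal in a localization at a prime. -/
theorem le_height_map_of_forall (R : Type u) [CommRing R] (I : Ideal R) (𝔭 : Ideal R)
    [𝔭.IsPrime] (k : ℕ∞) (h : ∀ 𝔮 ∈ I.minimalPrimes, 𝔮 ≤ 𝔭 → k ≤ 𝔮.height) :
    k ≤ (I.map (algebraMap R (Localization.AtPrime 𝔭))).height := by
  rw [Ideal.height_eq_inf_minimalPrimes]
  refine le_iInf₂ fun Q hQ => ?_
  have hQp : Q.IsPrime := hQ.1.1
  have hIQ : I ≤ Q.comap (algebraMap R (Localization.AtPrime 𝔭)) :=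
    Ideal.map_le_iff_le_comap.mp hQ.1.2
  obtain ⟨𝔮, h𝔮, h𝔮le⟩ := Ideal.exists_minimalPrimes_le hIQ
  have hle : Q.comap (algebraMap R (Localization.AtPrime 𝔭)) ≤ 𝔭 := by
    have h1 : Q ≤ maximalIdeal (Localization.AtPrime 𝔭) := le_maximalIdeal hQp.ne_top
    have h2 := Ideal.comap_mono (f := algebraMap R (Localization.AtPrime 𝔭)) h1
    have h3 : (maximalIdeal (Localization.AtPrime 𝔭)).comap
        (algebraMap R (Localization.AtPrime 𝔭)) = 𝔭 :=
      IsLocalization.AtPrime.under_maximalIdeal (Localization.AtPrime 𝔭) 𝔭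
    rwa [h3] at h2
  calc k ≤ 𝔮.height := h 𝔮 h𝔮 (h𝔮le.trans hle)
    _ ≤ (Q.comap (algebraMap R (Localization.AtPrime 𝔭))).height := Ideal.height_mono h𝔮le
    _ = Q.height := IsLocalization.height_under 𝔭.primeCompl Q

/-- Upper bound for the height of an extended ideal in a localization at a prime. -/
theorem height_map_le (R : Type u) [CommRing R] (I 𝔮 𝔭 : Ideal R) [𝔮.IsPrime] [𝔭.IsPrime]
    (hI : I ≤ 𝔮) (h : 𝔮 ≤ 𝔭) :
    (I.map (algebraMap R (Localization.AtPrime 𝔭))).height ≤ 𝔮.height := by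
  have hdisj : Disjoint (𝔭.primeCompl : Set R) (𝔮 : Set R) := by
    rw [Set.disjoint_left]
    intro x hx hxq
    exact hx (h hxq)
  rw [← IsLocalization.height_map_of_disjoint (S := Localization.AtPrime 𝔭) 𝔭.primeCompl 𝔮 hdisj]
  exact Ideal.height_mono (Ideal.map_mono hI)

/-- A nonzero object of finite projective dimension has an exact projective dimension. -/
theorem exists_exact_pd {C : Type*} [Category C] [Abelian C] (X : C) (hX : ¬ Limits.IsZero X)
    (d : ℕ) (hd : HasProjectiveDimensionLT X (d + 1)) :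
    ∃ e : ℕ, e ≤ d ∧ HasProjectiveDimensionLT X (e + 1) ∧ ¬ HasProjectiveDimensionLT X e := by
  classical
  have hex : ∃ k, HasProjectiveDimensionLT X k := ⟨d + 1, hd⟩
  have hspec := Nat.find_spec hex
  have hmin : ∀ k, k < Nat.find hex → ¬ HasProjectiveDimensionLT X k :=
    fun k hk => Nat.find_min hex hk
  have hle : Nat.find hex ≤ d + 1 := Nat.find_min' hex hd
  have hne : Nat.find hex ≠ 0 := by
    intro h0
    rw [h0] at hspec
    exact hX ((hasProjectiveDimensionLT_zero_iff_isZero X).mp hspec)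
  obtain ⟨e, he⟩ := Nat.exists_eq_succ_of_ne_zero hne
  refine ⟨e, by omega, ?_, hmin e (by omega)⟩
  rw [he] at hspec
  exact hspec

/-- **Openness of the codepth loci over a regular ring.** -/
theorem isOpen_codepth_le (R : Type u) [CommRing R] [IsRegularRing R] (M : Type u)
    [AddCommGroup M] [Module R M] [Module.Finite R M] (n : ℕ) :
    IsOpen {p : PrimeSpectrum R |
      Module.supportDim (Localization.AtPrime p.asIdeal)
          (LocalizedModule p.asIdeal.primeCompl M) ≤
        ((LocCoh.depth (Localization.AtPrime p.asIdeal)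
          (LocalizedModule p.asIdeal.primeCompl M) : ℕ∞) : WithBot ℕ∞) + n} := by
  classical
  rw [isOpen_iff_forall_mem_open]
  intro 𝔭 h𝔭
  have hout : ∀ 𝔭' : PrimeSpectrum R, 𝔭' ∉ Module.support R M →
      Module.supportDim (Localization.AtPrime 𝔭'.asIdeal)
          (LocalizedModule 𝔭'.asIdeal.primeCompl M) ≤
        ((LocCoh.depth (Localization.AtPrime 𝔭'.asIdeal)
          (LocalizedModule 𝔭'.asIdeal.primeCompl M) : ℕ∞) : WithBot ℕ∞) + n := by
    intro 𝔭' h𝔭'
    have : Subsingleton (LocalizedModule 𝔭'.asIdeal.primeCompl M) :=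
      Module.notMem_support_iff.mp h𝔭'
    rw [Module.supportDim_eq_bot_of_subsingleton]
    exact bot_le
  by_cases hsupp : 𝔭 ∈ Module.support R M
  swap
  · exact ⟨(Module.support R M)ᶜ, fun 𝔭' h𝔭' => hout 𝔭' h𝔭',
      (Module.isClosed_support).isOpen_compl, hsupp⟩
  -- the annihilator of the localizations
  have hann : ∀ 𝔭' : PrimeSpectrum R,
      (Module.annihilator R M).map (algebraMap R (Localization.AtPrime 𝔭'.asIdeal)) =
        Module.annihilator (Localization.AtPrime 𝔭'.asIdeal)
          (LocalizedModule 𝔭'.asIdeal.primeCompl M) := fun 𝔭' =>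
    Groth.Agent.Lib.Helper20.AnnLoc.map_annihilator_of_isLocalizedModule 𝔭'.asIdeal.primeCompl
      (LocalizedModule.mkLinearMap 𝔭'.asIdeal.primeCompl M)
  -- exact projective dimension at every point of the support
  have hnz : ∀ 𝔭' : PrimeSpectrum R, 𝔭' ∈ Module.support R M →
      ¬ Limits.IsZero (ModuleCat.of (Localization.AtPrime 𝔭'.asIdeal)
        (LocalizedModule 𝔭'.asIdeal.primeCompl M)) := by
    intro 𝔭' h𝔭' hz
    have hnt : Nontrivial (LocalizedModule 𝔭'.asIdeal.primeCompl M) :=
      Module.mem_support_iff.mp h𝔭'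
    exact not_subsingleton _ (ModuleCat.subsingleton_of_isZero hz)
  have hpd0 : ∃ h : ℕ, HasProjectiveDimensionLT (ModuleCat.of (Localization.AtPrime 𝔭.asIdeal)
        (LocalizedModule 𝔭.asIdeal.primeCompl M)) (h + 1) := by
    obtain ⟨h, hh⟩ : ∃ h : ℕ, ringKrullDim (Localization.AtPrime 𝔭.asIdeal) = h := by
      have h1 : ringKrullDim (Localization.AtPrime 𝔭.asIdeal) ≠ ⊤ :=
        DimTheory.ringKrullDim_ne_top _
      have h2 : ringKrullDim (Localization.AtPrime 𝔭.asIdeal) ≠ ⊥ := ringKrullDim_ne_bot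
      induction hk : ringKrullDim (Localization.AtPrime 𝔭.asIdeal) with
      | bot => exact absurd hk h2
      | coe a =>
        induction a using ENat.recTopCoe with
        | top => exact absurd hk h1
        | coe m => exact ⟨m, rfl⟩
    exact ⟨h, Groth.Agent.S0563.result (Localization.AtPrime 𝔭.asIdeal) h hh
      (LocalizedModule 𝔭.asIdeal.primeCompl M)⟩
  obtain ⟨h, hh⟩ := hpd0
  obtain ⟨e, -, he1, he2⟩ := exists_exact_pd _ (hnz 𝔭 hsupp) h hh
  have hnt : Nontrivial (LocalizedModule 𝔭.asIdeal.primeCompl M) :=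
    Module.mem_support_iff.mp hsupp
  have hcrit := (codepth_le_iff (Localization.AtPrime 𝔭.asIdeal)
    (LocalizedModule 𝔭.asIdeal.primeCompl M) e he1 he2 n).mp h𝔭
  rw [← hann 𝔭] at hcrit
  -- the two open neighbourhoods
  have hPopen := Groth.Agent.S2677.result R M e
  have hfin : ((Module.annihilator R M).minimalPrimes).Finite :=
    Ideal.finite_minimalPrimes_of_isNoetherianRing R _
  have hGopen : IsOpen (⋂ 𝔮 ∈ (Module.annihilator R M).minimalPrimes,
      {𝔭' : PrimeSpectrum R | 𝔮 ≤ 𝔭'.asIdeal →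
        ((Module.annihilator R M).map (algebraMap R (Localization.AtPrime 𝔭.asIdeal))).height ≤
          𝔮.height}) := by
    refine hfin.isOpen_biInter fun 𝔮 h𝔮 => ?_
    by_cases hg : ((Module.annihilator R M).map
        (algebraMap R (Localization.AtPrime 𝔭.asIdeal))).height ≤ 𝔮.height
    · convert isOpen_univ
      ext 𝔭'
      simp [hg]
    · have : {𝔭' : PrimeSpectrum R | 𝔮 ≤ 𝔭'.asIdeal →
          ((Module.annihilator R M).map (algebraMap R (Localization.AtPrime 𝔭.asIdeal))).height ≤
            𝔮.height} = (PrimeSpectrum.zeroLocus (𝔮 : Set R))ᶜ := by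
        ext 𝔭'
        simp [hg, PrimeSpectrum.mem_zeroLocus]
      rw [this]
      exact (PrimeSpectrum.isClosed_zeroLocus _).isOpen_compl
  refine ⟨_, ?_, hPopen.inter hGopen, ⟨?_, ?_⟩⟩
  · rintro 𝔭' ⟨hP, hG⟩
    by_cases hsupp' : 𝔭' ∈ Module.support R M
    swap
    · exact hout 𝔭' hsupp'
    have hnt' : Nontrivial (LocalizedModule 𝔭'.asIdeal.primeCompl M) :=
      Module.mem_support_iff.mp hsupp'
    have hP' : HasProjectiveDimensionLT (ModuleCat.of (Localization.AtPrime 𝔭'.asIdeal)
        (LocalizedModule 𝔭'.asIdeal.primeCompl M)) (e + 1) :=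
      (projectiveDimension_le_iff _ e).mp hP
    obtain ⟨e', hle, he1', he2'⟩ := exists_exact_pd _ (hnz 𝔭' hsupp') e hP'
    refine (codepth_le_iff (Localization.AtPrime 𝔭'.asIdeal)
      (LocalizedModule 𝔭'.asIdeal.primeCompl M) e' he1' he2' n).mpr ?_
    rw [← hann 𝔭']
    have hg : ((Module.annihilator R M).map
        (algebraMap R (Localization.AtPrime 𝔭.asIdeal))).height ≤
        ((Module.annihilator R M).map (algebraMap R (Localization.AtPrime 𝔭'.asIdeal))).height := by
      refine le_height_map_of_forall R _ 𝔭'.asIdeal _ fun 𝔮 h𝔮 hle => ?_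
      have := Set.mem_iInter₂.mp hG 𝔮 h𝔮
      exact this hle
    have hee : (e' : ℕ∞) ≤ e := by exact_mod_cast hle
    calc (e' : ℕ∞) ≤ e := hee
      _ ≤ _ := hcrit
      _ ≤ _ := by gcongr
  · exact (projectiveDimension_le_iff _ e).mpr he1
  · refine Set.mem_iInter₂.mpr fun 𝔮 h𝔮 => ?_
    intro hle
    have : 𝔮.IsPrime := h𝔮.1.1
    exact height_map_le R _ 𝔮 𝔭.asIdeal h𝔮.1.2 hle

end Groth.Agent.Lib.Helper29.CodepthOpen
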