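import Mathlib
import Groth.Agent.Lib.Helper29.CodepthOpen
import Groth.Agent.Lib.Helper29.FlatLocal2
import Groth.Agent.Lib.Helper41.AdjTransfer
import Groth.Agent.Lib.QCoh.Helper18_SerreSk

/-!
# Openness of the codepth loci over a quotient of a regular ring (helper29)
-/

set_option autoImplicit false
universe u
open CategoryTheory IsLocalRing

namespace Groth.Agent.Lib.Helper29.CodepthOpen

open Groth.Agent.Lib.Helper29

/-- A localization at `p` of an `A`-module is, over `R ↠ A`, a localization at the preimage. -/
theorem isLocalizedModule_restrictScalars' {G R : Type u} [CommRing G] [CommRing R] [Algebra G R]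
    (hs : Function.Surjective (algebraMap G R)) (p : Ideal R)
    [p.IsPrime] {K K' : Type u} [AddCommGroup K] [Module R K] [Module G K] [IsScalarTower G R K]
    [AddCommGroup K'] [Module R K'] [Module G K'] [IsScalarTower G R K']
    (φ : K →ₗ[R] K') [IsLocalizedModule p.primeCompl φ] :
    IsLocalizedModule (p.comap (algebraMap G R)).primeCompl (φ.restrictScalars G) := by
  have hT : Algebra.algebraMapSubmonoid R (p.comap (algebraMap G R)).primeCompl = p.primeCompl :=
    Submonoid.map_comap_eq_of_surjective hs p.primeCompl
  have : IsLocalizedModule
      (Algebra.algebraMapSubmonoid R (p.comap (algebraMap G R)).primeCompl) φ := by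
    rw [hT]; infer_instance
  exact IsLocalizedModule.restrictScalars _ φ

/-- The dimension of the support of `M_p` does not change along a surjection `R ↠ A`. -/
theorem supportDim_comap_eq (R A : Type u) [CommRing R] [CommRing A] [Algebra R A]
    (hπ : Function.Surjective (algebraMap R A)) (M : Type u) [AddCommGroup M] [Module A M]
    [Module R M] [IsScalarTower R A M] [Module.Finite A M] (p : Ideal A) [p.IsPrime] :
    Module.supportDim (Localization.AtPrime p) (LocalizedModule p.primeCompl M) =
      Module.supportDim (Localization.AtPrime (p.comap (algebraMap R A)))
        (LocalizedModule (p.comap (algebraMap R A)).primeCompl M) := by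
  let φ : Localization.AtPrime (p.comap (algebraMap R A)) →+* Localization.AtPrime p :=
    Localization.localRingHom (p.comap (algebraMap R A)) p (algebraMap R A) rfl
  have hφ : Function.Surjective φ :=
    RingHom.surjective_localRingHom_of_surjective (algebraMap R A) hπ p
  let _ : Algebra (Localization.AtPrime (p.comap (algebraMap R A))) (Localization.AtPrime p) :=
    φ.toAlgebra
  let _ : Module (Localization.AtPrime (p.comap (algebraMap R A)))
      (LocalizedModule p.primeCompl M) := Module.compHom _ φ
  have hst1 : IsScalarTower (Localization.AtPrime (p.comap (algebraMap R A)))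
      (Localization.AtPrime p) (LocalizedModule p.primeCompl M) :=
    ⟨fun t b m => by
      change (φ t * b) • m = φ t • (b • m)
      rw [mul_smul]⟩
  have hst2 : IsScalarTower R (Localization.AtPrime (p.comap (algebraMap R A)))
      (LocalizedModule p.primeCompl M) :=
    IsScalarTower.of_algebraMap_smul (fun r m => by
      change φ (algebraMap R _ r) • m = r • m
      rw [Localization.localRingHom_to_map, ← IsScalarTower.algebraMap_apply, algebraMap_smul])
  have hfinB : Module.Finite (Localization.AtPrime (p.comap (algebraMap R A)))
      (Localization.AtPrime p) := Module.Finite.of_surjective (Algebra.linearMap _ _) hφ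
  have hfinN : Module.Finite (Localization.AtPrime (p.comap (algebraMap R A)))
      (LocalizedModule p.primeCompl M) := Module.Finite.trans (Localization.AtPrime p) _
  have hloc : IsLocalizedModule (p.comap (algebraMap R A)).primeCompl
      ((LocalizedModule.mkLinearMap p.primeCompl M).restrictScalars R) :=
    isLocalizedModule_restrictScalars' hπ p (LocalizedModule.mkLinearMap p.primeCompl M)
  rw [← Groth.Agent.Lib.QCoh.SerreSk.supportDim_eq_supportDim_localizedModule
    (p.comap (algebraMap R A)) (Localization.AtPrime (p.comap (algebraMap R A))) M
    (LocalizedModule p.primeCompl M)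
    ((LocalizedModule.mkLinearMap p.primeCompl M).restrictScalars R)]
  exact FlatLocal.supportDim_eq_of_surjective _ _ hφ _

end Groth.Agent.Lib.Helper29.CodepthOpen
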