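import Groth.Prelude
import Groth.Agent.Lib.Helper29.Catenary
import Groth.Agent.Lib.Helper29.FlatLocal2
import Groth.Agent.Lib.Helper29.DepthFinite
import Groth.Agent.Lib.Helper15.ComplQuot
import Groth.Agent.Lib.Helper83.ComplMap
import Groth.Agent.Lib.Helper83.FlatLocalDim
import Groth.Agent.Lib.Helper9.AdicComplEquiv

/-!
# Strict equidimensionality of `B/PB` for flat local `A → B` with `𝔪_A B = 𝔪_B`

If `A` has a finite Cohen–Macaulay module `M` and `P ∈ Supp M` is prime, then for every flat local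
homomorphism `A → B` of Noetherian local rings with `𝔪_A B = 𝔪_B` (e.g. `B = Â`) the ring `B/PB`
is strictly equidimensional: all its associated primes `𝔮` satisfy `dim (B/PB)/𝔮 = dim B/PB`.
-/

set_option autoImplicit false
universe u

namespace Groth.Agent.Lib.Helper29.FormalEquidim

open IsLocalRing TensorProduct RingTheory.Sequence Groth.Agent.Lib.Helper29

/-- The residue module `B/𝔪_B` is Cohen–Macaulay. -/
theorem isCM_quotient_maximalIdeal (B : Type u) [CommRing B] [IsLocalRing B] [IsNoetherianRing B] :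
    LocCoh.IsCohenMacaulayModule B (B ⧸ (maximalIdeal B • (⊤ : Submodule B B))) := by
  have e : (B ⧸ (maximalIdeal B • (⊤ : Submodule B B))) ≃ₗ[B] (B ⧸ maximalIdeal B) :=
    Submodule.quotEquivOfEq _ _ (by rw [smul_eq_mul, Ideal.mul_top])
  have hnt : Nontrivial (B ⧸ (maximalIdeal B • (⊤ : Submodule B B))) := e.nontrivial_congr.2
    (Ideal.Quotient.nontrivial_iff.2 (Ideal.IsPrime.ne_top inferInstance))
  unfold LocCoh.IsCohenMacaulayModule
  have h1 : Module.supportDim B (B ⧸ (maximalIdeal B • (⊤ : Submodule B B))) = 0 := by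
    rw [Module.supportDim_eq_of_equiv e, Module.supportDim_quotient_eq_ringKrullDim]
    change ringKrullDim (ResidueField B) = 0
    exact ringKrullDim_eq_zero_of_field _
  have h2 : LocCoh.depth B (B ⧸ (maximalIdeal B • (⊤ : Submodule B B))) = 0 := by
    unfold LocCoh.depth
    rw [DepthFinite.idealDepth_eq_zero_iff_forall_not_isSMulRegular _ _
      (maximalIdeal_smul_top_ne_top B _)]
    intro x hx hreg
    obtain ⟨y, hy⟩ := exists_ne (0 : B ⧸ (maximalIdeal B • (⊤ : Submodule B B)))
    apply hy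
    apply hreg
    change x • y = x • 0
    rw [smul_zero]
    obtain ⟨b, rfl⟩ := Submodule.Quotient.mk_surjective _ y
    rw [← Submodule.Quotient.mk_smul, Submodule.Quotient.mk_eq_zero]
    exact Submodule.smul_mem_smul hx Submodule.mem_top
  rw [h1, h2]
  rfl

section Base

variable (A : Type u) [CommRing A] [IsLocalRing A] [IsNoetherianRing A]
  (B : Type u) [CommRing B] [IsLocalRing B] [IsNoetherianRing B] [Algebra A B]
  [IsLocalHom (algebraMap A B)] [Module.Flat A B]

/-- Base change of a CM module along a flat local hom with `𝔪_A B = 𝔪_B` is CM. -/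
theorem isCM_tensor (hmB : (maximalIdeal A).map (algebraMap A B) = maximalIdeal B)
    (M : Type u) [AddCommGroup M] [Module A M] [Module.Finite A M]
    (hM : LocCoh.IsCohenMacaulayModule A M) : LocCoh.IsCohenMacaulayModule B (B ⊗[A] M) := by
  have hMnt : Nontrivial M := CMLib.nontrivial_of_isCM A M hM
  have hfib : LocCoh.IsCohenMacaulayModule B
      (B ⧸ ((maximalIdeal A).map (algebraMap A B) • (⊤ : Submodule B B))) := by
    rw [hmB]
    exact isCM_quotient_maximalIdeal B
  exact (FlatLocal.isCohenMacaulayModule_tensor_iff A B M B).2 ⟨hM, hfib⟩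

end Base

/-- In a CM module, for `P ∈ Supp M` there is a CM quotient `M'` of `M` with `A/P ↪ M'`. -/
theorem exists_isCM_quotient_injective (A : Type u) [CommRing A] [IsLocalRing A]
    [IsNoetherianRing A] (M : Type u) [AddCommGroup M] [Module A M] [Module.Finite A M]
    (hM : LocCoh.IsCohenMacaulayModule A M) (P : PrimeSpectrum A) (hP : P ∈ Module.support A M) :
    ∃ (rs : List A), LocCoh.IsCohenMacaulayModule A (M ⧸ (Ideal.ofList rs • (⊤ : Submodule A M))) ∧
      ∃ f : (A ⧸ P.asIdeal) →ₗ[A] (M ⧸ (Ideal.ofList rs • (⊤ : Submodule A M))),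
        Function.Injective f := by
  obtain ⟨rs, hreg, hmem, hdim⟩ := CMLib.exists_regular_in_prime_of_isCM A M hM P hP
  have hPm : P.asIdeal ≤ maximalIdeal A := le_maximalIdeal P.isPrime.ne_top
  have hmem' : ∀ r ∈ rs, r ∈ maximalIdeal A := fun r hr => hPm (hmem r hr)
  have h := CMLib.isWeaklyRegular_iff_of_isCM A rs M hM hmem'
  have hCM' := h.2 hreg
  have hdim' := h.1.1 hreg
  refine ⟨rs, hCM', ?_⟩
  -- `dim M' = dim A/P`
  have hd : ringKrullDim (A ⧸ P.asIdeal) =
      Module.supportDim A (M ⧸ (Ideal.ofList rs • (⊤ : Submodule A M))) := by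
    obtain ⟨n, -, hn⟩ := CMLib.exists_nat_of_isCM A _ hCM'
    rw [← hdim'] at hdim
    rw [hn] at hdim ⊢
    -- cancel `rs.length`
    have hne : ringKrullDim (A ⧸ P.asIdeal) ≠ ⊥ := by
      have : Nontrivial (A ⧸ P.asIdeal) := Ideal.Quotient.nontrivial_iff.2 P.isPrime.ne_top
      exact ringKrullDim_ne_bot
    obtain ⟨d, hd⟩ := WithBot.ne_bot_iff_exists.1 hne
    rw [← hd] at hdim ⊢
    have h2 : (d + (rs.length : ℕ∞) : ℕ∞) = ((n + rs.length : ℕ) : ℕ∞) := by
      have : ((d + (rs.length : ℕ∞) : ℕ∞) : WithBot ℕ∞) = (((n + rs.length : ℕ) : ℕ∞) : WithBot ℕ∞) := by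
        push_cast
        exact hdim
      exact_mod_cast this
    have h3 : d = (n : ℕ∞) := by
      have h4 : d + (rs.length : ℕ∞) = (n : ℕ∞) + (rs.length : ℕ∞) := by
        rw [h2]; push_cast; rfl
      exact ENat.add_left_injective_of_ne_top (ENat.natCast_ne_top _) h4
    rw [h3]
    rfl
  have hsupp' : P ∈ Module.support A (M ⧸ (Ideal.ofList rs • (⊤ : Submodule A M))) := by
    rw [Module.support_quotient]
    refine ⟨hP, ?_⟩
    rw [PrimeSpectrum.mem_zeroLocus]
    exact CMLib.ofList_le_of_forall_mem A hmem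
  have hass := (CMLib.mem_ass_of_isCM_of_dim_eq A _ hCM' P hsupp' hd).1
  exact ((isAssociatedPrime_iff_exists_injective_linearMap _ _).1 hass).2


/-- Associated primes of a quotient ring `B/K` over itself pull back to associated primes of the
`B`-module `B/K`. -/
theorem comap_mem_associatedPrimes {B : Type u} [CommRing B] [IsNoetherianRing B] (K : Ideal B)
    {𝔮 : Ideal (B ⧸ K)} (h𝔮 : 𝔮 ∈ associatedPrimes (B ⧸ K) (B ⧸ K)) :
    𝔮.comap (Ideal.Quotient.mk K) ∈ associatedPrimes B (B ⧸ K) := by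
  obtain ⟨hprime, t, ht⟩ := (isAssociatedPrime_iff (M := B ⧸ K)).1 h𝔮
  refine (isAssociatedPrime_iff (M := B ⧸ K)).2 ⟨Ideal.IsPrime.comap _, t, ?_⟩
  ext b
  rw [Ideal.mem_comap, ht, Submodule.mem_colon_singleton, Submodule.mem_colon_singleton,
    Submodule.mem_bot, Submodule.mem_bot]
  rfl

section Core

variable (A : Type u) [CommRing A] [IsLocalRing A] [IsNoetherianRing A]
  (B : Type u) [CommRing B] [IsLocalRing B] [IsNoetherianRing B] [Algebra A B]
  [IsLocalHom (algebraMap A B)] [Module.Flat A B]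

omit [IsLocalRing A] [IsNoetherianRing A] [IsLocalRing B] [IsNoetherianRing B]
  [IsLocalHom (algebraMap A B)] in
/-- The `B`-linear map `B/PB → B ⊗ M'` induced by an injection `A/P ↪ M'` is injective. -/
theorem exists_injective_quotient_map_tensor (P : Ideal A) (M' : Type u) [AddCommGroup M']
    [Module A M'] (f : (A ⧸ P) →ₗ[A] M') (hf : Function.Injective f) :
    ∃ g : (B ⧸ P.map (algebraMap A B)) →ₗ[B] (B ⊗[A] M'), Function.Injective g := by
  let g₀ : B →ₗ[B] (B ⊗[A] M') := LinearMap.toSpanSingleton B _ ((1 : B) ⊗ₜ[A] f 1)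
  have hg₀ : ∀ b : B, g₀ b = b ⊗ₜ[A] f 1 := by
    intro b
    change b • ((1 : B) ⊗ₜ[A] f 1) = _
    rw [TensorProduct.smul_tmul', smul_eq_mul, mul_one]
  have hker : LinearMap.ker g₀ = P.map (algebraMap A B) := by
    apply le_antisymm
    · intro b hb
      rw [LinearMap.mem_ker, hg₀] at hb
      have hinj : Function.Injective (LinearMap.lTensor B f) :=
        Module.Flat.lTensor_preserves_injective_linearMap f hf
      have h1 : b ⊗ₜ[A] (1 : A ⧸ P) = 0 := by
        apply hinj
        rw [LinearMap.lTensor_tmul, hb, map_zero]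
      have h2 := congrArg (TensorProduct.tensorQuotEquivQuotSMul B P) h1
      rw [map_zero, ← map_one (Ideal.Quotient.mk P),
        TensorProduct.tensorQuotEquivQuotSMul_tmul_mk, one_smul,
        Submodule.Quotient.mk_eq_zero, Ideal.smul_top_eq_map] at h2
      exact h2
    · rw [Ideal.map_le_iff_le_comap]
      intro a ha
      rw [Ideal.mem_comap]
      change algebraMap A B a ∈ LinearMap.ker g₀
      rw [LinearMap.mem_ker, hg₀, Algebra.algebraMap_eq_smul_one, TensorProduct.smul_tmul,
        ← map_smul]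
      have : a • (1 : A ⧸ P) = 0 := by
        rw [← map_one (Ideal.Quotient.mk P), ← Ideal.Quotient.mk_eq_mk, ← Submodule.Quotient.mk_smul,
          smul_eq_mul, mul_one]
        exact (Submodule.Quotient.mk_eq_zero _).2 ha
      rw [this, map_zero, TensorProduct.tmul_zero]
  refine ⟨Submodule.liftQ (P.map (algebraMap A B)) g₀ hker.ge, ?_⟩
  rw [← LinearMap.ker_eq_bot]
  exact Submodule.ker_liftQ_eq_bot' _ _ hker.symm

/-- **Core theorem**: `B/PB` is strictly equidimensional when `A` has a finite CM module with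
`P` in its support and `A → B` is flat local with `𝔪_A B = 𝔪_B`. -/
theorem isStrictlyEquidim_quotient_map
    (hmB : (maximalIdeal A).map (algebraMap A B) = maximalIdeal B)
    (M : Type u) [AddCommGroup M] [Module A M] [Module.Finite A M]
    (hM : LocCoh.IsCohenMacaulayModule A M) (P : Ideal A) [hPp : P.IsPrime]
    (hP : (⟨P, hPp⟩ : PrimeSpectrum A) ∈ Module.support A M) :
    EGA4.IsStrictlyEquidim (B ⧸ P.map (algebraMap A B)) := by
  obtain ⟨rs, hCM', f, hf⟩ := exists_isCM_quotient_injective A M hM ⟨P, hPp⟩ hP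
  have hN' := isCM_tensor A B hmB _ hCM'
  obtain ⟨g, hg⟩ := exists_injective_quotient_map_tensor A B P _ f hf
  intro 𝔮 h𝔮
  have hQ := comap_mem_associatedPrimes (P.map (algebraMap A B)) h𝔮
  have hQ' := associatedPrimes.subset_of_injective hg hQ
  have hprime : 𝔮.IsPrime := IsAssociatedPrime.isPrime h𝔮
  have h1 := CMLib.ringKrullDim_quotient_eq_of_isCM B _ hN' hQ'
  -- `(B/K)/𝔮 ≃ B/Q`
  have e : (B ⧸ 𝔮.comap (Ideal.Quotient.mk (P.map (algebraMap A B)))) ≃+*
      ((B ⧸ P.map (algebraMap A B)) ⧸ 𝔮) :=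
    RingEquiv.ofBijective (Ideal.quotientMap 𝔮 (Ideal.Quotient.mk (P.map (algebraMap A B))) le_rfl)
      ⟨Ideal.quotientMap_injective, Ideal.quotientMap_surjective Ideal.Quotient.mk_surjective⟩
  have h2 := ringKrullDim_eq_of_ringEquiv e
  have h3 : ringKrullDim (B ⧸ P.map (algebraMap A B)) ≤ Module.supportDim B
      (B ⊗[A] (M ⧸ (Ideal.ofList rs • (⊤ : Submodule A M)))) := by
    rw [← Module.supportDim_quotient_eq_ringKrullDim]
    exact Module.supportDim_le_of_injective g hg
  have h4 : ringKrullDim ((B ⧸ P.map (algebraMap A B)) ⧸ 𝔮) ≤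
      ringKrullDim (B ⧸ P.map (algebraMap A B)) :=
    ringKrullDim_le_of_surjective (Ideal.Quotient.mk 𝔮) Ideal.Quotient.mk_surjective
  apply le_antisymm h4
  rw [← h2, h1]
  exact h3

end Core


section Transfer

/-- Strict equidimensionality transfers along ring isomorphisms. -/
theorem isStrictlyEquidim_of_ringEquiv {R S : Type u} [CommRing R] [CommRing S]
    [IsNoetherianRing R] (e : R ≃+* S) (h : EGA4.IsStrictlyEquidim R) :
    EGA4.IsStrictlyEquidim S := by
  have : IsNoetherianRing S := isNoetherianRing_of_ringEquiv R e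
  intro 𝔮 h𝔮
  obtain ⟨hprime, s, hs⟩ := (isAssociatedPrime_iff (M := S)).1 h𝔮
  have h𝔮' : 𝔮.comap (e : R →+* S) ∈ associatedPrimes R R := by
    refine (isAssociatedPrime_iff (M := R)).2 ⟨Ideal.IsPrime.comap _, e.symm s, ?_⟩
    ext r
    rw [Ideal.mem_comap, hs, Submodule.mem_colon_singleton, Submodule.mem_colon_singleton,
      Submodule.mem_bot, Submodule.mem_bot, smul_eq_mul, smul_eq_mul]
    constructor
    · intro h0
      apply e.injective
      rw [map_mul, map_zero, RingEquiv.apply_symm_apply]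
      exact h0
    · intro h0
      have := congrArg e h0
      rw [map_mul, map_zero, RingEquiv.apply_symm_apply] at this
      exact this
  have h1 := h _ h𝔮'
  have hmap : 𝔮 = (𝔮.comap (e : R →+* S)).map (e : R →+* S) :=
    (Ideal.map_comap_of_surjective _ e.surjective 𝔮).symm
  have e' : (R ⧸ 𝔮.comap (e : R →+* S)) ≃+* (S ⧸ 𝔮) := Ideal.quotientEquiv _ _ e hmap
  rw [← ringKrullDim_eq_of_ringEquiv e', h1, ringKrullDim_eq_of_ringEquiv e]

/-- Strictly equidimensional Noetherian rings are equidimensional. -/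
theorem isEquidim_of_isStrictlyEquidim {R : Type u} [CommRing R] [IsNoetherianRing R]
    (h : EGA4.IsStrictlyEquidim R) : EGA4.IsEquidim R := by
  intro p hp
  apply h
  apply Module.associatedPrimes.minimalPrimes_annihilator_subset_associatedPrimes R R
  have : Module.annihilator R R = ⊥ := by
    rw [eq_bot_iff]
    intro r hr
    have := Module.mem_annihilator.1 hr 1
    rw [smul_eq_mul, mul_one] at this
    rw [this]
    exact Ideal.zero_mem _
  rw [this]
  exact hp

end Transfer

section Completion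

open AdicCompletion

variable (A : Type u) [CommRing A] [IsLocalRing A] [IsNoetherianRing A]

theorem Φ_surjective (P : Ideal A) :
    Function.Surjective (Groth.Agent.Lib.Helper15.ComplQuot.Φ (maximalIdeal A) P) := by
  refine Groth.Agent.Lib.Helper83.ComplMap.surjective (maximalIdeal A)
    ((maximalIdeal A).map (Ideal.Quotient.mk P)) (Ideal.Quotient.mk P) _
    (Groth.Agent.Lib.Helper15.ComplQuot.Φ_of (maximalIdeal A) P)
    (maximalIdeal A).fg_of_isNoetherianRing rfl ?_
  intro b
  obtain ⟨a, rfl⟩ := Ideal.Quotient.mk_surjective b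
  exact ⟨a, by rw [sub_self]; exact Ideal.zero_mem _⟩

/-- `Â/PÂ ≃ (A/P)^`, the completion of `A/P` being taken with respect to the image of `𝔪`. -/
noncomputable def quotientCompletionEquiv (P : Ideal A) :
    (AdicCompletion (maximalIdeal A) A ⧸
        P.map (algebraMap A (AdicCompletion (maximalIdeal A) A))) ≃+*
      AdicCompletion ((maximalIdeal A).map (Ideal.Quotient.mk P)) (A ⧸ P) :=
  (Ideal.quotEquivOfEq (Groth.Agent.Lib.Helper15.ComplQuot.ker_Φ (maximalIdeal A) P).symm).trans
    (RingHom.quotientKerEquivOfSurjective (Φ_surjective A P))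

omit [IsNoetherianRing A] in
theorem map_mk_maximalIdeal (P : Ideal A) [IsLocalRing (A ⧸ P)] :
    (maximalIdeal A).map (Ideal.Quotient.mk P) = maximalIdeal (A ⧸ P) := by
  have hP : P ≤ maximalIdeal A := le_maximalIdeal (by
    intro h
    have : Subsingleton (A ⧸ P) := Ideal.Quotient.subsingleton_iff.2 h
    exact not_subsingleton (A ⧸ P) this)
  have h3 := Ideal.map_eq_top_or_isMaximal_of_surjective (Ideal.Quotient.mk P)
    Ideal.Quotient.mk_surjective (inferInstance : (maximalIdeal A).IsMaximal)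
  rcases h3 with h3 | h3
  · exfalso
    have h4 := congrArg (Ideal.comap (Ideal.Quotient.mk P)) h3
    rw [Ideal.comap_map_of_surjective _ Ideal.Quotient.mk_surjective, ← RingHom.ker_eq_comap_bot,
      Ideal.mk_ker, Ideal.comap_top, sup_eq_left.2 hP] at h4
    exact Ideal.IsPrime.ne_top inferInstance h4
  · exact IsLocalRing.eq_maximalIdeal h3

/-- **EGA IV 7.1.x**: if `A` has a finite CM module `M` and `P ∈ Supp M`, the completion of `A/P`
is strictly equidimensional. -/
theorem isStrictlyEquidim_adicCompletion_quotient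
    (M : Type u) [AddCommGroup M] [Module A M] [Module.Finite A M]
    (hM : LocCoh.IsCohenMacaulayModule A M) (P : Ideal A) [hPp : P.IsPrime]
    (hP : (⟨P, hPp⟩ : PrimeSpectrum A) ∈ Module.support A M) [IsLocalRing (A ⧸ P)] :
    EGA4.IsStrictlyEquidim (AdicCompletion (maximalIdeal (A ⧸ P)) (A ⧸ P)) := by
  have hN : IsNoetherianRing (AdicCompletion (maximalIdeal A) A) :=
    Groth.Agent.Lib.Helper83.isNoetherianRing_adicCompletion (I := maximalIdeal A)
  have hmap : (maximalIdeal A).map (algebraMap A (AdicCompletion (maximalIdeal A) A)) =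
      maximalIdeal (AdicCompletion (maximalIdeal A) A) := AdicCompletion.maximalIdeal_eq_map.symm
  have h1 := isStrictlyEquidim_quotient_map A (AdicCompletion (maximalIdeal A) A) hmap M hM P hP
  have h2 := isStrictlyEquidim_of_ringEquiv (quotientCompletionEquiv A P) h1
  have key : ∀ (J J' : Ideal (A ⧸ P)), J = J' →
      EGA4.IsStrictlyEquidim (AdicCompletion J (A ⧸ P)) →
      EGA4.IsStrictlyEquidim (AdicCompletion J' (A ⧸ P)) := by
    rintro J _ rfl h
    exact h
  exact key _ _ (map_mk_maximalIdeal A P) h2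

end Completion



section MinimalPrimesFlat

variable {A B : Type u} [CommRing A] [CommRing B] [Algebra A B] [IsNoetherianRing A]
  [IsNoetherianRing B] [Module.Flat A B]

/-- For flat `A → B`, a minimal prime `Q` of `B` contracts to a minimal prime `p` of `A` and is
minimal over `pB`. -/
theorem comap_mem_minimalPrimes_of_flat {Q : Ideal B} (hQ : Q ∈ minimalPrimes B) :
    Q.comap (algebraMap A B) ∈ minimalPrimes A ∧
      Q ∈ ((Q.comap (algebraMap A B)).map (algebraMap A B)).minimalPrimes := by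
  have hQp : Q.IsPrime := hQ.1.1
  have : Q.LiesOver (Q.comap (algebraMap A B)) := ⟨rfl⟩
  have hform := Ideal.height_eq_height_add_of_liesOver_of_hasGoingDown
    (Q.comap (algebraMap A B)) Q
  rw [Ideal.height_eq_zero_iff.2 hQ] at hform
  have h1 : (Q.comap (algebraMap A B)).height = 0 := by
    have := le_self_add.trans hform.ge
    exact le_antisymm this bot_le
  refine ⟨Ideal.height_eq_zero_iff.1 h1, ⟨⟨hQp, Ideal.map_comap_le⟩, ?_⟩⟩
  rintro K ⟨hKp, hK⟩ hKQ
  exact hQ.2 ⟨hKp, bot_le⟩ hKQ

/-- For flat `A → B`, a prime minimal over `pB` with `p` a minimal prime of `A` is a minimal prime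
of `B` lying over `p`. -/
theorem mem_minimalPrimes_of_flat {p : Ideal A} (hp : p ∈ minimalPrimes A) {Q : Ideal B}
    (hQ : Q ∈ (p.map (algebraMap A B)).minimalPrimes) :
    Q ∈ minimalPrimes B ∧ Q.comap (algebraMap A B) = p := by
  have hpp : p.IsPrime := hp.1.1
  have hQp : Q.IsPrime := hQ.1.1
  have hle : p ≤ Q.comap (algebraMap A B) := by
    rw [← Ideal.map_le_iff_le_comap]; exact hQ.1.2
  have hq' : (Q.comap (algebraMap A B)).IsPrime := Ideal.IsPrime.comap _
  have : Q.LiesOver (Q.comap (algebraMap A B)) := ⟨rfl⟩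
  obtain ⟨Q₁, hQ₁Q, hQ₁p, hQ₁over⟩ := Ideal.exists_ideal_le_liesOver_of_le (p := p)
    (q := Q.comap (algebraMap A B)) Q hle
  have hQ₁ : p.map (algebraMap A B) ≤ Q₁ := by
    rw [Ideal.map_le_iff_le_comap]
    exact (hQ₁over.over).le
  have heq : Q₁ = Q := le_antisymm hQ₁Q (hQ.2 ⟨hQ₁p, hQ₁⟩ hQ₁Q)
  have hcomap : Q.comap (algebraMap A B) = p := by
    rw [← heq]
    exact (hQ₁over.over).symm
  refine ⟨?_, hcomap⟩
  have : Q.LiesOver p := ⟨hcomap.symm⟩
  have hform := Ideal.height_eq_height_add_of_liesOver_of_hasGoingDown p Q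
  have h0 : (Q.map (Ideal.Quotient.mk (p.map (algebraMap A B)))).height = 0 := by
    rw [Ideal.minimalPrimes_eq_comap] at hQ
    obtain ⟨Q', hQ', rfl⟩ := hQ
    rw [Ideal.map_comap_of_surjective _ Ideal.Quotient.mk_surjective]
    have : Q'.IsPrime := hQ'.1.1
    exact Ideal.height_eq_zero_iff.2 hQ'
  rw [h0, add_zero, Ideal.height_eq_zero_iff.2 hp] at hform
  exact Ideal.height_eq_zero_iff.1 hform

end MinimalPrimesFlat

section EquidimTransfer

/-- Equidimensionality transfers along ring isomorphisms. -/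
theorem isEquidim_of_ringEquiv {R S : Type u} [CommRing R] [CommRing S] (e : R ≃+* S)
    (h : EGA4.IsEquidim R) : EGA4.IsEquidim S := by
  intro 𝔮 h𝔮
  have h𝔮' : 𝔮.comap (e : R →+* S) ∈ minimalPrimes R := by
    have := Ideal.minimalPrimes_comap_of_surjective (f := (e : R →+* S)) e.surjective h𝔮
    have hbot : Ideal.comap (e : R →+* S) ⊥ = ⊥ := by
      rw [← RingHom.ker_eq_comap_bot]
      exact (RingHom.injective_iff_ker_eq_bot _).1 e.injective
    rw [hbot] at this
    exact this
  have h1 := h _ h𝔮'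
  have hmap : 𝔮 = (𝔮.comap (e : R →+* S)).map (e : R →+* S) :=
    (Ideal.map_comap_of_surjective _ e.surjective 𝔮).symm
  have e' : (R ⧸ 𝔮.comap (e : R →+* S)) ≃+* (S ⧸ 𝔮) := Ideal.quotientEquiv _ _ e hmap
  rw [← ringKrullDim_eq_of_ringEquiv e', h1, ringKrullDim_eq_of_ringEquiv e]

/-- Equidimensionality of `B/K` in terms of primes of `B` minimal over `K`. -/
theorem isEquidim_quotient_iff {B : Type u} [CommRing B] (K : Ideal B) :
    EGA4.IsEquidim (B ⧸ K) ↔
      ∀ Q ∈ K.minimalPrimes, ringKrullDim (B ⧸ Q) = ringKrullDim (B ⧸ K) := by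
  have key : ∀ 𝔮 : Ideal (B ⧸ K), ringKrullDim ((B ⧸ K) ⧸ 𝔮) =
      ringKrullDim (B ⧸ 𝔮.comap (Ideal.Quotient.mk K)) := by
    intro 𝔮
    have e : (B ⧸ 𝔮.comap (Ideal.Quotient.mk K)) ≃+* ((B ⧸ K) ⧸ 𝔮) :=
      RingEquiv.ofBijective (Ideal.quotientMap 𝔮 (Ideal.Quotient.mk K) le_rfl)
        ⟨Ideal.quotientMap_injective, Ideal.quotientMap_surjective Ideal.Quotient.mk_surjective⟩
    exact (ringKrullDim_eq_of_ringEquiv e).symm
  constructor
  · intro h Q hQ
    rw [Ideal.minimalPrimes_eq_comap] at hQ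
    obtain ⟨𝔮, h𝔮, rfl⟩ := hQ
    rw [← key]
    exact h 𝔮 h𝔮
  · intro h 𝔮 h𝔮
    rw [key]
    apply h
    rw [Ideal.minimalPrimes_eq_comap]
    exact ⟨𝔮, h𝔮, rfl⟩

end EquidimTransfer

section ComplEquiv

/-- Adic completions of isomorphic rings at corresponding ideals are isomorphic. -/
theorem nonempty_adicCompletion_ringEquiv {R S : Type u} [CommRing R] [CommRing S] (e : R ≃+* S)
    (I : Ideal R) (J : Ideal S) (h : I.map (e : R →+* S) = J) :
    Nonempty (AdicCompletion I R ≃+* AdicCompletion J S) := by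
  let Φ : R →ₐ[ℤ] S := (e : R →+* S).toIntAlgHom
  have hΦ : ∀ r, Φ r = e r := fun _ => rfl
  have hpow : ∀ n, (I ^ n).map (e : R →+* S) = J ^ n := fun n => by rw [Ideal.map_pow, h]
  have h1 : I ≤ J.comap Φ := by
    intro r hr
    rw [Ideal.mem_comap, hΦ, ← h]
    exact Ideal.mem_map_of_mem _ hr
  have h2 : ∀ n a, Φ a ∈ J ^ n → a ∈ I ^ n := by
    intro n a ha
    rw [hΦ, ← hpow n] at ha
    obtain ⟨a', ha', hae⟩ := (Ideal.mem_map_iff_of_surjective _ e.surjective).1 ha
    have : a' = a := e.injective hae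
    rw [← this]
    exact ha'
  have h3 : ∀ n b, ∃ a, b - Φ a ∈ J ^ n := by
    intro n b
    refine ⟨e.symm b, ?_⟩
    rw [hΦ, RingEquiv.apply_symm_apply, sub_self]
    exact Ideal.zero_mem _
  obtain ⟨E⟩ := Groth.Agent.Lib.Helper9.AdicComplEquiv.exists_algEquiv I J Φ h1 h2 h3
  exact ⟨E.toRingEquiv⟩

end ComplEquiv


section FormalIff

variable (A : Type u) [CommRing A] [IsLocalRing A] [IsNoetherianRing A]

/-- `Â/PÂ ≃ (A/P)^` (maximal-adic completion of the local ring `A/P`). -/
theorem nonempty_quotientCompletionEquiv (P : Ideal A) [IsLocalRing (A ⧸ P)] :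
    Nonempty ((AdicCompletion (maximalIdeal A) A ⧸
        P.map (algebraMap A (AdicCompletion (maximalIdeal A) A))) ≃+*
      AdicCompletion (maximalIdeal (A ⧸ P)) (A ⧸ P)) := by
  have key : ∀ (J J' : Ideal (A ⧸ P)), J = J' →
      Nonempty ((AdicCompletion (maximalIdeal A) A ⧸
        P.map (algebraMap A (AdicCompletion (maximalIdeal A) A))) ≃+* AdicCompletion J (A ⧸ P)) →
      Nonempty ((AdicCompletion (maximalIdeal A) A ⧸
        P.map (algebraMap A (AdicCompletion (maximalIdeal A) A))) ≃+*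
          AdicCompletion J' (A ⧸ P)) := by
    rintro J _ rfl h
    exact h
  exact key _ _ (map_mk_maximalIdeal A P) ⟨quotientCompletionEquiv A P⟩

theorem ringKrullDim_quotient_map_eq (P : Ideal A) [IsLocalRing (A ⧸ P)] :
    ringKrullDim (AdicCompletion (maximalIdeal A) A ⧸
        P.map (algebraMap A (AdicCompletion (maximalIdeal A) A))) = ringKrullDim (A ⧸ P) := by
  obtain ⟨e⟩ := nonempty_quotientCompletionEquiv A P
  rw [ringKrullDim_eq_of_ringEquiv e]
  exact Groth.Agent.Lib.Helper83.ringKrullDim_adicCompletion_eq (maximalIdeal (A ⧸ P))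
    (Ideal.IsPrime.ne_top inferInstance)

theorem isFormallyEquidim_quotient_iff (P : Ideal A) [IsLocalRing (A ⧸ P)] :
    EGA4.IsFormallyEquidim (A ⧸ P) ↔
      EGA4.IsEquidim (AdicCompletion (maximalIdeal A) A ⧸
        P.map (algebraMap A (AdicCompletion (maximalIdeal A) A))) := by
  obtain ⟨e⟩ := nonempty_quotientCompletionEquiv A P
  exact ⟨fun h => isEquidim_of_ringEquiv e.symm h, fun h => isEquidim_of_ringEquiv e h⟩

/-- EGA IV 7.1.x: `A` is formally equidimensional iff it is equidimensional and `A/p` is formally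
equidimensional for each minimal prime `p`. -/
theorem isFormallyEquidim_iff :
    EGA4.IsFormallyEquidim A ↔
      (EGA4.IsEquidim A ∧ ∀ (p : Ideal A) [p.IsPrime] [IsLocalRing (A ⧸ p)],
        p ∈ minimalPrimes A → EGA4.IsFormallyEquidim (A ⧸ p)) := by
  have hN : IsNoetherianRing (AdicCompletion (maximalIdeal A) A) :=
    Groth.Agent.Lib.Helper83.isNoetherianRing_adicCompletion (I := maximalIdeal A)
  have hdim : ringKrullDim (AdicCompletion (maximalIdeal A) A) = ringKrullDim A :=
    Groth.Agent.Lib.Helper83.ringKrullDim_adicCompletion_eq (maximalIdeal A)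
      (Ideal.IsPrime.ne_top inferInstance)
  have hmle : ∀ p : Ideal A, p ≠ ⊤ → p.map (algebraMap A (AdicCompletion (maximalIdeal A) A)) ≤
      maximalIdeal (AdicCompletion (maximalIdeal A) A) := by
    intro p hp
    rw [AdicCompletion.maximalIdeal_eq_map]
    exact Ideal.map_mono (le_maximalIdeal hp)
  -- (a): equidimensionality of `A` from that of `Â`
  have hA_of : EGA4.IsEquidim (AdicCompletion (maximalIdeal A) A) → EGA4.IsEquidim A := by
    intro h p hp
    have hpp : p.IsPrime := hp.1.1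
    have : Nontrivial (A ⧸ p) := Ideal.Quotient.nontrivial_iff.2 hpp.ne_top
    have : IsLocalRing (A ⧸ p) := .of_surjective' _ Ideal.Quotient.mk_surjective
    obtain ⟨Q, hQ, -⟩ := Ideal.exists_minimalPrimes_le (hmle p hpp.ne_top)
    have hQmin := (mem_minimalPrimes_of_flat hp hQ).1
    have h1 := h Q hQmin
    have h2 : ringKrullDim (AdicCompletion (maximalIdeal A) A ⧸ Q) ≤
        ringKrullDim (AdicCompletion (maximalIdeal A) A ⧸
          p.map (algebraMap A (AdicCompletion (maximalIdeal A) A))) :=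
      ringKrullDim_le_of_surjective (Ideal.Quotient.factor hQ.1.2)
        (Ideal.Quotient.factor_surjective hQ.1.2)
    rw [h1, ringKrullDim_quotient_map_eq, hdim] at h2
    exact le_antisymm (ringKrullDim_le_of_surjective (Ideal.Quotient.mk p)
      Ideal.Quotient.mk_surjective) h2
  constructor
  · intro h
    have hA := hA_of h
    refine ⟨hA, ?_⟩
    intro p _ _ hp
    rw [isFormallyEquidim_quotient_iff, isEquidim_quotient_iff]
    intro Q hQ
    rw [h Q (mem_minimalPrimes_of_flat hp hQ).1, ringKrullDim_quotient_map_eq, hA p hp, hdim]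
  · rintro ⟨hA, hq⟩ Q hQ
    obtain ⟨hp, hQ'⟩ := comap_mem_minimalPrimes_of_flat (A := A) hQ
    have hpp : (Q.comap (algebraMap A (AdicCompletion (maximalIdeal A) A))).IsPrime := hp.1.1
    have : Nontrivial (A ⧸ Q.comap (algebraMap A (AdicCompletion (maximalIdeal A) A))) :=
      Ideal.Quotient.nontrivial_iff.2 hpp.ne_top
    have : IsLocalRing (A ⧸ Q.comap (algebraMap A (AdicCompletion (maximalIdeal A) A))) :=
      .of_surjective' _ Ideal.Quotient.mk_surjective
    have h1 := (isFormallyEquidim_quotient_iff A _).1 (hq _ hp)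
    rw [isEquidim_quotient_iff] at h1
    rw [h1 Q hQ', ringKrullDim_quotient_map_eq, hA _ hp, hdim]

end FormalIff

section QuotientCM

/-- **EGA IV 7.1.x**: if `A` has a finite CM module with full support and `B` is a local quotient
of `A`, the completion of `B/p` is strictly equidimensional for each prime `p` of `B`. -/
theorem isStrictlyEquidim_adicCompletion_quotient_of_surjective
    (A : Type u) [CommRing A] [IsLocalRing A] [IsNoetherianRing A]
    (M : Type u) [AddCommGroup M] [Module A M] [Module.Finite A M]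
    (hM : LocCoh.IsCohenMacaulayModule A M) (hsupp : Module.support A M = Set.univ)
    (B : Type u) [CommRing B] [IsLocalRing B] [Algebra A B]
    (hs : Function.Surjective (algebraMap A B)) (p : Ideal B) [p.IsPrime] [IsLocalRing (B ⧸ p)] :
    EGA4.IsStrictlyEquidim (AdicCompletion (maximalIdeal (B ⧸ p)) (B ⧸ p)) := by
  let P : Ideal A := p.comap (algebraMap A B)
  have hPp : P.IsPrime := Ideal.IsPrime.comap _
  have : Nontrivial (A ⧸ P) := Ideal.Quotient.nontrivial_iff.2 hPp.ne_top
  have : IsLocalRing (A ⧸ P) := .of_surjective' _ Ideal.Quotient.mk_surjective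
  have h1 := isStrictlyEquidim_adicCompletion_quotient A M hM P
    (by rw [hsupp]; exact Set.mem_univ _)
  let e : (A ⧸ P) ≃+* (B ⧸ p) :=
    RingEquiv.ofBijective (Ideal.quotientMap p (algebraMap A B) le_rfl)
      ⟨Ideal.quotientMap_injective, Ideal.quotientMap_surjective hs⟩
  have hmax : (maximalIdeal (A ⧸ P)).map (e : (A ⧸ P) →+* (B ⧸ p)) = maximalIdeal (B ⧸ p) :=
    IsLocalRing.eq_maximalIdeal
      ((Ideal.isMaximal_map_iff_of_bijective (e : (A ⧸ P) →+* (B ⧸ p)) e.bijective).2 inferInstance)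
  obtain ⟨E⟩ := nonempty_adicCompletion_ringEquiv e _ _ hmax
  have hN : IsNoetherianRing (AdicCompletion (maximalIdeal (A ⧸ P)) (A ⧸ P)) :=
    Groth.Agent.Lib.Helper83.isNoetherianRing_adicCompletion (I := maximalIdeal (A ⧸ P))
  exact isStrictlyEquidim_of_ringEquiv E h1

end QuotientCM

end Groth.Agent.Lib.Helper29.FormalEquidim
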