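import Mathlib
import Groth.Agent.Lib.Helper29.CMRing
import Groth.Agent.Lib.Helper29.DimTheory
import Groth.Agent.Lib.Helper29.DepthLoc
import Groth.Agent.Lib.Helper20.AnnLoc
import Groth.Agent.Lib.Helper28.CMLocP
import Groth.Agent.Lib.Helper49.Serre2

/-!
# Dimension and depth along a finite restriction of scalars (EGA 0_IV 16.4.8, helper29)

For `A → B` Noetherian and a `B`-module `M` finite over `A`:
`dim M_p = sup_q dim M_q` and `depth M_p = inf_q depth M_q`, over the primes `q` of `B` above `p`
in the support of `M`.
-/

set_option autoImplicit false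
universe u
open IsLocalRing

namespace Groth.Agent.Lib.Helper29.FiniteRestrict

open Groth.Agent.Lib.Helper29

section IntegralHeight

variable {R S : Type*} [CommRing R] [CommRing S] [Algebra R S] [Algebra.IsIntegral R S]

/-- Incomparability: heights do not increase under contraction along an integral map. -/
theorem height_le_height_comap (q : Ideal S) [q.IsPrime] :
    q.height ≤ (q.comap (algebraMap R S)).height := by
  have hmono : StrictMono (PrimeSpectrum.comap (algebraMap R S)) := by
    intro P Q hPQ
    have h1 : P.asIdeal < Q.asIdeal := hPQ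
    exact Ideal.IsIntegral.comap_lt_comap (R := R) h1
  have := Order.height_le_height_apply_of_strictMono _ hmono (⟨q, inferInstance⟩ : PrimeSpectrum S)
  rw [← PrimeSpectrum.height_eq_orderHeight, ← PrimeSpectrum.height_eq_orderHeight] at this
  exact this

/-- Going up: a chain of length `n` below `p` lifts to a chain below some prime over `p`. -/
theorem exists_prime_over_height_ge (hinj : Function.Injective (algebraMap R S)) (p : Ideal R)
    [p.IsPrime] (n : ℕ) (hn : (n : ℕ∞) ≤ p.height) :
    ∃ q : Ideal S, q.IsPrime ∧ q.comap (algebraMap R S) = p ∧ (n : ℕ∞) ≤ q.height := by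
  have hn' : (n : ℕ∞) ≤ Order.height (⟨p, inferInstance⟩ : PrimeSpectrum R) := by
    rw [← PrimeSpectrum.height_eq_orderHeight]
    exact hn
  obtain ⟨l, hlast, hlen⟩ := Order.exists_series_of_le_height _ hn'
  obtain ⟨P, -, hP, hPover⟩ := Ideal.exists_ideal_over_prime_of_isIntegral l.head.asIdeal ⊥
    (by rw [Ideal.comap_bot_of_injective _ hinj]; exact bot_le)
  have hlo : P.LiesOver l.head.asIdeal := ⟨hPover.symm⟩
  obtain ⟨L, hLlen, hLhead, hLlist⟩ := Ideal.exists_ltSeries_of_hasGoingUp l P
  have hLlast : PrimeSpectrum.comap (algebraMap R S) L.last = l.last := by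
    have e1 : L.toList.getLast? = some L.last := by
      rw [List.getLast?_eq_some_getLast L.toList_ne_nil, RelSeries.getLast_toList]
    have e2 : l.toList.getLast? = some l.last := by
      rw [List.getLast?_eq_some_getLast l.toList_ne_nil, RelSeries.getLast_toList]
    have h1 : (L.toList.map (PrimeSpectrum.comap (algebraMap R S))).getLast? =
        l.toList.getLast? := by rw [hLlist]
    rw [List.getLast?_map, e1, e2] at h1
    simpa using h1
  refine ⟨L.last.asIdeal, L.last.2, ?_, ?_⟩
  · have := congrArg PrimeSpectrum.asIdeal hLlast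
    rw [hlast] at this
    exact this
  · rw [PrimeSpectrum.height_eq_orderHeight, ← hlen, ← hLlen]
    exact Order.length_le_height_last

end IntegralHeight

section SupportDim

open Groth.Agent.Lib.Helper28.CMAux

variable (R : Type u) [CommRing R] (N : Type u) [AddCommGroup N] [Module R N] [Module.Finite R N]
  (P : Ideal R) [P.IsPrime]

/-- Outside the support the localization has dimension `⊥`. -/
theorem supportDim_localizedModule_eq_bot (h : ¬ Module.annihilator R N ≤ P) :
    Module.supportDim (Localization.AtPrime P) (LocalizedModule P.primeCompl N) = ⊥ := by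
  have hns : (⟨P, inferInstance⟩ : PrimeSpectrum R) ∉ Module.support R N := by
    rw [Module.support_eq_zeroLocus, PrimeSpectrum.mem_zeroLocus]
    exact h
  have : Subsingleton (LocalizedModule P.primeCompl N) := Module.notMem_support_iff.mp hns
  exact Module.supportDim_eq_bot_of_subsingleton _ _

/-- `dim N_P` is the height of `P / Ann N` in `R / Ann N`. -/
theorem supportDim_localizedModule_eq_height (h : Module.annihilator R N ≤ P) :
    Module.supportDim (Localization.AtPrime P) (LocalizedModule P.primeCompl N) =
      (((P.map (Ideal.Quotient.mk (Module.annihilator R N))).height : ℕ∞) : WithBot ℕ∞) := by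
  have hprime := isPrime_map_mk P (Module.annihilator R N) h
  have hann := Groth.Agent.Lib.Helper20.AnnLoc.map_annihilator_of_isLocalizedModule
    (R' := Localization.AtPrime P) P.primeCompl (LocalizedModule.mkLinearMap P.primeCompl N)
  rw [Module.supportDim_eq_ringKrullDim_quotient_annihilator,
    ← ringKrullDim_eq_of_ringEquiv (Ideal.quotEquivOfEq hann)]
  have h1 := ringKrullDim_QP_eq' P (Module.annihilator R N) h
  rw [IsLocalization.AtPrime.ringKrullDim_eq_height
    (P.map (Ideal.Quotient.mk (Module.annihilator R N)))
    (Localization.AtPrime (P.map (Ideal.Quotient.mk (Module.annihilator R N))))] at h1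
  exact h1

end SupportDim

section Dim

open Groth.Agent.Lib.Helper28.CMAux

variable (A B : Type u) [CommRing A] [CommRing B] [Algebra A B]
  (M : Type u) [AddCommGroup M] [Module B M] [Module A M] [IsScalarTower A B M]

theorem annihilator_eq_comap :
    Module.annihilator A M = (Module.annihilator B M).comap (algebraMap A B) := by
  ext a
  simp only [Module.mem_annihilator, Ideal.mem_comap, algebraMap_smul]

/-- The map `A / Ann_A M → B / Ann_B M`. -/
noncomputable def quotMap : A ⧸ Module.annihilator A M →+* B ⧸ Module.annihilator B M :=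
  Ideal.quotientMap _ (algebraMap A B) (le_of_eq (annihilator_eq_comap A B M))

theorem quotMap_mk (a : A) :
    quotMap A B M (Ideal.Quotient.mk _ a) = Ideal.Quotient.mk _ (algebraMap A B a) := rfl

theorem quotMap_injective : Function.Injective (quotMap A B M) :=
  Ideal.quotientMap_injective' (le_of_eq (annihilator_eq_comap A B M).symm)

theorem quotMap_isIntegral [Module.Finite A M] : (quotMap A B M).IsIntegral := by
  intro x
  obtain ⟨b, rfl⟩ := Ideal.Quotient.mk_surjective x
  obtain ⟨P, hmonic, hP⟩ := LinearMap.exists_monic_and_aeval_eq_zero A (Algebra.lsmul A A M b)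
  have hmem : Polynomial.aeval b P ∈ Module.annihilator B M := by
    rw [Module.mem_annihilator]
    intro m
    have h1 := Polynomial.aeval_algHom_apply (Algebra.lsmul A A M) b P
    rw [hP] at h1
    have h2 := congrArg (fun f : Module.End A M => f m) h1
    simpa using h2.symm
  refine ⟨P.map (Ideal.Quotient.mk (Module.annihilator A M)), hmonic.map _, ?_⟩
  rw [Polynomial.eval₂_map]
  have hcomp : (quotMap A B M).comp (Ideal.Quotient.mk (Module.annihilator A M)) =
      (Ideal.Quotient.mk (Module.annihilator B M)).comp (algebraMap A B) := by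
    ext a
    rfl
  rw [hcomp, ← Polynomial.hom_eval₂, Ideal.Quotient.eq_zero_iff_mem]
  exact hmem

variable [IsNoetherianRing A] [IsNoetherianRing B] [Module.Finite A M]

/-- **Dimension along a finite restriction of scalars.** -/
theorem supportDim_eq_iSup (p : Ideal A) [p.IsPrime] :
    Module.supportDim (Localization.AtPrime p) (LocalizedModule p.primeCompl M) =
      ⨆ q ∈ {q : PrimeSpectrum B | q.asIdeal.comap (algebraMap A B) = p ∧
          q ∈ Module.support B M},
        Module.supportDim (Localization.AtPrime q.asIdeal)
          (LocalizedModule q.asIdeal.primeCompl M) := by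
  have hfinB : Module.Finite B M := Module.Finite.of_restrictScalars_finite A B M
  letI : Algebra (A ⧸ Module.annihilator A M) (B ⧸ Module.annihilator B M) :=
    (quotMap A B M).toAlgebra
  have hint : Algebra.IsIntegral (A ⧸ Module.annihilator A M) (B ⧸ Module.annihilator B M) :=
    ⟨quotMap_isIntegral A B M⟩
  have hcomp : (quotMap A B M).comp (Ideal.Quotient.mk (Module.annihilator A M)) =
      (Ideal.Quotient.mk (Module.annihilator B M)).comp (algebraMap A B) := by
    ext a
    rfl
  apply le_antisymm
  · by_cases hp : Module.annihilator A M ≤ p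
    swap
    · rw [supportDim_localizedModule_eq_bot A M p hp]
      exact bot_le
    rw [supportDim_localizedModule_eq_height A M p hp]
    have hprime := isPrime_map_mk p (Module.annihilator A M) hp
    obtain ⟨n, hn⟩ := ENat.ne_top_iff_exists.mp
      (Ideal.height_ne_top_of_isPrime (I := p.map (Ideal.Quotient.mk (Module.annihilator A M))))
    obtain ⟨Q, hQ, hQover, hQn⟩ := exists_prime_over_height_ge
      (R := A ⧸ Module.annihilator A M) (S := B ⧸ Module.annihilator B M)
      (quotMap_injective A B M) (p.map (Ideal.Quotient.mk (Module.annihilator A M))) n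
      (le_of_eq hn)
    have hqprime : (Q.comap (Ideal.Quotient.mk (Module.annihilator B M))).IsPrime :=
      Ideal.comap_isPrime _ _
    have hIq : Module.annihilator B M ≤ Q.comap (Ideal.Quotient.mk (Module.annihilator B M)) := by
      intro b hb
      rw [Ideal.mem_comap, Ideal.Quotient.eq_zero_iff_mem.mpr hb]
      exact Q.zero_mem
    have hqQ : (Q.comap (Ideal.Quotient.mk (Module.annihilator B M))).map
        (Ideal.Quotient.mk (Module.annihilator B M)) = Q :=
      Ideal.map_comap_of_surjective _ Ideal.Quotient.mk_surjective Q
    have hqp : (Q.comap (Ideal.Quotient.mk (Module.annihilator B M))).comap (algebraMap A B) =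
        p := by
      rw [Ideal.comap_comap, ← hcomp, ← Ideal.comap_comap]
      have : Q.comap (quotMap A B M) = p.map (Ideal.Quotient.mk (Module.annihilator A M)) :=
        hQover
      rw [this, comap_map_mk_eq p _ hp]
    have hsupp : (⟨Q.comap (Ideal.Quotient.mk (Module.annihilator B M)), hqprime⟩ :
        PrimeSpectrum B) ∈ Module.support B M := by
      rw [Module.support_eq_zeroLocus, PrimeSpectrum.mem_zeroLocus]
      exact hIq
    refine le_iSup₂_of_le (⟨Q.comap (Ideal.Quotient.mk (Module.annihilator B M)), hqprime⟩ :
      PrimeSpectrum B) ⟨hqp, hsupp⟩ ?_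
    rw [supportDim_localizedModule_eq_height B M _ hIq, hqQ, ← hn]
    exact WithBot.coe_le_coe.mpr hQn
  · refine iSup₂_le fun q hq => ?_
    obtain ⟨hqp, hqs⟩ := hq
    have hIq : Module.annihilator B M ≤ q.asIdeal := by
      rw [Module.support_eq_zeroLocus, PrimeSpectrum.mem_zeroLocus] at hqs
      exact hqs
    have hp : Module.annihilator A M ≤ p := by
      rw [annihilator_eq_comap A B M, ← hqp]
      exact Ideal.comap_mono hIq
    rw [supportDim_localizedModule_eq_height B M q.asIdeal hIq,
      supportDim_localizedModule_eq_height A M p hp]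
    have hprimeq := isPrime_map_mk q.asIdeal (Module.annihilator B M) hIq
    have hover : (q.asIdeal.map (Ideal.Quotient.mk (Module.annihilator B M))).comap
        (quotMap A B M) = p.map (Ideal.Quotient.mk (Module.annihilator A M)) := by
      apply Ideal.comap_injective_of_surjective (Ideal.Quotient.mk (Module.annihilator A M))
        Ideal.Quotient.mk_surjective
      rw [Ideal.comap_comap, hcomp, ← Ideal.comap_comap, comap_map_mk_eq q.asIdeal _ hIq, hqp,
        comap_map_mk_eq p _ hp]
    have h1 := height_le_height_comap (R := A ⧸ Module.annihilator A M)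
      (q.asIdeal.map (Ideal.Quotient.mk (Module.annihilator B M)))
    have h2 : (q.asIdeal.map (Ideal.Quotient.mk (Module.annihilator B M))).comap
        (algebraMap (A ⧸ Module.annihilator A M) (B ⧸ Module.annihilator B M)) =
        p.map (Ideal.Quotient.mk (Module.annihilator A M)) := hover
    rw [h2] at h1
    exact WithBot.coe_le_coe.mpr h1

end Dim

section Depth

open Pointwise

theorem mk_eq_zero_iff' {R : Type u} [CommRing R] {M : Type u} [AddCommGroup M] [Module R M]
    (S : Submonoid R) (m : M) (t : S) :
    LocalizedModule.mk m t = 0 ↔ ∃ u : S, u • m = 0 := by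
  rw [← LocalizedModule.zero_mk (1 : S), LocalizedModule.mk_eq]
  constructor
  · rintro ⟨u, hu⟩
    refine ⟨u, ?_⟩
    rw [one_smul, smul_zero, smul_zero] at hu
    exact hu
  · rintro ⟨u, hu⟩
    exact ⟨u, by rw [one_smul, smul_zero, smul_zero, hu]⟩

variable (A B : Type u) [CommRing A] [CommRing B] [Algebra A B]

/-- An element of `A` regular on `M_p` is regular on `M_q` for every prime `q` of `B` over `p`. -/
theorem isSMulRegular_localizedModule_of_comap (M : Type u) [AddCommGroup M] [Module B M]
    [Module A M] [IsScalarTower A B M] (p : Ideal A) [p.IsPrime] (q : Ideal B) [q.IsPrime]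
    (hqp : q.comap (algebraMap A B) = p) (a : A)
    (ha : IsSMulRegular (LocalizedModule p.primeCompl M)
      (algebraMap A (Localization.AtPrime p) a)) :
    IsSMulRegular (LocalizedModule q.primeCompl M)
      (algebraMap B (Localization.AtPrime q) (algebraMap A B a)) := by
  rw [isSMulRegular_iff_right_eq_zero_of_smul]
  intro x hx
  induction x using LocalizedModule.induction_on with
  | h m t =>
    rw [algebraMap_smul, LocalizedModule.smul'_mk, mk_eq_zero_iff'] at hx
    obtain ⟨t', ht'⟩ := hx
    have ht'' : (t' : B) • algebraMap A B a • m = 0 := ht'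
    have h1 : (algebraMap A (Localization.AtPrime p) a) •
        LocalizedModule.mk ((t' : B) • m) (1 : p.primeCompl) = 0 := by
      rw [algebraMap_smul, LocalizedModule.smul'_mk, mk_eq_zero_iff']
      refine ⟨1, ?_⟩
      rw [one_smul, ← algebraMap_smul B a ((t' : B) • m), smul_comm]
      exact ht''
    have h2 := (isSMulRegular_iff_right_eq_zero_of_smul.mp ha) _ h1
    rw [mk_eq_zero_iff'] at h2
    obtain ⟨s, hs⟩ := h2
    have hs' : (s : A) • (t' : B) • m = 0 := hs
    rw [mk_eq_zero_iff']
    refine ⟨⟨algebraMap A B s * t', ?_⟩, ?_⟩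
    · intro hmem
      rcases (inferInstance : q.IsPrime).mem_or_mem hmem with h | h
      · have hsp : (s : A) ∈ q.comap (algebraMap A B) := h
        exact s.2 (hqp ▸ hsp)
      · exact t'.2 h
    · change (algebraMap A B s * (t' : B)) • m = 0
      rw [mul_smul, algebraMap_smul]
      exact hs'

/-- Over an associated prime `p` of the `A`-module `M` lies an associated prime of the
`B`-module `M`. -/
theorem exists_associatedPrime_over [IsNoetherianRing A] [IsNoetherianRing B] (M : Type u)
    [AddCommGroup M] [Module B M] [Module A M] [IsScalarTower A B M] (p : Ideal A)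
    (hp : p ∈ associatedPrimes A M) :
    ∃ q : Ideal B, q ∈ associatedPrimes B M ∧ q.comap (algebraMap A B) = p := by
  obtain ⟨hpp, z, hz⟩ := (isAssociatedPrime_iff).mp hp
  have hmemA : ∀ (n : M) (a : A), a ∈ (⊥ : Submodule A M).colon {n} ↔ a • n = 0 := fun n a => by
    rw [Submodule.mem_colon_singleton, Submodule.mem_bot]
  have hmemB : ∀ (n : M) (b : B), b ∈ (⊥ : Submodule B M).colon {n} ↔ b • n = 0 := fun n b => by
    rw [Submodule.mem_colon_singleton, Submodule.mem_bot]
  let 𝒮 : Set (Ideal B) := {J | ∃ n : M, (⊥ : Submodule A M).colon {n} = p ∧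
    J = (⊥ : Submodule B M).colon {n}}
  have hne : 𝒮.Nonempty := ⟨_, z, hz.symm, rfl⟩
  obtain ⟨q, ⟨n₀, hn₀, rfl⟩, hmax⟩ :=
    set_has_maximal_iff_noetherian.mpr (inferInstance : IsNoetherian B B) 𝒮 hne
  have hmax' : ∀ n : M, (⊥ : Submodule A M).colon {n} = p →
      (⊥ : Submodule B M).colon {n₀} ≤ (⊥ : Submodule B M).colon {n} →
      (⊥ : Submodule B M).colon {n} = (⊥ : Submodule B M).colon {n₀} := by
    intro n hn hle
    by_contra hne'
    exact hmax _ ⟨n, hn, rfl⟩ (lt_of_le_of_ne hle (fun h => hne' h.symm))
  refine ⟨(⊥ : Submodule B M).colon {n₀}, ?_, ?_⟩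
  · change IsAssociatedPrime _ M
    rw [isAssociatedPrime_iff]
    refine ⟨⟨?_, ?_⟩, n₀, rfl⟩
    · intro htop
      have h1 : (1 : B) ∈ (⊥ : Submodule B M).colon {n₀} := by rw [htop]; trivial
      rw [hmemB, one_smul] at h1
      apply hpp.ne_top
      rw [← hn₀, Ideal.eq_top_iff_one, hmemA, h1, smul_zero]
    · intro b b' hbb'
      by_contra hcon
      push Not at hcon
      obtain ⟨hb, hb'⟩ := hcon
      rw [hmemB] at hbb' hb hb'
      by_cases hcase : (⊥ : Submodule A M).colon {b' • n₀} = p
      · have heq := hmax' (b' • n₀) hcase (by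
          intro c hc
          rw [hmemB] at hc ⊢
          rw [smul_comm, hc, smul_zero])
        have h1 : b ∈ (⊥ : Submodule B M).colon {b' • n₀} := by
          rw [hmemB, ← mul_smul]
          exact hbb'
        rw [heq, hmemB] at h1
        exact hb h1
      · have hle : p ≤ (⊥ : Submodule A M).colon {b' • n₀} := by
          intro a ha
          rw [← hn₀, hmemA] at ha
          rw [hmemA, smul_comm, ha, smul_zero]
        obtain ⟨s, hs, hsp⟩ : ∃ s ∈ (⊥ : Submodule A M).colon {b' • n₀}, s ∉ p := by
          by_contra hcon
          push Not at hcon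
          exact hcase (le_antisymm hcon hle)
        have hsn : (⊥ : Submodule A M).colon {s • n₀} = p := by
          ext a
          rw [hmemA, ← mul_smul, ← hmemA, hn₀]
          constructor
          · intro h
            rcases hpp.mem_or_mem h with h | h
            · exact h
            · exact absurd h hsp
          · intro h
            exact Ideal.mul_mem_right _ _ h
        have heq := hmax' (s • n₀) hsn (by
          intro c hc
          rw [hmemB] at hc ⊢
          rw [smul_comm, hc, smul_zero])
        have h1 : b' ∈ (⊥ : Submodule B M).colon {s • n₀} := by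
          rw [hmemB, smul_comm]
          rw [hmemA] at hs
          exact hs
        rw [heq, hmemB] at h1
        exact hb' h1
  · ext a
    rw [Ideal.mem_comap, hmemB, algebraMap_smul, ← hmemA, hn₀]

/-- Depth of `(M/aM)_p` for `a ∈ p` regular on `M_p`, the quotient taken over `B`. -/
theorem depth_quotSMulTop_algebraMap_add_one [IsNoetherianRing A] (M : Type u)
    [AddCommGroup M] [Module B M] [Module A M] [IsScalarTower A B M] [Module.Finite A M]
    (p : Ideal A) [p.IsPrime] [Nontrivial (LocalizedModule p.primeCompl M)] {a : A} (hap : a ∈ p)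
    (ha : IsSMulRegular (LocalizedModule p.primeCompl M)
      (algebraMap A (Localization.AtPrime p) a)) :
    LocCoh.depth (Localization.AtPrime p)
        (LocalizedModule p.primeCompl (QuotSMulTop (algebraMap A B a) M)) + 1 =
      LocCoh.depth (Localization.AtPrime p) (LocalizedModule p.primeCompl M) := by
  have h : a • (⊤ : Submodule A M) =
      ((algebraMap A B a) • (⊤ : Submodule B M)).restrictScalars A := by
    ext x
    rw [Submodule.mem_smul_pointwise_iff_exists, Submodule.restrictScalars_mem,
      Submodule.mem_smul_pointwise_iff_exists]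
    constructor
    · rintro ⟨m, -, rfl⟩
      exact ⟨m, trivial, algebraMap_smul B a m⟩
    · rintro ⟨m, -, rfl⟩
      exact ⟨m, trivial, (algebraMap_smul B a m).symm⟩
  let e : QuotSMulTop a M ≃ₗ[A] QuotSMulTop (algebraMap A B a) M :=
    (Submodule.quotEquivOfEq _ _ h).trans
      (Submodule.Quotient.restrictScalarsEquiv A ((algebraMap A B a) • (⊤ : Submodule B M)))
  let e' : LocalizedModule p.primeCompl (QuotSMulTop a M) ≃ₗ[Localization.AtPrime p]
      LocalizedModule p.primeCompl (QuotSMulTop (algebraMap A B a) M) :=
    IsLocalizedModule.mapEquiv p.primeCompl (LocalizedModule.mkLinearMap p.primeCompl _)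
      (LocalizedModule.mkLinearMap p.primeCompl _) (Localization.AtPrime p) e
  rw [← CMLib.depth_congr e']
  exact Groth.Agent.Lib.Helper49.Serre.depth_localizedModule_quotSMulTop_add_one M p hap ha

/-- Nakayama: `(M/bM)_q ≠ 0` iff `M_q ≠ 0`, for `b ∈ q`. -/
theorem nontrivial_localizedModule_quotSMulTop_iff (M : Type u) [AddCommGroup M] [Module B M]
    [Module.Finite B M] (q : Ideal B) [q.IsPrime] {b : B} (hb : b ∈ q) :
    Nontrivial (LocalizedModule q.primeCompl (QuotSMulTop b M)) ↔
      Nontrivial (LocalizedModule q.primeCompl M) := by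
  constructor
  · intro h
    by_contra hcon
    rw [not_nontrivial_iff_subsingleton] at hcon
    have hsurj := LocalizedModule.map_surjective q.primeCompl
      (Submodule.mkQ (b • (⊤ : Submodule B M))) (Submodule.mkQ_surjective _)
    exact not_subsingleton _ hsurj.subsingleton
  · intro h
    have hbm : algebraMap B (Localization.AtPrime q) b ∈ maximalIdeal (Localization.AtPrime q) :=
      (IsLocalization.AtPrime.to_map_mem_maximal_iff _ q b).mpr hb
    have := DepthLib.nontrivial_quotSMulTop (Localization.AtPrime q)
      (LocalizedModule q.primeCompl M) hbm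
    exact (Groth.Agent.Lib.Helper49.Serre.quotSMulTopLocalizedEquiv q.primeCompl M
      b).symm.toEquiv.nontrivial

variable [IsNoetherianRing A] [IsNoetherianRing B]

/-- If `depth M_p = n + 1 > 0`, some `a ∈ p` is `M_p`-regular. -/
theorem exists_regular_mem (M : Type u) [AddCommGroup M] [Module A M]
    [Module.Finite A M] (p : Ideal A) [p.IsPrime] (n : ℕ) (hn : n ≠ 0)
    (hd : LocCoh.depth (Localization.AtPrime p) (LocalizedModule p.primeCompl M) = n) :
    ∃ a ∈ p, IsSMulRegular (LocalizedModule p.primeCompl M)
        (algebraMap A (Localization.AtPrime p) a) := by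
  have hnt : Nontrivial (LocalizedModule p.primeCompl M) := by
    by_contra hcon
    rw [not_nontrivial_iff_subsingleton] at hcon
    rw [DepthLoc.depth_eq_top_of_subsingleton] at hd
    exact ENat.top_ne_coe _ hd
  have hM := maximalIdeal_smul_top_ne_top (Localization.AtPrime p)
    (LocalizedModule p.primeCompl M)
  have h0 : LocCoh.depth (Localization.AtPrime p) (LocalizedModule p.primeCompl M) ≠ 0 := by
    rw [hd]
    exact_mod_cast hn
  have hex : ∃ x ∈ maximalIdeal (Localization.AtPrime p),
      IsSMulRegular (LocalizedModule p.primeCompl M) x := by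
    by_contra hcon
    push Not at hcon
    exact h0 ((depth_eq_zero_iff_forall_not_isSMulRegular _ _ hM).mpr hcon)
  obtain ⟨x, hxm, hxreg⟩ := hex
  obtain ⟨⟨a, s⟩, hxs⟩ := IsLocalization.surj p.primeCompl x
  have hu : IsUnit (algebraMap A (Localization.AtPrime p) (s : A)) :=
    IsLocalization.map_units _ s
  have hareg : IsSMulRegular (LocalizedModule p.primeCompl M)
      (algebraMap A (Localization.AtPrime p) a) := by
    have h1 : algebraMap A (Localization.AtPrime p) a =
        x * algebraMap A (Localization.AtPrime p) (s : A) := hxs.symm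
    rw [h1]
    exact hxreg.mul (hu.isSMulRegular _)
  refine ⟨a, ?_, hareg⟩
  by_contra hanp
  have hua : IsUnit (algebraMap A (Localization.AtPrime p) a) :=
    IsLocalization.map_units _ (⟨a, hanp⟩ : p.primeCompl)
  have hxu : IsUnit x := by
    have h1 : x * algebraMap A (Localization.AtPrime p) (s : A) =
        algebraMap A (Localization.AtPrime p) a := hxs
    rw [← h1] at hua
    exact isUnit_of_mul_isUnit_left hua
  exact (IsLocalRing.mem_maximalIdeal x).mp hxm hxu

omit [IsNoetherianRing A] [IsNoetherianRing B] in
/-- `M / bM` (quotient over `B`) is finite over `A`. -/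
theorem finite_quotSMulTop_algebraMap (M : Type u) [AddCommGroup M] [Module B M] [Module A M]
    [IsScalarTower A B M] [Module.Finite A M] (a : A) :
    Module.Finite A (QuotSMulTop (algebraMap A B a) M) := by
  have h : a • (⊤ : Submodule A M) =
      ((algebraMap A B a) • (⊤ : Submodule B M)).restrictScalars A := by
    ext x
    rw [Submodule.mem_smul_pointwise_iff_exists, Submodule.restrictScalars_mem,
      Submodule.mem_smul_pointwise_iff_exists]
    constructor
    · rintro ⟨m, -, rfl⟩
      exact ⟨m, trivial, algebraMap_smul B a m⟩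
    · rintro ⟨m, -, rfl⟩
      exact ⟨m, trivial, (algebraMap_smul B a m).symm⟩
  let e : QuotSMulTop a M ≃ₗ[A] QuotSMulTop (algebraMap A B a) M :=
    (Submodule.quotEquivOfEq _ _ h).trans
      (Submodule.Quotient.restrictScalarsEquiv A ((algebraMap A B a) • (⊤ : Submodule B M)))
  exact Module.Finite.equiv e

/-- Core of the depth formula, by induction on the depth over `A_p`. -/
theorem depth_core (p : Ideal A) [p.IsPrime] (n : ℕ) :
    ∀ (M : Type u) [AddCommGroup M] [Module B M] [Module A M] [IsScalarTower A B M]
      [Module.Finite A M],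
      LocCoh.depth (Localization.AtPrime p) (LocalizedModule p.primeCompl M) = n →
      (∀ q : PrimeSpectrum B, q.asIdeal.comap (algebraMap A B) = p → q ∈ Module.support B M →
        (n : ℕ∞) ≤ LocCoh.depth (Localization.AtPrime q.asIdeal)
          (LocalizedModule q.asIdeal.primeCompl M)) ∧
      ∃ q : PrimeSpectrum B, q.asIdeal.comap (algebraMap A B) = p ∧ q ∈ Module.support B M ∧
        LocCoh.depth (Localization.AtPrime q.asIdeal)
          (LocalizedModule q.asIdeal.primeCompl M) = n := by
  induction n with
  | zero =>
    intro M _ _ _ _ _ hd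
    have hfinB : Module.Finite B M := Module.Finite.of_restrictScalars_finite A B M
    refine ⟨fun q _ _ => by simp, ?_⟩
    have hass : p ∈ associatedPrimes A M := by
      rw [← Groth.Agent.Lib.Helper49.Serre.depth_localizedModule_eq_zero_iff M p]
      exact_mod_cast hd
    obtain ⟨q, hq, hqp⟩ := exists_associatedPrime_over A B M p hass
    have hqprime : q.IsPrime := hq.isPrime
    have hd0 : LocCoh.depth (Localization.AtPrime q) (LocalizedModule q.primeCompl M) = 0 :=
      (Groth.Agent.Lib.Helper49.Serre.depth_localizedModule_eq_zero_iff M q).mpr hq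
    refine ⟨⟨q, hqprime⟩, hqp, ?_, by exact_mod_cast hd0⟩
    rw [Module.mem_support_iff]
    by_contra hcon
    rw [not_nontrivial_iff_subsingleton] at hcon
    rw [DepthLoc.depth_eq_top_of_subsingleton] at hd0
    exact ENat.top_ne_zero hd0
  | succ n ih =>
    intro M _ _ _ _ _ hd
    have hfinB : Module.Finite B M := Module.Finite.of_restrictScalars_finite A B M
    have hnt : Nontrivial (LocalizedModule p.primeCompl M) := by
      by_contra hcon
      rw [not_nontrivial_iff_subsingleton] at hcon
      rw [DepthLoc.depth_eq_top_of_subsingleton] at hd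
      exact ENat.top_ne_coe _ hd
    -- a regular element in `p`
    obtain ⟨a, hap, ha⟩ := exists_regular_mem A M p (n + 1) (Nat.succ_ne_zero n) hd
    have hfinM' : Module.Finite A (QuotSMulTop (algebraMap A B a) M) :=
      finite_quotSMulTop_algebraMap A B M a
    have hd' : LocCoh.depth (Localization.AtPrime p)
        (LocalizedModule p.primeCompl (QuotSMulTop (algebraMap A B a) M)) = n := by
      have h1 := depth_quotSMulTop_algebraMap_add_one A B M p hap ha
      rw [hd] at h1
      have h2 : LocCoh.depth (Localization.AtPrime p)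
          (LocalizedModule p.primeCompl (QuotSMulTop (algebraMap A B a) M)) + 1 =
          (n : ℕ∞) + 1 := by
        rw [h1]
        push_cast
        rfl
      exact ENat.add_left_injective_of_ne_top ENat.one_ne_top h2
    obtain ⟨ih1, q₀, hq₀p, hq₀s, hq₀d⟩ := ih (QuotSMulTop (algebraMap A B a) M) hd'
    have hstep : ∀ q : PrimeSpectrum B, q.asIdeal.comap (algebraMap A B) = p →
        q ∈ Module.support B M →
        LocCoh.depth (Localization.AtPrime q.asIdeal)
          (LocalizedModule q.asIdeal.primeCompl (QuotSMulTop (algebraMap A B a) M)) + 1 =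
        LocCoh.depth (Localization.AtPrime q.asIdeal)
          (LocalizedModule q.asIdeal.primeCompl M) := by
      intro q hqp hqs
      have hntq : Nontrivial (LocalizedModule q.asIdeal.primeCompl M) :=
        Module.mem_support_iff.mp hqs
      have hbq : algebraMap A B a ∈ q.asIdeal := by
        have : a ∈ q.asIdeal.comap (algebraMap A B) := by rw [hqp]; exact hap
        exact this
      exact Groth.Agent.Lib.Helper49.Serre.depth_localizedModule_quotSMulTop_add_one M q.asIdeal
        hbq (isSMulRegular_localizedModule_of_comap A B M p q.asIdeal hqp a ha)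
    have hbq : ∀ q : PrimeSpectrum B, q.asIdeal.comap (algebraMap A B) = p →
        algebraMap A B a ∈ q.asIdeal := by
      intro q hqp
      have : a ∈ q.asIdeal.comap (algebraMap A B) := by rw [hqp]; exact hap
      exact this
    refine ⟨?_, q₀, hq₀p, ?_, ?_⟩
    · intro q hqp hqs
      have hqs' : q ∈ Module.support B (QuotSMulTop (algebraMap A B a) M) := by
        rw [Module.mem_support_iff,
          nontrivial_localizedModule_quotSMulTop_iff B M q.asIdeal (hbq q hqp)]
        exact Module.mem_support_iff.mp hqs
      have h1 := ih1 q hqp hqs'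
      rw [← hstep q hqp hqs]
      push_cast
      gcongr
    · rw [Module.mem_support_iff,
        ← nontrivial_localizedModule_quotSMulTop_iff B M q₀.asIdeal (hbq q₀ hq₀p)]
      exact Module.mem_support_iff.mp hq₀s
    · have hq₀s' : q₀ ∈ Module.support B M := by
        rw [Module.mem_support_iff,
          ← nontrivial_localizedModule_quotSMulTop_iff B M q₀.asIdeal (hbq q₀ hq₀p)]
        exact Module.mem_support_iff.mp hq₀s
      rw [← hstep q₀ hq₀p hq₀s', hq₀d]
      push_cast
      rfl

/-- **Depth along a finite restriction of scalars.** -/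
theorem depth_eq_iInf (M : Type u) [AddCommGroup M] [Module B M] [Module A M]
    [IsScalarTower A B M] [Module.Finite A M] (p : Ideal A) [p.IsPrime] :
    LocCoh.depth (Localization.AtPrime p) (LocalizedModule p.primeCompl M) =
      ⨅ q ∈ {q : PrimeSpectrum B | q.asIdeal.comap (algebraMap A B) = p ∧
          q ∈ Module.support B M},
        LocCoh.depth (Localization.AtPrime q.asIdeal)
          (LocalizedModule q.asIdeal.primeCompl M) := by
  have hfinB : Module.Finite B M := Module.Finite.of_restrictScalars_finite A B M
  rcases subsingleton_or_nontrivial (LocalizedModule p.primeCompl M) with hs | hnt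
  · rw [DepthLoc.depth_eq_top_of_subsingleton]
    symm
    rw [eq_top_iff]
    refine le_iInf₂ fun q hq => ?_
    exfalso
    obtain ⟨hqp, hqs⟩ := hq
    have hIq : Module.annihilator B M ≤ q.asIdeal := by
      rw [Module.support_eq_zeroLocus, PrimeSpectrum.mem_zeroLocus] at hqs
      exact hqs
    have hp : Module.annihilator A M ≤ p := by
      rw [annihilator_eq_comap A B M, ← hqp]
      exact Ideal.comap_mono hIq
    have hps : (⟨p, inferInstance⟩ : PrimeSpectrum A) ∈ Module.support A M := by
      rw [Module.support_eq_zeroLocus, PrimeSpectrum.mem_zeroLocus]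
      exact hp
    exact (not_subsingleton_iff_nontrivial.mpr (Module.mem_support_iff.mp hps)) hs
  · obtain ⟨n, hn⟩ := ENat.ne_top_iff_exists.1
      (DepthLib.depth_ne_top (Localization.AtPrime p) (LocalizedModule p.primeCompl M))
    obtain ⟨h1, q, hqp, hqs, hqd⟩ := depth_core A B p n M hn.symm
    rw [← hn]
    apply le_antisymm
    · exact le_iInf₂ fun q' hq' => h1 q' hq'.1 hq'.2
    · exact iInf₂_le_of_le q ⟨hqp, hqs⟩ (le_of_eq hqd)

end Depth

end Groth.Agent.Lib.Helper29.FiniteRestrict
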