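import Groth.Agent.Lib.Helper29.DepthExt

/-!
# Depth along short exact sequences

The `Ext` criterion `n ≤ depth_I N ↔ Extⁱ(R/I, N) = 0 for i < n` (including the case `IN = N`),
the covariant long exact sequence, and the depth inequalities along a short exact sequence.
-/

set_option autoImplicit false
universe u

namespace Groth.Agent.Lib.Helper29.DepthSES

open CategoryTheory Abelian RingTheory.Sequence Pointwise
open Groth.Agent.Lib.Helper29 Groth.Agent.Lib.Helper29.DepthLib Groth.Agent.Lib.Helper29.DepthExt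

section Covariant

variable {A : Type u} [CommRing A] (K : ModuleCat.{u} A)
  (N₁ N₂ N₃ : Type u) [AddCommGroup N₁] [Module A N₁] [AddCommGroup N₂] [Module A N₂]
  [AddCommGroup N₃] [Module A N₃] (f : N₁ →ₗ[A] N₂) (g : N₂ →ₗ[A] N₃)
  (hf : Function.Injective f) (hg : Function.Surjective g) (hfg : Function.Exact f g)

include hf hg hfg

theorem subsingleton_ext_mid (i : ℕ)
    (h1 : Subsingleton (Ext K (ModuleCat.of A N₁) i))
    (h3 : Subsingleton (Ext K (ModuleCat.of A N₃) i)) :
    Subsingleton (Ext K (ModuleCat.of A N₂) i) := by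
  let S : ShortComplex (ModuleCat.{u} A) :=
    ModuleCat.shortComplexOfCompEqZero f g hfg.linearMap_comp_eq_zero
  have hS : S.ShortExact :=
    { exact := ModuleCat.shortComplex_exact _ hfg
      mono_f := (ModuleCat.mono_iff_injective _).2 hf
      epi_g := (ModuleCat.epi_iff_surjective _).2 hg }
  have h : ∀ e : Ext K (ModuleCat.of A N₂) i, e = 0 := by
    intro e
    obtain ⟨e₁, rfl⟩ := Ext.covariant_sequence_exact₂ K hS e (h3.elim _ _)
    rw [h1.elim e₁ 0, Ext.zero_comp]
  exact ⟨fun a b => by rw [h a, h b]⟩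

theorem subsingleton_ext_right (i : ℕ)
    (h2 : Subsingleton (Ext K (ModuleCat.of A N₂) i))
    (h1 : Subsingleton (Ext K (ModuleCat.of A N₁) (i + 1))) :
    Subsingleton (Ext K (ModuleCat.of A N₃) i) := by
  let S : ShortComplex (ModuleCat.{u} A) :=
    ModuleCat.shortComplexOfCompEqZero f g hfg.linearMap_comp_eq_zero
  have hS : S.ShortExact :=
    { exact := ModuleCat.shortComplex_exact _ hfg
      mono_f := (ModuleCat.mono_iff_injective _).2 hf
      epi_g := (ModuleCat.epi_iff_surjective _).2 hg }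
  have h : ∀ e : Ext K (ModuleCat.of A N₃) i, e = 0 := by
    intro e
    obtain ⟨e₂, rfl⟩ := Ext.covariant_sequence_exact₃ K hS e rfl (h1.elim _ _)
    rw [h2.elim e₂ 0, Ext.zero_comp]
  exact ⟨fun a b => by rw [h a, h b]⟩

theorem subsingleton_ext_left_succ (i : ℕ)
    (h3 : Subsingleton (Ext K (ModuleCat.of A N₃) i))
    (h2 : Subsingleton (Ext K (ModuleCat.of A N₂) (i + 1))) :
    Subsingleton (Ext K (ModuleCat.of A N₁) (i + 1)) := by
  let S : ShortComplex (ModuleCat.{u} A) :=
    ModuleCat.shortComplexOfCompEqZero f g hfg.linearMap_comp_eq_zero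
  have hS : S.ShortExact :=
    { exact := ModuleCat.shortComplex_exact _ hfg
      mono_f := (ModuleCat.mono_iff_injective _).2 hf
      epi_g := (ModuleCat.epi_iff_surjective _).2 hg }
  have h : ∀ e : Ext K (ModuleCat.of A N₁) (i + 1), e = 0 := by
    intro e
    obtain ⟨e₃, rfl⟩ := Ext.covariant_sequence_exact₁ K hS e (h2.elim _ _) rfl
    rw [h3.elim e₃ 0, Ext.zero_comp]
  exact ⟨fun a b => by rw [h a, h b]⟩

omit hg hfg in
theorem subsingleton_ext_left_zero
    (h2 : Subsingleton (Ext K (ModuleCat.of A N₂) 0)) :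
    Subsingleton (Ext K (ModuleCat.of A N₁) 0) := by
  have : Mono (ModuleCat.ofHom f) := (ModuleCat.mono_iff_injective _).2 hf
  have hinj := Ext.postcomp_mk₀_injective_of_mono K (ModuleCat.ofHom f)
  exact ⟨fun a b => hinj (h2.elim _ _)⟩

end Covariant

section Criterion

variable {R : Type u} [CommRing R] [IsNoetherianRing R] (I : Ideal R)
  (M : Type u) [AddCommGroup M] [Module R M] [Module.Finite R M]

omit [IsNoetherianRing R] in
/-- If `IM = M` (with `M` finite) then all `Extⁱ(R/I, M)` vanish. -/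
theorem subsingleton_ext_of_smul_top_eq_top (hIM : I • (⊤ : Submodule R M) = ⊤) (i : ℕ) :
    Subsingleton (Ext (ModuleCat.of R (R ⧸ I)) (ModuleCat.of R M) i) := by
  obtain ⟨r, hr, hrM⟩ := Submodule.exists_sub_one_mem_and_smul_eq_zero_of_fg_of_le_smul I
    (⊤ : Submodule R M) (Module.Finite.fg_top) (by rw [hIM])
  have hzero : ∀ e : Ext (ModuleCat.of R (R ⧸ I)) (ModuleCat.of R M) i, e = 0 := by
    intro e
    have h1 : (r - 1) • e = 0 := by
      have h := Ext.postcomp_smul_id_eq_zero_of_mem_annihilator (M := ModuleCat.of R M)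
        (N := ModuleCat.of R (R ⧸ I)) (mem_annihilator_quotient I hr) i
      have h2 := congrArg (fun f => f.hom e) h
      have h3 : (e.comp (Ext.mk₀ ((r - 1) • 𝟙 (ModuleCat.of R M))) (add_zero i) :
          Ext (ModuleCat.of R (R ⧸ I)) (ModuleCat.of R M) i) = 0 := by simpa using h2
      rw [Ext.mk₀_smul, Ext.comp_smul, Ext.comp_mk₀_id] at h3
      exact h3
    have h2 : r • e = 0 := by
      have h3 : r • 𝟙 (ModuleCat.of R M) = 0 := by
        ext m
        exact hrM m Submodule.mem_top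
      have : e.comp (Ext.mk₀ (r • 𝟙 (ModuleCat.of R M))) (add_zero i) = 0 := by
        rw [h3, Ext.mk₀_zero, Ext.comp_zero]
      rw [Ext.mk₀_smul, Ext.comp_smul, Ext.comp_mk₀_id] at this
      exact this
    have : e = r • e - (r - 1) • e := by
      rw [sub_smul, one_smul]; abel
    rw [this, h1, h2, sub_zero]
  exact ⟨fun a b => by rw [hzero a, hzero b]⟩

/-- `n ≤ depth_I M` iff `Extⁱ(R/I, M) = 0` for `i < n`. -/
theorem natCast_le_idealDepth_iff (n : ℕ) :
    (n : ℕ∞) ≤ LocCoh.idealDepth I M ↔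
      ∀ i : ℕ, i < n → Subsingleton (Ext (ModuleCat.of R (R ⧸ I)) (ModuleCat.of R M) i) := by
  by_cases hIM : I • (⊤ : Submodule R M) = ⊤
  · have : LocCoh.idealDepth I M = ⊤ := by
      unfold LocCoh.idealDepth
      rw [if_pos hIM]
    rw [this]
    exact ⟨fun _ i _ => subsingleton_ext_of_smul_top_eq_top I M hIM i, fun _ => le_top⟩
  · obtain ⟨d, hd⟩ := ENat.ne_top_iff_exists.1 (idealDepth_ne_top I M hIM)
    constructor
    · intro h i hi
      exact subsingleton_ext_of_lt_idealDepth I M hIM i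
        (lt_of_lt_of_le (by exact_mod_cast hi) h)
    · intro h
      rw [← hd]
      by_contra hlt
      have hdn : d < n := by
        have := not_le.1 hlt
        exact_mod_cast this
      have := nontrivial_ext_of_idealDepth_eq I M hIM d hd.symm
      exact not_subsingleton _ (h d hdn)

end Criterion

section Main

variable {R : Type u} [CommRing R] [IsNoetherianRing R] (I : Ideal R)
  (N₁ N₂ N₃ : Type u) [AddCommGroup N₁] [Module R N₁] [Module.Finite R N₁]
  [AddCommGroup N₂] [Module R N₂] [Module.Finite R N₂]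
  [AddCommGroup N₃] [Module R N₃] [Module.Finite R N₃]
  (f : N₁ →ₗ[R] N₂) (g : N₂ →ₗ[R] N₃)
  (hf : Function.Injective f) (hg : Function.Surjective g) (hfg : Function.Exact f g)

include hf hg hfg

/-- `depth N ≥ min (depth N') (depth N'')`. -/
theorem min_le_idealDepth_mid :
    min (LocCoh.idealDepth I N₁) (LocCoh.idealDepth I N₃) ≤ LocCoh.idealDepth I N₂ := by
  rw [← ENat.forall_natCast_le_iff_le]
  intro n hn
  rw [le_min_iff, natCast_le_idealDepth_iff, natCast_le_idealDepth_iff] at hn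
  rw [natCast_le_idealDepth_iff]
  intro i hi
  exact subsingleton_ext_mid _ N₁ N₂ N₃ f g hf hg hfg i (hn.1 i hi) (hn.2 i hi)

/-- `depth N'' ≥ min (depth N) (depth N' - 1)`. -/
theorem min_le_idealDepth_right :
    min (LocCoh.idealDepth I N₂) (LocCoh.idealDepth I N₁ - 1) ≤ LocCoh.idealDepth I N₃ := by
  rw [← ENat.forall_natCast_le_iff_le]
  intro n hn
  rw [le_min_iff] at hn
  rw [natCast_le_idealDepth_iff]
  intro i hi
  have h1 : ((n + 1 : ℕ) : ℕ∞) ≤ LocCoh.idealDepth I N₁ := by
    have hn1 : 1 ≤ n := by omega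
    have h2 := hn.2
    have h3 : (1 : ℕ∞) ≤ LocCoh.idealDepth I N₁ - 1 :=
      le_trans (by exact_mod_cast hn1) h2
    have h4 : (1 : ℕ∞) ≤ LocCoh.idealDepth I N₁ := le_trans h3 tsub_le_self
    rw [Nat.cast_add, Nat.cast_one, ← tsub_add_cancel_of_le h4]
    exact add_le_add_left h2 1
  rw [natCast_le_idealDepth_iff] at h1
  have h2 := (natCast_le_idealDepth_iff I N₂ n).1 hn.1
  exact subsingleton_ext_right _ N₁ N₂ N₃ f g hf hg hfg i (h2 i hi) (h1 (i + 1) (by omega))

/-- `depth N' ≥ min (depth N) (depth N'' + 1)`. -/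
theorem min_le_idealDepth_left :
    min (LocCoh.idealDepth I N₂) (LocCoh.idealDepth I N₃ + 1) ≤ LocCoh.idealDepth I N₁ := by
  rw [← ENat.forall_natCast_le_iff_le]
  intro n hn
  rw [le_min_iff] at hn
  rw [natCast_le_idealDepth_iff]
  intro i hi
  have h2 := (natCast_le_idealDepth_iff I N₂ n).1 hn.1
  cases i with
  | zero => exact subsingleton_ext_left_zero _ N₁ N₂ f hf (h2 0 hi)
  | succ j =>
    have h3 : ((j + 1 : ℕ) : ℕ∞) ≤ LocCoh.idealDepth I N₃ := by
      have h4 : ((j + 1 + 1 : ℕ) : ℕ∞) ≤ LocCoh.idealDepth I N₃ + 1 :=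
        le_trans (by exact_mod_cast hi) hn.2
      rw [Nat.cast_add, Nat.cast_one] at h4
      exact (ENat.add_le_add_iff_right ENat.one_ne_top).1 h4
    rw [natCast_le_idealDepth_iff] at h3
    exact subsingleton_ext_left_succ _ N₁ N₂ N₃ f g hf hg hfg j (h3 j (by omega)) (h2 (j + 1) hi)

end Main

end Groth.Agent.Lib.Helper29.DepthSES
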