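import Groth.Agent.Lib.Helper29.DepthLoc
import Groth.Agent.Lib.Helper29.DepthFinite
import Groth.Agent.Lib.Helper29.CM
/-!
# Codepth does not increase under localization (EGA 0_IV 16.4.10)
-/

set_option autoImplicit false
set_option linter.unnecessarySimpa false
universe u
open IsLocalRing Groth.Agent.Lib.Helper29

namespace Groth.Agent.Lib.Helper29.CodepthLoc
variable (A : Type u) [CommRing A] [IsLocalRing A]
  (M : Type u) [AddCommGroup M] [Module A M]

instance isLocalHom_algebraMap_atMaximal :
    IsLocalHom (algebraMap A (Localization.AtPrime (maximalIdeal A))) := by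
  constructor
  intro a ha
  by_contra hna
  have hm : a ∈ maximalIdeal A := hna
  have : algebraMap A (Localization.AtPrime (maximalIdeal A)) a ∈
      maximalIdeal (Localization.AtPrime (maximalIdeal A)) := by
    rw [← Localization.AtPrime.map_eq_maximalIdeal]
    exact Ideal.mem_map_of_mem _ hm
  exact this ha

omit [IsLocalRing A] in
theorem isLocalizedModule_id_of_units (S : Submonoid A) (hS : ∀ s ∈ S, IsUnit s) :
    IsLocalizedModule S (LinearMap.id : M →ₗ[A] M) where
  map_units s := (hS s s.2).map (algebraMap A (Module.End A M))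
  surj y := ⟨(y, 1), by simp⟩
  exists_of_eq {x₁ x₂} h := ⟨1, by simpa using h⟩

noncomputable def locEquiv : LocalizedModule (maximalIdeal A).primeCompl M ≃ₗ[A] M :=
  haveI := isLocalizedModule_id_of_units A M (maximalIdeal A).primeCompl (by
    intro s hs
    by_contra h
    exact hs h)
  IsLocalizedModule.iso (maximalIdeal A).primeCompl (LinearMap.id : M →ₗ[A] M)

variable [IsNoetherianRing A] [Module.Finite A M]

theorem depth_localizedModule_maximalIdeal :
    LocCoh.depth (Localization.AtPrime (maximalIdeal A))
      (LocalizedModule (maximalIdeal A).primeCompl M) = LocCoh.depth A M := by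
  have hfin : Module.Finite A (LocalizedModule (maximalIdeal A).primeCompl M) :=
    Module.Finite.equiv (locEquiv A M).symm
  rw [← DepthFinite.depth_eq_of_isLocalHom A (Localization.AtPrime (maximalIdeal A))
    (LocalizedModule (maximalIdeal A).primeCompl M)]
  exact CMLib.depth_congr (locEquiv A M)

omit [IsNoetherianRing A] in
theorem height_map_maximalIdeal (p : Ideal A) [p.IsPrime] :
    (((maximalIdeal A).map (Ideal.Quotient.mk p)).height : WithBot ℕ∞) = ringKrullDim (A ⧸ p) := by
  have : IsLocalRing (A ⧸ p) :=
    IsLocalRing.of_surjective' (Ideal.Quotient.mk p) Ideal.Quotient.mk_surjective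
  have hm : (maximalIdeal A).map (Ideal.Quotient.mk p) = maximalIdeal (A ⧸ p) := by
    apply le_antisymm
    · rw [Ideal.map_le_iff_le_comap]
      intro a ha
      rw [Ideal.mem_comap, mem_maximalIdeal, mem_nonunits_iff]
      intro hu
      have : IsUnit a := by
        by_contra hna
        have hp : p ≤ maximalIdeal A := le_maximalIdeal Ideal.IsPrime.ne_top'
        obtain ⟨b, hb⟩ := hu.exists_right_inv
        obtain ⟨b, rfl⟩ := Ideal.Quotient.mk_surjective b
        rw [← map_mul, ← map_one (Ideal.Quotient.mk p), Ideal.Quotient.eq] at hb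
        have h1 : a * b - 1 ∈ maximalIdeal A := hp hb
        have h2 : a * b ∈ maximalIdeal A := Ideal.mul_mem_right _ _ ha
        have h3 : (1 : A) ∈ maximalIdeal A := by
          have := Ideal.sub_mem _ h2 h1
          simpa using this
        exact (maximalIdeal.isMaximal A).ne_top ((Ideal.eq_top_iff_one _).2 h3)
      exact ha this
    · intro y hy
      obtain ⟨a, rfl⟩ := Ideal.Quotient.mk_surjective y
      apply Ideal.mem_map_of_mem
      rw [mem_maximalIdeal, mem_nonunits_iff] at hy ⊢
      exact fun hu => hy (hu.map _)
  rw [hm, IsLocalRing.maximalIdeal_height_eq_ringKrullDim]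

theorem depth_le_depth_localization_add (p : Ideal A) [p.IsPrime] :
    ((LocCoh.depth A M : ℕ∞) : WithBot ℕ∞) ≤
      ((LocCoh.depth (Localization.AtPrime p) (LocalizedModule p.primeCompl M) : ℕ∞) : WithBot ℕ∞) +
      ringKrullDim (A ⧸ p) := by
  have h := DepthLoc.depth_localization_le A M p (maximalIdeal A)
    (le_maximalIdeal Ideal.IsPrime.ne_top')
  rw [depth_localizedModule_maximalIdeal] at h
  rw [← height_map_maximalIdeal A p, ← WithBot.coe_add]
  exact WithBot.coe_le_coe.2 h

/-- EGA 0_IV 16.4.10 (ii): codepth does not increase under localization. -/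
theorem codepth_localization_le (p : Ideal A) [hp : p.IsPrime]
    [Nontrivial (LocalizedModule p.primeCompl M)] :
    Module.supportDim (Localization.AtPrime p) (LocalizedModule p.primeCompl M) +
        ((LocCoh.depth A M : ℕ∞) : WithBot ℕ∞) ≤
      Module.supportDim A M +
        ((LocCoh.depth (Localization.AtPrime p) (LocalizedModule p.primeCompl M) : ℕ∞) : WithBot ℕ∞) := by
  have hsupp : (⟨p, hp⟩ : PrimeSpectrum A) ∈ Module.support A M :=
    Module.mem_support_iff.2 ‹_›
  have h1 := depth_le_depth_localization_add A M p
  have h2 := SuppLoc.supportDim_localizedModule_add_supportDim_quotient_le A M p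
  rw [CMLib.supportDim_quotient_smul_top_eq A M ⟨p, hp⟩ hsupp] at h2
  calc Module.supportDim (Localization.AtPrime p) (LocalizedModule p.primeCompl M) +
        ((LocCoh.depth A M : ℕ∞) : WithBot ℕ∞)
      ≤ Module.supportDim (Localization.AtPrime p) (LocalizedModule p.primeCompl M) +
        (((LocCoh.depth (Localization.AtPrime p) (LocalizedModule p.primeCompl M) : ℕ∞) : WithBot ℕ∞) +
          ringKrullDim (A ⧸ p)) := by gcongr
    _ = (Module.supportDim (Localization.AtPrime p) (LocalizedModule p.primeCompl M) +
          ringKrullDim (A ⧸ p)) +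
        ((LocCoh.depth (Localization.AtPrime p) (LocalizedModule p.primeCompl M) : ℕ∞) : WithBot ℕ∞) := by
        rw [add_assoc, add_comm (ringKrullDim (A ⧸ p))]
    _ ≤ _ := by gcongr

end Groth.Agent.Lib.Helper29.CodepthLoc
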