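import Groth.Agent.Lib.Helper29.Linkage3
import Groth.Agent.Lib.Helper33.GorRing
import Groth.Agent.Lib.Helper33.GorSocle
import Groth.Agent.S0343
import Groth.Agent.S0342
import Groth.Agent.Lib.Helper33.Unmixed
import Groth.Agent.Lib.Helper33.HomogPrimes
import Groth.Agent.Lib.Helper49.Serre
import Groth.Agent.S10903
import Groth.Agent.Lib.Helper29.RegIdeal

/-!
# Linkage: Gorenstein quotients

* `gorenstein_iff_quotient_ofList`: a Noetherian local ring is Gorenstein iff its quotient by a regular
  sequence is.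
* `gorenstein_quotient_annihilator_of_dim_zero`: for `A` Artinian Gorenstein local and `f ≠ 0`,
  `A/(0 : f)` is Gorenstein.
* `gorenstein_quotient_annihilator_span`: `A` Gorenstein local, `A/fA` Cohen–Macaulay of full
  dimension, `f ≠ 0` ⇒ `A/(0 : f)` is Gorenstein.
-/

set_option autoImplicit false
universe u

namespace Groth.Agent.Lib.Helper29.Linkage

open RingTheory.Sequence Pointwise IsLocalRing
open Groth.Agent.Lib.Helper29
open Groth.Agent.Lib.Helper33.FlatSocle Groth.Agent.Lib.Helper33.GorSocle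
  Groth.Agent.Lib.Helper33.GorTransfer

section RegSeq

theorem isLocalRing_quotient_of_le {T : Type u} [CommRing T] [IsLocalRing T] {I : Ideal T}
    (hI : I ≤ maximalIdeal T) : IsLocalRing (T ⧸ I) := by
  have hne : I ≠ ⊤ := fun h => (maximalIdeal.isMaximal T).ne_top (eq_top_iff.2 (h ▸ hI))
  have : Nontrivial (T ⧸ I) := Ideal.Quotient.nontrivial_iff.2 hne
  exact IsLocalRing.of_surjective' _ Ideal.Quotient.mk_surjective

theorem ofList_le_maximalIdeal {T : Type u} [CommRing T] [IsLocalRing T] {ys : List T}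
    (h : ∀ y ∈ ys, y ∈ maximalIdeal T) : Ideal.ofList ys ≤ maximalIdeal T := by
  rw [Ideal.ofList, Ideal.span_le]
  exact fun y hy => h y hy

/-- A Noetherian local ring is Gorenstein iff its quotient by a regular sequence is. -/
theorem gorenstein_iff_quotient_ofList : ∀ (n : ℕ) (T : Type u) [CommRing T] [IsLocalRing T]
    [IsNoetherianRing T] (ys : List T), ys.length = n → IsWeaklyRegular T ys →
    (∀ y ∈ ys, y ∈ maximalIdeal T) →
    (LocCoh.IsGorensteinLocalRing T ↔ LocCoh.IsGorensteinLocalRing (T ⧸ Ideal.ofList ys)) := by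
  intro n
  induction n with
  | zero =>
    intro T _ _ _ ys hlen _ _
    obtain rfl : ys = [] := List.length_eq_zero_iff.1 hlen
    let e : T ⧸ Ideal.ofList ([] : List T) ≃+* T :=
      (Ideal.quotEquivOfEq Ideal.ofList_nil).trans (RingEquiv.quotientBot T)
    exact gorenstein_ringEquiv_iff e.symm
  | succ n ih =>
    intro T _ _ _ ys hlen hreg hmem
    match ys, hlen, hreg, hmem with
    | [], hlen, _, _ => simp at hlen
    | y :: ys', hlen, hreg, hmem =>
      have hy : y ∈ maximalIdeal T := hmem y (by simp)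
      have hreg' := (isWeaklyRegular_cons_iff T y ys').1 hreg
      have hle : Ideal.span {y} ≤ maximalIdeal T := (Ideal.span_singleton_le_iff_mem _).2 hy
      have hloc : IsLocalRing (T ⧸ Ideal.span {y}) := isLocalRing_quotient_of_le hle
      have hlh : IsLocalHom (algebraMap T (T ⧸ Ideal.span {y})) :=
        IsLocalHom.of_surjective _ Ideal.Quotient.mk_surjective
      have h1 := Groth.Agent.S0343.result T y hy hreg'.1
      have hsub : (y • (⊤ : Submodule T T)) = Ideal.span {y} := by
        rw [← Submodule.ideal_span_singleton_smul, smul_eq_mul, Ideal.mul_top]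
      let el : QuotSMulTop y T ≃ₗ[T] (T ⧸ Ideal.span {y}) := Submodule.quotEquivOfEq _ _ hsub
      have hreg1 : IsWeaklyRegular (T ⧸ Ideal.span {y}) ys' :=
        (el.isWeaklyRegular_congr ys').1 hreg'.2
      have hreg2 : IsWeaklyRegular (T ⧸ Ideal.span {y})
          (ys'.map (algebraMap T (T ⧸ Ideal.span {y}))) :=
        (isWeaklyRegular_map_algebraMap_iff (T ⧸ Ideal.span {y}) (T ⧸ Ideal.span {y}) ys').2 hreg1
      have hmem2 : ∀ z ∈ ys'.map (algebraMap T (T ⧸ Ideal.span {y})),
          z ∈ maximalIdeal (T ⧸ Ideal.span {y}) := by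
        intro z hz
        obtain ⟨w, hw, rfl⟩ := List.mem_map.1 hz
        exact DepthFinite.algebraMap_mem_maximalIdeal T _ (hmem w (by simp [hw]))
      have h2 := ih (T ⧸ Ideal.span {y}) (ys'.map (algebraMap T (T ⧸ Ideal.span {y})))
        (by rw [List.length_map]; simpa using hlen) hreg2 hmem2
      have hmap : Ideal.ofList (ys'.map (algebraMap T (T ⧸ Ideal.span {y}))) =
          (Ideal.ofList ys').map (Ideal.Quotient.mk (Ideal.span {y})) := by
        rw [Ideal.map_ofList]
        rfl
      let e₂ : ((T ⧸ Ideal.span {y}) ⧸ Ideal.ofList (ys'.map (algebraMap T (T ⧸ Ideal.span {y}))))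
          ≃+* T ⧸ Ideal.ofList (y :: ys') :=
        (Ideal.quotEquivOfEq hmap).trans
          ((DoubleQuot.quotQuotEquivQuotSup (Ideal.span {y}) (Ideal.ofList ys')).trans
            (Ideal.quotEquivOfEq (Ideal.ofList_cons y ys').symm))
      exact h1.trans (h2.trans (gorenstein_ringEquiv_iff e₂))

end RegSeq

section Artinian

/-- For an Artinian Gorenstein local ring `A` and `f ≠ 0`, the ring `A/(0 : f)` is Gorenstein. -/
theorem gorenstein_quotient_annihilator_of_dim_zero (A : Type u) [CommRing A]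
    [LocCoh.IsGorensteinLocalRing A] (hdim : ringKrullDim A = 0) (f : A) (hf : f ≠ 0) :
    LocCoh.IsGorensteinLocalRing (A ⧸ Submodule.annihilator (Ideal.span {f})) := by
  classical
  set J := Submodule.annihilator (Ideal.span {f}) with hJ
  have hmemJ : ∀ a : A, a ∈ J ↔ a * f = 0 := by
    intro a
    rw [hJ, Submodule.mem_annihilator_span_singleton, smul_eq_mul]
  have hJle : J ≤ maximalIdeal A := by
    intro a ha
    by_contra hnm
    have hu : IsUnit a := by
      by_contra hnu
      exact hnm ((mem_maximalIdeal a).2 hnu)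
    have := (hmemJ a).1 ha
    exact hf (hu.mul_right_eq_zero.1 this)
  have hloc : IsLocalRing (A ⧸ J) := isLocalRing_quotient_of_le hJle
  have hsurj : Function.Surjective (Ideal.Quotient.mk J) := Ideal.Quotient.mk_surjective
  have hlh : IsLocalHom (Ideal.Quotient.mk J) := IsLocalHom.of_surjective _ hsurj
  -- nilpotency
  obtain ⟨N, hN⟩ := (Groth.Agent.Lib.Helper33.GorFlat.exists_pow_eq_bot_iff A).2 hdim
  have hmmap : maximalIdeal (A ⧸ J) = (maximalIdeal A).map (Ideal.Quotient.mk J) := by
    apply le_antisymm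
    · intro x hx
      obtain ⟨a, rfl⟩ := hsurj x
      refine Ideal.mem_map_of_mem _ ?_
      rw [mem_maximalIdeal, mem_nonunits_iff] at hx ⊢
      exact fun h => hx (h.map _)
    · exact IsLocalRing.map_maximalIdeal_le _
  have hnil : ∃ N : ℕ, maximalIdeal (A ⧸ J) ^ N = ⊥ := by
    refine ⟨N, ?_⟩
    rw [hmmap, ← Ideal.map_pow, hN, Ideal.map_bot]
  -- socle translation
  have hsoc : ∀ b : A, IsSoc (A ⧸ J) (Ideal.Quotient.mk J b) ↔ IsSoc A (b * f) := by
    intro b
    constructor
    · intro h r hr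
      have h1 := h (Ideal.Quotient.mk J r) (by
        rw [hmmap]; exact Ideal.mem_map_of_mem _ hr)
      rw [← map_mul, Ideal.Quotient.eq_zero_iff_mem, hmemJ] at h1
      rw [← mul_assoc]
      exact h1
    · intro h x hx
      obtain ⟨r, rfl⟩ := hsurj x
      have hr : r ∈ maximalIdeal A := by
        rw [mem_maximalIdeal, mem_nonunits_iff] at hx ⊢
        exact fun hu => hx (hu.map _)
      rw [← map_mul, Ideal.Quotient.eq_zero_iff_mem, hmemJ, mul_assoc]
      exact h r hr
  have hzero : ∀ b : A, Ideal.Quotient.mk J b = 0 ↔ b * f = 0 := by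
    intro b
    rw [Ideal.Quotient.eq_zero_iff_mem, hmemJ]
  -- a nonzero socle element of the form `b₀ f`
  have hex : ∃ b₀ : A, b₀ * f ≠ 0 ∧ IsSoc A (b₀ * f) := by
    have hfin : ∃ k : ℕ, ∀ b ∈ maximalIdeal A ^ k, b * f = 0 :=
      ⟨N, fun b hb => by rw [hN, Ideal.mem_bot] at hb; rw [hb, zero_mul]⟩
    have hk0 : Nat.find hfin ≠ 0 := by
      intro h0
      have := Nat.find_spec hfin
      rw [h0, pow_zero, Ideal.one_eq_top] at this
      exact hf (by simpa using this 1 Submodule.mem_top)
    obtain ⟨k, hk⟩ := Nat.exists_eq_succ_of_ne_zero hk0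
    have hmin := Nat.find_min hfin (m := k) (by rw [hk]; exact Nat.lt_succ_self k)
    push Not at hmin
    obtain ⟨b₀, hb₀, hb₀f⟩ := hmin
    refine ⟨b₀, hb₀f, fun r hr => ?_⟩
    have hspec := Nat.find_spec hfin
    rw [hk] at hspec
    rw [← mul_assoc]
    exact hspec (r * b₀) (by rw [pow_succ']; exact Ideal.mul_mem_mul hr hb₀)
  obtain ⟨b₀, hb₀f, hb₀soc⟩ := hex
  have hsimple := socSimple_of_gorenstein A hdim
  have hgen := SocSimple.gen hsimple (b₀ * f) hb₀soc hb₀f
  apply gorenstein_of_socSimple (A ⧸ J) hnil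
  refine ⟨Ideal.Quotient.mk J b₀, fun h => hb₀f ((hzero b₀).1 h), (hsoc b₀).2 hb₀soc, ?_⟩
  intro u hu
  obtain ⟨b, rfl⟩ := hsurj u
  obtain ⟨c, hc⟩ := hgen (b * f) ((hsoc b).1 hu)
  refine ⟨Ideal.Quotient.mk J c, ?_⟩
  rw [← map_mul, ← sub_eq_zero, ← map_sub, hzero, sub_mul, hc]
  ring

end Artinian

section LocalClaim

theorem withBot_add_natCast_cancel {x y : WithBot ℕ∞} (r : ℕ)
    (h : x + (r : WithBot ℕ∞) = y + (r : WithBot ℕ∞)) : x = y := by
  induction x using WithBot.recBotCoe with
  | bot =>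
    induction y using WithBot.recBotCoe with
    | bot => rfl
    | coe b =>
      rw [WithBot.bot_add] at h
      exact absurd h.symm (by
        have : ((b : WithBot ℕ∞) + (r : WithBot ℕ∞)) = ((b + (r : ℕ∞) : ℕ∞) : WithBot ℕ∞) := rfl
        rw [this]
        exact WithBot.coe_ne_bot)
  | coe a =>
    induction y using WithBot.recBotCoe with
    | bot =>
      rw [WithBot.bot_add] at h
      exact absurd h (by
        have : ((a : WithBot ℕ∞) + (r : WithBot ℕ∞)) = ((a + (r : ℕ∞) : ℕ∞) : WithBot ℕ∞) := rfl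
        rw [this]
        exact WithBot.coe_ne_bot)
    | coe b =>
      have h1 : ((a + (r : ℕ∞) : ℕ∞) : WithBot ℕ∞) = ((b + (r : ℕ∞) : ℕ∞) : WithBot ℕ∞) := h
      have h2 := WithBot.coe_injective h1
      rw [ENat.add_left_injective_of_ne_top (ENat.natCast_ne_top r) h2]

/-- `A` Gorenstein local, `A/fA` Cohen–Macaulay with `dim A/fA = dim A`, `f ≠ 0` ⇒ `A/(0 : f)` is
Gorenstein. -/
theorem gorenstein_quotient_annihilator_span (A : Type u) [CommRing A]
    [LocCoh.IsGorensteinLocalRing A] (f : A)
    (hI : ringKrullDim (A ⧸ Ideal.span {f}) = ringKrullDim A)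
    [LocCoh.IsCohenMacaulayLocalRing (A ⧸ Ideal.span {f})] (hf : f ≠ 0) :
    LocCoh.IsGorensteinLocalRing (A ⧸ Submodule.annihilator (Ideal.span {f})) := by
  set I : Ideal A := Ideal.span {f} with hIdef
  set J : Ideal A := Submodule.annihilator I with hJdef
  have hmemJ : ∀ a : A, a ∈ J ↔ a * f = 0 := by
    intro a
    rw [hJdef, hIdef, Submodule.mem_annihilator_span_singleton, smul_eq_mul]
  have hJne : J ≠ ⊤ := by
    intro h
    have : (1 : A) ∈ J := by rw [h]; trivial
    rw [hmemJ, one_mul] at this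
    exact hf this
  have hJle : J ≤ maximalIdeal A := IsLocalRing.le_maximalIdeal hJne
  obtain ⟨n₀, h⟩ := LocCoh.IsGorensteinLocalRing.exists_hasInjectiveDimensionLT (A := A)
  obtain ⟨r, -, -, hdim, hdepth⟩ := GorCM.exists_top_ext n₀ h
  obtain ⟨ys, hreg, hmem, -, hlen⟩ := DepthLib.exists_maximal_regular (maximalIdeal A) A
    (maximalIdeal_smul_top_ne_top A A)
  have hlen' : ys.length = r := by
    have : (ys.length : ℕ∞) = r := hlen.trans hdepth
    exact_mod_cast this
  have hregJ : IsWeaklyRegular (A ⧸ J) ys := isWeaklyRegular_quotient_annihilator A A I hI ys hreg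
  have hlocB : IsLocalRing (A ⧸ J) := isLocalRing_quotient_of_le hJle
  have hlhB : IsLocalHom (algebraMap A (A ⧸ J)) :=
    IsLocalHom.of_surjective _ Ideal.Quotient.mk_surjective
  have hregB : IsWeaklyRegular (A ⧸ J) (ys.map (algebraMap A (A ⧸ J))) :=
    (isWeaklyRegular_map_algebraMap_iff (A ⧸ J) (A ⧸ J) ys).2 hregJ
  have hmemB : ∀ z ∈ ys.map (algebraMap A (A ⧸ J)), z ∈ maximalIdeal (A ⧸ J) := by
    intro z hz
    obtain ⟨w, hw, rfl⟩ := List.mem_map.1 hz
    exact DepthFinite.algebraMap_mem_maximalIdeal A _ (hmem w hw)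
  have hQB := gorenstein_iff_quotient_ofList ys.length (A ⧸ J) (ys.map (algebraMap A (A ⧸ J)))
    (by rw [List.length_map]) hregB hmemB
  have hQA := gorenstein_iff_quotient_ofList ys.length A ys rfl hreg hmem
  have hysle : Ideal.ofList ys ≤ maximalIdeal A := ofList_le_maximalIdeal hmem
  have hlocA' : IsLocalRing (A ⧸ Ideal.ofList ys) := isLocalRing_quotient_of_le hysle
  have hA' : LocCoh.IsGorensteinLocalRing (A ⧸ Ideal.ofList ys) := hQA.1 inferInstance
  have hregular : IsRegular A ys := by
    refine ⟨hreg, ?_⟩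
    rw [smul_eq_mul, Ideal.mul_top]
    exact fun h => (maximalIdeal.isMaximal A).ne_top (eq_top_iff.2 (h ▸ hysle))
  have hdim0 : ringKrullDim (A ⧸ Ideal.ofList ys) = 0 := by
    have h1 := ringKrullDim_add_length_eq_ringKrullDim_of_isRegular ys hregular
    rw [hdim, hlen'] at h1
    apply withBot_add_natCast_cancel r
    rw [h1, zero_add]
  have hlink := (annihilator_sup_ofList I hI ys hreg).1
  have hsuple : J ⊔ Ideal.ofList ys ≤ maximalIdeal A := sup_le hJle hysle
  have hf' : Ideal.Quotient.mk (Ideal.ofList ys) f ≠ 0 := by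
    intro h0
    rw [Ideal.Quotient.eq_zero_iff_mem] at h0
    have h1 : (1 : A) ∈ Submodule.colon (Ideal.ofList ys) (I : Set A) := by
      rw [Submodule.mem_colon]
      intro i hi
      rw [one_smul]
      rw [hIdef] at hi
      obtain ⟨c, rfl⟩ := Ideal.mem_span_singleton'.1 hi
      exact Ideal.mul_mem_left _ _ h0
    rw [← hlink] at h1
    exact (maximalIdeal.isMaximal A).ne_top ((Ideal.eq_top_iff_one _).2 (hsuple h1))
  have hAnn : J.map (Ideal.Quotient.mk (Ideal.ofList ys)) =
      Submodule.annihilator (Ideal.span {Ideal.Quotient.mk (Ideal.ofList ys) f}) := by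
    ext x
    obtain ⟨a, rfl⟩ := Ideal.Quotient.mk_surjective x
    rw [Ideal.mem_quotient_iff_mem_sup, hlink, Submodule.mem_annihilator_span_singleton,
      smul_eq_mul, ← map_mul, Ideal.Quotient.eq_zero_iff_mem]
    rw [hIdef]
    exact Submodule.mem_colon_span_singleton
  have hgor := gorenstein_quotient_annihilator_of_dim_zero (A ⧸ Ideal.ofList ys) hdim0
    (Ideal.Quotient.mk (Ideal.ofList ys) f) hf'
  have hmap : Ideal.ofList (ys.map (algebraMap A (A ⧸ J))) =
      (Ideal.ofList ys).map (Ideal.Quotient.mk J) := by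
    rw [Ideal.map_ofList]
    rfl
  let e : ((A ⧸ J) ⧸ Ideal.ofList (ys.map (algebraMap A (A ⧸ J)))) ≃+*
      ((A ⧸ Ideal.ofList ys) ⧸
        Submodule.annihilator (Ideal.span {Ideal.Quotient.mk (Ideal.ofList ys) f})) :=
    (Ideal.quotEquivOfEq hmap).trans
      ((DoubleQuot.quotQuotEquivQuotSup J (Ideal.ofList ys)).trans
        ((Ideal.quotEquivOfEq (sup_comm J (Ideal.ofList ys))).trans
          ((DoubleQuot.quotQuotEquivQuotSup (Ideal.ofList ys) J).symm.trans
            (Ideal.quotEquivOfEq hAnn))))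
  exact hQB.2 (gorenstein_of_ringEquiv e.symm hgor)

end LocalClaim


section GlobalGor

open Groth.Agent.Lib.Helper28.CMAux

/-- `𝔄` a Gorenstein ring, `φ ∈ 𝔄` with `𝔄/φ𝔄` Cohen–Macaulay, `J = (0 : φ)` and `(0 : J) = φ𝔄`:
then `𝔄/J` is a Gorenstein ring. -/
theorem isGorensteinRing_quotient_annihilator_span (𝔄 : Type u) [CommRing 𝔄]
    [hB : LocCoh.IsGorensteinRing 𝔄] (φ : 𝔄) (J : Ideal 𝔄)
    (hJ : Submodule.annihilator (Ideal.span {φ}) = J)
    (hI : Submodule.annihilator J = Ideal.span {φ})
    [hcm : LocCoh.IsCohenMacaulayRing (𝔄 ⧸ Ideal.span {φ})] :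
    LocCoh.IsGorensteinRing (𝔄 ⧸ J) := by
  refine { isGorensteinLocalRing_localization := fun q _ => ?_ }
  set I : Ideal 𝔄 := Ideal.span {φ} with hIdef
  set P : Ideal 𝔄 := q.comap (Ideal.Quotient.mk J) with hP
  have hJP : J ≤ P := by
    intro j hj
    rw [hP, Ideal.mem_comap, Ideal.Quotient.eq_zero_iff_mem.2 hj]
    exact Submodule.zero_mem _
  have hgor : LocCoh.IsGorensteinLocalRing (Localization.AtPrime P) :=
    hB.isGorensteinLocalRing_localization P
  let e := Groth.Agent.Lib.Helper49.CMQuot.localizationQuotientEquiv J q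
  refine gorenstein_of_ringEquiv e.symm ?_
  have hIfg : I.FG := IsNoetherian.noetherian I
  have hJfg : J.FG := IsNoetherian.noetherian J
  have hJA : Submodule.annihilator (I.map (algebraMap 𝔄 (Localization.AtPrime P))) =
      J.map (algebraMap 𝔄 (Localization.AtPrime P)) := by
    rw [annihilator_map_localization P.primeCompl _ I hIfg, hJ]
  have hIA : Submodule.annihilator (J.map (algebraMap 𝔄 (Localization.AtPrime P))) =
      I.map (algebraMap 𝔄 (Localization.AtPrime P)) := by
    rw [annihilator_map_localization P.primeCompl _ J hJfg, hI]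
  have hJne : J.map (algebraMap 𝔄 (Localization.AtPrime P)) ≠ ⊤ := map_ne_top_of_le P J hJP
  have hspan : I.map (algebraMap 𝔄 (Localization.AtPrime P)) =
      Ideal.span {algebraMap 𝔄 (Localization.AtPrime P) φ} := by
    rw [hIdef, Ideal.map_span, Set.image_singleton]
  by_cases hIP : I ≤ P
  · have hIne : I.map (algebraMap 𝔄 (Localization.AtPrime P)) ≠ ⊤ := map_ne_top_of_le P I hIP
    have hprime : (P.map (Ideal.Quotient.mk I)).IsPrime := isPrime_map_mk P I hIP
    have hcmI : LocCoh.IsCohenMacaulayLocalRing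
        (Localization.AtPrime P ⧸ I.map (algebraMap 𝔄 (Localization.AtPrime P))) :=
      Groth.Agent.Lib.Helper49.StalkLoc.isCohenMacaulayLocalRing_of_ringEquiv
        (locEquivQP P I hIP) (hcm.isCohenMacaulayLocalRing_localization _)
    have hcmI' : LocCoh.IsCohenMacaulayLocalRing
        (Localization.AtPrime P ⧸ Ideal.span {algebraMap 𝔄 (Localization.AtPrime P) φ}) :=
      Groth.Agent.Lib.Helper49.StalkLoc.isCohenMacaulayLocalRing_of_ringEquiv
        (Ideal.quotEquivOfEq hspan) hcmI
    have hdim : ringKrullDim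
        (Localization.AtPrime P ⧸ Ideal.span {algebraMap 𝔄 (Localization.AtPrime P) φ}) =
        ringKrullDim (Localization.AtPrime P) := by
      have := ringKrullDim_quotient_annihilator_eq (Localization.AtPrime P)
        (J.map (algebraMap 𝔄 (Localization.AtPrime P))) (by rw [hIA]; exact hIne)
      rw [hIA, hspan] at this
      exact this
    have hf : algebraMap 𝔄 (Localization.AtPrime P) φ ≠ 0 := by
      intro h0
      apply hJne
      rw [← hJA, hspan, h0, Ideal.span_singleton_zero]
      exact Submodule.annihilator_bot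
    have := gorenstein_quotient_annihilator_span (Localization.AtPrime P)
      (algebraMap 𝔄 (Localization.AtPrime P) φ) hdim hf
    exact gorenstein_of_ringEquiv (Ideal.quotEquivOfEq (by rw [← hspan, hJA])) this
  · have hItop : I.map (algebraMap 𝔄 (Localization.AtPrime P)) = ⊤ := map_eq_top_of_not_le P I hIP
    have hJbot : J.map (algebraMap 𝔄 (Localization.AtPrime P)) = ⊥ := by
      rw [← hJA, hItop, eq_bot_iff]
      intro a ha
      have := (Submodule.mem_annihilator.1 ha) 1 Submodule.mem_top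
      rw [smul_eq_mul, mul_one] at this
      rw [this]
      exact Submodule.zero_mem _
    exact gorenstein_of_ringEquiv
      ((RingEquiv.quotientBot _).symm.trans (Ideal.quotEquivOfEq hJbot.symm)) hgor

end GlobalGor


section CI

/-- A quotient of a Gorenstein local ring by an ideal generated by a regular sequence (detected
numerically) is Gorenstein. -/
theorem gorenstein_quotient_of_spanFinrank_le (T : Type u) [CommRing T]
    [LocCoh.IsGorensteinLocalRing T] (𝔞 : Ideal T) (hne : 𝔞 ≠ ⊤)
    (h : (𝔞.spanFinrank : WithBot ℕ∞) + ringKrullDim (T ⧸ 𝔞) ≤ ringKrullDim T) :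
    LocCoh.IsGorensteinLocalRing (T ⧸ 𝔞) := by
  have hcm : LocCoh.IsCohenMacaulayModule T T :=
    (Groth.Agent.S0341.result T).supportDim_eq_depth
  obtain ⟨ys, rfl, hreg⟩ := (RegIdeal.exists_isRegular_iff_of_isCM hcm 𝔞 hne).2 h
  have hle : Ideal.ofList ys ≤ maximalIdeal T := IsLocalRing.le_maximalIdeal hne
  have hmem : ∀ y ∈ ys, y ∈ maximalIdeal T := fun y hy => hle (Ideal.subset_span hy)
  exact (gorenstein_iff_quotient_ofList ys.length T ys rfl hreg.toIsWeaklyRegular hmem).1
    inferInstance

/-- A quotient of a Gorenstein ring by an ideal of height `≥ c` generated by `c` elements is a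
Gorenstein ring. -/
theorem isGorensteinRing_quotient_span_range (S : Type u) [CommRing S]
    [hS : LocCoh.IsGorensteinRing S] (c : ℕ) (g : Fin c → S) (𝔠 : Ideal S)
    (h𝔠 : Ideal.span (Set.range g) = 𝔠) (hc : (c : ℕ∞) ≤ 𝔠.height) :
    LocCoh.IsGorensteinRing (S ⧸ 𝔠) := by
  refine { isGorensteinLocalRing_localization := fun q _ => ?_ }
  set P : Ideal S := q.comap (Ideal.Quotient.mk 𝔠) with hP
  have h𝔠P : 𝔠 ≤ P := by
    intro j hj
    rw [hP, Ideal.mem_comap, Ideal.Quotient.eq_zero_iff_mem.2 hj]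
    exact Submodule.zero_mem _
  have hgor : LocCoh.IsGorensteinLocalRing (Localization.AtPrime P) :=
    hS.isGorensteinLocalRing_localization P
  let e := Groth.Agent.Lib.Helper49.CMQuot.localizationQuotientEquiv 𝔠 q
  refine gorenstein_of_ringEquiv e.symm ?_
  set 𝔞 : Ideal (Localization.AtPrime P) := 𝔠.map (algebraMap S (Localization.AtPrime P)) with h𝔞
  have hne : 𝔞 ≠ ⊤ := Groth.Agent.Lib.Helper28.CMAux.map_ne_top_of_le P 𝔠 h𝔠P
  have hspan : 𝔞 = Ideal.span (Set.range fun i => algebraMap S (Localization.AtPrime P) (g i)) := by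
    have h1 : (Ideal.span (Set.range g)).map (algebraMap S (Localization.AtPrime P)) =
        Ideal.span (Set.range fun i => algebraMap S (Localization.AtPrime P) (g i)) := by
      rw [Ideal.map_span, ← Set.range_comp]
      rfl
    rw [h𝔞, ← h1]
    exact congrArg (Ideal.map (algebraMap S (Localization.AtPrime P))) h𝔠.symm
  have hfr : 𝔞.spanFinrank ≤ c := by
    rw [hspan]
    have h1 := Submodule.spanFinrank_span_le_encard (R := Localization.AtPrime P)
      (Set.range fun i => algebraMap S (Localization.AtPrime P) (g i))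
    have h2 : (Set.range fun i => algebraMap S (Localization.AtPrime P) (g i)).encard ≤ c := by
      rw [← Set.image_univ]
      refine (Set.encard_image_le _ _).trans ?_
      simp [Set.encard_univ]
    exact_mod_cast h1.trans h2
  have hht : (c : ℕ∞) ≤ 𝔞.height := by
    rw [← IsLocalization.height_under P.primeCompl 𝔞]
    exact hc.trans (Ideal.height_mono Ideal.le_comap_map)
  apply gorenstein_quotient_of_spanFinrank_le _ 𝔞 hne
  refine le_trans ?_ (Groth.Agent.S10903.ringKrullDim_quotient_add_height_le' _ 𝔞)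
  rw [add_comm]
  gcongr
  exact_mod_cast (Nat.cast_le.2 hfr).trans hht

end CI


section Poly

open Groth.Agent.Lib.Helper33.Unmixed Groth.Agent.Lib.Helper33.HomogPrimes

theorem isGorensteinRing_of_isRegularRing (R : Type u) [CommRing R] [IsRegularRing R] :
    LocCoh.IsGorensteinRing R := by
  refine { isGorensteinLocalRing_localization := fun P hP => ?_ }
  have : IsRegularLocalRing (Localization.AtPrime P) := inferInstance
  exact Groth.Agent.S0342.result (Localization.AtPrime P)

theorem isCohenMacaulayRing_of_isRegularRing' (R : Type u) [CommRing R] [IsRegularRing R] :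
    LocCoh.IsCohenMacaulayRing R := by
  refine ⟨fun P hP => ?_⟩
  have : IsRegularLocalRing (Localization.AtPrime P) := inferInstance
  exact LocCoh.IsCohenMacaulayLocalRing.mk
    (Groth.Agent.S5671.isCM_of_regular (Localization.AtPrime P))

/-- In a Cohen–Macaulay ring, associated primes of the ring are minimal. -/
theorem mem_minimalPrimes_of_isAssociatedPrime_of_isCM (B : Type u) [CommRing B]
    [LocCoh.IsCohenMacaulayRing B] (Q : Ideal B) (hQ : Q ∈ associatedPrimes B B) :
    Q ∈ minimalPrimes B := by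
  have : Q.IsPrime := hQ.isPrime
  have hCM := LocCoh.IsCohenMacaulayRing.isCohenMacaulayLocalRing_localization Q
  have h1 := hCM.supportDim_eq_depth
  have h2 := (Groth.Agent.Lib.Helper49.Serre.depth_localizedModule_eq_zero_iff (R := B) (M := B)
    Q).mpr hQ
  rw [Groth.Agent.Lib.Helper49.Serre.depth_localizedModule_self] at h2
  rw [h2, Module.supportDim_self_eq_ringKrullDim,
    IsLocalization.AtPrime.ringKrullDim_eq_height Q (Localization.AtPrime Q)] at h1
  have h3 : Q.height = 0 := by exact_mod_cast h1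
  have : Q.FiniteHeight := inferInstance
  have := Ideal.mem_minimalPrimes_of_height_le (I := (⊥ : Ideal B)) (J := Q) bot_le
    (by rw [h3]; exact bot_le)
  exact this

/-- For `R/I` Cohen–Macaulay, associated primes of `R/I` (over `R`) are minimal primes of `I`. -/
theorem mem_minimalPrimes_of_mem_associatedPrimes_of_isCM (R : Type u) [CommRing R]
    [IsNoetherianRing R] (𝔠 : Ideal R) [LocCoh.IsCohenMacaulayRing (R ⧸ 𝔠)] (p : Ideal R)
    (hp : p ∈ associatedPrimes R (R ⧸ 𝔠)) : p ∈ 𝔠.minimalPrimes := by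
  obtain ⟨hprime, xbar, hx⟩ := isAssociatedPrime_iff.1 hp
  set Q : Ideal (R ⧸ 𝔠) := (⊥ : Submodule (R ⧸ 𝔠) (R ⧸ 𝔠)).colon {xbar} with hQ
  have hcomap : Q.comap (Ideal.Quotient.mk 𝔠) = p := by
    ext r
    rw [Ideal.mem_comap, hQ, hx, Submodule.mem_colon_singleton, Submodule.mem_colon_singleton,
      Submodule.mem_bot, Submodule.mem_bot, smul_eq_mul]
    conv_rhs => rw [Algebra.smul_def, Ideal.Quotient.algebraMap_eq]
  have hmap : Q = p.map (Ideal.Quotient.mk 𝔠) := by
    rw [← hcomap, Ideal.map_comap_of_surjective _ Ideal.Quotient.mk_surjective]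
  have hcp : 𝔠 ≤ p := by
    rw [← hcomap]
    intro c hc
    rw [Ideal.mem_comap, Ideal.Quotient.eq_zero_iff_mem.mpr hc]
    exact zero_mem _
  have hQprime : Q.IsPrime := by
    rw [hmap]
    exact Ideal.map_isPrime_of_surjective Ideal.Quotient.mk_surjective (by rwa [Ideal.mk_ker])
  have hQass : Q ∈ associatedPrimes (R ⧸ 𝔠) (R ⧸ 𝔠) :=
    isAssociatedPrime_iff.2 ⟨hQprime, xbar, rfl⟩
  have hQmin := mem_minimalPrimes_of_isAssociatedPrime_of_isCM (R ⧸ 𝔠) Q hQass
  rw [Ideal.minimalPrimes_eq_comap]
  exact ⟨Q, hQmin, hcomap⟩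

/-- A homogeneous ideal of `K[x₀..xₙ]` with Cohen–Macaulay quotient is unmixed. -/
theorem height_eq_of_mem_associatedPrimes_of_isCM (K : Type u) [Field K] (n c : ℕ)
    (I : Ideal (MvPolynomial (Fin (n + 1)) K))
    (hI : I.IsHomogeneous (GrSyz.stdGr K (Fin (n + 1))))
    [LocCoh.IsCohenMacaulayRing (MvPolynomial (Fin (n + 1)) K ⧸ I)] (hIc : I.height = c) :
    ∀ p ∈ associatedPrimes (MvPolynomial (Fin (n + 1)) K) (MvPolynomial (Fin (n + 1)) K ⧸ I),
      p.height = c := by
  classical
  set R := MvPolynomial (Fin (n + 1)) K with hR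
  have hRCM : LocCoh.IsCohenMacaulayRing R := isCohenMacaulayRing_of_isRegularRing' R
  set m : Ideal R := RingHom.ker (MvPolynomial.constantCoeff : R →+* K) with hm
  have hmmax : m.IsMaximal :=
    RingHom.ker_isMaximal_of_surjective _
      (fun a => ⟨MvPolynomial.C a, MvPolynomial.constantCoeff_C _ a⟩)
  have hmprime : m.IsPrime := hmmax.isPrime
  have hform : ∀ q ∈ I.minimalPrimes,
      m.height = q.height + (m.map (Ideal.Quotient.mk I)).height := by
    intro q hq
    have hqhom := isHomogeneous_of_mem_minimalPrimes _ hI hq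
    have hqm : q ≤ m := le_ker_constantCoeff K _ hqhom hq.1.1.ne_top
    exact height_eq_add_of_mem_minimalPrimes R I m q hq hqm
  have hmfin : m.height ≠ ⊤ := Ideal.height_ne_top hmprime.ne_top
  have htfin : (m.map (Ideal.Quotient.mk I)).height ≠ ⊤ := by
    intro h
    by_cases hne : (I.minimalPrimes).Nonempty
    · obtain ⟨q, hq⟩ := hne
      have := hform q hq
      rw [h, add_top] at this
      exact hmfin this
    · rw [Set.not_nonempty_iff_eq_empty, Ideal.minimalPrimes_eq_empty_iff] at hne
      have hc : (c : ℕ∞) = ⊤ := by rw [← hIc, hne, Ideal.height_top]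
      exact ENat.natCast_ne_top c hc
  have hmin : ∀ q ∈ I.minimalPrimes, q.height = c := by
    intro q hq
    have hqprime : q.IsPrime := hq.1.1
    have hall : ∀ q' ∈ I.minimalPrimes, q'.height = q.height := by
      intro q' hq'
      have h1 := hform q hq
      have h2 := hform q' hq'
      rw [h1] at h2
      exact ((ENat.add_left_injective_of_ne_top htfin) h2).symm
    apply le_antisymm
    · have hinf : I.height = ⨅ J ∈ I.minimalPrimes, J.height :=
        Ideal.height_eq_inf_minimalPrimes I
      rw [← hIc, hinf]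
      exact le_iInf₂ fun q' hq' => (hall q' hq').ge
    · rw [← hIc]
      exact Ideal.height_mono hq.1.2
  exact fun p hp => hmin p (mem_minimalPrimes_of_mem_associatedPrimes_of_isCM R I p hp)

end Poly


end Groth.Agent.Lib.Helper29.Linkage
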