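import Groth.Agent.Lib.Helper29.ExtRegSeq
import Groth.Agent.Lib.Helper29.Depth
import Mathlib.Algebra.Category.ModuleCat.Ext.Finite
import Mathlib.RingTheory.KrullDimension.Regular
import Mathlib.RingTheory.Ideal.AssociatedPrime.Finiteness

/-!
# Ischebeck's theorem: `Ext^i(N, M) = 0` for `i < depth M - dim N`
-/

set_option autoImplicit false
universe u

namespace Groth.Agent.Lib.Helper29.Ischebeck

open CategoryTheory Abelian RingTheory.Sequence Pointwise IsLocalRing

variable {A : Type u} [CommRing A]

theorem subsingleton_ext_of_subsingleton (N M : Type u) [AddCommGroup N] [Module A N]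
    [AddCommGroup M] [Module A M] [Subsingleton N] (i : ℕ) :
    Subsingleton (Ext (ModuleCat.of A N) (ModuleCat.of A M) i) := by
  constructor
  intro a b
  have h0 : (𝟙 (ModuleCat.of A N)) = 0 := by
    ext x
    exact Subsingleton.elim _ _
  have h : ∀ e : Ext (ModuleCat.of A N) (ModuleCat.of A M) i, e = 0 := by
    intro e
    rw [← Ext.mk₀_id_comp e, h0, Ext.mk₀_zero, Ext.zero_comp]
  rw [h a, h b]

/-- The exact-sequence step. -/
theorem subsingleton_ext_of_exact (M : Type u) [AddCommGroup M] [Module A M]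
    (N₁ N₂ N₃ : Type u) [AddCommGroup N₁] [Module A N₁] [AddCommGroup N₂] [Module A N₂]
    [AddCommGroup N₃] [Module A N₃] (f : N₁ →ₗ[A] N₂) (g : N₂ →ₗ[A] N₃)
    (hf : Function.Injective f) (hg : Function.Surjective g) (hfg : Function.Exact f g) (i : ℕ)
    (h1 : Subsingleton (Ext (ModuleCat.of A N₁) (ModuleCat.of A M) i))
    (h3 : Subsingleton (Ext (ModuleCat.of A N₃) (ModuleCat.of A M) i)) :
    Subsingleton (Ext (ModuleCat.of A N₂) (ModuleCat.of A M) i) := by
  let S : ShortComplex (ModuleCat.{u} A) :=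
    ModuleCat.shortComplexOfCompEqZero f g hfg.linearMap_comp_eq_zero
  have hS : S.ShortExact :=
    { exact := ModuleCat.shortComplex_exact _ hfg
      mono_f := (ModuleCat.mono_iff_injective _).2 hf
      epi_g := (ModuleCat.epi_iff_surjective _).2 hg }
  constructor
  have h : ∀ e : Ext (ModuleCat.of A N₂) (ModuleCat.of A M) i, e = 0 := by
    intro e
    obtain ⟨e₃, rfl⟩ := Ext.contravariant_sequence_exact₂ hS (ModuleCat.of A M) e
      (Subsingleton.elim _ _)
    rw [Subsingleton.elim e₃ 0, Ext.comp_zero]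
  intro a b
  rw [h a, h b]

/-- The Nakayama step: if `x ∈ 𝔪` is `N`-regular and `Ext^{i+1}(N/xN, M) = 0` then
`Ext^i(N, M) = 0`. -/
theorem subsingleton_ext_of_regular [IsLocalRing A] [IsNoetherianRing A]
    (M : Type u) [AddCommGroup M] [Module A M] [Module.Finite A M]
    (N : Type u) [AddCommGroup N] [Module A N] [Module.Finite A N] {x : A}
    (hx : x ∈ maximalIdeal A) (hreg : IsSMulRegular N x) (i : ℕ)
    (h : Subsingleton (Ext (ModuleCat.of A (QuotSMulTop x N)) (ModuleCat.of A M) (i + 1))) :
    Subsingleton (Ext (ModuleCat.of A N) (ModuleCat.of A M) i) := by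
  have hS : (ModuleCat.smulShortComplex (ModuleCat.of A N) x).ShortExact :=
    IsSMulRegular.smulShortComplex_shortExact (M := ModuleCat.of A N) hreg
  have hfin : Module.Finite A (Ext (ModuleCat.of A N) (ModuleCat.of A M) i) :=
    ModuleCat.finite_ext A (ModuleCat.of A N) (ModuleCat.of A M) i
  have hle : (⊤ : Submodule A (Ext (ModuleCat.of A N) (ModuleCat.of A M) i)) ≤
      maximalIdeal A • ⊤ := by
    intro e _
    have h0 : hS.extClass.comp e (show 1 + i = i + 1 by omega) = 0 :=
      h.elim (α := Ext (ModuleCat.of A (QuotSMulTop x N)) (ModuleCat.of A M) (i + 1)) _ _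
    obtain ⟨e₂, he₂⟩ := Ext.contravariant_sequence_exact₁ hS (ModuleCat.of A M) e
      (n₁ := i + 1) (by omega) h0
    obtain ⟨e₂', he₂'⟩ : ∃ e₂' : Ext (ModuleCat.of A N) (ModuleCat.of A M) i,
        (Ext.mk₀ (x • 𝟙 (ModuleCat.of A N))).comp e₂' (zero_add i) = e := ⟨e₂, he₂⟩
    have he : e = x • e₂' := by
      rw [← he₂', Ext.mk₀_smul, Ext.smul_comp, Ext.mk₀_id_comp]
    rw [he]
    exact Submodule.smul_mem_smul hx Submodule.mem_top
  have hbot := Submodule.eq_bot_of_le_smul_of_le_jacobson_bot (maximalIdeal A) ⊤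
    (Module.Finite.fg_top) hle (maximalIdeal_le_jacobson _)
  exact (Submodule.subsingleton_iff A).1 (subsingleton_of_bot_eq_top hbot.symm)

theorem le_of_add_one_le_succ {a : WithBot ℕ∞} {n : ℕ}
    (h : a + 1 ≤ ((n + 1 : ℕ) : WithBot ℕ∞)) : a ≤ (n : WithBot ℕ∞) := by
  induction a with
  | bot => exact bot_le
  | coe a =>
    induction a with
    | top =>
      exfalso
      have h' : (((⊤ : ℕ∞) + 1 : ℕ∞) : WithBot ℕ∞) ≤ (((n + 1 : ℕ) : ℕ∞) : WithBot ℕ∞) := by
        exact_mod_cast h
      have h'' : (⊤ : ℕ∞) + 1 ≤ ((n + 1 : ℕ) : ℕ∞) := WithBot.coe_le_coe.1 h'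
      rw [top_add, top_le_iff] at h''
      exact ENat.natCast_ne_top _ h''

    | coe m =>
      have h' : ((m + 1 : ℕ) : WithBot ℕ∞) ≤ ((n + 1 : ℕ) : WithBot ℕ∞) := by exact_mod_cast h
      have h'' : m + 1 ≤ n + 1 := by exact_mod_cast h'
      have : m ≤ n := by omega
      exact_mod_cast this

theorem eq_bot_of_add_one_le_zero {a : WithBot ℕ∞}
    (h : a + 1 ≤ ((0 : ℕ) : WithBot ℕ∞)) : a = ⊥ := by
  induction a with
  | bot => rfl
  | coe a =>
    exfalso
    have h' : ((a + 1 : ℕ∞) : WithBot ℕ∞) ≤ ((0 : ℕ∞) : WithBot ℕ∞) := by exact_mod_cast h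
    have h'' : a + 1 ≤ (0 : ℕ∞) := WithBot.coe_le_coe.1 h'
    simp at h''

/-- Ischebeck's theorem, inductive form. -/
theorem ischebeck_aux [IsLocalRing A] [IsNoetherianRing A]
    (M : Type u) [AddCommGroup M] [Module A M] [Module.Finite A M] (xs : List A)
    (hxs : ∀ x ∈ xs, x ∈ maximalIdeal A) (hreg : IsWeaklyRegular M xs) (r : ℕ) :
    ∀ (N : Type u) [AddCommGroup N] [Module A N] [Module.Finite A N],
      Module.supportDim A N ≤ (r : WithBot ℕ∞) → ∀ i, i + r < xs.length →
      Subsingleton (Ext (ModuleCat.of A N) (ModuleCat.of A M) i) := by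
  induction r using Nat.strong_induction_on with
  | _ r ih =>
    intro N _ _ hfin
    refine IsNoetherianRing.induction_on_isQuotientEquivQuotientPrime A hfin
      (motive := fun N _ _ _ => Module.supportDim A N ≤ (r : WithBot ℕ∞) → ∀ i, i + r < xs.length →
        Subsingleton (Ext (ModuleCat.of A N) (ModuleCat.of A M) i)) ?_ ?_ ?_
    · intro N _ _ _ _ _ i _
      exact subsingleton_ext_of_subsingleton N M i
    · intro N _ _ _ p e hdim i hi
      by_cases hp : p.asIdeal = maximalIdeal A
      · -- `N ≅ k`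
        have hkill : ∀ x ∈ xs, x ∈ Module.annihilator A (ModuleCat.of A N) := by
          intro x hx
          rw [Module.mem_annihilator]
          intro n
          apply e.injective
          rw [map_smul, map_zero]
          obtain ⟨a, ha⟩ := Ideal.Quotient.mk_surjective (e n)
          rw [← ha]
          change Ideal.Quotient.mk p.asIdeal (x * a) = 0
          rw [Ideal.Quotient.eq_zero_iff_mem, hp]
          exact Ideal.mul_mem_right _ _ (hxs x hx)
        constructor
        intro a b
        rw [ExtRegSeq.ext_vanish (ModuleCat.of A N) xs M hkill hreg i (by omega) a,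
          ExtRegSeq.ext_vanish (ModuleCat.of A N) xs M hkill hreg i (by omega) b]
      · -- choose `x ∈ 𝔪 \ p`
        have hlt : p.asIdeal < maximalIdeal A :=
          lt_of_le_of_ne (le_maximalIdeal p.2.ne_top) hp
        obtain ⟨x, hxm, hxp⟩ := Set.exists_of_ssubset hlt
        have hregN : IsSMulRegular N x := by
          intro n₁ n₂ h12
          apply e.injective
          have h' : x • e n₁ = x • e n₂ := by
            rw [← map_smul, ← map_smul]; exact congrArg e h12
          obtain ⟨a₁, ha₁⟩ := Ideal.Quotient.mk_surjective (e n₁)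
          obtain ⟨a₂, ha₂⟩ := Ideal.Quotient.mk_surjective (e n₂)
          rw [← ha₁, ← ha₂] at h' ⊢
          change Ideal.Quotient.mk p.asIdeal (x * a₁) = Ideal.Quotient.mk p.asIdeal (x * a₂) at h'
          rw [Ideal.Quotient.eq, ← mul_sub] at h'
          rw [Ideal.Quotient.eq]
          exact (p.2.mem_or_mem h').resolve_left hxp
        have hdimq := Module.supportDim_quotSMulTop_succ_eq_supportDim hregN hxm
        have hle : Module.supportDim A (QuotSMulTop x N) + 1 ≤ (r : WithBot ℕ∞) :=
          hdimq.le.trans hdim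
        apply subsingleton_ext_of_regular M N hxm hregN i
        cases r with
        | zero =>
          have hb := eq_bot_of_add_one_le_zero hle
          rw [Module.supportDim_eq_bot_iff_subsingleton] at hb
          exact subsingleton_ext_of_subsingleton _ M (i + 1)
        | succ r' =>
          exact ih r' (by omega) (QuotSMulTop x N) (le_of_add_one_le_succ hle) (i + 1) (by omega)
    · intro N₁ _ _ _ N₂ _ _ _ N₃ _ _ _ f g hf hg hfg h1 h3 hdim i hi
      exact subsingleton_ext_of_exact M N₁ N₂ N₃ f g hf hg hfg i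
        (h1 ((Module.supportDim_le_of_injective f hf).trans hdim) i hi)
        (h3 ((Module.supportDim_le_of_surjective g hg).trans hdim) i hi)

/-- Ischebeck's theorem. -/
theorem ischebeck [IsLocalRing A] [IsNoetherianRing A]
    (M N : Type u) [AddCommGroup M] [Module A M] [AddCommGroup N] [Module A N]
    [Module.Finite A M] [Module.Finite A N] [Nontrivial M]
    (d r i : ℕ) (hd : LocCoh.depth A M = d) (hr : Module.supportDim A N ≤ r) (hi : i + r < d) :
    Subsingleton (Ext (ModuleCat.of A N) (ModuleCat.of A M) i) := by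
  obtain ⟨xs, hreg, hmem, -, hlen⟩ := DepthLib.exists_maximal_regular (maximalIdeal A) M
    (maximalIdeal_smul_top_ne_top A M)
  have hlen' : xs.length = d := by
    have : (xs.length : ℕ∞) = (d : ℕ∞) := hlen.trans hd
    exact_mod_cast this
  exact ischebeck_aux M xs hmem hreg r N hr i (by omega)

end Groth.Agent.Lib.Helper29.Ischebeck
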