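import Mathlib.RingTheory.Depth.Rees
import Mathlib.Algebra.Category.ModuleCat.Ext.Basic
import Mathlib.Algebra.Homology.DerivedCategory.Ext.ExactSequences

/-!
# `Ext^n(K, M) ≅ Hom(K, M/(xs)M)` for an `M`-regular sequence `xs` of length `n` killing `K`
-/

set_option autoImplicit false
universe u

namespace Groth.Agent.Lib.Helper29.ExtRegSeq

open CategoryTheory Abelian RingTheory.Sequence Pointwise

variable {A : Type u} [CommRing A] (K : ModuleCat.{u} A)

theorem comp_smul_eq_zero {x : A} (hx : x ∈ Module.annihilator A K) (M : ModuleCat.{u} A) {n : ℕ}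
    (e : Ext K M n) : e.comp (Ext.mk₀ (M.smulShortComplex x).f) (add_zero n) = 0 := by
  have h := Ext.postcomp_smul_id_eq_zero_of_mem_annihilator (M := M) (N := K) hx n
  have h2 := congrArg (fun f => f.hom e) h
  have h3 : (e.comp (Ext.mk₀ (x • 𝟙 M)) (add_zero n) : Ext K M n) = 0 := by simpa using h2
  exact h3

theorem ext_vanish : ∀ (xs : List A) (M : Type u) [AddCommGroup M] [Module A M],
    (∀ x ∈ xs, x ∈ Module.annihilator A K) → IsWeaklyRegular M xs →
    ∀ i < xs.length, ∀ e : Ext K (ModuleCat.of A M) i, e = 0 := by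
  intro xs
  induction xs with
  | nil => intro M _ _ _ _ i hi; simp at hi
  | cons x xs ih =>
    intro M _ _ hmem hreg i hi e
    rw [isWeaklyRegular_cons_iff] at hreg
    have hxK : x ∈ Module.annihilator A K := hmem x List.mem_cons_self
    have hS : (ModuleCat.smulShortComplex (ModuleCat.of A M) x).ShortExact :=
      IsSMulRegular.smulShortComplex_shortExact (M := ModuleCat.of A M) hreg.1
    cases i with
    | zero =>
      obtain ⟨f, rfl⟩ := (Ext.mk₀_bijective K (ModuleCat.of A M)).2 e
      have hf : f = 0 := by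
        ext k
        have h1 : x • (f.hom k) = 0 := by
          rw [← map_smul, Module.mem_annihilator.1 hxK k, map_zero]
        apply hreg.1
        change x • (f.hom k) = x • ((0 : K ⟶ ModuleCat.of A M).hom k)
        rw [h1]
        simp
      rw [hf, Ext.mk₀_zero]
    | succ j =>
      obtain ⟨e₃, rfl⟩ := Ext.covariant_sequence_exact₁ K hS e
        (comp_smul_eq_zero K hxK _ e) (n₀ := j) rfl
      have h0 : e₃ = 0 := ih (QuotSMulTop x M)
        (fun y hy => hmem y (List.mem_cons_of_mem _ hy)) hreg.2 j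
        (by simpa using hi) e₃
      rw [h0, Ext.zero_comp]
      rfl

theorem ext_iso : ∀ (xs : List A) (M : Type u) [AddCommGroup M] [Module A M],
    (∀ x ∈ xs, x ∈ Module.annihilator A K) → IsWeaklyRegular M xs →
    Nonempty ((K →ₗ[A] (M ⧸ (Ideal.ofList xs • (⊤ : Submodule A M)))) ≃+
      Ext K (ModuleCat.of A M) xs.length) := by
  intro xs
  induction xs with
  | nil =>
    intro M _ _ _ _
    have e1 : (M ⧸ (Ideal.ofList ([] : List A) • (⊤ : Submodule A M))) ≃ₗ[A] M :=
      Submodule.quotEquivOfEqBot _ (by rw [Ideal.ofList_nil, Submodule.bot_smul])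
    exact ⟨((LinearEquiv.congrRight e1 : (K →ₗ[A] _) ≃ₗ[A] (K →ₗ[A] M)).toAddEquiv.trans
      (ModuleCat.homAddEquiv (M := K) (N := ModuleCat.of A M)).symm).trans
        Ext.addEquiv₀.symm⟩
  | cons x xs ih =>
    intro M _ _ hmem hreg
    have hreg0 := hreg
    rw [isWeaklyRegular_cons_iff] at hreg
    have hxK : x ∈ Module.annihilator A K := hmem x List.mem_cons_self
    have hS : (ModuleCat.smulShortComplex (ModuleCat.of A M) x).ShortExact :=
      IsSMulRegular.smulShortComplex_shortExact (M := ModuleCat.of A M) hreg.1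
    obtain ⟨e₁⟩ := ih (QuotSMulTop x M)
      (fun y hy => hmem y (List.mem_cons_of_mem _ hy)) hreg.2
    have e₀ : (K →ₗ[A] (M ⧸ (Ideal.ofList (x :: xs) • (⊤ : Submodule A M)))) ≃+
        (K →ₗ[A] (QuotSMulTop x M ⧸ (Ideal.ofList xs • (⊤ : Submodule A (QuotSMulTop x M))))) :=
      (LinearEquiv.congrRight
        (Submodule.quotOfListConsSMulTopEquivQuotSMulTopInner M x xs)).toAddEquiv
    let φ : Ext K (ModuleCat.of A (QuotSMulTop x M)) xs.length →+
        Ext K (ModuleCat.of A M) (xs.length + 1) := hS.extClass.postcomp K rfl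
    have hφ : Function.Bijective φ := by
      constructor
      · rw [injective_iff_map_eq_zero]
        intro e₃ he₃
        obtain ⟨e₂, rfl⟩ := Ext.covariant_sequence_exact₃ K hS e₃ rfl he₃
        have : e₂ = 0 := ext_vanish K (x :: xs) M hmem hreg0 xs.length (by simp) e₂
        rw [this, Ext.zero_comp]
        rfl
      · intro e
        obtain ⟨e₃, he₃⟩ := Ext.covariant_sequence_exact₁ K hS e
          (comp_smul_eq_zero K hxK _ e) (n₀ := xs.length) rfl
        exact ⟨e₃, he₃⟩
    exact ⟨(e₀.trans e₁).trans (AddEquiv.ofBijective φ hφ)⟩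

end Groth.Agent.Lib.Helper29.ExtRegSeq
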