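import Groth.Agent.Lib.Helper29.ExtRees2
import Groth.Agent.S0343
import Groth.Prelude.Def_AssocGr2

/-!
# The extended Rees algebra: localization at `u`, finite type, quotient by `u`
-/

set_option autoImplicit false
set_option linter.unusedSectionVars false
set_option linter.style.haveILetI false
set_option linter.deprecated false
universe u

namespace Groth.Agent.Lib.Helper29.ExtRees

open IsLocalRing LaurentPolynomial AssocGr
open Groth.Agent.Lib.Helper29
open Groth.Agent.Lib.Helper33.GorTransfer Groth.Agent.Lib.Helper49.CMQuot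

section LocalQuot

/-- A Noetherian local ring is Cohen–Macaulay iff its quotient by a regular element is. -/
theorem cmLocal_iff_quotient_span (B : Type u) [CommRing B] [IsLocalRing B] [IsNoetherianRing B]
    (y : B) (hym : y ∈ maximalIdeal B) (hy : IsSMulRegular B y) :
    LocCoh.IsCohenMacaulayLocalRing B ↔ LocCoh.IsCohenMacaulayLocalRing (B ⧸ Ideal.span {y}) := by
  have hne : Ideal.span {y} ≠ ⊤ := by
    intro h
    rw [Ideal.span_singleton_eq_top] at h
    exact (mem_maximalIdeal y).mp hym h
  have hloc : IsLocalRing (B ⧸ Ideal.span {y}) :=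
    Linkage.isLocalRing_quotient_of_le (le_maximalIdeal hne)
  have hlh : IsLocalHom (algebraMap B (B ⧸ Ideal.span {y})) := isLocalHom_quotient_mk B _ hne
  constructor
  · intro hB
    have h := isCM_quotient_span_of_isSMulRegular B hB.supportDim_eq_depth hym hy
    refine LocCoh.IsCohenMacaulayLocalRing.mk ?_
    rw [Module.supportDim_self_eq_ringKrullDim]
    exact h
  · intro hq
    have h1 := hq.supportDim_eq_depth
    rw [Module.supportDim_self_eq_ringKrullDim] at h1
    have hdim := ringKrullDim_quotient_span_singleton_succ_eq_ringKrullDim hy hym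
    have hdep1 : LocCoh.depth B (B ⧸ Ideal.span {y}) =
        LocCoh.depth (B ⧸ Ideal.span {y}) (B ⧸ Ideal.span {y}) :=
      DepthFinite.depth_eq_of_isLocalHom B (B ⧸ Ideal.span {y}) (B ⧸ Ideal.span {y})
    have hdep2 : LocCoh.depth B (B ⧸ Ideal.span {y}) = LocCoh.depth B (QuotSMulTop y B) :=
      CMLib.depth_congr (Groth.Agent.Lib.Helper49.Serre.quotientSpanEquivQuotSMulTop y)
    have hdep3 := DepthLib.depth_quotSMulTop_add_one B B hym hy
    refine LocCoh.IsCohenMacaulayLocalRing.mk ?_
    rw [Module.supportDim_self_eq_ringKrullDim, ← hdim, h1, ← hdep3, ← hdep2, hdep1]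
    rfl

end LocalQuot

section Quot

variable {R : Type u} [CommRing R] [IsNoetherianRing R] (x : R) (hx : x ∈ nonZeroDivisors R)

include hx in
theorem exists_quotient_data (q : Ideal (R ⧸ Ideal.span {x})) [q.IsPrime] :
    ∃ (y : Localization.AtPrime (q.comap (Ideal.Quotient.mk (Ideal.span {x})))),
      y ∈ maximalIdeal (Localization.AtPrime (q.comap (Ideal.Quotient.mk (Ideal.span {x})))) ∧
      IsSMulRegular (Localization.AtPrime (q.comap (Ideal.Quotient.mk (Ideal.span {x})))) y ∧
      Nonempty (Localization.AtPrime q ≃+*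
        Localization.AtPrime (q.comap (Ideal.Quotient.mk (Ideal.span {x}))) ⧸ Ideal.span {y}) := by
  set P : Ideal R := q.comap (Ideal.Quotient.mk (Ideal.span {x})) with hP
  set B := Localization.AtPrime P with hB
  set y' : B := algebraMap R B x with hy'
  have hxP : x ∈ P := by
    show Ideal.Quotient.mk (Ideal.span {x}) x ∈ q
    have h0 : Ideal.Quotient.mk (Ideal.span {x}) x = 0 :=
      Ideal.Quotient.eq_zero_iff_mem.2 (Ideal.subset_span (Set.mem_singleton x))
    rw [h0]
    exact zero_mem _
  have hy'm : y' ∈ maximalIdeal B := (IsLocalization.AtPrime.to_map_mem_maximal_iff B P x).2 hxP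
  have hy'nzd : y' ∈ nonZeroDivisors B :=
    IsLocalization.map_nonZeroDivisors_le P.primeCompl B (Submonoid.mem_map_of_mem _ hx)
  have hy'reg : IsSMulRegular B y' := by
    intro a b hab
    have h1 : y' * (a - b) = 0 := by
      rw [mul_sub, sub_eq_zero]
      exact hab
    have h2 := (mem_nonZeroDivisors_iff.1 hy'nzd).1 (a - b) h1
    exact sub_eq_zero.1 h2
  let e1 : Localization.AtPrime q ≃+* B ⧸ (Ideal.span {x}).map (algebraMap R B) :=
    localizationQuotientEquiv (Ideal.span {x}) q
  have hmap : (Ideal.span {x}).map (algebraMap R B) = Ideal.span {y'} := by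
    rw [Ideal.map_span, Set.image_singleton]
  exact ⟨y', hy'm, hy'reg, ⟨e1.trans (Ideal.quotEquivOfEq hmap)⟩⟩

include hx in
/-- Cohen–Macaulayness at a prime of `R/(x)` and at its preimage in `R`, for `x` a
nonzerodivisor. -/
theorem cmLocal_quotient_iff (q : Ideal (R ⧸ Ideal.span {x})) [q.IsPrime] :
    LocCoh.IsCohenMacaulayLocalRing (Localization.AtPrime q) ↔
      LocCoh.IsCohenMacaulayLocalRing
        (Localization.AtPrime (q.comap (Ideal.Quotient.mk (Ideal.span {x})))) := by
  obtain ⟨y, hym, hy, ⟨e⟩⟩ := exists_quotient_data x hx q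
  rw [cmLocal_iff_quotient_span _ y hym hy]
  constructor
  · intro h
    exact Groth.Agent.Lib.Helper49.StalkLoc.isCohenMacaulayLocalRing_of_ringEquiv e h
  · intro h
    exact Groth.Agent.Lib.Helper49.StalkLoc.isCohenMacaulayLocalRing_of_ringEquiv e.symm h

include hx in
/-- Gorenstein at a prime of `R/(x)` and at its preimage in `R`, for `x` a nonzerodivisor. -/
theorem gorLocal_quotient_iff (q : Ideal (R ⧸ Ideal.span {x})) [q.IsPrime] :
    LocCoh.IsGorensteinLocalRing (Localization.AtPrime q) ↔
      LocCoh.IsGorensteinLocalRing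
        (Localization.AtPrime (q.comap (Ideal.Quotient.mk (Ideal.span {x})))) := by
  obtain ⟨y, hym, hy, ⟨e⟩⟩ := exists_quotient_data x hx q
  rw [Groth.Agent.S0343.result _ y hym hy]
  exact gorenstein_ringEquiv_iff e

include hx in
/-- Cohen–Macaulayness of `R` at a prime containing the nonzerodivisor `x`, from `R/(x)`. -/
theorem cmLocal_of_mem_of_quotient (P : Ideal R) [P.IsPrime] (hxP : x ∈ P)
    (hG : ∀ (q : Ideal (R ⧸ Ideal.span {x})) [q.IsPrime],
      q.comap (Ideal.Quotient.mk (Ideal.span {x})) = P →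
      LocCoh.IsCohenMacaulayLocalRing (Localization.AtPrime q)) :
    LocCoh.IsCohenMacaulayLocalRing (Localization.AtPrime P) := by
  have hle : Ideal.span {x} ≤ P := (Ideal.span_singleton_le_iff_mem _).2 hxP
  have hq : (P.map (Ideal.Quotient.mk (Ideal.span {x}))).IsPrime :=
    Ideal.map_isPrime_of_surjective Ideal.Quotient.mk_surjective (by rw [Ideal.mk_ker]; exact hle)
  have hcomap : (P.map (Ideal.Quotient.mk (Ideal.span {x}))).comap
      (Ideal.Quotient.mk (Ideal.span {x})) = P := by
    rw [Ideal.comap_map_of_surjective' _ Ideal.Quotient.mk_surjective, Ideal.mk_ker,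
      sup_eq_left.2 hle]
  have h2 := (cmLocal_quotient_iff x hx
    (P.map (Ideal.Quotient.mk (Ideal.span {x})))).1 (hG _ hcomap)
  exact cmLocal_transport _ P hcomap h2

include hx in
/-- Gorenstein property of `R` at a prime containing the nonzerodivisor `x`, from `R/(x)`. -/
theorem gorLocal_of_mem_of_quotient (P : Ideal R) [P.IsPrime] (hxP : x ∈ P)
    (hG : ∀ (q : Ideal (R ⧸ Ideal.span {x})) [q.IsPrime],
      q.comap (Ideal.Quotient.mk (Ideal.span {x})) = P →
      LocCoh.IsGorensteinLocalRing (Localization.AtPrime q)) :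
    LocCoh.IsGorensteinLocalRing (Localization.AtPrime P) := by
  have hle : Ideal.span {x} ≤ P := (Ideal.span_singleton_le_iff_mem _).2 hxP
  have hq : (P.map (Ideal.Quotient.mk (Ideal.span {x}))).IsPrime :=
    Ideal.map_isPrime_of_surjective Ideal.Quotient.mk_surjective (by rw [Ideal.mk_ker]; exact hle)
  have hcomap : (P.map (Ideal.Quotient.mk (Ideal.span {x}))).comap
      (Ideal.Quotient.mk (Ideal.span {x})) = P := by
    rw [Ideal.comap_map_of_surjective' _ Ideal.Quotient.mk_surjective, Ideal.mk_ker,
      sup_eq_left.2 hle]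
  have h2 := (gorLocal_quotient_iff x hx
    (P.map (Ideal.Quotient.mk (Ideal.span {x})))).1 (hG _ hcomap)
  exact gorLocal_transport _ P hcomap h2

end Quot

end Groth.Agent.Lib.Helper29.ExtRees
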