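import Groth.Agent.S0605
import Groth.Agent.S0558
import Groth.Agent.Lib.Helper29.DepthSES
import Groth.Agent.Lib.Helper29.Ischebeck
import Mathlib.LinearAlgebra.Matrix.ToLin

/-!
# Matrix factorizations and 2-periodicity over a hypersurface

`S` a ring, `f ∈ S` a non-zero-divisor, `π : S → R` surjective with kernel `(f)`.
A pair of matrices `Λ, Γ` with `ΛΓ = f`, `ΓΛ = f` gives a 2-periodic exact complex over `R`.
For `S` regular local of dimension two and `M` a finite `R`-module of positive depth, `M` is the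
cokernel of such a `Λ̄`; consequently `Ext²_R(M, N)` vanishes as soon as `Hom_R(M, N) = 0`.
-/

set_option autoImplicit false
universe u

namespace Groth.Agent.Lib.Helper29.MatFac

open CategoryTheory Abelian IsLocalRing

section Pure

variable {S R : Type*} [CommRing S] [CommRing R] (π : S →+* R)

theorem exists_lift_vec (hπ : Function.Surjective π) {n : ℕ} (r : Fin n → R) :
    ∃ s : Fin n → S, π ∘ s = r :=
  ⟨fun j => (hπ (r j)).choose, funext fun j => (hπ (r j)).choose_spec⟩

theorem ker_le_range (hπ : Function.Surjective π) (f : S) (hf : IsSMulRegular S f)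
    (hker : RingHom.ker π = Ideal.span {f}) {a b : ℕ} (Λ : Matrix (Fin a) (Fin b) S)
    (Γ : Matrix (Fin b) (Fin a) S) (hΓΛ : Γ * Λ = f • (1 : Matrix (Fin b) (Fin b) S)) :
    LinearMap.ker (Λ.map π).mulVecLin ≤ LinearMap.range (Γ.map π).mulVecLin := by
  intro r' hr'
  rw [LinearMap.mem_ker, Matrix.mulVecLin_apply] at hr'
  obtain ⟨r, rfl⟩ := exists_lift_vec π hπ r'
  have h1 : ∀ i, (Λ.mulVec r) i ∈ Ideal.span {f} := by
    intro i
    rw [← hker, RingHom.mem_ker, RingHom.map_mulVec, hr']
    rfl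
  choose v hv using fun i => Ideal.mem_span_singleton'.1 (h1 i)
  have h2 : Λ.mulVec r = f • v := by
    funext i
    rw [← hv i, Pi.smul_apply, smul_eq_mul, mul_comm]
  have h3 : f • r = f • Γ.mulVec v := by
    calc f • r = (f • (1 : Matrix (Fin b) (Fin b) S)).mulVec r := by
            rw [Matrix.smul_mulVec, Matrix.one_mulVec]
      _ = Γ.mulVec (Λ.mulVec r) := by rw [← hΓΛ, Matrix.mulVec_mulVec]
      _ = f • Γ.mulVec v := by rw [h2, Matrix.mulVec_smul]
  have h4 : r = Γ.mulVec v := funext fun j => hf (congrFun h3 j)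
  refine ⟨π ∘ v, ?_⟩
  rw [Matrix.mulVecLin_apply, h4]
  funext j
  rw [Function.comp_apply, RingHom.map_mulVec]

theorem range_le_ker (f : S) (hf : π f = 0) {a b : ℕ} (Λ : Matrix (Fin a) (Fin b) S)
    (Γ : Matrix (Fin b) (Fin a) S) (hΛΓ : Λ * Γ = f • (1 : Matrix (Fin a) (Fin a) S)) :
    LinearMap.range (Γ.map π).mulVecLin ≤ LinearMap.ker (Λ.map π).mulVecLin := by
  rintro _ ⟨v, rfl⟩
  rw [LinearMap.mem_ker, Matrix.mulVecLin_apply, Matrix.mulVecLin_apply, Matrix.mulVec_mulVec,
    ← Matrix.map_mul, hΛΓ]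
  have : (f • (1 : Matrix (Fin a) (Fin a) S)).map π = 0 := by
    ext i j
    simp [Matrix.map_apply, Matrix.smul_apply, hf]
  rw [this, Matrix.zero_mulVec]

theorem ker_eq_range (hπ : Function.Surjective π) (f : S) (hf : IsSMulRegular S f)
    (hker : RingHom.ker π = Ideal.span {f}) {a b : ℕ} (Λ : Matrix (Fin a) (Fin b) S)
    (Γ : Matrix (Fin b) (Fin a) S) (hΛΓ : Λ * Γ = f • (1 : Matrix (Fin a) (Fin a) S))
    (hΓΛ : Γ * Λ = f • (1 : Matrix (Fin b) (Fin b) S)) :
    LinearMap.ker (Λ.map π).mulVecLin = LinearMap.range (Γ.map π).mulVecLin := by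
  have hf0 : π f = 0 := by
    rw [← RingHom.mem_ker, hker]
    exact Ideal.mem_span_singleton_self f
  exact le_antisymm (ker_le_range π hπ f hf hker Λ Γ hΓΛ) (range_le_ker π f hf0 Λ Γ hΛΓ)

end Pure

section ExtPart

variable {R : Type u} [CommRing R]

/-- Contravariant long exact sequence: `Extⁿ(X₁, Y) = 0` and `Extⁿ⁺¹(X₂, Y) = 0` imply
`Extⁿ⁺¹(X₃, Y) = 0`. -/
theorem subsingleton_ext_succ_of_contra (Y : ModuleCat.{u} R)
    (N₁ N₂ N₃ : Type u) [AddCommGroup N₁] [Module R N₁] [AddCommGroup N₂] [Module R N₂]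
    [AddCommGroup N₃] [Module R N₃] (f : N₁ →ₗ[R] N₂) (g : N₂ →ₗ[R] N₃)
    (hf : Function.Injective f) (hg : Function.Surjective g) (hfg : Function.Exact f g) (n : ℕ)
    (h1 : Subsingleton (Ext (ModuleCat.of R N₁) Y n))
    (h2 : Subsingleton (Ext (ModuleCat.of R N₂) Y (n + 1))) :
    Subsingleton (Ext (ModuleCat.of R N₃) Y (n + 1)) := by
  let S : ShortComplex (ModuleCat.{u} R) :=
    ModuleCat.shortComplexOfCompEqZero f g hfg.linearMap_comp_eq_zero
  have hS : S.ShortExact :=
    { exact := ModuleCat.shortComplex_exact _ hfg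
      mono_f := (ModuleCat.mono_iff_injective _).2 hf
      epi_g := (ModuleCat.epi_iff_surjective _).2 hg }
  have h : ∀ e : Ext (ModuleCat.of R N₃) Y (n + 1), e = 0 := by
    intro e
    obtain ⟨e₁, rfl⟩ := Ext.contravariant_sequence_exact₃ hS Y e (h2.elim _ _) (add_comm 1 n)
    rw [h1.elim e₁ 0, Ext.comp_zero]
  exact ⟨fun a b => by rw [h a, h b]⟩

theorem subsingleton_ext_zero_of_forall (X Y : Type u) [AddCommGroup X] [Module R X]
    [AddCommGroup Y] [Module R Y] (h : ∀ g : X →ₗ[R] Y, g = 0) :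
    Subsingleton (Ext (ModuleCat.of R X) (ModuleCat.of R Y) 0) := by
  refine Ext.homEquiv₀.subsingleton_congr.2 ⟨fun a b => ?_⟩
  ext x
  rw [h a.hom, h b.hom]

/-- If `M` has a 2-periodic "resolution" `Rᵃ → Rᵇ → Rᵃ → M → 0` and `Hom(M, N) = 0`, then
`Ext²(M, N) = 0`. -/
theorem subsingleton_ext_two (M N : Type u) [AddCommGroup M] [Module R M] [AddCommGroup N]
    [Module R N] {a b : ℕ} (Λ : Matrix (Fin a) (Fin b) R) (Γ : Matrix (Fin b) (Fin a) R)
    (p : (Fin a → R) →ₗ[R] M) (hp : Function.Surjective p)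
    (hpΛ : LinearMap.ker p = LinearMap.range Λ.mulVecLin)
    (hΛΓ : LinearMap.ker Λ.mulVecLin = LinearMap.range Γ.mulVecLin)
    (hΓΛ : LinearMap.range Λ.mulVecLin ≤ LinearMap.ker Γ.mulVecLin)
    (hHom : ∀ h : M →ₗ[R] N, h = 0) :
    Subsingleton (Ext (ModuleCat.of R M) (ModuleCat.of R N) 2) := by
  -- `Hom(ker Λ, N) = 0`
  have h0 : ∀ g : LinearMap.ker Λ.mulVecLin →ₗ[R] N, g = 0 := by
    intro g
    -- `Γ` as a map onto `ker Λ`
    let Γ' : (Fin a → R) →ₗ[R] LinearMap.ker Λ.mulVecLin :=
      LinearMap.codRestrict _ Γ.mulVecLin (fun v => by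
        rw [hΛΓ]; exact LinearMap.mem_range_self _ v)
    have hΓ'surj : Function.Surjective Γ' := by
      rintro ⟨w, hw⟩
      rw [hΛΓ] at hw
      obtain ⟨v, rfl⟩ := hw
      exact ⟨v, Subtype.ext rfl⟩
    have hle : LinearMap.ker p ≤ LinearMap.ker (g ∘ₗ Γ') := by
      intro v hv
      rw [hpΛ] at hv
      have hv' := hΓΛ hv
      rw [LinearMap.mem_ker] at hv' ⊢
      have : Γ' v = 0 := Subtype.ext hv'
      rw [LinearMap.comp_apply, this, map_zero]
    let h : M →ₗ[R] N := ((LinearMap.ker p).liftQ (g ∘ₗ Γ') hle) ∘ₗ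
      (p.quotKerEquivOfSurjective hp).symm.toLinearMap
    have hh : ∀ v, h (p v) = g (Γ' v) := by
      intro v
      change ((LinearMap.ker p).liftQ (g ∘ₗ Γ') hle)
        ((p.quotKerEquivOfSurjective hp).symm (p v)) = _
      have : (p.quotKerEquivOfSurjective hp).symm (p v) = Submodule.Quotient.mk v := by
        rw [LinearEquiv.symm_apply_eq]
        rfl
      rw [this]
      rfl
    ext w
    obtain ⟨v, rfl⟩ := hΓ'surj w
    rw [← hh v, hHom h]
    rfl
  have hE0 := subsingleton_ext_zero_of_forall (LinearMap.ker Λ.mulVecLin) N h0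
  -- `Ext¹(K₁, N) = 0` where `K₁ = ker p`
  let q : (Fin b → R) →ₗ[R] LinearMap.ker p :=
    LinearMap.codRestrict _ Λ.mulVecLin (fun v => by
      rw [hpΛ]; exact LinearMap.mem_range_self _ v)
  have hqsurj : Function.Surjective q := by
    rintro ⟨w, hw⟩
    rw [hpΛ] at hw
    obtain ⟨v, rfl⟩ := hw
    exact ⟨v, Subtype.ext rfl⟩
  have hqex : Function.Exact (LinearMap.ker Λ.mulVecLin).subtype q := by
    intro v
    constructor
    · intro hv
      have hv' : Λ.mulVecLin v = 0 := congrArg Subtype.val hv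
      exact ⟨⟨v, hv'⟩, rfl⟩
    · rintro ⟨⟨w, hw⟩, rfl⟩
      exact Subtype.ext hw
  have hproj : ∀ (c : ℕ) (n : ℕ),
      Subsingleton (Ext (ModuleCat.of R (Fin c → R)) (ModuleCat.of R N) (n + 1)) := by
    intro c n
    exact Ext.subsingleton_of_projective _ _ n
  have hE1 : Subsingleton (Ext (ModuleCat.of R (LinearMap.ker p)) (ModuleCat.of R N) 1) :=
    subsingleton_ext_succ_of_contra (ModuleCat.of R N) (LinearMap.ker Λ.mulVecLin) (Fin b → R)
      (LinearMap.ker p) (LinearMap.ker Λ.mulVecLin).subtype q (Submodule.injective_subtype _)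
      hqsurj hqex 0 hE0 (hproj b 0)
  exact subsingleton_ext_succ_of_contra (ModuleCat.of R N) (LinearMap.ker p) (Fin a → R) M
    (LinearMap.ker p).subtype p (Submodule.injective_subtype _) hp
    (LinearMap.exact_subtype_ker_map p) 1 hE1 (hproj a 1)

end ExtPart

section Exists

open RingTheory.Sequence Groth.Agent.Lib.Helper29 Groth.Agent.Lib.Helper29.DepthLib

variable {S R : Type u} [CommRing S] [CommRing R] [Algebra S R] [IsRegularLocalRing S]

/-- Over a two-dimensional regular local ring, a finite module of positive depth has projective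
dimension at most one. -/
theorem hasProjectiveDimensionLT_two (hS : ringKrullDim S = 2)
    (M : Type u) [AddCommGroup M] [Module S M] [Module.Finite S M] [Nontrivial M]
    (x : S) (hx : x ∈ maximalIdeal S) (hreg : IsSMulRegular M x) :
    HasProjectiveDimensionLT (ModuleCat.of S M) 2 := by
  have hnz : ¬ CategoryTheory.Limits.IsZero (ModuleCat.of S M) := fun hz =>
    not_subsingleton M (ModuleCat.subsingleton_of_isZero hz)
  have hcm := Groth.Agent.S5671.isCM_of_regular S
  unfold LocCoh.IsCohenMacaulayModule at hcm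
  have hS' : ringKrullDim S = ((2 : ℕ) : WithBot ℕ∞) := by rw [hS]; rfl
  rw [Module.supportDim_self_eq_ringKrullDim, hS'] at hcm
  have hdepS : LocCoh.depth S S = ((2 : ℕ) : ℕ∞) := by
    have h := hcm.symm
    have h' : ((LocCoh.depth S S : ℕ∞) : WithBot ℕ∞) = (((2 : ℕ) : ℕ∞) : WithBot ℕ∞) := h
    exact WithBot.coe_injective h'
  obtain ⟨t, ht⟩ := ENat.ne_top_iff_exists.1 (depth_ne_top (A := S) (M := M))
  have h1t : 1 ≤ t := by
    have hw : IsWeaklyRegular M [x] := by
      rw [isWeaklyRegular_cons_iff]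
      exact ⟨hreg, IsWeaklyRegular.nil S _⟩
    have := length_le_idealDepth (maximalIdeal S) M hw (by simpa using hx)
    change ((1 : ℕ) : ℕ∞) ≤ LocCoh.depth S M at this
    rw [← ht] at this
    exact_mod_cast this
  have hpd := Groth.Agent.S0563.result S 2 hS' M
  have hex : ∃ e, CategoryTheory.HasProjectiveDimensionLT (ModuleCat.of S M) (e + 1) := ⟨2, hpd⟩
  classical
  let e := Nat.find hex
  have he1 : CategoryTheory.HasProjectiveDimensionLT (ModuleCat.of S M) (e + 1) :=
    Nat.find_spec hex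
  have he2 : ¬ CategoryTheory.HasProjectiveDimensionLT (ModuleCat.of S M) e := by
    intro hlt
    by_cases he : e = 0
    · rw [he] at hlt
      exact hnz ((CategoryTheory.hasProjectiveDimensionLT_zero_iff_isZero _).mp hlt)
    · have hmin := Nat.find_min hex (m := e - 1) (by omega)
      apply hmin
      have h1 : e - 1 + 1 = e := by omega
      rw [h1]
      exact hlt
  have hab := Groth.Agent.Lib.Helper33.AB.depth_eq_add_of_hasProjectiveDimensionLT
    (R := S) M e he1 he2
  rw [hdepS, ← ht] at hab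
  have : 2 = e + t := by exact_mod_cast hab
  exact hasProjectiveDimensionLT_of_ge (ModuleCat.of S M) (e + 1) 2 (by omega)

theorem exists_matFac (hS : ringKrullDim S = 2) (hsurj : Function.Surjective (algebraMap S R))
    (f : S) (hker : RingHom.ker (algebraMap S R) = Ideal.span {f})
    (M : Type u) [AddCommGroup M] [Module R M] [Module S M] [IsScalarTower S R M]
    [Module.Finite R M] [Nontrivial M] (x : S) (hx : x ∈ maximalIdeal S)
    (hreg : IsSMulRegular M x) :
    ∃ (a b : ℕ) (Λ : Matrix (Fin a) (Fin b) S) (Γ : Matrix (Fin b) (Fin a) S)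
      (p : (Fin a → R) →ₗ[R] M), Function.Surjective p ∧
      Λ * Γ = f • (1 : Matrix (Fin a) (Fin a) S) ∧ Γ * Λ = f • (1 : Matrix (Fin b) (Fin b) S) ∧
      LinearMap.ker p = LinearMap.range (Λ.map (algebraMap S R)).mulVecLin := by
  have hSR : Module.Finite S R := Module.Finite.of_surjective (Algebra.linearMap S R) hsurj
  have hSM : Module.Finite S M := Module.Finite.trans R M
  have hpd2 := hasProjectiveDimensionLT_two hS M x hx hreg
  have hfM : ∀ m : M, f • m = 0 := by
    intro m
    have h0 : algebraMap S R f = 0 := by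
      rw [← RingHom.mem_ker, hker]; exact Ideal.mem_span_singleton_self f
    rw [← algebraMap_smul R f m, h0, zero_smul]
  obtain ⟨a, p, hp⟩ := Module.Finite.exists_fin' R M
  let ρ : (Fin a → S) →ₗ[S] (Fin a → R) := (Algebra.linearMap S R).compLeft (Fin a)
  have hρ : Function.Surjective ρ := by
    intro r
    obtain ⟨s, hs⟩ := exists_lift_vec (algebraMap S R) hsurj r
    exact ⟨s, hs⟩
  let pt : (Fin a → S) →ₗ[S] M := (p.restrictScalars S) ∘ₗ ρ
  have hpt : Function.Surjective pt := hp.comp hρ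
  let L := LinearMap.ker pt
  -- `L` is projective, hence free
  let SC : ShortComplex (ModuleCat.{u} S) :=
    ModuleCat.shortComplexOfCompEqZero L.subtype pt
      (LinearMap.exact_subtype_ker_map pt).linearMap_comp_eq_zero
  have hSC : SC.ShortExact :=
    { exact := ModuleCat.shortComplex_exact _ (LinearMap.exact_subtype_ker_map pt)
      mono_f := (ModuleCat.mono_iff_injective _).2 (Submodule.injective_subtype _)
      epi_g := (ModuleCat.epi_iff_surjective _).2 hpt }
  have hprojX2 : Projective SC.X₂ := by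
    change Projective (ModuleCat.of S (Fin a → S))
    infer_instance
  have hL1 : HasProjectiveDimensionLT (ModuleCat.of S L) 1 :=
    (hSC.hasProjectiveDimensionLT_X₃_iff 0 hprojX2).1 hpd2
  have hLproj : Module.Projective S L := by
    rw [IsProjective.iff_projective]
    exact projective_iff_hasProjectiveDimensionLT_one.mpr hL1
  have hLfree : Module.Free S L := Module.free_of_flat_of_isLocalRing
  let b := Module.finrank S L
  let bL : Module.Basis (Fin b) S L := Module.finBasis S L
  let lam : (Fin b → S) →ₗ[S] (Fin a → S) := L.subtype ∘ₗ bL.equivFun.symm.toLinearMap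
  have hfmem : ∀ v : Fin a → S, (f • LinearMap.id : (Fin a → S) →ₗ[S] (Fin a → S)) v ∈ L := by
    intro v
    change pt (f • v) = 0
    rw [map_smul, hfM]
  let gam : (Fin a → S) →ₗ[S] (Fin b → S) :=
    bL.equivFun.toLinearMap ∘ₗ LinearMap.codRestrict L (f • LinearMap.id) hfmem
  have h1 : lam ∘ₗ gam = f • LinearMap.id := by
    refine LinearMap.ext fun v => ?_
    change ((bL.equivFun.symm (bL.equivFun ⟨f • v, hfmem v⟩) : L) : Fin a → S) = f • v
    rw [LinearEquiv.symm_apply_apply]
  have hlaminj : Function.Injective lam :=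
    (Submodule.injective_subtype _).comp bL.equivFun.symm.injective
  have h2 : gam ∘ₗ lam = f • LinearMap.id := by
    refine LinearMap.ext fun w => ?_
    apply hlaminj
    have := LinearMap.congr_fun h1 (lam w)
    rw [LinearMap.comp_apply] at this
    change lam (gam (lam w)) = lam ((f • LinearMap.id) w)
    rw [this]
    simp
  refine ⟨a, b, LinearMap.toMatrix' lam, LinearMap.toMatrix' gam, p, hp, ?_, ?_, ?_⟩
  · rw [← LinearMap.toMatrix'_comp, h1, map_smul, LinearMap.toMatrix'_id]
  · rw [← LinearMap.toMatrix'_comp, h2, map_smul, LinearMap.toMatrix'_id]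
  · have hcompat : ∀ s : Fin b → S,
        ((LinearMap.toMatrix' lam).map (algebraMap S R)).mulVecLin (algebraMap S R ∘ s) =
          ρ (lam s) := by
      intro s
      funext i
      rw [Matrix.mulVecLin_apply, ← RingHom.map_mulVec, LinearMap.toMatrix'_mulVec]
      rfl
    apply le_antisymm
    · intro r hr
      obtain ⟨v, rfl⟩ := hρ r
      have hv : v ∈ L := hr
      refine ⟨algebraMap S R ∘ (bL.equivFun ⟨v, hv⟩), ?_⟩
      rw [hcompat]
      change ρ ((bL.equivFun.symm (bL.equivFun ⟨v, hv⟩) : L) : Fin a → S) = ρ v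
      rw [LinearEquiv.symm_apply_apply]
    · rintro _ ⟨r, rfl⟩
      obtain ⟨s, rfl⟩ := exists_lift_vec (algebraMap S R) hsurj r
      rw [hcompat, LinearMap.mem_ker]
      exact (bL.equivFun.symm s).2

end Exists

end Groth.Agent.Lib.Helper29.MatFac
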