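import Groth.Agent.Lib.Helper29.DepthSES
import Groth.Agent.Lib.Helper29.MatFac
import Groth.Agent.Lib.Helper33.AuslanderBuchsbaum

/-!
# The acyclicity lemma (Peskine–Szpiro), core step

`R` Noetherian local, `C ≤ Z ≤ F` with `depth F ≥ 1`, `depth C ≥ 2` and `Z/C` supported only at the
maximal ideal: then `Z = C`.
-/

set_option autoImplicit false
universe u

namespace Groth.Agent.Lib.Helper29.Acyclic

open CategoryTheory Abelian IsLocalRing
open Groth.Agent.Lib.Helper29 Groth.Agent.Lib.Helper29.DepthSES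

section Core

variable {R : Type u} [CommRing R] [IsLocalRing R] [IsNoetherianRing R]

theorem le_of_ext (F : Type u) [AddCommGroup F] [Module R F] [Module.Finite R F]
    (C Z : Submodule R F) (hCZ : C ≤ Z)
    (hF0 : Subsingleton (Ext (ModuleCat.of R (R ⧸ maximalIdeal R)) (ModuleCat.of R F) 0))
    (hC1 : Subsingleton (Ext (ModuleCat.of R (R ⧸ maximalIdeal R)) (ModuleCat.of R C) 1))
    (h3 : ∀ (p : Ideal R), p.IsPrime → p ≠ maximalIdeal R → ∀ z ∈ Z, ∃ s ∉ p, s • z ∈ C) :
    Z ≤ C := by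
  by_contra hne
  obtain ⟨z0, hz0Z, hz0C⟩ := SetLike.not_le_iff_exists.1 hne
  let C' : Submodule R Z := C.comap Z.subtype
  have hntH : Nontrivial (Z ⧸ C') := by
    rw [Submodule.Quotient.nontrivial_iff]
    intro htop
    have : (⟨z0, hz0Z⟩ : Z) ∈ C' := by rw [htop]; trivial
    exact hz0C this
  obtain ⟨P, hP⟩ := associatedPrimes.nonempty R (Z ⧸ C')
  obtain ⟨hPprime, hbar, hPeq⟩ := isAssociatedPrime_iff.1 hP
  obtain ⟨⟨z, hz⟩, rfl⟩ := Submodule.Quotient.mk_surjective C' hbar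
  have hmemP : ∀ s : R, s ∈ P ↔ s • z ∈ C := by
    intro s
    rw [hPeq, Submodule.mem_colon_singleton, Submodule.mem_bot, ← Submodule.Quotient.mk_smul,
      Submodule.Quotient.mk_eq_zero]
    rfl
  have hPm : P = maximalIdeal R := by
    by_contra hPne
    obtain ⟨s, hsP, hsz⟩ := h3 P hPprime hPne z hz
    exact hsP ((hmemP s).2 hsz)
  have hzC : z ∉ C := by
    intro hzC
    apply hPprime.ne_top
    rw [Ideal.eq_top_iff_one, hmemP, one_smul]
    exact hzC
  -- the short exact sequence `0 → C → Z → Z/C → 0`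
  let f : C →ₗ[R] Z := Submodule.inclusion hCZ
  let g : Z →ₗ[R] Z ⧸ C' := C'.mkQ
  have hf : Function.Injective f := Submodule.inclusion_injective hCZ
  have hg : Function.Surjective g := C'.mkQ_surjective
  have hfg : Function.Exact f g := by
    intro y
    constructor
    · intro hy
      have hy' : y ∈ C' := (Submodule.Quotient.mk_eq_zero C').1 hy
      exact ⟨⟨y.1, hy'⟩, Subtype.ext rfl⟩
    · rintro ⟨c, rfl⟩
      exact (Submodule.Quotient.mk_eq_zero C').2 c.2
  have hZ0 : Subsingleton (Ext (ModuleCat.of R (R ⧸ maximalIdeal R)) (ModuleCat.of R Z) 0) :=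
    subsingleton_ext_left_zero _ Z F Z.subtype (Submodule.injective_subtype _) hF0
  have hH0 : Subsingleton (Ext (ModuleCat.of R (R ⧸ maximalIdeal R)) (ModuleCat.of R (Z ⧸ C')) 0) :=
    subsingleton_ext_right _ C Z (Z ⧸ C') f g hf hg hfg 0 hZ0 hC1
  -- but `1 ↦ [z]` is a nonzero map `R/𝔪 → Z/C`
  let zb : Z ⧸ C' := Submodule.Quotient.mk ⟨z, hz⟩
  have hkill : maximalIdeal R ≤ LinearMap.ker (LinearMap.toSpanSingleton R (Z ⧸ C') zb) := by
    intro s hs
    rw [LinearMap.mem_ker, LinearMap.toSpanSingleton_apply]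
    rw [← hPm, hPeq, Submodule.mem_colon_singleton, Submodule.mem_bot] at hs
    exact hs
  let φ : (R ⧸ maximalIdeal R) →ₗ[R] (Z ⧸ C') :=
    Submodule.liftQ (maximalIdeal R) (LinearMap.toSpanSingleton R (Z ⧸ C') zb) hkill
  have hφ1 : φ (Submodule.Quotient.mk 1) = zb := by
    change (LinearMap.toSpanSingleton R (Z ⧸ C') zb) 1 = zb
    rw [LinearMap.toSpanSingleton_apply, one_smul]
  have hsub : Subsingleton (ModuleCat.of R (R ⧸ maximalIdeal R) ⟶ ModuleCat.of R (Z ⧸ C')) :=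
    Ext.homEquiv₀.subsingleton_congr.1 hH0
  have h0 : ModuleCat.ofHom φ = ModuleCat.ofHom 0 := hsub.elim _ _
  have h1 : φ = 0 := by
    have := congrArg ModuleCat.Hom.hom h0
    simpa using this
  rw [h1, LinearMap.zero_apply] at hφ1
  apply hzC
  have : (⟨z, hz⟩ : Z) ∈ C' := (Submodule.Quotient.mk_eq_zero C').1 hφ1.symm
  exact this

omit [IsLocalRing R] [IsNoetherianRing R] in
/-- `depth Rⁿ ≥ depth R` in `Ext` form. -/
theorem subsingleton_ext_pi (K : ModuleCat.{u} R) (i : ℕ) (n : ℕ)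
    (h : Subsingleton (Ext K (ModuleCat.of R R) i)) :
    Subsingleton (Ext K (ModuleCat.of R (Fin n → R)) i) :=
  Groth.Agent.Lib.Helper33.AB.ext_free_subsingleton K i (Fin n → R) h

/-- Same as `le_of_ext`, without finiteness of `F`. -/
theorem le_of_ext' (F : Type u) [AddCommGroup F] [Module R F]
    (C Z : Submodule R F) (hCZ : C ≤ Z)
    (hF0 : Subsingleton (Ext (ModuleCat.of R (R ⧸ maximalIdeal R)) (ModuleCat.of R F) 0))
    (hC1 : Subsingleton (Ext (ModuleCat.of R (R ⧸ maximalIdeal R)) (ModuleCat.of R C) 1))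
    (h3 : ∀ (p : Ideal R), p.IsPrime → p ≠ maximalIdeal R → ∀ z ∈ Z, ∃ s ∉ p, s • z ∈ C) :
    Z ≤ C := by
  by_contra hne
  obtain ⟨z0, hz0Z, hz0C⟩ := SetLike.not_le_iff_exists.1 hne
  let C' : Submodule R Z := C.comap Z.subtype
  have hntH : Nontrivial (Z ⧸ C') := by
    rw [Submodule.Quotient.nontrivial_iff]
    intro htop
    have : (⟨z0, hz0Z⟩ : Z) ∈ C' := by rw [htop]; trivial
    exact hz0C this
  obtain ⟨P, hP⟩ := associatedPrimes.nonempty R (Z ⧸ C')
  obtain ⟨hPprime, hbar, hPeq⟩ := isAssociatedPrime_iff.1 hP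
  obtain ⟨⟨z, hz⟩, rfl⟩ := Submodule.Quotient.mk_surjective C' hbar
  have hmemP : ∀ s : R, s ∈ P ↔ s • z ∈ C := by
    intro s
    rw [hPeq, Submodule.mem_colon_singleton, Submodule.mem_bot, ← Submodule.Quotient.mk_smul,
      Submodule.Quotient.mk_eq_zero]
    rfl
  have hPm : P = maximalIdeal R := by
    by_contra hPne
    obtain ⟨s, hsP, hsz⟩ := h3 P hPprime hPne z hz
    exact hsP ((hmemP s).2 hsz)
  have hzC : z ∉ C := by
    intro hzC
    apply hPprime.ne_top
    rw [Ideal.eq_top_iff_one, hmemP, one_smul]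
    exact hzC
  -- the short exact sequence `0 → C → Z → Z/C → 0`
  let f : C →ₗ[R] Z := Submodule.inclusion hCZ
  let g : Z →ₗ[R] Z ⧸ C' := C'.mkQ
  have hf : Function.Injective f := Submodule.inclusion_injective hCZ
  have hg : Function.Surjective g := C'.mkQ_surjective
  have hfg : Function.Exact f g := by
    intro y
    constructor
    · intro hy
      have hy' : y ∈ C' := (Submodule.Quotient.mk_eq_zero C').1 hy
      exact ⟨⟨y.1, hy'⟩, Subtype.ext rfl⟩
    · rintro ⟨c, rfl⟩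
      exact (Submodule.Quotient.mk_eq_zero C').2 c.2
  have hZ0 : Subsingleton (Ext (ModuleCat.of R (R ⧸ maximalIdeal R)) (ModuleCat.of R Z) 0) :=
    subsingleton_ext_left_zero _ Z F Z.subtype (Submodule.injective_subtype _) hF0
  have hH0 : Subsingleton (Ext (ModuleCat.of R (R ⧸ maximalIdeal R)) (ModuleCat.of R (Z ⧸ C')) 0) :=
    subsingleton_ext_right _ C Z (Z ⧸ C') f g hf hg hfg 0 hZ0 hC1
  -- but `1 ↦ [z]` is a nonzero map `R/𝔪 → Z/C`
  let zb : Z ⧸ C' := Submodule.Quotient.mk ⟨z, hz⟩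
  have hkill : maximalIdeal R ≤ LinearMap.ker (LinearMap.toSpanSingleton R (Z ⧸ C') zb) := by
    intro s hs
    rw [LinearMap.mem_ker, LinearMap.toSpanSingleton_apply]
    rw [← hPm, hPeq, Submodule.mem_colon_singleton, Submodule.mem_bot] at hs
    exact hs
  let φ : (R ⧸ maximalIdeal R) →ₗ[R] (Z ⧸ C') :=
    Submodule.liftQ (maximalIdeal R) (LinearMap.toSpanSingleton R (Z ⧸ C') zb) hkill
  have hφ1 : φ (Submodule.Quotient.mk 1) = zb := by
    change (LinearMap.toSpanSingleton R (Z ⧸ C') zb) 1 = zb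
    rw [LinearMap.toSpanSingleton_apply, one_smul]
  have hsub : Subsingleton (ModuleCat.of R (R ⧸ maximalIdeal R) ⟶ ModuleCat.of R (Z ⧸ C')) :=
    Ext.homEquiv₀.subsingleton_congr.1 hH0
  have h0 : ModuleCat.ofHom φ = ModuleCat.ofHom 0 := hsub.elim _ _
  have h1 : φ = 0 := by
    have := congrArg ModuleCat.Hom.hom h0
    simpa using this
  rw [h1, LinearMap.zero_apply] at hφ1
  apply hzC
  have : (⟨z, hz⟩ : Z) ∈ C' := (Submodule.Quotient.mk_eq_zero C').1 hφ1.symm
  exact this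

omit [IsLocalRing R] [IsNoetherianRing R] in
theorem subsingleton_ext_of_subsingleton_right (K : ModuleCat.{u} R) (Y : Type u) [AddCommGroup Y]
    [Module R Y] [Subsingleton Y] (i : ℕ) : Subsingleton (Ext K (ModuleCat.of R Y) i) := by
  have hid : 𝟙 (ModuleCat.of R Y) = 0 := by
    ext y
    exact Subsingleton.elim _ _
  have h : ∀ x : Ext K (ModuleCat.of R Y) i, x = 0 := by
    intro x
    rw [← Ext.comp_mk₀_id x, hid, Ext.mk₀_zero, Ext.comp_zero]
  exact ⟨fun a b => by rw [h a, h b]⟩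

end Core

section Descent

variable {R : Type*} [CommRing R] (S : Submonoid R) (R' : Type*) [CommRing R'] [Algebra R R']
  [IsLocalization S R']

theorem exists_smul_eq_zero {k : ℕ} (v : Fin k → R) (hv : algebraMap R R' ∘ v = 0) :
    ∃ s ∈ S, s • v = 0 := by
  have h : ∀ i, ∃ m : S, (m : R) * v i = 0 := fun i =>
    (IsLocalization.map_eq_zero_iff S R' (v i)).1 (congrFun hv i)
  choose m hm using h
  refine ⟨∏ i, (m i : R), Submonoid.prod_mem S (fun i _ => (m i).2), ?_⟩
  funext i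
  obtain ⟨c, hc⟩ := Finset.dvd_prod_of_mem (fun i => (m i : R)) (Finset.mem_univ i)
  rw [Pi.smul_apply, smul_eq_mul, hc, mul_comm _ c, mul_assoc, hm i, mul_zero]
  rfl

theorem exists_integer_vec {k : ℕ} (w : Fin k → R') :
    ∃ s ∈ S, ∃ w' : Fin k → R, algebraMap R R' ∘ w' = (algebraMap R R' s) • w := by
  obtain ⟨b, hb⟩ := IsLocalization.exist_integer_multiples_of_finite S w
  choose w' hw' using hb
  refine ⟨b, b.2, w', ?_⟩
  funext i
  rw [Function.comp_apply, hw' i, Pi.smul_apply, Algebra.smul_def]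
  rfl

end Descent

end Groth.Agent.Lib.Helper29.Acyclic
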