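import Groth.Agent.Lib.Helper29.DepthSES
import Groth.Agent.Lib.Helper29.DepthLoc

/-!
# The acyclicity lemma (Peskine–Szpiro), depth form

For a complex `0 → X_e → ⋯ → X_0` of finite modules over a Noetherian local ring with
`depth X_j ≥ j`, exact at all places `> i` (with `i > 0`), the homology at `i` has depth `≥ 1`.
-/

set_option autoImplicit false
set_option linter.unusedSectionVars false
universe u

namespace Groth.Agent.Lib.Helper29.AcyclicDepth

open IsLocalRing

variable {R : Type u} [CommRing R] [IsLocalRing R] [IsNoetherianRing R]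
  (X : ℕ → Type u) [∀ j, AddCommGroup (X j)] [∀ j, Module R (X j)] [∀ j, Module.Finite R (X j)]
  (d : ∀ j, X (j + 1) →ₗ[R] X j)

/-- The cokernel `X_{j+2} → X_{j+1}`, which is the image of `d_j` when the complex is exact at
`X_{j+1}`. -/
abbrev Q (j : ℕ) : Type u := X (j + 1) ⧸ LinearMap.range (d (j + 1))

variable (hd : ∀ j, (d j).comp (d (j + 1)) = 0)

include hd in
theorem range_le_ker (j : ℕ) : LinearMap.range (d (j + 1)) ≤ LinearMap.ker (d j) := by
  rintro _ ⟨x, rfl⟩
  rw [LinearMap.mem_ker, ← LinearMap.comp_apply, hd j, LinearMap.zero_apply]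

/-- The map `Q_{j+1} → X_{j+1}` induced by `d_{j+1}`. -/
noncomputable def qMap (j : ℕ) : Q X d (j + 1) →ₗ[R] X (j + 1) :=
  (LinearMap.range (d (j + 1 + 1))).liftQ (d (j + 1)) (range_le_ker X d hd (j + 1))

theorem qMap_injective (j : ℕ) (hex : Function.Exact (d (j + 1 + 1)) (d (j + 1))) :
    Function.Injective (qMap X d hd j) := by
  rw [← LinearMap.ker_eq_bot, qMap, Submodule.ker_liftQ, hex.linearMap_ker_eq,
    Submodule.mkQ_map_self]

theorem qMap_exact (j : ℕ) :
    Function.Exact (qMap X d hd j) (LinearMap.range (d (j + 1))).mkQ := by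
  rw [LinearMap.exact_iff, Submodule.ker_mkQ, qMap, Submodule.range_liftQ]

variable (e : ℕ) (hzero : ∀ j, e < j → Subsingleton (X j))
  (hdepth : ∀ j, j ≤ e → (j : ℕ∞) ≤ LocCoh.depth R (X j))

include hzero hdepth in
theorem le_depth_X (j : ℕ) : (j : ℕ∞) ≤ LocCoh.depth R (X j) := by
  by_cases h : j ≤ e
  · exact hdepth j h
  · have := hzero j (not_le.1 h)
    rw [DepthLoc.depth_eq_top_of_subsingleton R (X j)]
    exact le_top

include hd hzero hdepth in
/-- `depth Q_j ≥ j + 1` for `j ≥ i`, when the complex is exact at all `X_{k+1}`, `k ≥ i`. -/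
theorem le_depth_Q (i : ℕ) (hex : ∀ k, i ≤ k → Function.Exact (d (k + 1)) (d k)) (t : ℕ) :
    ∀ j, e ≤ j + t → i ≤ j → ((j + 1 : ℕ) : ℕ∞) ≤ LocCoh.depth R (Q X d j) := by
  induction t with
  | zero =>
    intro j hj _
    have h1 : Subsingleton (X (j + 1)) := hzero (j + 1) (by omega)
    have h2 : Subsingleton (Q X d j) := (Submodule.Quotient.mk_surjective _).subsingleton
    rw [DepthLoc.depth_eq_top_of_subsingleton R (Q X d j)]
    exact le_top
  | succ t ih =>
    intro j hj hij
    have h1 := ih (j + 1) (by omega) (by omega)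
    have hinj := qMap_injective X d hd j (hex (j + 1) (by omega))
    have hexact := qMap_exact X d hd j
    have hsurj : Function.Surjective (LinearMap.range (d (j + 1))).mkQ :=
      Submodule.mkQ_surjective _
    have h2 := DepthSES.min_le_idealDepth_right (maximalIdeal R) (Q X d (j + 1)) (X (j + 1))
      (Q X d j) (qMap X d hd j) _ hinj hsurj hexact
    refine le_trans (le_min ?_ ?_) h2
    · exact le_depth_X X e hzero hdepth (j + 1)
    · have h3 : ((j + 1 + 1 : ℕ) : ℕ∞) - 1 ≤ LocCoh.depth R (Q X d (j + 1)) - 1 :=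
        tsub_le_tsub_right h1 1
      refine le_trans (le_of_eq ?_) h3
      rw [← ENat.natCast_one, ← ENat.natCast_sub]
      rfl

include hd hzero hdepth in
/-- The acyclicity lemma: the homology at `X_{i₀+1}` has depth at least one, if the complex is
exact at all `X_{k+1}` with `k ≥ i₀ + 1`. -/
theorem one_le_depth_homology (i₀ : ℕ)
    (hex : ∀ k, i₀ + 1 ≤ k → Function.Exact (d (k + 1)) (d k))
    (toZ : X (i₀ + 1 + 1) →ₗ[R] LinearMap.ker (d i₀))
    (htoZ : ∀ x, (toZ x : X (i₀ + 1)) = d (i₀ + 1) x) :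
    1 ≤ LocCoh.depth R (LinearMap.ker (d i₀) ⧸ LinearMap.range toZ) := by
  have hnoeth : IsNoetherian R (X (i₀ + 1)) := isNoetherian_of_isNoetherianRing_of_finite R _
  have hker : LinearMap.ker toZ = LinearMap.ker (d (i₀ + 1)) := by
    ext x
    rw [LinearMap.mem_ker, LinearMap.mem_ker, ← htoZ x]
    exact ⟨fun h => by rw [h]; rfl, fun h => Subtype.ext h⟩
  have hle : LinearMap.range (d (i₀ + 1 + 1)) ≤ LinearMap.ker toZ := by
    rw [hker]; exact range_le_ker X d hd (i₀ + 1)
  let φ : Q X d (i₀ + 1) →ₗ[R] LinearMap.ker (d i₀) :=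
    (LinearMap.range (d (i₀ + 1 + 1))).liftQ toZ hle
  have hφinj : Function.Injective φ := by
    rw [← LinearMap.ker_eq_bot, Submodule.ker_liftQ, hker,
      (hex (i₀ + 1) le_rfl).linearMap_ker_eq, Submodule.mkQ_map_self]
  have hφex : Function.Exact φ (LinearMap.range toZ).mkQ := by
    rw [LinearMap.exact_iff, Submodule.ker_mkQ, Submodule.range_liftQ]
  have hsurj : Function.Surjective (LinearMap.range toZ).mkQ := Submodule.mkQ_surjective _
  have h1 := DepthSES.min_le_idealDepth_right (maximalIdeal R) (Q X d (i₀ + 1))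
    (LinearMap.ker (d i₀)) (LinearMap.ker (d i₀) ⧸ LinearMap.range toZ) φ _ hφinj hsurj hφex
  refine le_trans (le_min ?_ ?_) h1
  · -- depth of the cycles
    have h2 := DepthSES.min_le_idealDepth_left (maximalIdeal R) (LinearMap.ker (d i₀))
      (X (i₀ + 1)) (X (i₀ + 1) ⧸ LinearMap.ker (d i₀)) (LinearMap.ker (d i₀)).subtype
      (LinearMap.ker (d i₀)).mkQ (Submodule.injective_subtype _) (Submodule.mkQ_surjective _)
      (LinearMap.exact_subtype_mkQ _)
    refine le_trans (le_min ?_ ?_) h2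
    · refine le_trans ?_ (le_depth_X X e hzero hdepth (i₀ + 1))
      exact_mod_cast Nat.succ_le_succ (Nat.zero_le i₀)
    · exact le_add_self
  · have h3 := le_depth_Q X d hd e hzero hdepth (i₀ + 1) hex e (i₀ + 1) (by omega) le_rfl
    have h4 : ((i₀ + 1 + 1 : ℕ) : ℕ∞) - 1 ≤ LocCoh.depth R (Q X d (i₀ + 1)) - 1 :=
      tsub_le_tsub_right h3 1
    refine le_trans ?_ h4
    rw [← ENat.natCast_one, ← ENat.natCast_sub]
    exact_mod_cast Nat.succ_le_succ (Nat.zero_le i₀)

end Groth.Agent.Lib.Helper29.AcyclicDepth
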