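import Groth.Agent.Lib.Helper29.HilbertBurch

/-!
# Buchsbaum–Eisenbud, part 1: the split tail over a local ring

For a complex of finite free modules over a local ring given by matrices `A k : S^{n (k+1)} → S^{n k}`
such that `A k` has a unit minor of the expected size `r (k+1)` for all `k ≥ δ`, the complex is
exact at the places `> δ` and the cokernels of the `A k`, `k ≥ δ`, are free of rank `r k`.
-/

set_option autoImplicit false
set_option linter.unusedSectionVars false
universe u

namespace Groth.Agent.Lib.Helper29.BE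

open IsLocalRing

/-- The cokernel of a matrix. -/
abbrev Coker {S : Type u} [CommRing S] {a b : ℕ} (B : Matrix (Fin a) (Fin b) S) : Type u :=
  (Fin a → S) ⧸ LinearMap.range B.mulVecLin

section Step

variable {S : Type u} [CommRing S] [IsLocalRing S]

/-- One step of the tail: if `coker B` is free of rank `r` and `A` (with `A B = 0`) has a unit
`r × r` minor, then the complex is exact at the middle and `coker A` is free of rank `a - r`. -/
theorem tail_step {a b c r : ℕ} (A : Matrix (Fin a) (Fin b) S) (B : Matrix (Fin b) (Fin c) S)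
    (hAB : A * B = 0) (e : Coker B ≃ₗ[S] (Fin r → S))
    (f : Fin r → Fin a) (g : Fin r → Fin b) (hfg : IsUnit (A.submatrix f g).det) :
    LinearMap.ker A.mulVecLin = LinearMap.range B.mulVecLin ∧
      ∃ r', r + r' = a ∧ Nonempty (Coker A ≃ₗ[S] (Fin r' → S)) := by
  have hle : LinearMap.range B.mulVecLin ≤ LinearMap.ker A.mulVecLin := by
    rintro _ ⟨x, rfl⟩
    rw [LinearMap.mem_ker, Matrix.mulVecLin_apply, Matrix.mulVecLin_apply, Matrix.mulVec_mulVec,
      hAB, Matrix.zero_mulVec]
  let ψ : Coker B →ₗ[S] (Fin a → S) := (LinearMap.range B.mulVecLin).liftQ A.mulVecLin hle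
  let Ψ' : (Fin r → S) →ₗ[S] (Fin a → S) := ψ ∘ₗ e.symm.toLinearMap
  let Pm : (Fin b → S) →ₗ[S] (Fin r → S) := e.toLinearMap ∘ₗ (LinearMap.range B.mulVecLin).mkQ
  have hcomp : Ψ' ∘ₗ Pm = A.mulVecLin := by
    refine LinearMap.ext fun x => ?_
    simp [Ψ', Pm, ψ]
  have hPsurj : Function.Surjective Pm :=
    e.surjective.comp (Submodule.mkQ_surjective _)
  have hmat : A = LinearMap.toMatrix' Ψ' * LinearMap.toMatrix' Pm := by
    rw [← LinearMap.toMatrix'_comp, hcomp, ← Matrix.toLin'_apply', LinearMap.toMatrix'_toLin']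
  have hsub : A.submatrix f g =
      (LinearMap.toMatrix' Ψ').submatrix f id * (LinearMap.toMatrix' Pm).submatrix id g := by
    conv_lhs => rw [hmat]
    exact Matrix.submatrix_mul _ _ f id g Function.bijective_id
  have hunit : IsUnit ((LinearMap.toMatrix' Ψ').submatrix f id).det := by
    rw [hsub, Matrix.det_mul] at hfg
    exact isUnit_of_mul_isUnit_left hfg
  obtain ⟨Φ, hΦ⟩ := Groth.Agent.Lib.Helper29.HilbertBurch.exists_leftInverse
    (LinearMap.toMatrix' Ψ') f hunit
  have hΦΨ : ∀ u, Φ (Ψ' u) = u := by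
    intro u
    have h1 := hΦ u
    rwa [LinearMap.toMatrix'_mulVec] at h1
  have hΨinj : Function.Injective Ψ' := Function.LeftInverse.injective hΦΨ
  have hψinj : Function.Injective ψ := by
    intro x y hxy
    have : Ψ' (e x) = Ψ' (e y) := by simpa [Ψ'] using hxy
    exact e.injective (hΨinj this)
  have hrange : LinearMap.range A.mulVecLin = LinearMap.range Ψ' := by
    rw [← hcomp, LinearMap.range_comp_of_range_eq_top _ (LinearMap.range_eq_top.mpr hPsurj)]
  refine ⟨?_, ?_⟩
  · apply le_antisymm _ hle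
    intro x hx
    rw [LinearMap.mem_ker] at hx
    have h1 : ψ ((LinearMap.range B.mulVecLin).mkQ x) = 0 := by
      simpa [ψ] using hx
    have h2 : (LinearMap.range B.mulVecLin).mkQ x = 0 := hψinj (by rw [h1, map_zero])
    rwa [Submodule.mkQ_apply, Submodule.Quotient.mk_eq_zero] at h2
  · -- the cokernel is projective, hence free
    let ι : Coker A →ₗ[S] (Fin a → S) :=
      (LinearMap.range A.mulVecLin).liftQ (LinearMap.id - Ψ' ∘ₗ Φ) (by
        rw [hrange]
        rintro x ⟨u, hu⟩
        rw [LinearMap.mem_ker, LinearMap.sub_apply, LinearMap.id_apply, LinearMap.comp_apply,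
          ← hu, hΦΨ, sub_self])
    have hι : ∀ y, (LinearMap.range A.mulVecLin).mkQ (ι y) = y := by
      intro y
      obtain ⟨y, rfl⟩ := Submodule.mkQ_surjective _ y
      have h1 : ι ((LinearMap.range A.mulVecLin).mkQ y) = y - Ψ' (Φ y) := by
        simp [ι]
      rw [h1, map_sub, sub_eq_self, Submodule.mkQ_apply, Submodule.Quotient.mk_eq_zero, hrange]
      exact ⟨_, rfl⟩
    have hproj : Module.Projective S (Coker A) :=
      Module.Projective.of_split ι (LinearMap.range A.mulVecLin).mkQ
        (LinearMap.ext fun y => by simpa using hι y)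
    have hfree : Module.Free S (Coker A) := Module.free_of_flat_of_isLocalRing
    let E : (Fin a → S) ≃ₗ[S] (Fin r → S) × Coker A :=
      LinearEquiv.ofBijective (LinearMap.prod Φ (LinearMap.range A.mulVecLin).mkQ) (by
        constructor
        · rw [← LinearMap.ker_eq_bot, LinearMap.ker_eq_bot']
          intro x hx
          have h1 : Φ x = 0 := congrArg Prod.fst hx
          have h2 : (LinearMap.range A.mulVecLin).mkQ x = 0 := congrArg Prod.snd hx
          rw [Submodule.mkQ_apply, Submodule.Quotient.mk_eq_zero, hrange] at h2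
          obtain ⟨u, rfl⟩ := h2
          rw [hΦΨ] at h1
          rw [h1, map_zero]
        · rintro ⟨u, y⟩
          refine ⟨Ψ' u + ι y, ?_⟩
          refine Prod.ext ?_ ?_
          · show Φ (Ψ' u + ι y) = u
            rw [map_add, hΦΨ]
            obtain ⟨y, rfl⟩ := Submodule.mkQ_surjective _ y
            have h1 : ι ((LinearMap.range A.mulVecLin).mkQ y) = y - Ψ' (Φ y) := by
              simp [ι]
            rw [h1, map_sub, hΦΨ, sub_self, add_zero]
          · show (LinearMap.range A.mulVecLin).mkQ (Ψ' u + ι y) = y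
            rw [map_add, hι, add_eq_right, Submodule.mkQ_apply, Submodule.Quotient.mk_eq_zero,
              hrange]
            exact ⟨_, rfl⟩)
    refine ⟨Module.finrank S (Coker A), ?_, ⟨(Module.finBasis S (Coker A)).equivFun⟩⟩
    have h1 := E.finrank_eq
    rw [Module.finrank_prod, Module.finrank_fin_fun, Module.finrank_fin_fun] at h1
    exact h1.symm

end Step

section Tail

variable {S : Type u} [CommRing S] [IsLocalRing S]
  (n : ℕ → ℕ) (A : ∀ i, Matrix (Fin (n i)) (Fin (n (i + 1))) S) (e δ : ℕ)
  (hA : ∀ i, A i * A (i + 1) = 0) (hAe : ∀ i, e ≤ i → A i = 0)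
  (r : ℕ → ℕ) (hre : r e = n e) (hr : ∀ k, k < e → r k + r (k + 1) = n k)
  (hunit : ∀ k, δ ≤ k → k < e →
    ∃ (f : Fin (r (k + 1)) → Fin (n k)) (g : Fin (r (k + 1)) → Fin (n (k + 1))),
      IsUnit ((A k).submatrix f g).det)

include hA hAe hre hr hunit in
theorem tail_aux (m : ℕ) : ∀ k, k + m = e → δ ≤ k →
    Nonempty (Coker (A k) ≃ₗ[S] (Fin (r k) → S)) ∧
      (k < e → LinearMap.ker (A k).mulVecLin = LinearMap.range (A (k + 1)).mulVecLin) := by
  induction m with
  | zero =>
    intro k hk hδ
    have hke : k = e := by omega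
    subst hke
    refine ⟨?_, fun h => absurd h (lt_irrefl _)⟩
    have h0 : A k = 0 := hAe k le_rfl
    have hbot : LinearMap.range (A k).mulVecLin = ⊥ := by
      rw [h0, Matrix.mulVecLin_zero, LinearMap.range_zero]
    exact ⟨(Submodule.quotEquivOfEqBot _ hbot).trans
      (LinearEquiv.funCongrLeft S S (finCongr hre))⟩
  | succ m ih =>
    intro k hk hδ
    have hklt : k < e := by omega
    obtain ⟨⟨e'⟩, -⟩ := ih (k + 1) (by omega) (by omega)
    obtain ⟨f, g, hfg⟩ := hunit k hδ hklt
    obtain ⟨hker, r', hr', ⟨e''⟩⟩ := tail_step (A k) (A (k + 1)) (hA k) e' f g hfg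
    have hrr : r' = r k := by
      have := hr k hklt
      omega
    subst hrr
    exact ⟨⟨e''⟩, fun _ => hker⟩

include hA hAe hre hr hunit in
/-- **The split tail.** -/
theorem tail (k : ℕ) (hδ : δ ≤ k) (hk : k ≤ e) :
    Nonempty (Coker (A k) ≃ₗ[S] (Fin (r k) → S)) ∧
      (k < e → LinearMap.ker (A k).mulVecLin = LinearMap.range (A (k + 1)).mulVecLin) :=
  tail_aux n A e δ hA hAe r hre hr hunit (e - k) k (by omega) hδ

end Tail

end Groth.Agent.Lib.Helper29.BE
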