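import Groth.Agent.Lib.Helper29.BE1
import Groth.Agent.Lib.Helper29.AcyclicDepth
import Groth.Agent.Lib.Helper93.NormFlatDepth

/-!
# Buchsbaum–Eisenbud, part 2: the local theorem

Over a Noetherian local ring `S`, a complex of finite free modules whose maps `A k` with
`k ≥ δ` (`δ ≤ depth S`) have unit minors of the expected size, and whose homology modules are zero
or have a socle element, is exact.
-/

set_option autoImplicit false
set_option linter.unusedSectionVars false
universe u

namespace Groth.Agent.Lib.Helper29.BE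

open IsLocalRing

section Local

variable {S : Type u} [CommRing S] [IsLocalRing S] [IsNoetherianRing S]
  (n : ℕ → ℕ) (A : ∀ i, Matrix (Fin (n i)) (Fin (n (i + 1))) S) (e δ : ℕ)
  (hA : ∀ i, A i * A (i + 1) = 0) (hAe : ∀ i, e ≤ i → A i = 0)
  (r : ℕ → ℕ) (hre : r e = n e) (hr : ∀ k, k < e → r k + r (k + 1) = n k)
  (hunit : ∀ k, δ ≤ k → k < e →
    ∃ (f : Fin (r (k + 1)) → Fin (n k)) (g : Fin (r (k + 1)) → Fin (n (k + 1))),
      IsUnit ((A k).submatrix f g).det)
  (hδe : δ ≤ e) (hδ : (δ : ℕ∞) ≤ LocCoh.depth S S)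

/-- The submodules by which we truncate: `0` below `δ`, the boundaries at `δ`, everything
above. -/
def N (j : ℕ) : Submodule S (Fin (n j) → S) :=
  if j < δ then ⊥ else if j = δ then LinearMap.range (A j).mulVecLin else ⊤

theorem N_of_lt {j : ℕ} (h : j < δ) : N n A δ j = ⊥ := by
  rw [N, if_pos h]

theorem N_self : N n A δ δ = LinearMap.range (A δ).mulVecLin := by
  rw [N, if_neg (lt_irrefl _), if_pos rfl]

theorem N_of_gt {j : ℕ} (h : δ < j) : N n A δ j = ⊤ := by
  rw [N, if_neg (by omega), if_neg (by omega)]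

theorem N_le_range {j : ℕ} (h : j ≤ δ) : N n A δ j ≤ LinearMap.range (A j).mulVecLin := by
  rcases Nat.lt_or_eq_of_le h with h | h
  · rw [N_of_lt n A δ h]
    exact bot_le
  · subst h
    rw [N_self]

/-- The truncated complex. -/
abbrev Y (j : ℕ) : Type u := (Fin (n j) → S) ⧸ N n A δ j

include hA in
theorem N_le (j : ℕ) : N n A δ (j + 1) ≤ (N n A δ j).comap (A j).mulVecLin := by
  rcases Nat.lt_trichotomy (j + 1) δ with h | h | h
  · rw [N_of_lt n A δ h]
    exact bot_le
  · rw [← h, N_self]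
    rintro _ ⟨x, rfl⟩
    rw [Submodule.mem_comap, Matrix.mulVecLin_apply, Matrix.mulVecLin_apply, Matrix.mulVec_mulVec,
      hA j, Matrix.zero_mulVec]
    exact Submodule.zero_mem _
  · rcases Nat.lt_or_eq_of_le (Nat.lt_succ_iff.mp h) with h' | h'
    · rw [N_of_gt n A δ h']
      exact le_top
    · rw [← h', N_self]
      intro x _
      exact ⟨x, rfl⟩

/-- The differentials of the truncated complex. -/
noncomputable def dY (j : ℕ) : Y n A δ (j + 1) →ₗ[S] Y n A δ j :=
  Submodule.mapQ _ _ (A j).mulVecLin (N_le n A δ hA j)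

theorem dY_mk (j : ℕ) (x : Fin (n (j + 1)) → S) :
    dY n A δ hA j (Submodule.Quotient.mk x) = Submodule.Quotient.mk ((A j).mulVec x) := rfl

theorem dY_comp (j : ℕ) : (dY n A δ hA j).comp (dY n A δ hA (j + 1)) = 0 := by
  refine LinearMap.ext fun y => ?_
  obtain ⟨y, rfl⟩ := Submodule.Quotient.mk_surjective _ y
  rw [LinearMap.comp_apply, dY_mk, dY_mk, Matrix.mulVec_mulVec, hA j, Matrix.zero_mulVec]
  rfl

theorem subsingleton_Y {j : ℕ} (h : δ < j) : Subsingleton (Y n A δ j) := by
  rw [Submodule.Quotient.subsingleton_iff]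
  exact N_of_gt n A δ h

include hδ in
theorem le_depth_free (m : ℕ) : (δ : ℕ∞) ≤ LocCoh.depth S (Fin m → S) := by
  obtain ⟨d, hd⟩ := ENat.ne_top_iff_exists.1 (DepthLib.depth_ne_top S S)
  rcases Groth.Agent.Lib.Helper93.NormFlatDepth.depthP_pi (A := S) (Q := S) d
    (Or.inr hd.symm) m with h | h
  · rw [DepthLoc.depth_eq_top_of_subsingleton]
    exact le_top
  · rw [h, hd]
    exact hδ

include hA hAe hre hr hunit hδe hδ in
theorem le_depth_Y (j : ℕ) (hj : j ≤ δ) : (j : ℕ∞) ≤ LocCoh.depth S (Y n A δ j) := by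
  rcases Nat.lt_or_eq_of_le hj with h | h
  · have e1 : Y n A δ j ≃ₗ[S] (Fin (n j) → S) :=
      Submodule.quotEquivOfEqBot _ (N_of_lt n A δ h)
    rw [CMLib.depth_congr e1]
    refine le_trans ?_ (le_depth_free δ hδ (n j))
    exact_mod_cast hj
  · subst h
    obtain ⟨⟨e2⟩, -⟩ := tail n A e j hA hAe r hre hr hunit j le_rfl hδe
    have e1 : Y n A j j ≃ₗ[S] Coker (A j) :=
      Submodule.quotEquivOfEq _ _ (N_self n A j)
    rw [CMLib.depth_congr (e1.trans e2)]
    exact le_depth_free j hδ (r j)

include hA hAe hre hr hunit hδe hδ in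
/-- **The local theorem.** -/
theorem exact_local
    (hfl : ∀ i, i < e →
      LinearMap.ker (A i).mulVecLin = LinearMap.range (A (i + 1)).mulVecLin ∨
      ∃ z ∈ LinearMap.ker (A i).mulVecLin, z ∉ LinearMap.range (A (i + 1)).mulVecLin ∧
        ∀ a ∈ maximalIdeal S, a • z ∈ LinearMap.range (A (i + 1)).mulVecLin) :
    ∀ i, i < e → LinearMap.ker (A i).mulVecLin = LinearMap.range (A (i + 1)).mulVecLin := by
  intro i
  induction' hm : e - i using Nat.strong_induction_on with m ih generalizing i
  intro hi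
  have IH : ∀ k, i < k → k < e →
      LinearMap.ker (A k).mulVecLin = LinearMap.range (A (k + 1)).mulVecLin :=
    fun k hik hke => ih (e - k) (by omega) k rfl hke
  by_cases hiδ : δ ≤ i
  · exact (tail n A e δ hA hAe r hre hr hunit i hiδ hi.le).2 hi
  push Not at hiδ
  rcases hfl i hi with h | ⟨z, hz1, hz2, hz3⟩
  · exact h
  exfalso
  -- exactness of the truncated complex above `i`
  have hex : ∀ k, i + 1 ≤ k → Function.Exact (dY n A δ hA (k + 1)) (dY n A δ hA k) := by
    intro k hk
    by_cases hkδ : δ < k + 1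
    · have := subsingleton_Y n A δ hkδ
      intro y
      constructor
      · intro _
        exact ⟨0, Subsingleton.elim _ _⟩
      · intro _
        rw [Subsingleton.elim y 0, map_zero]
    · push Not at hkδ
      have hklt : k < δ := by omega
      intro y
      constructor
      · intro hy
        obtain ⟨y, rfl⟩ := Submodule.Quotient.mk_surjective _ y
        rw [dY_mk, Submodule.Quotient.mk_eq_zero, N_of_lt n A δ hklt, Submodule.mem_bot] at hy
        have hy' : y ∈ LinearMap.ker (A k).mulVecLin := hy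
        rw [IH k (by omega) (by omega)] at hy'
        obtain ⟨w, rfl⟩ := hy'
        exact ⟨Submodule.Quotient.mk w, rfl⟩
      · rintro ⟨w, rfl⟩
        have := congrFun (congrArg DFunLike.coe (dY_comp n A δ hA k)) w
        exact this
  let toZ : Y n A δ (i + 1 + 1) →ₗ[S] LinearMap.ker (dY n A δ hA i) :=
    (dY n A δ hA (i + 1)).codRestrict _ (fun y => by
      have := congrFun (congrArg DFunLike.coe (dY_comp n A δ hA i)) y
      exact this)
  have hdepth := AcyclicDepth.one_le_depth_homology (Y n A δ) (dY n A δ hA) (dY_comp n A δ hA) δ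
    (fun j hj => subsingleton_Y n A δ hj)
    (fun j hj => le_depth_Y n A e δ hA hAe r hre hr hunit hδe hδ j hj) i hex toZ (fun x => rfl)
  -- the socle element
  have hzker : (Submodule.Quotient.mk z : Y n A δ (i + 1)) ∈ LinearMap.ker (dY n A δ hA i) := by
    rw [LinearMap.mem_ker, dY_mk]
    have : (A i).mulVec z = 0 := hz1
    rw [this]
    rfl
  let ζ : LinearMap.ker (dY n A δ hA i) := ⟨Submodule.Quotient.mk z, hzker⟩
  let ζb : LinearMap.ker (dY n A δ hA i) ⧸ LinearMap.range toZ := Submodule.Quotient.mk ζ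
  have hζne : ζb ≠ 0 := by
    intro h0
    rw [Submodule.Quotient.mk_eq_zero] at h0
    obtain ⟨y, hy⟩ := h0
    obtain ⟨y, rfl⟩ := Submodule.Quotient.mk_surjective _ y
    have h1 : (Submodule.Quotient.mk ((A (i + 1)).mulVec y) : Y n A δ (i + 1)) =
        Submodule.Quotient.mk z := congrArg Subtype.val hy
    rw [Submodule.Quotient.eq] at h1
    have h2 := N_le_range n A δ (by omega : i + 1 ≤ δ) h1
    apply hz2
    have h3 : z = (A (i + 1)).mulVec y - ((A (i + 1)).mulVec y - z) := by abel
    rw [h3]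
    exact Submodule.sub_mem _ ⟨y, rfl⟩ h2
  have hζm : ∀ a ∈ maximalIdeal S, a • ζb = 0 := by
    intro a ha
    obtain ⟨y, hy⟩ := hz3 a ha
    show (Submodule.Quotient.mk (a • ζ) : _ ⧸ LinearMap.range toZ) = 0
    rw [Submodule.Quotient.mk_eq_zero]
    refine ⟨Submodule.Quotient.mk y, ?_⟩
    apply Subtype.ext
    show dY n A δ hA (i + 1) (Submodule.Quotient.mk y) = a • Submodule.Quotient.mk z
    rw [dY_mk]
    have : (A (i + 1)).mulVec y = a • z := hy
    rw [this]
    rfl
  -- contradiction with positive depth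
  have hnt : Nontrivial (LinearMap.ker (dY n A δ hA i) ⧸ LinearMap.range toZ) :=
    ⟨⟨ζb, 0, hζne⟩⟩
  have hM := maximalIdeal_smul_top_ne_top S
    (LinearMap.ker (dY n A δ hA i) ⧸ LinearMap.range toZ)
  have h0 : LocCoh.depth S (LinearMap.ker (dY n A δ hA i) ⧸ LinearMap.range toZ) = 0 := by
    rw [depth_eq_zero_iff_forall_not_isSMulRegular _ _ hM]
    intro a ha hreg
    have := hreg (show a • ζb = a • 0 by rw [hζm a ha, smul_zero])
    exact hζne this
  rw [h0] at hdepth
  exact absurd hdepth (by norm_num)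

end Local

end Groth.Agent.Lib.Helper29.BE
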