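import Groth.Agent.Lib.Helper29.BE2

/-!
# Buchsbaum–Eisenbud, part 3: globalization

A complex of finite free modules over a Noetherian ring with the expected ranks and with
`depth R_p ≥ k + 1` at all primes containing the minors of size `r (k+1)` of `A k` is exact.
-/

set_option autoImplicit false
set_option linter.unusedSectionVars false
universe u

namespace Groth.Agent.Lib.Helper29.BE

open IsLocalRing

section Loc

variable {R : Type u} [CommRing R] (M : Submonoid R) (T : Type u) [CommRing T] [Algebra R T]
  [IsLocalization M T] {a b c : ℕ} (A : Matrix (Fin a) (Fin b) R) (B : Matrix (Fin b) (Fin c) R)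

theorem map_mulVec_comp (w : Fin b → R) :
    (A.map (algebraMap R T)).mulVec (algebraMap R T ∘ w) = algebraMap R T ∘ (A.mulVec w) := by
  ext i
  exact (RingHom.map_mulVec (algebraMap R T) A w i).symm

theorem map_mul_map_eq_zero (hAB : A * B = 0) :
    A.map (algebraMap R T) * B.map (algebraMap R T) = 0 := by
  rw [← Matrix.map_mul, hAB]
  ext i j
  simp

include M in
/-- If the homology is killed by an element of `M`, the localized complex is exact. -/
theorem exact_of_colon (hAB : A * B = 0) (t : R) (ht : t ∈ M)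
    (hcol : ∀ w ∈ LinearMap.ker A.mulVecLin, t • w ∈ LinearMap.range B.mulVecLin) :
    LinearMap.ker (A.map (algebraMap R T)).mulVecLin =
      LinearMap.range (B.map (algebraMap R T)).mulVecLin := by
  apply le_antisymm
  · intro z hz
    have hz' : (A.map (algebraMap R T)).mulVec z = 0 := hz
    obtain ⟨s, hs, w, hw⟩ := HilbertBurch.exists_clear_denominators M T z
    have hw' : algebraMap R T ∘ w = algebraMap R T s • z := by
      ext j
      rw [Function.comp_apply, hw j, Pi.smul_apply, smul_eq_mul]
    have h1 : ∀ i, algebraMap R T (A.mulVec w i) = 0 := by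
      intro i
      rw [RingHom.map_mulVec, hw', Matrix.mulVec_smul, hz', smul_zero]
      rfl
    obtain ⟨t', ht', htz⟩ := HilbertBurch.exists_mul_eq_zero M T (A.mulVec w) h1
    have h2 : t' • w ∈ LinearMap.ker A.mulVecLin := by
      rw [LinearMap.mem_ker, Matrix.mulVecLin_apply, Matrix.mulVec_smul]
      ext i
      rw [Pi.smul_apply, smul_eq_mul, htz i]
      rfl
    obtain ⟨y, hy⟩ := hcol _ h2
    have hy' : B.mulVec y = t • t' • w := hy
    have hu : IsUnit (algebraMap R T (t * t' * s)) :=
      IsLocalization.map_units T ⟨t * t' * s, M.mul_mem (M.mul_mem ht ht') hs⟩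
    obtain ⟨d, hd⟩ := hu.exists_left_inv
    refine ⟨d • (algebraMap R T ∘ y), ?_⟩
    rw [Matrix.mulVecLin_apply, Matrix.mulVec_smul, map_mulVec_comp, hy']
    ext j
    simp only [Pi.smul_apply, Function.comp_apply, smul_eq_mul, map_mul]
    rw [hw j]
    calc d * (algebraMap R T t * (algebraMap R T t' * (algebraMap R T s * z j)))
        = (d * algebraMap R T (t * t' * s)) * z j := by
          simp only [map_mul]
          ring
      _ = z j := by rw [hd, one_mul]
  · rintro _ ⟨y, rfl⟩
    rw [LinearMap.mem_ker, Matrix.mulVecLin_apply, Matrix.mulVecLin_apply, Matrix.mulVec_mulVec,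
      map_mul_map_eq_zero T A B hAB, Matrix.zero_mulVec]

end Loc

section Socle

variable {R : Type u} [CommRing R] {a b c : ℕ} (A : Matrix (Fin a) (Fin b) R)
  (B : Matrix (Fin b) (Fin c) R)

/-- An element of the cycles whose class has annihilator `p` gives a socle element of the
homology of the complex localized at `p`. -/
theorem socle_of_colon (p : Ideal R) [p.IsPrime] (w : Fin b → R)
    (hw : w ∈ LinearMap.ker A.mulVecLin)
    (hcol : ∀ x : R, x • w ∈ LinearMap.range B.mulVecLin ↔ x ∈ p) :
    (algebraMap R (Localization.AtPrime p) ∘ w) ∈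
        LinearMap.ker (A.map (algebraMap R (Localization.AtPrime p))).mulVecLin ∧
      (algebraMap R (Localization.AtPrime p) ∘ w) ∉
        LinearMap.range (B.map (algebraMap R (Localization.AtPrime p))).mulVecLin ∧
      ∀ x ∈ maximalIdeal (Localization.AtPrime p),
        x • (algebraMap R (Localization.AtPrime p) ∘ w) ∈
          LinearMap.range (B.map (algebraMap R (Localization.AtPrime p))).mulVecLin := by
  set T := Localization.AtPrime p with hT
  refine ⟨?_, ?_, ?_⟩
  · rw [LinearMap.mem_ker, Matrix.mulVecLin_apply, map_mulVec_comp]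
    have : A.mulVec w = 0 := hw
    rw [this]
    ext i
    simp
  · rintro ⟨y, hy⟩
    have hy' : (B.map (algebraMap R T)).mulVec y = algebraMap R T ∘ w := hy
    obtain ⟨s, hs, y', hy''⟩ := HilbertBurch.exists_clear_denominators p.primeCompl T y
    have hyc : algebraMap R T ∘ y' = algebraMap R T s • y := by
      ext j
      rw [Function.comp_apply, hy'' j, Pi.smul_apply, smul_eq_mul]
    have h1 : ∀ i, algebraMap R T ((s • w - B.mulVec y') i) = 0 := by
      intro i
      have h2 : algebraMap R T (B.mulVec y' i) = algebraMap R T s * algebraMap R T (w i) := by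
        rw [RingHom.map_mulVec, hyc, Matrix.mulVec_smul, hy']
        rfl
      rw [Pi.sub_apply, map_sub, h2, Pi.smul_apply, smul_eq_mul, map_mul, sub_self]
    obtain ⟨t, ht, htz⟩ := HilbertBurch.exists_mul_eq_zero p.primeCompl T _ h1
    have h3 : (t * s) • w ∈ LinearMap.range B.mulVecLin := by
      refine ⟨t • y', ?_⟩
      rw [Matrix.mulVecLin_apply, Matrix.mulVec_smul]
      ext i
      have := htz i
      rw [Pi.sub_apply, mul_sub, sub_eq_zero] at this
      rw [Pi.smul_apply, Pi.smul_apply, smul_eq_mul, smul_eq_mul, ← this, Pi.smul_apply,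
        smul_eq_mul, mul_assoc]
    have h4 := (hcol _).mp h3
    rcases ‹p.IsPrime›.mem_or_mem h4 with h | h
    · exact ht h
    · exact hs h
  · intro x hx
    obtain ⟨⟨x', s⟩, hxs⟩ := IsLocalization.surj p.primeCompl x
    have hxs' : x * algebraMap R T (s : R) = algebraMap R T x' := hxs
    have hx'm : algebraMap R T x' ∈ maximalIdeal T := by
      rw [← hxs']
      exact Ideal.mul_mem_right _ _ hx
    have hx'p : x' ∈ p := (IsLocalization.AtPrime.to_map_mem_maximal_iff T p x').mp hx'm
    obtain ⟨y, hy⟩ := (hcol x').mpr hx'p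
    have hy' : B.mulVec y = x' • w := hy
    have hu : IsUnit (algebraMap R T (s : R)) := IsLocalization.map_units T s
    obtain ⟨d, hd⟩ := hu.exists_left_inv
    refine ⟨d • (algebraMap R T ∘ y), ?_⟩
    rw [Matrix.mulVecLin_apply, Matrix.mulVec_smul, map_mulVec_comp, hy']
    ext j
    simp only [Pi.smul_apply, Function.comp_apply, smul_eq_mul, map_mul]
    rw [← hxs']
    calc d * (x * algebraMap R T (s : R) * algebraMap R T (w j))
        = (d * algebraMap R T (s : R)) * (x * algebraMap R T (w j)) := by ring
      _ = x * algebraMap R T (w j) := by rw [hd, one_mul]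

end Socle

section Global

variable {R : Type u} [CommRing R] [IsNoetherianRing R]
  (n : ℕ → ℕ) (A : ∀ i, Matrix (Fin (n i)) (Fin (n (i + 1))) R) (e : ℕ)
  (hA : ∀ i, A i * A (i + 1) = 0) (hAe : ∀ i, e ≤ i → A i = 0)
  (r : ℕ → ℕ) (hre : r e = n e) (hr : ∀ k, k < e → r k + r (k + 1) = n k)
  (hgrade : ∀ k, k < e → ∀ (p : Ideal R) [p.IsPrime],
    (∀ (f : Fin (r (k + 1)) → Fin (n k)) (g : Fin (r (k + 1)) → Fin (n (k + 1))),
      ((A k).submatrix f g).det ∈ p) →
    ((k + 1 : ℕ) : ℕ∞) ≤ LocCoh.depth (Localization.AtPrime p) (Localization.AtPrime p))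

/-- The annihilator of the homology at `i + 1`. -/
def J (i : ℕ) : Ideal R :=
  (LinearMap.range (A (i + 1)).mulVecLin).colon (LinearMap.ker (A i).mulVecLin : Set _)

include hA in
theorem range_le_ker (i : ℕ) :
    LinearMap.range (A (i + 1)).mulVecLin ≤ LinearMap.ker (A i).mulVecLin := by
  rintro _ ⟨x, rfl⟩
  rw [LinearMap.mem_ker, Matrix.mulVecLin_apply, Matrix.mulVecLin_apply, Matrix.mulVec_mulVec,
    hA i, Matrix.zero_mulVec]

include hA in
theorem exact_of_J_eq_top (i : ℕ) (h : J n A i = ⊤) :
    LinearMap.ker (A i).mulVecLin = LinearMap.range (A (i + 1)).mulVecLin := by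
  apply le_antisymm _ (range_le_ker n A hA i)
  intro w hw
  have h1 : (1 : R) ∈ J n A i := by rw [h]; trivial
  have h2 := Submodule.mem_colon.mp h1 w hw
  rwa [one_smul] at h2

theorem exists_witness (i : ℕ) (p : Ideal R) (hp : p ∈ (J n A i).minimalPrimes) :
    ∃ w ∈ LinearMap.ker (A i).mulVecLin,
      ∀ x : R, x • w ∈ LinearMap.range (A (i + 1)).mulVecLin ↔ x ∈ p := by
  let H : Submodule R (Coker (A (i + 1))) :=
    (LinearMap.ker (A i).mulVecLin).map (LinearMap.range (A (i + 1)).mulVecLin).mkQ
  have hann : Module.annihilator R H = J n A i := by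
    ext x
    rw [Module.mem_annihilator, J, Submodule.mem_colon]
    constructor
    · intro h w hw
      have h1 := h ⟨(LinearMap.range (A (i + 1)).mulVecLin).mkQ w, ⟨w, hw, rfl⟩⟩
      have h2 : x • (LinearMap.range (A (i + 1)).mulVecLin).mkQ w = 0 := congrArg Subtype.val h1
      rwa [← map_smul, Submodule.mkQ_apply, Submodule.Quotient.mk_eq_zero] at h2
    · rintro h ⟨_, w, hw, rfl⟩
      apply Subtype.ext
      show x • (LinearMap.range (A (i + 1)).mulVecLin).mkQ w = 0
      rw [← map_smul, Submodule.mkQ_apply, Submodule.Quotient.mk_eq_zero]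
      exact h w hw
  have hass : p ∈ associatedPrimes R H := by
    apply Module.associatedPrimes.minimalPrimes_annihilator_subset_associatedPrimes R H
    rw [hann]
    exact hp
  obtain ⟨-, ⟨_, w, hw, rfl⟩, hx⟩ := (isAssociatedPrime_iff).mp hass
  refine ⟨w, hw, fun x => ?_⟩
  rw [hx, Submodule.mem_colon_singleton, Submodule.mem_bot]
  constructor
  · intro h
    apply Subtype.ext
    show x • (LinearMap.range (A (i + 1)).mulVecLin).mkQ w = 0
    rw [← map_smul, Submodule.mkQ_apply, Submodule.Quotient.mk_eq_zero]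
    exact h
  · intro h
    have h2 : x • (LinearMap.range (A (i + 1)).mulVecLin).mkQ w = 0 := congrArg Subtype.val h
    rwa [← map_smul, Submodule.mkQ_apply, Submodule.Quotient.mk_eq_zero] at h2

include hA hAe hre hr hgrade in
/-- **Buchsbaum–Eisenbud, sufficiency.** -/
theorem exact_global :
    ∀ i, i < e → LinearMap.ker (A i).mulVecLin = LinearMap.range (A (i + 1)).mulVecLin := by
  by_contra hcon
  push Not at hcon
  obtain ⟨i₀, hi₀, hne⟩ := hcon
  have hJi₀ : J n A i₀ ≠ ⊤ := fun h => hne (exact_of_J_eq_top n A hA i₀ h)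
  have hJJle : (Finset.range e).inf (J n A) ≤ J n A i₀ := Finset.inf_le (Finset.mem_range.mpr hi₀)
  have hJJne : (Finset.range e).inf (J n A) ≠ ⊤ := fun h => hJi₀ (top_le_iff.mp (h ▸ hJJle))
  obtain ⟨m, hm, hJm⟩ := Ideal.exists_le_maximal _ hJJne
  have hmp : m.IsPrime := hm.isPrime
  obtain ⟨p, hp, hpm⟩ := Ideal.exists_minimalPrimes_le hJm
  have hpp : p.IsPrime := hp.1.1
  have hex := exact_local n (fun i => (A i).map (algebraMap R (Localization.AtPrime p))) e
  obtain ⟨d, hd⟩ := ENat.ne_top_iff_exists.1
    (DepthLib.depth_ne_top (Localization.AtPrime p) (Localization.AtPrime p))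
  have hunit : ∀ k, min d e ≤ k → k < e →
      ∃ (f : Fin (r (k + 1)) → Fin (n k)) (g : Fin (r (k + 1)) → Fin (n (k + 1))),
        IsUnit ((((A k).map (algebraMap R (Localization.AtPrime p))).submatrix f g).det) := by
    intro k hk hke
    have hdk : d ≤ k := by omega
    by_contra hcon
    push Not at hcon
    have hall : ∀ (f : Fin (r (k + 1)) → Fin (n k)) (g : Fin (r (k + 1)) → Fin (n (k + 1))),
        ((A k).submatrix f g).det ∈ p := by
      intro f g
      by_contra hnot
      apply hcon f g
      have h1 : (((A k).map (algebraMap R (Localization.AtPrime p))).submatrix f g).det =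
          algebraMap R (Localization.AtPrime p) (((A k).submatrix f g).det) := by
        rw [RingHom.map_det]
        rfl
      rw [h1]
      exact IsLocalization.map_units (Localization.AtPrime p) (⟨_, hnot⟩ : p.primeCompl)
    have h2 := hgrade k hke p hall
    rw [← hd] at h2
    have h3 : k + 1 ≤ d := by exact_mod_cast h2
    omega
  have hloc : ∀ i, i < e →
      (¬ J n A i ≤ p →
        LinearMap.ker ((A i).map (algebraMap R (Localization.AtPrime p))).mulVecLin =
          LinearMap.range ((A (i + 1)).map (algebraMap R (Localization.AtPrime p))).mulVecLin) ∧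
      (J n A i ≤ p →
        ∃ z ∈ LinearMap.ker ((A i).map (algebraMap R (Localization.AtPrime p))).mulVecLin,
          z ∉ LinearMap.range
            ((A (i + 1)).map (algebraMap R (Localization.AtPrime p))).mulVecLin ∧
          ∀ a ∈ maximalIdeal (Localization.AtPrime p), a • z ∈ LinearMap.range
            ((A (i + 1)).map (algebraMap R (Localization.AtPrime p))).mulVecLin) := by
    intro i hi
    constructor
    · intro hnle
      obtain ⟨t, htJ, htp⟩ := SetLike.not_le_iff_exists.mp hnle
      exact exact_of_colon p.primeCompl (Localization.AtPrime p) (A i) (A (i + 1)) (hA i) t htp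
        (fun w hw => Submodule.mem_colon.mp htJ w hw)
    · intro hle
      have hpi : p ∈ (J n A i).minimalPrimes := by
        refine ⟨⟨hpp, hle⟩, fun q hq hqp => ?_⟩
        exact hp.2 ⟨hq.1, le_trans (Finset.inf_le (Finset.mem_range.mpr hi)) hq.2⟩ hqp
      obtain ⟨w, hw, hcol⟩ := exists_witness n A i p hpi
      obtain ⟨h1, h2, h3⟩ := socle_of_colon (A i) (A (i + 1)) p w hw hcol
      exact ⟨_, h1, h2, h3⟩
  have hex' := hex (min d e) (fun i => map_mul_map_eq_zero _ _ _ (hA i))
    (fun i hi => by rw [hAe i hi]; ext; simp) r hre hr hunit (min_le_right _ _)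
    (by rw [← hd]; exact_mod_cast min_le_left d e)
    (fun i hi => by
      by_cases hle : J n A i ≤ p
      · exact Or.inr ((hloc i hi).2 hle)
      · exact Or.inl ((hloc i hi).1 hle))
  obtain ⟨i, hi, hle⟩ := (hpp.inf_le').mp hp.1.2
  obtain ⟨z, hz1, hz2, -⟩ := (hloc i (Finset.mem_range.mp hi)).2 hle
  rw [hex' i (Finset.mem_range.mp hi)] at hz1
  exact hz2 hz1

end Global

end Groth.Agent.Lib.Helper29.BE
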