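import Groth.Agent.Lib.Helper29.BE3
import Groth.Agent.Lib.Helper49.Serre2
import Groth.Prelude.Def_CAlgX

/-!
# Buchsbaum–Eisenbud, part 4: sufficiency in the vocabulary of the prelude
-/

set_option autoImplicit false
set_option linter.unusedSectionVars false
universe u

namespace Groth.Agent.Lib.Helper29.BE

open IsLocalRing CAlgX

section Rank

variable {R : Type u} [CommRing R]

theorem minorIdeal_eq_bot_of_rows_lt {a b : ℕ} (M : Matrix (Fin a) (Fin b) R) (r : ℕ) (h : a < r) :
    minorIdeal M r = ⊥ := by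
  unfold minorIdeal
  rw [Ideal.span_eq_bot]
  rintro _ ⟨⟨f, g⟩, rfl⟩
  have hninj : ¬ Function.Injective f := by
    intro hinj
    have := Fintype.card_le_of_injective f hinj
    simp only [Fintype.card_fin] at this
    omega
  rw [Function.Injective] at hninj
  push Not at hninj
  obtain ⟨i, j, hij, hne⟩ := hninj
  exact Matrix.det_zero_of_row_eq hne (by
    ext k
    simp only [Matrix.submatrix_apply, hij])

theorem minorIdeal_zero_ne_bot [Nontrivial R] {a b : ℕ} (M : Matrix (Fin a) (Fin b) R) :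
    minorIdeal M 0 ≠ ⊥ := by
  unfold minorIdeal
  intro h
  rw [Ideal.span_eq_bot] at h
  have := h _ ⟨(Fin.elim0, Fin.elim0), rfl⟩
  simp only [Matrix.det_isEmpty] at this
  exact one_ne_zero this

theorem matrixRank_le_rows [Nontrivial R] {a b : ℕ} (M : Matrix (Fin a) (Fin b) R) :
    matrixRank M ≤ a := by
  unfold matrixRank
  apply csSup_le ⟨0, minorIdeal_zero_ne_bot M⟩
  intro r hr
  by_contra hlt
  exact hr (minorIdeal_eq_bot_of_rows_lt M r (not_le.1 hlt))

end Rank

section Main

variable {R : Type u} [CommRing R] [IsNoetherianRing R]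

/-- **Buchsbaum–Eisenbud: sufficiency of the rank and depth conditions.** -/
theorem sufficiency
    (e : ℕ) (he : 1 ≤ e) (n : ℕ → ℕ) (A : (i : ℕ) → Matrix (Fin (n i)) (Fin (n (i + 1))) R)
    (hA : ∀ i, i + 2 ≤ e → A i * A (i + 1) = 0)
    (hrank : ∀ j, 1 ≤ j → j ≤ e →
      (matrixRank (A (j - 1)) : ℤ) = ∑ t ∈ Finset.Icc j e, (-1 : ℤ) ^ (t - j) * (n t : ℤ))
    (hdet : ∀ j, 1 ≤ j → j ≤ e →
      detIdeal (A (j - 1)) = ⊤ ∨
        ∃ rs : List R, rs.length = j ∧ (∀ r ∈ rs, r ∈ detIdeal (A (j - 1))) ∧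
          RingTheory.Sequence.IsRegular R rs) :
    LinearMap.ker (A (e - 1)).mulVecLin = ⊥ ∧
      ∀ i, i + 2 ≤ e → LinearMap.ker (A i).mulVecLin = LinearMap.range (A (i + 1)).mulVecLin := by
  rcases subsingleton_or_nontrivial R with hsub | hnt
  · have : ∀ k, Subsingleton (Fin k → R) := fun k => inferInstance
    exact ⟨Subsingleton.elim _ _, fun i _ => Subsingleton.elim _ _⟩
  -- the cleaned complex
  let A' : (i : ℕ) → Matrix (Fin (n i)) (Fin (n (i + 1))) R := fun i => if i < e then A i else 0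
  have hA'lt : ∀ i, i < e → A' i = A i := fun i hi => if_pos hi
  have hA'ge : ∀ i, e ≤ i → A' i = 0 := fun i hi => if_neg (not_lt.mpr hi)
  have hA' : ∀ i, A' i * A' (i + 1) = 0 := by
    intro i
    by_cases hi : i + 2 ≤ e
    · rw [hA'lt i (by omega), hA'lt (i + 1) (by omega)]
      exact hA i hi
    · rw [hA'ge (i + 1) (by omega), Matrix.mul_zero]
  -- the ranks
  let ρ : ℕ → ℕ := fun k => matrixRank (A (k - 1))
  let r : ℕ → ℕ := fun k => if k = 0 then n 0 - ρ 1 else ρ k
  have hr0 : r 0 = n 0 - ρ 1 := if_pos rfl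
  have hrpos : ∀ k, k ≠ 0 → r k = ρ k := fun k hk => if_neg hk
  have hρe : ρ e = n e := by
    have h1 := hrank e he le_rfl
    rw [Finset.Icc_self, Finset.sum_singleton, Nat.sub_self, pow_zero, one_mul] at h1
    exact_mod_cast h1
  have hρ : ∀ k, 1 ≤ k → k < e → ρ k + ρ (k + 1) = n k := by
    intro k hk1 hke
    have h1 := hrank k hk1 hke.le
    have h2 := hrank (k + 1) (by omega) (by omega)
    rw [← Finset.insert_Icc_add_one_left_eq_Icc hke.le, Finset.sum_insert (by simp), Nat.sub_self,
      pow_zero, one_mul] at h1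
    have h3 : ∑ t ∈ Finset.Icc (k + 1) e, (-1 : ℤ) ^ (t - k) * (n t : ℤ) =
        - ∑ t ∈ Finset.Icc (k + 1) e, (-1 : ℤ) ^ (t - (k + 1)) * (n t : ℤ) := by
      rw [← Finset.sum_neg_distrib]
      refine Finset.sum_congr rfl fun t ht => ?_
      rw [Finset.mem_Icc] at ht
      have : t - k = (t - (k + 1)) + 1 := by omega
      rw [this, pow_succ]
      ring
    rw [h3, ← h2] at h1
    have h4 : (ρ k : ℤ) = (n k : ℤ) + -(ρ (k + 1) : ℤ) := h1
    omega
  have hre : r e = n e := by
    rw [hrpos e (by omega)]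
    exact hρe
  have hr : ∀ k, k < e → r k + r (k + 1) = n k := by
    intro k hk
    rcases Nat.eq_zero_or_pos k with h0 | hpos
    · subst h0
      rw [hr0, hrpos 1 (by omega)]
      have : ρ 1 ≤ n 0 := matrixRank_le_rows (A 0)
      omega
    · rw [hrpos k (by omega), hrpos (k + 1) (by omega)]
      exact hρ k hpos hk
  have hgrade : ∀ k, k < e → ∀ (p : Ideal R) [p.IsPrime],
      (∀ (f : Fin (r (k + 1)) → Fin (n k)) (g : Fin (r (k + 1)) → Fin (n (k + 1))),
        ((A' k).submatrix f g).det ∈ p) →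
      ((k + 1 : ℕ) : ℕ∞) ≤ LocCoh.depth (Localization.AtPrime p) (Localization.AtPrime p) := by
    intro k hk p _ hall
    have hrk : r (k + 1) = matrixRank (A k) := by
      rw [hrpos (k + 1) (by omega)]
      rfl
    have hle : detIdeal (A k) ≤ p := by
      unfold detIdeal minorIdeal
      rw [Ideal.span_le]
      rintro _ ⟨⟨f, g⟩, rfl⟩
      have h1 := hall (f ∘ Fin.cast hrk) (g ∘ Fin.cast hrk)
      rw [hA'lt k hk] at h1
      have h2 : ((A k).submatrix (f ∘ Fin.cast hrk) (g ∘ Fin.cast hrk)).det =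
          ((A k).submatrix f g).det := by
        have h3 : (A k).submatrix (f ∘ Fin.cast hrk) (g ∘ Fin.cast hrk) =
            ((A k).submatrix f g).submatrix (finCongr hrk) (finCongr hrk) := by
          ext i j
          rfl
        rw [h3, Matrix.det_submatrix_equiv_self]
      rw [h2] at h1
      exact h1
    rcases hdet (k + 1) (by omega) (by omega) with htop | ⟨rs, hlen, hmem, hreg⟩
    · exfalso
      rw [Nat.add_sub_cancel] at htop
      rw [htop] at hle
      exact ‹p.IsPrime›.ne_top (top_le_iff.mp hle)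
    · rw [Nat.add_sub_cancel] at hmem
      have h1 := CMRing.length_le_depth_localizedModule R R (q := p) hreg.toIsWeaklyRegular
        (fun x hx => hle (hmem x hx))
      rw [hlen, Groth.Agent.Lib.Helper49.Serre.depth_localizedModule_self] at h1
      exact h1
  have hmain := exact_global n A' e hA' hA'ge r hre hr hgrade
  constructor
  · obtain ⟨e', rfl⟩ : ∃ e', e = e' + 1 := ⟨e - 1, by omega⟩
    have h1 := hmain e' (by omega)
    rw [hA'lt e' (by omega), hA'ge (e' + 1) le_rfl, Matrix.mulVecLin_zero,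
      LinearMap.range_zero] at h1
    exact h1
  · intro i hi
    have h1 := hmain i (by omega)
    rw [hA'lt i (by omega), hA'lt (i + 1) (by omega)] at h1
    exact h1

end Main

end Groth.Agent.Lib.Helper29.BE
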