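import Mathlib
import Groth.Prelude.Def_CAlgX
import Groth.Agent.Lib.Helper47.McCoy
import Groth.Agent.Lib.Helper15.HilbertBurch
import Groth.Agent.Lib.Helper29.CMRing
import Groth.Agent.Lib.Helper29.DepthZero
import Groth.Agent.Lib.Helper49.Serre2
import Groth.Agent.Lib.Helper93.ReflexiveDepth

/-!
# The Hilbert–Burch theorem, forward direction (helper29)

For an exact sequence `0 → R^m → R^n → R` over a Noetherian ring with nonzero image `I`:
`n = m + 1`, `depth I_m(Ψ) ≥ 2` and `I = a · I_m(Ψ)` for a non-zero-divisor `a`.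
-/

set_option autoImplicit false
universe u
open IsLocalRing Matrix

namespace Groth.Agent.Lib.Helper29.HilbertBurch

section Local

variable {T : Type u} [CommRing T] [IsLocalRing T] {n m : ℕ} (Ψ : Matrix (Fin n) (Fin m) T)

/-- If `𝔪 z ⊆ (x)`, `z ∉ (x)` and `Ψ` is "injective modulo `x`", then `Ψ` is injective modulo `𝔪`. -/
theorem coords_mem_maximalIdeal (x z : T)
    (hP : ∀ (v : Fin m → T) (w : Fin n → T), Ψ.mulVec v = x • w → ∃ u : Fin m → T, v = x • u)
    (hz : z ∉ Ideal.span {x}) (hmz : ∀ a ∈ maximalIdeal T, a * z ∈ Ideal.span {x})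
    (v : Fin m → T) (hv : ∀ i, Ψ.mulVec v i ∈ maximalIdeal T) : ∀ j, v j ∈ maximalIdeal T := by
  have h1 : ∀ i, ∃ w, z * Ψ.mulVec v i = x * w := fun i => by
    have := hmz _ (hv i)
    rw [Ideal.mem_span_singleton'] at this
    obtain ⟨w, hw⟩ := this
    exact ⟨w, by rw [mul_comm z, ← hw, mul_comm]⟩
  choose w hw using h1
  obtain ⟨u, hu⟩ := hP (z • v) w (by
    ext i
    rw [Matrix.mulVec_smul, Pi.smul_apply, Pi.smul_apply, smul_eq_mul, smul_eq_mul, hw i])
  intro j
  by_contra hj
  have hunit : IsUnit (v j) := by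
    by_contra hnu
    exact hj hnu
  apply hz
  have hj' := congrFun hu j
  rw [Pi.smul_apply, Pi.smul_apply, smul_eq_mul, smul_eq_mul] at hj'
  rw [Ideal.mem_span_singleton']
  obtain ⟨c, hc⟩ := hunit.exists_right_inv
  refine ⟨u j * c, ?_⟩
  calc u j * c * x = (x * u j) * c := by ring
    _ = (z * v j) * c := by rw [← hj']
    _ = z := by rw [mul_assoc, hc, mul_one]

open Groth.Agent.Lib.Helper47 in
/-- A matrix over a local ring which is injective modulo `𝔪` has a unit maximal minor. -/
theorem exists_isUnit_minor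
    (h : ∀ v : Fin m → T, (∀ i, Ψ.mulVec v i ∈ maximalIdeal T) → ∀ j, v j ∈ maximalIdeal T) :
    ∃ f : Fin m → Fin n, IsUnit (Ψ.submatrix f id).det := by
  classical
  have hinj : Function.Injective (Ψ.map (residue T)).mulVecLin := by
    rw [← LinearMap.ker_eq_bot, LinearMap.ker_eq_bot']
    intro v' hv'
    have hex : ∃ v : Fin m → T, (fun j => residue T (v j)) = v' :=
      ⟨fun j => (residue_surjective (v' j)).choose,
        funext fun j => (residue_surjective (v' j)).choose_spec⟩
    obtain ⟨v, rfl⟩ := hex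
    have hmem : ∀ i, Ψ.mulVec v i ∈ maximalIdeal T := by
      intro i
      rw [← residue_eq_zero_iff]
      have := congrFun hv' i
      simpa [Matrix.mulVec, dotProduct, map_sum, map_mul] using this
    ext j
    exact (residue_eq_zero_iff _).mpr (h v hmem j)
  have hann := (McCoy.injective_iff (Ψ.map (residue T))).mp hinj
  have hne : CAlgX.minorIdeal (Ψ.map (residue T)) m ≠ ⊥ := by
    intro h0
    rw [h0, Submodule.annihilator_bot] at hann
    exact top_ne_bot hann
  obtain ⟨fg, hfg⟩ : ∃ fg : (Fin m → Fin n) × (Fin m → Fin m),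
      ((Ψ.map (residue T)).submatrix fg.1 fg.2).det ≠ 0 := by
    by_contra hcon
    push Not at hcon
    apply hne
    rw [CAlgX.minorIdeal, Ideal.span_eq_bot]
    rintro _ ⟨fg, rfl⟩
    exact hcon fg
  have hg : Function.Injective fg.2 := by
    by_contra hg
    exact hfg (McCoy.minor_eq_zero_of_not_injective _ m fg.1 fg.2 hg)
  let σ : Equiv.Perm (Fin m) := Equiv.ofBijective fg.2 (Finite.injective_iff_bijective.mp hg)
  have hσ : ((Ψ.map (residue T)).submatrix fg.1 fg.2) =
      ((Ψ.map (residue T)).submatrix fg.1 id).submatrix id σ := by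
    ext i j
    rfl
  rw [hσ, Matrix.det_permute'] at hfg
  have hfg' : ((Ψ.map (residue T)).submatrix fg.1 id).det ≠ 0 := by
    intro h0
    rw [h0, mul_zero] at hfg
    exact hfg rfl
  have hdet : ((Ψ.map (residue T)).submatrix fg.1 id).det =
      residue T ((Ψ.submatrix fg.1 id).det) := by
    rw [RingHom.map_det]
    rfl
  rw [hdet] at hfg'
  refine ⟨fg.1, ?_⟩
  by_contra hnu
  exact hfg' ((residue_eq_zero_iff _).mpr hnu)

end Local

section LeftInverse

variable {T : Type u} [CommRing T] {n m : ℕ} (Ψ : Matrix (Fin n) (Fin m) T)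

/-- A matrix with a unit maximal minor has a linear left inverse. -/
theorem exists_leftInverse (f : Fin m → Fin n) (hf : IsUnit (Ψ.submatrix f id).det) :
    ∃ Φ : (Fin n → T) →ₗ[T] (Fin m → T), ∀ u, Φ (Ψ.mulVec u) = u := by
  refine ⟨((Ψ.submatrix f id)⁻¹).mulVecLin ∘ₗ LinearMap.funLeft T T f, fun u => ?_⟩
  have h1 : LinearMap.funLeft T T f (Ψ.mulVec u) = (Ψ.submatrix f id).mulVec u := by
    ext i
    simp [LinearMap.funLeft, Matrix.mulVec, dotProduct]
  rw [LinearMap.comp_apply, h1, Matrix.mulVecLin_apply, Matrix.mulVec_mulVec,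
    Matrix.nonsing_inv_mul _ hf, Matrix.one_mulVec]

/-- Rank count: an exact sequence `0 → T^m → T^n → T` with split injective first map and nonzero
second map has `n = m + 1`. -/
theorem eq_add_one_of_leftInverse [Nontrivial T] (c : Fin n → T)
    (Φ : (Fin n → T) →ₗ[T] (Fin m → T)) (hΦ : ∀ u, Φ (Ψ.mulVec u) = u)
    (hex : ∀ v : Fin n → T, ∑ i, v i * c i = 0 → ∃ w, Ψ.mulVec w = v)
    (hcx : ∀ w : Fin m → T, ∑ i, Ψ.mulVec w i * c i = 0) (hc : c ≠ 0) : n = m + 1 := by
  -- `n ≤ m + 1`
  let g : (Fin n → T) →ₗ[T] T × (Fin m → T) :=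
    LinearMap.prod (Fintype.linearCombination T c) Φ
  have hg : Function.Injective g := by
    rw [← LinearMap.ker_eq_bot, LinearMap.ker_eq_bot']
    intro v hv
    have h1 : ∑ i, v i * c i = 0 := by
      have := congrArg Prod.fst hv
      simpa [g, Fintype.linearCombination_apply] using this
    have h2 : Φ v = 0 := congrArg Prod.snd hv
    obtain ⟨w, rfl⟩ := hex v h1
    rw [hΦ] at h2
    rw [h2, Matrix.mulVec_zero]
  have h1 : n ≤ 1 + m := by
    have := LinearMap.finrank_le_finrank_of_injective hg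
    rwa [Module.finrank_fin_fun, Module.finrank_prod, Module.finrank_self,
      Module.finrank_fin_fun] at this
  -- `m ≤ n`
  have hΨinj : Function.Injective Ψ.mulVecLin := by
    intro u u' h
    have := congrArg Φ h
    rwa [Matrix.mulVecLin_apply, Matrix.mulVecLin_apply, hΦ, hΦ] at this
  have h2 : m ≤ n := by
    have := LinearMap.finrank_le_finrank_of_injective hΨinj
    rwa [Module.finrank_fin_fun, Module.finrank_fin_fun] at this
  -- `n ≠ m`
  by_contra hne
  have hnm : n = m := by omega
  subst hnm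
  apply hc
  have hmat : LinearMap.toMatrix' Φ * Ψ = 1 := by
    apply Matrix.toLin'.injective
    apply LinearMap.ext
    intro u
    rw [Matrix.toLin'_mul, LinearMap.comp_apply, Matrix.toLin'_toMatrix', Matrix.toLin'_apply,
      hΦ, Matrix.toLin'_one, LinearMap.id_apply]
  have hmat' : Ψ * LinearMap.toMatrix' Φ = 1 := mul_eq_one_comm.mp hmat
  funext k
  have := hcx ((LinearMap.toMatrix' Φ).mulVec (Pi.single k 1))
  rw [Matrix.mulVec_mulVec, hmat', Matrix.one_mulVec] at this
  simpa [Pi.single_apply] using this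

end LeftInverse

section Localization

variable {R : Type u} [CommRing R] (S : Submonoid R) (T : Type u) [CommRing T] [Algebra R T]
  [IsLocalization S T] {n m : ℕ}

/-- Clearing denominators in a vector. -/
theorem exists_clear_denominators {k : ℕ} (v : Fin k → T) :
    ∃ s ∈ S, ∃ v' : Fin k → R, ∀ j, algebraMap R T (v' j) = algebraMap R T s * v j := by
  obtain ⟨b, hb⟩ := IsLocalization.exist_integer_multiples_of_finite S v
  choose v' hv' using hb
  exact ⟨b, b.2, v', fun j => by rw [hv' j, Algebra.smul_def]⟩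

include T in
/-- A vector mapping to zero in the localization is killed by an element of `S`. -/
theorem exists_mul_eq_zero {k : ℕ} (u : Fin k → R) (h : ∀ i, algebraMap R T (u i) = 0) :
    ∃ t ∈ S, ∀ i, t * u i = 0 := by
  have h1 : ∀ i, ∃ t : S, (t : R) * u i = 0 := fun i =>
    (IsLocalization.map_eq_zero_iff S T (u i)).mp (h i)
  choose t ht using h1
  refine ⟨∏ i, (t i : R), Submonoid.prod_mem S fun i _ => (t i).2, fun i => ?_⟩
  obtain ⟨q, hq⟩ := Finset.dvd_prod_of_mem (fun i => (t i : R)) (Finset.mem_univ i)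
  rw [hq, mul_comm (t i : R) q, mul_assoc, ht i, mul_zero]

variable (Ψ : Matrix (Fin n) (Fin m) R) (c : Fin n → R)

include S in
/-- Injectivity of a matrix localizes. -/
theorem localization_injective (hΨ : ∀ w : Fin m → R, Ψ.mulVec w = 0 → w = 0)
    (w : Fin m → T) (hw : (Ψ.map (algebraMap R T)).mulVec w = 0) : w = 0 := by
  obtain ⟨s, hs, w', hw'⟩ := exists_clear_denominators S T w
  have hw'' : (algebraMap R T) ∘ w' = algebraMap R T s • w := by
    ext j
    rw [Function.comp_apply, hw' j, Pi.smul_apply, smul_eq_mul]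
  have h1 : ∀ i, algebraMap R T (Ψ.mulVec w' i) = 0 := by
    intro i
    rw [RingHom.map_mulVec, hw'', Matrix.mulVec_smul, hw, smul_zero]
    rfl
  obtain ⟨t, ht, htz⟩ := exists_mul_eq_zero S T (Ψ.mulVec w') h1
  have h2 : t • w' = 0 := by
    apply hΨ
    rw [Matrix.mulVec_smul]
    ext i
    rw [Pi.smul_apply, smul_eq_mul, htz i]
    rfl
  ext j
  have h3 : algebraMap R T (t * s) * w j = 0 := by
    have := congrFun h2 j
    rw [Pi.smul_apply, smul_eq_mul, Pi.zero_apply] at this
    rw [map_mul, mul_assoc, ← hw' j, ← map_mul, this, map_zero]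
  have hu : IsUnit (algebraMap R T (t * s)) :=
    IsLocalization.map_units T ⟨t * s, S.mul_mem ht hs⟩
  exact (hu.mul_right_eq_zero).mp h3

include S in
/-- Exactness in the middle localizes. -/
theorem localization_exact (hex : ∀ v : Fin n → R, ∑ i, v i * c i = 0 → ∃ w, Ψ.mulVec w = v)
    (v : Fin n → T) (hv : ∑ i, v i * algebraMap R T (c i) = 0) :
    ∃ w, (Ψ.map (algebraMap R T)).mulVec w = v := by
  obtain ⟨s, hs, v', hv'⟩ := exists_clear_denominators S T v
  have h1 : algebraMap R T (∑ i, v' i * c i) = 0 := by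
    rw [map_sum]
    simp only [map_mul, hv', mul_assoc]
    rw [← Finset.mul_sum, hv, mul_zero]
  obtain ⟨t, htz⟩ := (IsLocalization.map_eq_zero_iff S T _).mp h1
  obtain ⟨w', hw'⟩ := hex ((t : R) • v') (by
    simp only [Pi.smul_apply, smul_eq_mul, mul_assoc]
    rw [← Finset.mul_sum, htz])
  have hu : IsUnit (algebraMap R T (t * s)) :=
    IsLocalization.map_units T ⟨t * s, S.mul_mem t.2 hs⟩
  obtain ⟨d, hd⟩ := hu.exists_left_inv
  refine ⟨d • ((algebraMap R T) ∘ w'), ?_⟩
  ext i
  rw [Matrix.mulVec_smul, Pi.smul_apply, smul_eq_mul, ← RingHom.map_mulVec, hw', Pi.smul_apply,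
    smul_eq_mul, map_mul, hv' i, ← mul_assoc, ← mul_assoc, mul_assoc d, ← map_mul, hd, one_mul]

/-- The complex condition localizes. -/
theorem localization_complex (hcx : ∀ w : Fin m → R, ∑ i, Ψ.mulVec w i * c i = 0)
    (w : Fin m → T) : ∑ i, (Ψ.map (algebraMap R T)).mulVec w i * algebraMap R T (c i) = 0 := by
  have h1 : ∀ j, ∑ i, Ψ i j * c i = 0 := by
    intro j
    have := hcx (Pi.single j 1)
    simpa [Matrix.mulVec_single] using this
  have h2 : ∀ i, (Ψ.map (algebraMap R T)).mulVec w i * algebraMap R T (c i) =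
      ∑ j, w j * (algebraMap R T (Ψ i j) * algebraMap R T (c i)) := by
    intro i
    simp only [Matrix.mulVec, dotProduct, Matrix.map_apply, Finset.sum_mul]
    refine Finset.sum_congr rfl fun j _ => ?_
    ring
  simp only [h2]
  rw [Finset.sum_comm]
  refine Finset.sum_eq_zero fun j _ => ?_
  rw [← Finset.mul_sum]
  simp only [← map_mul, ← map_sum, h1 j, map_zero, mul_zero]

end Localization

section Socle

open Groth.Agent.Lib.Helper29 Pointwise

/-- In a Noetherian local ring of depth `< 2` there are `x` (zero or regular) and `z ∉ (x)` with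
`𝔪 z ⊆ (x)`. -/
theorem exists_socle_element (T : Type u) [CommRing T] [IsLocalRing T] [IsNoetherianRing T]
    (h : LocCoh.depth T T < 2) :
    ∃ x z : T, (x = 0 ∨ IsSMulRegular T x) ∧ z ∉ Ideal.span {x} ∧
      ∀ a ∈ maximalIdeal T, a * z ∈ Ideal.span {x} := by
  by_cases h0 : LocCoh.depth T T = 0
  · have hass := (depth_eq_zero_iff_maximalIdeal_mem_ass T T).mp h0
    obtain ⟨-, z, hz⟩ := (isAssociatedPrime_iff).mp hass
    refine ⟨0, z, Or.inl rfl, ?_, ?_⟩
    · intro hz0
      rw [Ideal.mem_span_singleton'] at hz0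
      obtain ⟨a, ha⟩ := hz0
      rw [mul_zero] at ha
      have h1 : (1 : T) ∈ maximalIdeal T := by
        rw [hz, Submodule.mem_colon_singleton, ← ha, smul_zero]
        exact Submodule.zero_mem _
      exact (maximalIdeal.isMaximal T).ne_top ((Ideal.eq_top_iff_one _).mpr h1)
    · intro a ha
      rw [hz, Submodule.mem_colon_singleton, Submodule.mem_bot, smul_eq_mul] at ha
      rw [ha]
      exact Ideal.zero_mem _
  · have hM := maximalIdeal_smul_top_ne_top T T
    have hex : ∃ x ∈ maximalIdeal T, IsSMulRegular T x := by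
      by_contra hcon
      push Not at hcon
      exact h0 ((depth_eq_zero_iff_forall_not_isSMulRegular T T hM).mpr hcon)
    obtain ⟨x, hxm, hxreg⟩ := hex
    have hadd := DepthLib.depth_quotSMulTop_add_one T T hxm hxreg
    have h1 : LocCoh.depth T (QuotSMulTop x T) = 0 := by
      rw [← hadd] at h
      have h2 : LocCoh.depth T (QuotSMulTop x T) + 1 < 1 + 1 := h
      have h3 : LocCoh.depth T (QuotSMulTop x T) < 1 :=
        (ENat.add_lt_add_iff_right ENat.one_ne_top).mp h2
      exact Order.lt_one_iff.mp h3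
    have hass := (depth_eq_zero_iff_maximalIdeal_mem_ass T (QuotSMulTop x T)).mp h1
    obtain ⟨-, zbar, hz⟩ := (isAssociatedPrime_iff).mp hass
    obtain ⟨z, rfl⟩ := Submodule.Quotient.mk_surjective _ zbar
    have hiff : ∀ y : T, y ∈ x • (⊤ : Submodule T T) ↔ y ∈ Ideal.span {x} := by
      intro y
      rw [Submodule.mem_smul_pointwise_iff_exists, Ideal.mem_span_singleton']
      constructor
      · rintro ⟨t, -, ht⟩
        exact ⟨t, by rw [← ht, smul_eq_mul, mul_comm]⟩
      · rintro ⟨t, ht⟩
        exact ⟨t, Submodule.mem_top, by rw [← ht, smul_eq_mul, mul_comm]⟩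
    refine ⟨x, z, Or.inr hxreg, ?_, ?_⟩
    · intro hzx
      have hz0 : (Submodule.Quotient.mk z : QuotSMulTop x T) = 0 :=
        (Submodule.Quotient.mk_eq_zero _).mpr ((hiff z).mpr hzx)
      have h1 : (1 : T) ∈ maximalIdeal T := by
        rw [hz, Submodule.mem_colon_singleton, hz0, smul_zero]
        exact Submodule.zero_mem _
      exact (maximalIdeal.isMaximal T).ne_top ((Ideal.eq_top_iff_one _).mpr h1)
    · intro a ha
      rw [hz, Submodule.mem_colon_singleton, Submodule.mem_bot, ← Submodule.Quotient.mk_smul,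
        Submodule.Quotient.mk_eq_zero] at ha
      exact (hiff _).mp ha

end Socle

section Main

open Groth.Agent.Lib.Helper29 Groth.Agent.Lib.Helper47

variable {R : Type u} [CommRing R] [IsNoetherianRing R] {n m : ℕ} (Ψ : Matrix (Fin n) (Fin m) R)
  (c : Fin n → R)
  (hΨ : ∀ w : Fin m → R, Ψ.mulVec w = 0 → w = 0)
  (hex : ∀ v : Fin n → R, ∑ i, v i * c i = 0 → ∃ w, Ψ.mulVec w = v)
  (hcx : ∀ w : Fin m → R, ∑ i, Ψ.mulVec w i * c i = 0)

omit [IsNoetherianRing R] in
include hΨ hex hcx in
/-- At a prime `P` with `depth R_P < 2` (witnessed by `x`, `z`), some maximal minor of `Ψ` lies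
outside `P`, and `Ψ` becomes split injective over `R_P`. -/
theorem exists_minor_notMem (P : Ideal R) [P.IsPrime] (x z : Localization.AtPrime P)
    (hx : x = 0 ∨ IsSMulRegular (Localization.AtPrime P) x) (hz : z ∉ Ideal.span {x})
    (hmz : ∀ a ∈ maximalIdeal (Localization.AtPrime P), a * z ∈ Ideal.span {x}) :
    ∃ f : Fin m → Fin n, (Ψ.submatrix f id).det ∉ P ∧
      ∃ Φ : (Fin n → Localization.AtPrime P) →ₗ[Localization.AtPrime P]
          (Fin m → Localization.AtPrime P),
        ∀ u, Φ ((Ψ.map (algebraMap R (Localization.AtPrime P))).mulVec u) = u := by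
  have hP' : ∀ (v : Fin m → Localization.AtPrime P) (w : Fin n → Localization.AtPrime P),
      (Ψ.map (algebraMap R (Localization.AtPrime P))).mulVec v = x • w →
        ∃ u : Fin m → Localization.AtPrime P, v = x • u := by
    rcases hx with rfl | hxreg
    · intro v w hvw
      rw [zero_smul] at hvw
      have := localization_injective P.primeCompl (Localization.AtPrime P) Ψ hΨ v hvw
      exact ⟨0, by rw [this, smul_zero]⟩
    · intro v w hvw
      have h1 := localization_complex (Localization.AtPrime P) Ψ c hcx v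
      rw [hvw] at h1
      have h2 : x • ∑ i, w i * algebraMap R (Localization.AtPrime P) (c i) = x • 0 := by
        rw [smul_zero, ← h1, Finset.smul_sum]
        refine Finset.sum_congr rfl fun i _ => ?_
        rw [Pi.smul_apply, smul_eq_mul, smul_eq_mul, mul_assoc]
      have h3 := hxreg h2
      obtain ⟨u, hu⟩ := localization_exact P.primeCompl (Localization.AtPrime P) Ψ c hex w h3
      have h4 : (Ψ.map (algebraMap R (Localization.AtPrime P))).mulVec (v - x • u) = 0 := by
        rw [Matrix.mulVec_sub, Matrix.mulVec_smul, hu, hvw, sub_self]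
      have := localization_injective P.primeCompl (Localization.AtPrime P) Ψ hΨ _ h4
      exact ⟨u, sub_eq_zero.mp this⟩
  have hcoord := coords_mem_maximalIdeal (Ψ.map (algebraMap R (Localization.AtPrime P))) x z
    hP' hz hmz
  obtain ⟨f, hf⟩ := exists_isUnit_minor (Ψ.map (algebraMap R (Localization.AtPrime P))) hcoord
  refine ⟨f, ?_, exists_leftInverse _ f hf⟩
  have hdet : ((Ψ.map (algebraMap R (Localization.AtPrime P))).submatrix f id).det =
      algebraMap R (Localization.AtPrime P) ((Ψ.submatrix f id).det) := by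
    rw [RingHom.map_det]
    rfl
  rw [hdet] at hf
  exact (IsLocalization.AtPrime.isUnit_to_map_iff (Localization.AtPrime P) P _).mp hf

include hΨ hex hcx in
/-- **Hilbert–Burch, part 1**: `n = m + 1`. -/
theorem eq_add_one (hc : c ≠ 0) : n = m + 1 := by
  obtain ⟨k, hk⟩ : ∃ k, c k ≠ 0 := by
    by_contra h
    push Not at h
    exact hc (funext h)
  obtain ⟨P, hP, hle⟩ := exists_le_isAssociatedPrime_of_isNoetherianRing R (c k) hk
  obtain ⟨hPp, y, hy⟩ := (isAssociatedPrime_iff).mp hP
  have hmemP : ∀ r : R, r ∈ P ↔ r * y = 0 := fun r => by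
    rw [hy, Submodule.mem_colon_singleton, Submodule.mem_bot, smul_eq_mul]
  have hzne : algebraMap R (Localization.AtPrime P) y ≠ 0 := by
    intro h0
    obtain ⟨t, ht⟩ := (IsLocalization.map_eq_zero_iff P.primeCompl (Localization.AtPrime P) y).mp h0
    exact t.2 ((hmemP t).mpr ht)
  have hck : algebraMap R (Localization.AtPrime P) (c k) ≠ 0 := by
    intro h0
    obtain ⟨t, ht⟩ :=
      (IsLocalization.map_eq_zero_iff P.primeCompl (Localization.AtPrime P) (c k)).mp h0
    apply t.2
    apply hle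
    rw [Submodule.mem_colon_singleton, Submodule.mem_bot, smul_eq_mul]
    exact ht
  have hmz : ∀ a ∈ maximalIdeal (Localization.AtPrime P),
      a * algebraMap R (Localization.AtPrime P) y ∈ Ideal.span {(0 : Localization.AtPrime P)} := by
    intro a ha
    rw [← Localization.AtPrime.map_eq_maximalIdeal,
      IsLocalization.mem_map_algebraMap_iff P.primeCompl (Localization.AtPrime P)] at ha
    obtain ⟨⟨r, s⟩, hrs⟩ := ha
    have hry : (r : R) * y = 0 := (hmemP r).mp r.2
    have h1 : a * algebraMap R (Localization.AtPrime P) y *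
        algebraMap R (Localization.AtPrime P) s = 0 := by
      rw [mul_right_comm, hrs, ← map_mul, hry, map_zero]
    have hu : IsUnit (algebraMap R (Localization.AtPrime P) (s : R)) :=
      IsLocalization.map_units (Localization.AtPrime P) s
    rw [(hu.mul_left_eq_zero).mp h1]
    exact Ideal.zero_mem _
  have hz : algebraMap R (Localization.AtPrime P) y ∉
      Ideal.span {(0 : Localization.AtPrime P)} := by
    intro h
    rw [Ideal.mem_span_singleton'] at h
    obtain ⟨a, ha⟩ := h
    rw [mul_zero] at ha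
    exact hzne ha.symm
  obtain ⟨f, -, Φ, hΦ⟩ := exists_minor_notMem Ψ c hΨ hex hcx P 0
    (algebraMap R (Localization.AtPrime P) y) (Or.inl rfl) hz hmz
  exact eq_add_one_of_leftInverse (Ψ.map (algebraMap R (Localization.AtPrime P)))
    (fun i => algebraMap R (Localization.AtPrime P) (c i)) Φ hΦ
    (localization_exact P.primeCompl (Localization.AtPrime P) Ψ c hex)
    (localization_complex (Localization.AtPrime P) Ψ c hcx) (fun h => hck (congrFun h k))

include hΨ hex hcx in
/-- **Hilbert–Burch, part 2**: the ideal of maximal minors has depth at least two. -/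
theorem two_le_idealDepth : 2 ≤ LocCoh.idealDepth (CAlgX.minorIdeal Ψ m) R := by
  rw [CMRing.idealDepth_eq_iInf_depth_localization]
  refine le_iInf₂ fun P hJP => ?_
  rw [Groth.Agent.Lib.Helper49.Serre.depth_localizedModule_self]
  by_contra hlt
  rw [not_le] at hlt
  obtain ⟨x, z, hx, hz, hmz⟩ := exists_socle_element (Localization.AtPrime P.asIdeal) hlt
  obtain ⟨f, hf, -⟩ := exists_minor_notMem Ψ c hΨ hex hcx P.asIdeal x z hx hz hmz
  exact hf (hJP (McCoy.minor_mem Ψ m f id))

end Main

section Main2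

open Groth.Agent.Lib.Helper29 Pointwise RingTheory.Sequence
open Groth.Agent.Lib.Helper15.HilbertBurch (D)

/-- An ideal of depth at least two contains a regular pair (in elementary form). -/
theorem exists_regular_pair {R : Type u} [CommRing R] (J : Ideal R)
    (h : 2 ≤ LocCoh.idealDepth J R) :
    ∃ x ∈ J, ∃ y ∈ J, (∀ r, x * r = 0 → r = 0) ∧
      (∀ r, (∃ s, y * r = x * s) → ∃ c, r = x * c) := by
  by_cases hJ : J = ⊤
  · refine ⟨1, by rw [hJ]; trivial, 1, by rw [hJ]; trivial, fun r h => by simpa using h,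
      fun r _ => ⟨r, by rw [one_mul]⟩⟩
  · have hJR : J • (⊤ : Submodule R R) ≠ ⊤ := by
      rw [smul_eq_mul, Ideal.mul_top]
      exact hJ
    obtain ⟨rs, hreg, hmem, hlen⟩ :=
      Groth.Agent.Lib.Helper93.ReflexiveDepth.exists_regular_of_le_idealDepth J R 2
        (by exact_mod_cast h) hJR
    match rs, hreg, hmem, hlen with
    | [], _, _, hlen => simp at hlen
    | [_], _, _, hlen => simp at hlen
    | x :: y :: rest, hreg, hmem, _ =>
      rw [isWeaklyRegular_cons_iff] at hreg
      obtain ⟨hx, hreg'⟩ := hreg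
      rw [isWeaklyRegular_cons_iff] at hreg'
      obtain ⟨hy, -⟩ := hreg'
      refine ⟨x, hmem x (by simp), y, hmem y (by simp), ?_, ?_⟩
      · intro r hr
        apply hx
        change x • r = x • 0
        rw [smul_eq_mul, smul_eq_mul, hr, mul_zero]
      · rintro r ⟨s, hs⟩
        have h1 : y • (Submodule.Quotient.mk r : QuotSMulTop x R) = y • 0 := by
          rw [smul_zero, ← Submodule.Quotient.mk_smul, Submodule.Quotient.mk_eq_zero, smul_eq_mul,
            hs, ← smul_eq_mul]
          exact Submodule.smul_mem_pointwise_smul s x ⊤ trivial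
        have h0 := hy h1
        rw [Submodule.Quotient.mk_eq_zero, Submodule.mem_smul_pointwise_iff_exists] at h0
        obtain ⟨c, -, hc⟩ := h0
        exact ⟨c, by rw [← hc, smul_eq_mul]⟩

variable {R : Type u} [CommRing R] [IsNoetherianRing R] {t : ℕ}
  (Ψ : Matrix (Fin (t + 1)) (Fin t) R) (c : Fin (t + 1) → R)
  (hΨ : ∀ w : Fin t → R, Ψ.mulVec w = 0 → w = 0)
  (hex : ∀ v : Fin (t + 1) → R, ∑ i, v i * c i = 0 → ∃ w, Ψ.mulVec w = v)
  (hcx : ∀ w : Fin t → R, ∑ i, Ψ.mulVec w i * c i = 0)

include hΨ hex hcx in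
/-- **Hilbert–Burch, part 3**: the second map is a non-zero-divisor multiple of the vector of
signed maximal minors. -/
theorem exists_nonZeroDivisor_mul :
    ∃ a ∈ nonZeroDivisors R, ∀ v : Fin (t + 1) → R,
      ∑ i, v i * c i = a * ∑ i : Fin (t + 1), (-1 : R) ^ (i : ℕ) * v i * D Ψ i := by
  have hJ2 := two_le_idealDepth Ψ c hΨ hex hcx
  rw [Groth.Agent.Lib.Helper15.HilbertBurch.minorIdeal_eq] at hJ2
  obtain ⟨x, hx, y, hy, hxreg, hyreg⟩ := exists_regular_pair _ hJ2
  let πL : (Fin (t + 1) → R) →ₗ[R] R := Fintype.linearCombination R c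
  let DL : (Fin (t + 1) → R) →ₗ[R] R :=
    Fintype.linearCombination R (fun i => (-1 : R) ^ (i : ℕ) * D Ψ i)
  have hπ : ∀ v, πL v = ∑ i, v i * c i := fun v => by
    simp [πL, Fintype.linearCombination_apply]
  have hD : ∀ v, DL v = ∑ i : Fin (t + 1), (-1 : R) ^ (i : ℕ) * v i * D Ψ i := fun v => by
    rw [Fintype.linearCombination_apply]
    refine Finset.sum_congr rfl fun i _ => ?_
    rw [smul_eq_mul]
    ring
  have hker : ∀ v, DL v = 0 → πL v = 0 := by
    intro v hv
    rw [hD] at hv
    obtain ⟨w, hw⟩ := Groth.Agent.Lib.Helper15.HilbertBurch.mem_range_of_regular_pair Ψ x y hx hy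
      hxreg hyreg v hv
    rw [hπ, ← hw]
    exact hcx w
  have hker' : ∀ v, πL v = 0 → DL v = 0 := by
    intro v hv
    rw [hπ] at hv
    obtain ⟨w, hw⟩ := hex v hv
    rw [hD, ← hw]
    exact Groth.Agent.Lib.Helper15.HilbertBurch.sum_mulVec_eq_zero Ψ w
  have hstar : ∀ v w, DL v * πL w = DL w * πL v := by
    intro v w
    have := hker (DL v • w - DL w • v) (by
      rw [map_sub, map_smul, map_smul, smul_eq_mul, smul_eq_mul, mul_comm, sub_self])
    rw [map_sub, map_smul, map_smul, smul_eq_mul, smul_eq_mul] at this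
    exact sub_eq_zero.mp this
  have hrange : ∀ d ∈ Ideal.span (Set.range (D Ψ)), ∃ v, DL v = d := by
    intro d hd
    induction hd using Submodule.span_induction with
    | mem d hd =>
      obtain ⟨i, rfl⟩ := hd
      refine ⟨Pi.single i ((-1 : R) ^ (i : ℕ)), ?_⟩
      rw [Fintype.linearCombination_apply_single, smul_eq_mul, ← mul_assoc]
      have h4 : (-1 : R) ^ (i : ℕ) * (-1 : R) ^ (i : ℕ) = 1 := by
        rw [← pow_add, ← two_mul, pow_mul]; simp
      rw [h4, one_mul]
    | zero => exact ⟨0, map_zero _⟩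
    | add d₁ d₂ _ _ h₁ h₂ =>
      obtain ⟨v₁, hv₁⟩ := h₁
      obtain ⟨v₂, hv₂⟩ := h₂
      exact ⟨v₁ + v₂, by rw [map_add, hv₁, hv₂]⟩
    | smul a d _ h₁ =>
      obtain ⟨v₁, hv₁⟩ := h₁
      exact ⟨a • v₁, by rw [map_smul, hv₁]⟩
  obtain ⟨vx, hvx⟩ := hrange x hx
  obtain ⟨vy, hvy⟩ := hrange y hy
  have h1 : y * πL vx = x * πL vy := by
    have := hstar vy vx
    rwa [hvx, hvy] at this
  obtain ⟨a, ha⟩ := hyreg (πL vx) ⟨πL vy, h1⟩
  have key : ∀ w, πL w = a * DL w := by
    intro w
    have h2 : x * (πL w - a * DL w) = 0 := by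
      have := hstar vx w
      rw [hvx, ha] at this
      rw [mul_sub, this]
      ring
    exact sub_eq_zero.mp (hxreg _ h2)
  refine ⟨a, ?_, fun v => ?_⟩
  · rw [mem_nonZeroDivisors_iff_right]
    intro b hb
    have h2 : DL (b • vx) = 0 := hker' _ (by
      rw [map_smul, smul_eq_mul, key vx, ← mul_assoc, hb, zero_mul])
    rw [map_smul, hvx, smul_eq_mul, mul_comm] at h2
    exact hxreg b h2
  · rw [← hπ, ← hD]
    exact key v

end Main2

end Groth.Agent.Lib.Helper29.HilbertBurch
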