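import Mathlib
import Groth.Agent.Lib.Helper29.HilbertBurch
import Groth.Agent.Lib.Helper29.CodepthOpen
import Groth.Agent.Lib.Helper29.DepthFinite

/-!
# Hilbert–Burch for Cohen–Macaulay quotients of codimension two (helper29)
-/

set_option autoImplicit false
universe u
open IsLocalRing Matrix CategoryTheory

namespace Groth.Agent.Lib.Helper29.HilbertBurch

open Groth.Agent.Lib.Helper29
open Groth.Agent.Lib.Helper15.HilbertBurch (D)

/-- One syzygy step for projective dimension. -/
theorem hasProjectiveDimensionLT_step (A : Type u) [CommRing A]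
    {K P M : Type u} [AddCommGroup K] [Module A K]
    [AddCommGroup P] [Module A P] [AddCommGroup M] [Module A M] [Module.Projective A P]
    (ι : K →ₗ[A] P) (π : P →ₗ[A] M) (hι : Function.Injective ι) (hex : Function.Exact ι π)
    (hπ : Function.Surjective π) (n : ℕ) :
    HasProjectiveDimensionLT (ModuleCat.of A M) (n + 2) ↔
      HasProjectiveDimensionLT (ModuleCat.of A K) (n + 1) := by
  let T := ModuleCat.shortComplexOfCompEqZero ι π
    (LinearMap.ext fun y => hex.apply_apply_eq_zero y)
  have T_exact : T.ShortExact := ModuleCat.shortComplex_shortExact T hex hι hπ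
  have projT : Projective T.X₂ :=
    (IsProjective.iff_projective (R := A) (P := P)).mp inferInstance
  exact T_exact.hasProjectiveDimensionLT_X₃_iff n projT

/-- The second syzygy of a cyclic module of projective dimension at most two is projective. -/
theorem projective_ker_of_pd (A : Type u) [CommRing A] (I : Ideal A) {n : ℕ}
    (π : (Fin n → A) →ₗ[A] A) (hπ : LinearMap.range π = I)
    (hpd : HasProjectiveDimensionLT (ModuleCat.of A (A ⧸ I)) 3) :
    Module.Projective A (LinearMap.ker π) := by
  have h1 : HasProjectiveDimensionLT (ModuleCat.of A I) 2 :=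
    (hasProjectiveDimensionLT_step A (Submodule.subtype I) (Submodule.mkQ I)
      (Submodule.injective_subtype I) (LinearMap.exact_subtype_mkQ I)
      (Submodule.mkQ_surjective I) 1).mp hpd
  let π' : (Fin n → A) →ₗ[A] I := π.codRestrict I (fun v => by rw [← hπ]; exact ⟨v, rfl⟩)
  have hπ'surj : Function.Surjective π' := by
    rintro ⟨y, hy⟩
    rw [← hπ] at hy
    obtain ⟨v, rfl⟩ := hy
    exact ⟨v, rfl⟩
  have hker : LinearMap.ker π' = LinearMap.ker π := LinearMap.ker_codRestrict _ _ _
  have h2 : HasProjectiveDimensionLT (ModuleCat.of A (LinearMap.ker π')) 1 :=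
    (hasProjectiveDimensionLT_step A (LinearMap.ker π').subtype π'
      (Submodule.injective_subtype _) (LinearMap.exact_subtype_ker_map π') hπ'surj 0).mp h1
  have h3 : Module.Projective A (LinearMap.ker π') := by
    rw [IsProjective.iff_projective, projective_iff_hasProjectiveDimensionLT_one]
    exact h2
  rw [← hker]
  exact h3

/-- Hilbert–Burch when the image ideal has height at least two: the second map is, up to a unit,
the vector of signed maximal minors. -/
theorem exists_minors_presentation {A : Type u} [CommRing A] [IsNoetherianRing A] {n m : ℕ}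
    (Ψ : Matrix (Fin n) (Fin m) A) (c : Fin n → A)
    (hΨ : ∀ w : Fin m → A, Ψ.mulVec w = 0 → w = 0)
    (hex : ∀ v : Fin n → A, ∑ i, v i * c i = 0 → ∃ w, Ψ.mulVec w = v)
    (hcx : ∀ w : Fin m → A, ∑ i, Ψ.mulVec w i * c i = 0)
    (hht : 2 ≤ (Ideal.span (Set.range c)).height) (htop : Ideal.span (Set.range c) ≠ ⊤) :
    ∃ (r : ℕ) (φ : Matrix (Fin (r + 1)) (Fin r) A),
      Ideal.span (Set.range (fun i : Fin (r + 1) =>
        (-1 : A) ^ (i : ℕ) * (φ.submatrix i.succAbove id).det)) = Ideal.span (Set.range c) ∧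
      n = r + 1 ∧ Function.Injective φ.mulVecLin ∧
      LinearMap.range φ.mulVecLin = LinearMap.ker (Fintype.linearCombination A
        (fun i : Fin (r + 1) => (-1 : A) ^ (i : ℕ) * (φ.submatrix i.succAbove id).det)) := by
  have hnt : Nontrivial A := by
    by_contra h
    rw [not_nontrivial_iff_subsingleton] at h
    exact htop (Subsingleton.elim _ _)
  have hc : c ≠ 0 := by
    intro h0
    have h1 : Ideal.span (Set.range c) = ⊥ := by
      rw [Ideal.span_eq_bot]
      rintro _ ⟨i, rfl⟩
      rw [h0]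
      rfl
    rw [h1, Ideal.height_bot] at hht
    exact absurd hht (by norm_num)
  have hn := eq_add_one Ψ c hΨ hex hcx hc
  subst hn
  obtain ⟨a, ha, hkey⟩ := exists_nonZeroDivisor_mul Ψ c hΨ hex hcx
  have hci : ∀ i, c i = a * ((-1 : A) ^ (i : ℕ) * D Ψ i) := by
    intro i
    have := hkey (Pi.single i 1)
    rw [Finset.sum_eq_single i, Finset.sum_eq_single i] at this
    · rw [Pi.single_eq_same, one_mul, mul_one] at this
      exact this
    · intro j _ hji
      rw [Pi.single_eq_of_ne hji, mul_zero, zero_mul]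
    · intro h
      exact absurd (Finset.mem_univ i) h
    · intro j _ hji
      rw [Pi.single_eq_of_ne hji, zero_mul]
    · intro h
      exact absurd (Finset.mem_univ i) h
  have hau : IsUnit a := by
    by_contra hnu
    have h1 : Ideal.span (Set.range c) ≤ Ideal.span {a} := by
      rw [Ideal.span_le]
      rintro _ ⟨i, rfl⟩
      rw [hci i]
      exact Ideal.mul_mem_right _ _ (Ideal.subset_span rfl)
    have h2 := (Ideal.height_mono h1).trans (Ideal.height_span_singleton_le_one hnu)
    exact absurd (hht.trans h2) (by norm_num)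
  obtain ⟨a', ha'⟩ := hau.exists_left_inv
  refine ⟨m, Ψ, ?_, rfl, ?_, ?_⟩
  · apply le_antisymm
    · rw [Ideal.span_le]
      rintro _ ⟨i, rfl⟩
      have : (-1 : A) ^ (i : ℕ) * (Ψ.submatrix i.succAbove id).det = a' * c i := by
        rw [hci i, ← mul_assoc, ha', one_mul]
        rfl
      change (-1 : A) ^ (i : ℕ) * (Ψ.submatrix i.succAbove id).det ∈ _
      rw [this]
      exact Ideal.mul_mem_left _ _ (Ideal.subset_span ⟨i, rfl⟩)
    · rw [Ideal.span_le]
      rintro _ ⟨i, rfl⟩
      rw [hci i]
      exact Ideal.mul_mem_left _ _ (Ideal.subset_span ⟨i, rfl⟩)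
  · rw [← LinearMap.ker_eq_bot, LinearMap.ker_eq_bot']
    exact hΨ
  · have hlc : ∀ v : Fin (m + 1) → A, Fintype.linearCombination A
        (fun i : Fin (m + 1) => (-1 : A) ^ (i : ℕ) * (Ψ.submatrix i.succAbove id).det) v =
        ∑ i : Fin (m + 1), (-1 : A) ^ (i : ℕ) * v i * D Ψ i := by
      intro v
      rw [Fintype.linearCombination_apply]
      refine Finset.sum_congr rfl fun i _ => ?_
      rw [smul_eq_mul]
      change v i * ((-1 : A) ^ (i : ℕ) * D Ψ i) = _
      ring
    ext v
    rw [LinearMap.mem_ker, hlc]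
    constructor
    · rintro ⟨w, rfl⟩
      exact Groth.Agent.Lib.Helper15.HilbertBurch.sum_mulVec_eq_zero Ψ w
    · intro hv
      have h1 : ∑ i, v i * c i = 0 := by rw [hkey, hv, mul_zero]
      obtain ⟨w, hw⟩ := hex v h1
      exact ⟨w, hw⟩

/-- A Cohen–Macaulay quotient of codimension two of a regular local ring has projective
dimension at most two. -/
theorem hasProjectiveDimensionLT_three_of_isCM (A : Type u) [CommRing A] [IsRegularLocalRing A]
    (I : Ideal A) [hcm : LocCoh.IsCohenMacaulayLocalRing (A ⧸ I)]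
    (hcodim : ringKrullDim (A ⧸ I) + 2 = ringKrullDim A) :
    HasProjectiveDimensionLT (ModuleCat.of A (A ⧸ I)) 3 := by
  have hnt : Nontrivial (A ⧸ I) := inferInstance
  have hCMA : LocCoh.IsCohenMacaulayLocalRing A :=
    LocCoh.IsCohenMacaulayLocalRing.mk (Groth.Agent.S5671.isCM_of_regular A)
  obtain ⟨d, hd⟩ : ∃ d : ℕ, ringKrullDim A = d := by
    have h1 : ringKrullDim A ≠ ⊤ := DimTheory.ringKrullDim_ne_top _
    have h2 : ringKrullDim A ≠ ⊥ := ringKrullDim_ne_bot
    induction hk : ringKrullDim A with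
    | bot => exact absurd hk h2
    | coe a =>
      induction a using ENat.recTopCoe with
      | top => exact absurd hk h1
      | coe m => exact ⟨m, rfl⟩
  have hpd := Groth.Agent.S0563.result A d hd (A ⧸ I)
  have hnz : ¬ Limits.IsZero (ModuleCat.of A (A ⧸ I)) := by
    intro hz
    exact not_subsingleton _ (ModuleCat.subsingleton_of_isZero hz)
  obtain ⟨e, -, he1, he2⟩ := CodepthOpen.exists_exact_pd _ hnz d hpd
  have hAB := Groth.Agent.Lib.Helper33.AB.depth_eq_add_of_hasProjectiveDimensionLT (A ⧸ I) e he1 he2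
  have hloc : IsLocalHom (algebraMap A (A ⧸ I)) :=
    IsLocalHom.of_surjective _ Ideal.Quotient.mk_surjective
  have h1 : LocCoh.depth A (A ⧸ I) = LocCoh.depth (A ⧸ I) (A ⧸ I) :=
    DepthFinite.depth_eq_of_isLocalHom A (A ⧸ I) (A ⧸ I)
  have h2 : ringKrullDim (A ⧸ I) = ((LocCoh.depth (A ⧸ I) (A ⧸ I) : ℕ∞) : WithBot ℕ∞) := by
    rw [← Module.supportDim_self_eq_ringKrullDim]
    exact hcm.supportDim_eq_depth
  have h3 : ringKrullDim A = ((LocCoh.depth A A : ℕ∞) : WithBot ℕ∞) := by
    rw [← Module.supportDim_self_eq_ringKrullDim]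
    exact hCMA.supportDim_eq_depth
  obtain ⟨δ, hδ⟩ := ENat.ne_top_iff_exists.1 (DepthLib.depth_ne_top (A ⧸ I) (A ⧸ I))
  rw [h1, ← hδ] at hAB
  rw [h2, h3, hAB, ← hδ] at hcodim
  have h4' : (((δ + 2 : ℕ) : ℕ∞) : WithBot ℕ∞) = (((e + δ : ℕ) : ℕ∞) : WithBot ℕ∞) := by
    push_cast
    exact hcodim
  have h4 : δ + 2 = e + δ := by
    have := WithBot.coe_injective h4'
    exact_mod_cast this
  have h5 : e = 2 := by omega
  rw [h5] at he1
  exact he1

end Groth.Agent.Lib.Helper29.HilbertBurch
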