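import Mathlib
import Groth.Agent.Lib.Helper29.BE4
import Groth.Agent.Lib.Helper29.HilbertBurch2
import Groth.Agent.Lib.Helper33.AuslanderBuchsbaum
import Groth.Agent.S17662

/-!
# Buchsbaum–Eisenbud, part 5: necessity, the local claim

For an exact complex of finite free modules over a Noetherian local ring `S` of depth `d`, the
cokernels of the maps `A k`, `k ≥ d`, are free; the maps `A k` with `k ≥ d` have a unit minor of
size `ρ (k+1)` and vanishing larger minors.
-/

set_option autoImplicit false
set_option linter.unusedSectionVars false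
universe u

namespace Groth.Agent.Lib.Helper29.BE

open IsLocalRing CategoryTheory

section Generic

/-- Auslander–Buchsbaum: finite projective dimension is at most the depth of the ring. -/
theorem pdLT_depth_succ {S : Type u} [CommRing S] [IsLocalRing S] [IsNoetherianRing S]
    (M : Type u) [AddCommGroup M] [Module S M] [Module.Finite S M] (E : ℕ)
    (hE : HasProjectiveDimensionLT (ModuleCat.of S M) (E + 1)) (d : ℕ)
    (hd : (d : ℕ∞) = LocCoh.depth S S) :
    HasProjectiveDimensionLT (ModuleCat.of S M) (d + 1) := by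
  classical
  rcases subsingleton_or_nontrivial M with hs | hnt
  · have h0 : Limits.IsZero (ModuleCat.of S M) := ModuleCat.isZero_of_subsingleton _
    have := h0.hasProjectiveDimensionLT_zero
    exact hasProjectiveDimensionLT_of_ge _ 0 (d + 1) (Nat.zero_le _)
  · have hex : ∃ e₀, HasProjectiveDimensionLT (ModuleCat.of S M) (e₀ + 1) := ⟨E, hE⟩
    have h1 := Nat.find_spec hex
    have h2 : ¬ HasProjectiveDimensionLT (ModuleCat.of S M) (Nat.find hex) := by
      intro h
      rcases Nat.eq_zero_or_pos (Nat.find hex) with h0 | hpos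
      · rw [h0] at h
        have h3 := (hasProjectiveDimensionLT_zero_iff_isZero _).mp h
        have := ModuleCat.subsingleton_of_isZero h3
        exact not_subsingleton M this
      · have h3 : HasProjectiveDimensionLT (ModuleCat.of S M) (Nat.find hex - 1 + 1) := by
          rwa [Nat.sub_add_cancel hpos]
        exact Nat.find_min hex (by omega) h3
    have h3 := Groth.Agent.Lib.Helper33.AB.depth_eq_add_of_hasProjectiveDimensionLT M
      (Nat.find hex) h1 h2
    have h4 : Nat.find hex ≤ d := by
      have : ((Nat.find hex : ℕ) : ℕ∞) ≤ d := by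
        rw [hd, h3]
        exact le_self_add
      exact_mod_cast this
    exact hasProjectiveDimensionLT_of_ge _ (Nat.find hex + 1) (d + 1) (by omega)

/-- The determinant of a product through a smaller free module vanishes. -/
theorem det_mul_eq_zero_of_lt {T : Type u} [CommRing T] {s ρ : ℕ} (hρ : ρ < s)
    (P : Matrix (Fin s) (Fin ρ) T) (Q : Matrix (Fin ρ) (Fin s) T) : (P * Q).det = 0 := by
  classical
  have : Fintype (Set.powersetCard (Fin ρ) s) := Fintype.ofFinite _
  have hempty : IsEmpty (Set.powersetCard (Fin ρ) s) := by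
    refine ⟨fun K => ?_⟩
    have h1 : (K : Finset (Fin ρ)).card = s := K.2
    have h2 := Finset.card_le_univ (K : Finset (Fin ρ))
    simp only [Fintype.card_fin] at h2
    omega
  rw [Groth.Agent.S17662.cauchyBinet P Q]
  exact Finset.sum_of_isEmpty _

/-- A matrix over a local ring with a left inverse has a unit maximal minor. -/
theorem exists_isUnit_minor_of_leftInverse {T : Type u} [CommRing T] [IsLocalRing T] {a ρ : ℕ}
    (Ψ : Matrix (Fin a) (Fin ρ) T) (L : Matrix (Fin ρ) (Fin a) T) (hL : L * Ψ = 1) :
    ∃ f : Fin ρ → Fin a, IsUnit (Ψ.submatrix f id).det := by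
  apply HilbertBurch.exists_isUnit_minor
  intro v hv j
  have h1 : v = L.mulVec (Ψ.mulVec v) := by
    rw [Matrix.mulVec_mulVec, hL, Matrix.one_mulVec]
  rw [h1]
  simp only [Matrix.mulVec, dotProduct]
  exact Ideal.sum_mem _ fun i _ => Ideal.mul_mem_left _ _ (hv i)

/-- A matrix over a local ring with a right inverse has a unit maximal minor. -/
theorem exists_isUnit_minor_of_rightInverse {T : Type u} [CommRing T] [IsLocalRing T] {b ρ : ℕ}
    (Q : Matrix (Fin ρ) (Fin b) T) (P : Matrix (Fin b) (Fin ρ) T) (hP : Q * P = 1) :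
    ∃ g : Fin ρ → Fin b, IsUnit (Q.submatrix id g).det := by
  obtain ⟨g, hg⟩ := exists_isUnit_minor_of_leftInverse Q.transpose P.transpose (by
    rw [← Matrix.transpose_mul, hP, Matrix.transpose_one])
  refine ⟨g, ?_⟩
  have h1 : Q.transpose.submatrix g id = (Q.submatrix id g).transpose := by
    ext i j
    rfl
  rwa [h1, Matrix.det_transpose] at hg

end Generic

section Syzygy

variable {S : Type u} [CommRing S]
  (n : ℕ → ℕ) (A : ∀ i, Matrix (Fin (n i)) (Fin (n (i + 1))) S) (e : ℕ)
  (hA : ∀ i, A i * A (i + 1) = 0) (hAe : ∀ i, e ≤ i → A i = 0)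
  (hex : ∀ i, i < e → LinearMap.ker (A i).mulVecLin = LinearMap.range (A (i + 1)).mulVecLin)

include hA in
theorem range_le_ker' (i : ℕ) :
    LinearMap.range (A (i + 1)).mulVecLin ≤ LinearMap.ker (A i).mulVecLin := by
  rintro _ ⟨x, rfl⟩
  rw [LinearMap.mem_ker, Matrix.mulVecLin_apply, Matrix.mulVecLin_apply, Matrix.mulVec_mulVec,
    hA i, Matrix.zero_mulVec]

/-- The inclusion of the syzygy `coker (A (k+1)) → S^{n k}`. -/
noncomputable def syzIncl (k : ℕ) : Coker (A (k + 1)) →ₗ[S] (Fin (n k) → S) :=
  (LinearMap.range (A (k + 1)).mulVecLin).liftQ (A k).mulVecLin (range_le_ker' n A hA k)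

theorem syzIncl_mk (k : ℕ) (x : Fin (n (k + 1)) → S) :
    syzIncl n A hA k (Submodule.Quotient.mk x) = (A k).mulVec x := rfl

include hex in
theorem syzIncl_injective (k : ℕ) (hk : k < e) : Function.Injective (syzIncl n A hA k) := by
  rw [← LinearMap.ker_eq_bot, syzIncl, Submodule.ker_liftQ, hex k hk, Submodule.mkQ_map_self]

theorem syzIncl_exact (k : ℕ) :
    Function.Exact (syzIncl n A hA k) (LinearMap.range (A k).mulVecLin).mkQ := by
  rw [LinearMap.exact_iff, Submodule.ker_mkQ, syzIncl, Submodule.range_liftQ]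

include hAe in
theorem projective_coker_top : Module.Projective S (Coker (A e)) := by
  have hbot : LinearMap.range (A e).mulVecLin = ⊥ := by
    rw [hAe e le_rfl, Matrix.mulVecLin_zero, LinearMap.range_zero]
  exact Module.Projective.of_equiv (Submodule.quotEquivOfEqBot _ hbot).symm

include hA hAe hex in
theorem pdLT_down (m : ℕ) : ∀ k, k + m = e →
    HasProjectiveDimensionLT (ModuleCat.of S (Coker (A k))) (m + 1) := by
  induction m with
  | zero =>
    intro k hk
    have hke : k = e := by omega
    subst hke
    have := projective_coker_top n A k hAe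
    have h1 : Projective (ModuleCat.of S (Coker (A k))) :=
      (IsProjective.iff_projective (R := S) (P := Coker (A k))).mp inferInstance
    exact inferInstance
  | succ m ih =>
    intro k hk
    have h1 := ih (k + 1) (by omega)
    exact (HilbertBurch.hasProjectiveDimensionLT_step S (syzIncl n A hA k)
      (LinearMap.range (A k).mulVecLin).mkQ (syzIncl_injective n A e hA hex k (by omega))
      (syzIncl_exact n A hA k) (Submodule.mkQ_surjective _) m).mpr h1

include hA hex in
theorem pdLT_up (d : ℕ) (h0 : HasProjectiveDimensionLT (ModuleCat.of S (Coker (A 0))) (d + 1)) :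
    ∀ k, k ≤ d → k ≤ e →
      HasProjectiveDimensionLT (ModuleCat.of S (Coker (A k))) (d - k + 1) := by
  intro k
  induction k with
  | zero => intro _ _; exact h0
  | succ k ih =>
    intro hkd hke
    have h1 := ih (by omega) (by omega)
    have h2 : d - k + 1 = (d - (k + 1)) + 2 := by omega
    rw [h2] at h1
    exact (HilbertBurch.hasProjectiveDimensionLT_step S (syzIncl n A hA k)
      (LinearMap.range (A k).mulVecLin).mkQ (syzIncl_injective n A e hA hex k (by omega))
      (syzIncl_exact n A hA k) (Submodule.mkQ_surjective _) (d - (k + 1))).mp h1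

include hA hex in
theorem projective_coker_step (k : ℕ) (hk : k < e) (h : Module.Projective S (Coker (A k))) :
    Module.Projective S (Coker (A (k + 1))) := by
  have h1 : Projective (ModuleCat.of S (Coker (A k))) :=
    (IsProjective.iff_projective (R := S) (P := Coker (A k))).mp h
  have h2 : HasProjectiveDimensionLT (ModuleCat.of S (Coker (A k))) (0 + 2) :=
    hasProjectiveDimensionLT_of_ge _ 1 2 (by omega)
  have h3 := (HilbertBurch.hasProjectiveDimensionLT_step S (syzIncl n A hA k)
      (LinearMap.range (A k).mulVecLin).mkQ (syzIncl_injective n A e hA hex k hk)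
      (syzIncl_exact n A hA k) (Submodule.mkQ_surjective _) 0).mp h2
  rw [IsProjective.iff_projective, projective_iff_hasProjectiveDimensionLT_one]
  exact h3

end Syzygy

section LocalClaim

variable {S : Type u} [CommRing S] [IsLocalRing S] [IsNoetherianRing S]
  (n : ℕ → ℕ) (A : ∀ i, Matrix (Fin (n i)) (Fin (n (i + 1))) S) (e : ℕ)
  (hA : ∀ i, A i * A (i + 1) = 0) (hAe : ∀ i, e ≤ i → A i = 0)
  (hex : ∀ i, i < e → LinearMap.ker (A i).mulVecLin = LinearMap.range (A (i + 1)).mulVecLin)
  (d : ℕ) (hd : (d : ℕ∞) = LocCoh.depth S S)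

include hA hAe hex hd in
theorem projective_coker_of_depth_le (k : ℕ) (hdk : d ≤ k) (hke : k ≤ e) :
    Module.Projective S (Coker (A k)) := by
  have h0 := pdLT_down n A e hA hAe hex e 0 (by omega)
  have h1 := pdLT_depth_succ (Coker (A 0)) e h0 d hd
  have h2 := pdLT_up n A e hA hex d h1 d le_rfl (by omega)
  rw [Nat.sub_self, zero_add] at h2
  have hPd : Module.Projective S (Coker (A d)) := by
    rw [IsProjective.iff_projective, projective_iff_hasProjectiveDimensionLT_one]
    exact h2
  obtain ⟨m, rfl⟩ : ∃ m, k = d + m := ⟨k - d, by omega⟩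
  clear hdk
  induction m with
  | zero => exact hPd
  | succ m ih =>
    exact projective_coker_step n A e hA hex (d + m) (by omega) (ih (by omega))

include hA hAe hex hd in
/-- **The local claim.** -/
theorem local_claim :
    ∃ ρ : ℕ → ℕ, ρ e = n e ∧ ∀ k, d ≤ k → k < e →
      ρ k + ρ (k + 1) = n k ∧
      (∃ (f : Fin (ρ (k + 1)) → Fin (n k)) (g : Fin (ρ (k + 1)) → Fin (n (k + 1))),
        IsUnit ((A k).submatrix f g).det) ∧
      (∀ s, ρ (k + 1) < s → ∀ (f : Fin s → Fin (n k)) (g : Fin s → Fin (n (k + 1))),
        ((A k).submatrix f g).det = 0) := by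
  refine ⟨fun k => Module.finrank S (Coker (A k)), ?_, ?_⟩
  · have hbot : LinearMap.range (A e).mulVecLin = ⊥ := by
      rw [hAe e le_rfl, Matrix.mulVecLin_zero, LinearMap.range_zero]
    show Module.finrank S (Coker (A e)) = n e
    rw [(Submodule.quotEquivOfEqBot _ hbot).finrank_eq, Module.finrank_fin_fun]
  · intro k hdk hke
    have hPk := projective_coker_of_depth_le n A e hA hAe hex d hd k hdk hke.le
    have hPk1 := projective_coker_of_depth_le n A e hA hAe hex d hd (k + 1) (by omega) hke
    have hFk : Module.Free S (Coker (A k)) := Module.free_of_flat_of_isLocalRing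
    have hFk1 : Module.Free S (Coker (A (k + 1))) := Module.free_of_flat_of_isLocalRing
    obtain ⟨l, hl⟩ := Module.projective_lifting_property
      (LinearMap.range (A k).mulVecLin).mkQ LinearMap.id (Submodule.mkQ_surjective _)
    obtain ⟨l', hl'⟩ := Module.projective_lifting_property
      (LinearMap.range (A (k + 1)).mulVecLin).mkQ LinearMap.id (Submodule.mkQ_surjective _)
    obtain ⟨E, hE1, hE2⟩ := (syzIncl_exact n A hA k).splitSurjectiveEquiv
      (syzIncl_injective n A e hA hex k hke) ⟨l, hl⟩
    have hrank : Module.finrank S (Coker (A k)) + Module.finrank S (Coker (A (k + 1))) = n k := by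
      have h1 : n k = Module.finrank S (Coker (A (k + 1))) + Module.finrank S (Coker (A k)) := by
        have h2 := E.finrank_eq
        rwa [Module.finrank_prod, Module.finrank_fin_fun] at h2
      omega
    refine ⟨hrank, ?_⟩
    let b : Coker (A (k + 1)) ≃ₗ[S] (Fin (Module.finrank S (Coker (A (k + 1)))) → S) :=
      (Module.finBasis S (Coker (A (k + 1)))).equivFun
    let Ψ' : (Fin (Module.finrank S (Coker (A (k + 1)))) → S) →ₗ[S] (Fin (n k) → S) :=
      syzIncl n A hA k ∘ₗ b.symm.toLinearMap
    let Pm : (Fin (n (k + 1)) → S) →ₗ[S] (Fin (Module.finrank S (Coker (A (k + 1)))) → S) :=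
      b.toLinearMap ∘ₗ (LinearMap.range (A (k + 1)).mulVecLin).mkQ
    let Φ : (Fin (n k) → S) →ₗ[S] (Fin (Module.finrank S (Coker (A (k + 1)))) → S) :=
      b.toLinearMap ∘ₗ LinearMap.fst S _ _ ∘ₗ E.toLinearMap
    let Θ : (Fin (Module.finrank S (Coker (A (k + 1)))) → S) →ₗ[S] (Fin (n (k + 1)) → S) :=
      l' ∘ₗ b.symm.toLinearMap
    have hcomp : Ψ' ∘ₗ Pm = (A k).mulVecLin := by
      refine LinearMap.ext fun x => ?_
      simp [Ψ', Pm, syzIncl]
    have hΦΨ : Φ ∘ₗ Ψ' = LinearMap.id := by
      refine LinearMap.ext fun u => ?_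
      have h1 : E (syzIncl n A hA k (b.symm u)) = (b.symm u, 0) := by
        have h2 := LinearMap.congr_fun hE1 (b.symm u)
        rw [h2]
        simp
      simp only [Φ, Ψ', LinearMap.comp_apply, LinearEquiv.coe_coe, h1, LinearMap.fst_apply,
        LinearEquiv.apply_symm_apply, LinearMap.id_apply]
    have hPΘ : Pm ∘ₗ Θ = LinearMap.id := by
      refine LinearMap.ext fun u => ?_
      have h1 := LinearMap.congr_fun hl' (b.symm u)
      simp only [LinearMap.comp_apply, LinearMap.id_apply] at h1
      simp only [Pm, Θ, LinearMap.comp_apply, LinearEquiv.coe_coe, h1,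
        LinearEquiv.apply_symm_apply, LinearMap.id_apply]
    have hmat : A k = LinearMap.toMatrix' Ψ' * LinearMap.toMatrix' Pm := by
      rw [← LinearMap.toMatrix'_comp, hcomp, ← Matrix.toLin'_apply', LinearMap.toMatrix'_toLin']
    have hL : LinearMap.toMatrix' Φ * LinearMap.toMatrix' Ψ' = 1 := by
      rw [← LinearMap.toMatrix'_comp, hΦΨ, LinearMap.toMatrix'_id]
    have hR : LinearMap.toMatrix' Pm * LinearMap.toMatrix' Θ = 1 := by
      rw [← LinearMap.toMatrix'_comp, hPΘ, LinearMap.toMatrix'_id]
    have hsub : ∀ (s : ℕ) (f : Fin s → Fin (n k)) (g : Fin s → Fin (n (k + 1))),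
        (A k).submatrix f g =
          (LinearMap.toMatrix' Ψ').submatrix f id * (LinearMap.toMatrix' Pm).submatrix id g := by
      intro s f g
      conv_lhs => rw [hmat]
      exact Matrix.submatrix_mul _ _ f id g Function.bijective_id
    constructor
    · obtain ⟨f, hf⟩ := exists_isUnit_minor_of_leftInverse _ _ hL
      obtain ⟨g, hg⟩ := exists_isUnit_minor_of_rightInverse _ _ hR
      refine ⟨f, g, ?_⟩
      rw [hsub, Matrix.det_mul]
      exact hf.mul hg
    · intro s hs f g
      rw [hsub]
      exact det_mul_eq_zero_of_lt hs _ _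

end LocalClaim

end Groth.Agent.Lib.Helper29.BE
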