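import Mathlib
import Groth.Agent.Lib.Helper29.BE5
import Groth.Agent.Lib.Helper93.ReflexiveDepth

/-!
# Buchsbaum–Eisenbud, part 6: necessity of the rank and depth conditions
-/

set_option autoImplicit false
set_option linter.unusedSectionVars false
universe u

namespace Groth.Agent.Lib.Helper29.BE

open IsLocalRing CAlgX

section Combinatorics

/-- The expected ranks are determined by the rank relations. -/
theorem rho_unique (n : ℕ → ℕ) (e d : ℕ) (ρ r : ℕ → ℕ) (hρe : ρ e = n e) (hre : r e = n e)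
    (hρ : ∀ k, d ≤ k → k < e → ρ k + ρ (k + 1) = n k)
    (hr : ∀ k, k < e → r k + r (k + 1) = n k) :
    ∀ k, d ≤ k → k ≤ e → ρ k = r k := by
  intro k hdk hke
  obtain ⟨m, hm⟩ : ∃ m, k + m = e := ⟨e - k, by omega⟩
  induction m generalizing k with
  | zero =>
    have : k = e := by omega
    subst this
    rw [hρe, hre]
  | succ m ih =>
    have h1 := ih (k + 1) (by omega) (by omega) (by omega)
    have h2 := hρ k hdk (by omega)
    have h3 := hr k (by omega)
    omega

/-- The expected ranks are the alternating sums. -/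
theorem alt_sum (n : ℕ → ℕ) (e : ℕ) (r : ℕ → ℕ) (hre : r e = n e)
    (hr : ∀ k, k < e → r k + r (k + 1) = n k) :
    ∀ j, j ≤ e → (r j : ℤ) = ∑ t ∈ Finset.Icc j e, (-1 : ℤ) ^ (t - j) * (n t : ℤ) := by
  intro j hje
  obtain ⟨m, hm⟩ : ∃ m, j + m = e := ⟨e - j, by omega⟩
  induction m generalizing j with
  | zero =>
    have : j = e := by omega
    subst this
    rw [Finset.Icc_self, Finset.sum_singleton, Nat.sub_self, pow_zero, one_mul, hre]
  | succ m ih =>
    have h1 := ih (j + 1) (by omega) (by omega)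
    have h2 := hr j (by omega)
    rw [← Finset.insert_Icc_add_one_left_eq_Icc hje, Finset.sum_insert (by simp), Nat.sub_self,
      pow_zero, one_mul]
    have h3 : ∑ t ∈ Finset.Icc (j + 1) e, (-1 : ℤ) ^ (t - j) * (n t : ℤ) =
        - ∑ t ∈ Finset.Icc (j + 1) e, (-1 : ℤ) ^ (t - (j + 1)) * (n t : ℤ) := by
      rw [← Finset.sum_neg_distrib]
      refine Finset.sum_congr rfl fun t ht => ?_
      rw [Finset.mem_Icc] at ht
      have : t - j = (t - (j + 1)) + 1 := by omega
      rw [this, pow_succ]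
      ring
    rw [h3, ← h1]
    omega

end Combinatorics

section AtPrime

variable {R : Type u} [CommRing R] [IsNoetherianRing R]
  (n : ℕ → ℕ) (A : ∀ i, Matrix (Fin (n i)) (Fin (n (i + 1))) R) (e : ℕ)
  (hA : ∀ i, A i * A (i + 1) = 0) (hAe : ∀ i, e ≤ i → A i = 0)
  (hex : ∀ i, i < e → LinearMap.ker (A i).mulVecLin = LinearMap.range (A (i + 1)).mulVecLin)

include hA hex in
theorem exact_atPrime (p : Ideal R) [p.IsPrime] (i : ℕ) (hi : i < e) :
    LinearMap.ker ((A i).map (algebraMap R (Localization.AtPrime p))).mulVecLin =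
      LinearMap.range ((A (i + 1)).map (algebraMap R (Localization.AtPrime p))).mulVecLin :=
  exact_of_colon p.primeCompl (Localization.AtPrime p) (A i) (A (i + 1)) (hA i) 1
    (Submonoid.one_mem _) (fun w hw => by rw [one_smul, ← hex i hi]; exact hw)

include hA hAe hex in
/-- The local claim at a prime, for given expected ranks. -/
theorem claim_atPrime (p : Ideal R) [p.IsPrime] (d : ℕ)
    (hd : (d : ℕ∞) = LocCoh.depth (Localization.AtPrime p) (Localization.AtPrime p))
    (r : ℕ → ℕ) (hre : r e = n e) (hr : ∀ k, k < e → r k + r (k + 1) = n k)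
    (k : ℕ) (hdk : d ≤ k) (hke : k < e) :
    (∃ (f : Fin (r (k + 1)) → Fin (n k)) (g : Fin (r (k + 1)) → Fin (n (k + 1))),
        ((A k).submatrix f g).det ∉ p) ∧
      (∀ s, r (k + 1) < s → ∀ (f : Fin s → Fin (n k)) (g : Fin s → Fin (n (k + 1))),
        algebraMap R (Localization.AtPrime p) ((A k).submatrix f g).det = 0) := by
  obtain ⟨ρ, hρe, hρ⟩ := local_claim n
    (fun i => (A i).map (algebraMap R (Localization.AtPrime p))) e
    (fun i => map_mul_map_eq_zero _ _ _ (hA i))
    (fun i hi => by rw [hAe i hi]; ext; simp)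
    (exact_atPrime n A e hA hex p) d hd
  have huniq := rho_unique n e d ρ r hρe hre (fun k h1 h2 => (hρ k h1 h2).1) hr
  obtain ⟨-, hunit, hvan⟩ := hρ k hdk hke
  rw [huniq (k + 1) (by omega) (by omega)] at hunit hvan
  have hdet : ∀ (s : ℕ) (f : Fin s → Fin (n k)) (g : Fin s → Fin (n (k + 1))),
      (((A k).map (algebraMap R (Localization.AtPrime p))).submatrix f g).det =
        algebraMap R (Localization.AtPrime p) (((A k).submatrix f g).det) := by
    intro s f g
    rw [RingHom.map_det]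
    rfl
  constructor
  · obtain ⟨f, g, hfg⟩ := hunit
    refine ⟨f, g, fun hmem => ?_⟩
    rw [hdet] at hfg
    have := (IsLocalization.AtPrime.to_map_mem_maximal_iff (Localization.AtPrime p) p _).mpr hmem
    exact this hfg
  · intro s hs f g
    rw [← hdet]
    exact hvan s hs f g

end AtPrime

section Core

variable {R : Type u} [CommRing R] [IsNoetherianRing R] [Nontrivial R]
  (n : ℕ → ℕ) (A : ∀ i, Matrix (Fin (n i)) (Fin (n (i + 1))) R) (e : ℕ)
  (hA : ∀ i, A i * A (i + 1) = 0) (hAe : ∀ i, e ≤ i → A i = 0)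
  (hex : ∀ i, i < e → LinearMap.ker (A i).mulVecLin = LinearMap.range (A (i + 1)).mulVecLin)

theorem depth_atPrime_eq_zero (p : Ideal R) (hp : p ∈ associatedPrimes R R) :
    haveI : p.IsPrime := hp.isPrime
    ((0 : ℕ) : ℕ∞) = LocCoh.depth (Localization.AtPrime p) (Localization.AtPrime p) := by
  haveI : p.IsPrime := hp.isPrime
  rw [← Groth.Agent.Lib.Helper49.Serre.depth_localizedModule_self,
    (Groth.Agent.Lib.Helper49.Serre.depth_localizedModule_eq_zero_iff R p).mpr hp]
  rfl

include hA hAe hex in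
/-- **Buchsbaum–Eisenbud, necessity (core form).** -/
theorem necessity_core :
    ∃ r : ℕ → ℕ, r e = n e ∧ (∀ k, k < e → r k + r (k + 1) = n k) ∧ ∀ k, k < e →
      (∀ s, r (k + 1) < s → ∀ (f : Fin s → Fin (n k)) (g : Fin s → Fin (n (k + 1))),
        ((A k).submatrix f g).det = 0) ∧
      (∃ (f : Fin (r (k + 1)) → Fin (n k)) (g : Fin (r (k + 1)) → Fin (n (k + 1))),
        ((A k).submatrix f g).det ≠ 0) ∧
      (∀ (p : Ideal R) [p.IsPrime],
        (∀ (f : Fin (r (k + 1)) → Fin (n k)) (g : Fin (r (k + 1)) → Fin (n (k + 1))),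
          ((A k).submatrix f g).det ∈ p) →
        ((k + 1 : ℕ) : ℕ∞) ≤ LocCoh.depth (Localization.AtPrime p) (Localization.AtPrime p)) := by
  obtain ⟨p₀, hp₀⟩ := associatedPrimes.nonempty R R
  haveI hp₀prime : p₀.IsPrime := hp₀.isPrime
  have hd₀ := depth_atPrime_eq_zero p₀ hp₀
  obtain ⟨r, hre, hr'⟩ := local_claim n
    (fun i => (A i).map (algebraMap R (Localization.AtPrime p₀))) e
    (fun i => map_mul_map_eq_zero _ _ _ (hA i))
    (fun i hi => by rw [hAe i hi]; ext; simp)
    (exact_atPrime n A e hA hex p₀) 0 hd₀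
  have hr : ∀ k, k < e → r k + r (k + 1) = n k := fun k hk => (hr' k (Nat.zero_le _) hk).1
  refine ⟨r, hre, hr, fun k hk => ⟨?_, ?_, ?_⟩⟩
  · intro s hs f g
    by_contra hne
    obtain ⟨P, hP, hle⟩ := exists_le_isAssociatedPrime_of_isNoetherianRing R _ hne
    haveI : P.IsPrime := hP.isPrime
    have hdP := depth_atPrime_eq_zero P hP
    have h1 := (claim_atPrime n A e hA hAe hex P 0 hdP r hre hr k (Nat.zero_le _) hk).2 s hs f g
    obtain ⟨t, ht⟩ := (IsLocalization.map_eq_zero_iff P.primeCompl (Localization.AtPrime P) _).mp h1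
    have h2 : (t : R) ∈ (⊥ : Submodule R R).colon {((A k).submatrix f g).det} := by
      rw [Submodule.mem_colon_singleton, Submodule.mem_bot, smul_eq_mul]
      exact ht
    exact t.2 (hle h2)
  · obtain ⟨f, g, hfg⟩ :=
      (claim_atPrime n A e hA hAe hex p₀ 0 hd₀ r hre hr k (Nat.zero_le _) hk).1
    refine ⟨f, g, fun h0 => hfg ?_⟩
    rw [h0]
    exact Submodule.zero_mem _
  · intro p _ hall
    obtain ⟨d, hd⟩ := ENat.ne_top_iff_exists.1
      (DepthLib.depth_ne_top (Localization.AtPrime p) (Localization.AtPrime p))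
    rw [← hd]
    by_contra hlt
    have hdk : d ≤ k := by
      have : ¬ (k + 1 ≤ d) := fun h => hlt (by exact_mod_cast h)
      omega
    obtain ⟨f, g, hfg⟩ := (claim_atPrime n A e hA hAe hex p d hd r hre hr k hdk hk).1
    exact hfg (hall f g)

end Core

section Necessity

open RingTheory.Sequence

variable {R : Type u} [CommRing R] [IsNoetherianRing R] [Nontrivial R]

/-- **Buchsbaum–Eisenbud: necessity of the rank and depth conditions.** -/
theorem necessity
    (e : ℕ) (he : 1 ≤ e) (n : ℕ → ℕ) (A : (i : ℕ) → Matrix (Fin (n i)) (Fin (n (i + 1))) R)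
    (hA : ∀ i, i + 2 ≤ e → A i * A (i + 1) = 0)
    (hex1 : LinearMap.ker (A (e - 1)).mulVecLin = ⊥)
    (hex2 : ∀ i, i + 2 ≤ e →
      LinearMap.ker (A i).mulVecLin = LinearMap.range (A (i + 1)).mulVecLin) :
    ∀ j, 1 ≤ j → j ≤ e →
      (matrixRank (A (j - 1)) : ℤ) = ∑ t ∈ Finset.Icc j e, (-1 : ℤ) ^ (t - j) * (n t : ℤ) ∧
        (detIdeal (A (j - 1)) = ⊤ ∨
          ∃ rs : List R, rs.length = j ∧ (∀ r ∈ rs, r ∈ detIdeal (A (j - 1))) ∧
            IsRegular R rs) := by
  obtain ⟨e', rfl⟩ : ∃ e', e = e' + 1 := ⟨e - 1, by omega⟩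
  have hex1' : LinearMap.ker (A e').mulVecLin = ⊥ := hex1
  -- the cleaned complex
  let A' : (i : ℕ) → Matrix (Fin (n i)) (Fin (n (i + 1))) R :=
    fun i => if i < e' + 1 then A i else 0
  have hA'lt : ∀ i, i < e' + 1 → A' i = A i := fun i hi => if_pos hi
  have hA'ge : ∀ i, e' + 1 ≤ i → A' i = 0 := fun i hi => if_neg (not_lt.mpr hi)
  have hA' : ∀ i, A' i * A' (i + 1) = 0 := by
    intro i
    by_cases hi : i + 2 ≤ e' + 1
    · rw [hA'lt i (by omega), hA'lt (i + 1) (by omega)]
      exact hA i hi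
    · rw [hA'ge (i + 1) (by omega), Matrix.mul_zero]
  have hex' : ∀ i, i < e' + 1 →
      LinearMap.ker (A' i).mulVecLin = LinearMap.range (A' (i + 1)).mulVecLin := by
    intro i hi
    by_cases hi2 : i + 2 ≤ e' + 1
    · rw [hA'lt i (by omega), hA'lt (i + 1) (by omega)]
      exact hex2 i hi2
    · have hie : i = e' := by omega
      subst hie
      rw [hA'lt i (by omega), hA'ge (i + 1) le_rfl, Matrix.mulVecLin_zero, LinearMap.range_zero]
      exact hex1'
  obtain ⟨r, hre, hr, hcore⟩ := necessity_core n A' (e' + 1) hA' hA'ge hex'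
  intro j hj1 hje
  obtain ⟨k, rfl⟩ : ∃ k, j = k + 1 := ⟨j - 1, by omega⟩
  show (matrixRank (A k) : ℤ) = _ ∧ (detIdeal (A k) = ⊤ ∨
    ∃ rs : List R, rs.length = k + 1 ∧ (∀ r ∈ rs, r ∈ detIdeal (A k)) ∧ IsRegular R rs)
  obtain ⟨hvan, ⟨f, g, hne⟩, hdepth⟩ := hcore k (by omega)
  rw [hA'lt k (by omega)] at hvan hne hdepth
  have hrank : matrixRank (A k) = r (k + 1) := by
    unfold matrixRank
    apply IsGreatest.csSup_eq
    constructor
    · show minorIdeal (A k) (r (k + 1)) ≠ ⊥
      intro h0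
      unfold minorIdeal at h0
      rw [Ideal.span_eq_bot] at h0
      exact hne (h0 _ ⟨(f, g), rfl⟩)
    · intro s hs
      by_contra hlt
      apply hs
      unfold minorIdeal
      rw [Ideal.span_eq_bot]
      rintro _ ⟨⟨f', g'⟩, rfl⟩
      exact hvan s (not_le.mp hlt) f' g'
  refine ⟨?_, ?_⟩
  · rw [hrank]
    exact alt_sum n (e' + 1) r hre hr (k + 1) hje
  · by_cases htop : detIdeal (A k) = ⊤
    · exact Or.inl htop
    right
    have hI : detIdeal (A k) = minorIdeal (A k) (r (k + 1)) := by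
      unfold detIdeal
      rw [hrank]
    have hle : ((k + 1 : ℕ) : ℕ∞) ≤ LocCoh.idealDepth (detIdeal (A k)) R := by
      rw [CMRing.idealDepth_eq_iInf_depth_localization]
      refine le_iInf₂ fun p hp => ?_
      rw [Groth.Agent.Lib.Helper49.Serre.depth_localizedModule_self]
      apply hdepth p.asIdeal
      intro f' g'
      apply hp
      rw [hI]
      exact Ideal.subset_span ⟨(f', g'), rfl⟩
    have hN : detIdeal (A k) • (⊤ : Submodule R R) ≠ ⊤ := by
      rw [smul_eq_mul, Ideal.mul_top]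
      exact htop
    obtain ⟨rs, hreg, hmem, hlen⟩ :=
      Groth.Agent.Lib.Helper93.ReflexiveDepth.exists_regular_of_le_idealDepth
        (detIdeal (A k)) R (k + 1) hle hN
    refine ⟨rs.take (k + 1), ?_, ?_, ?_, ?_⟩
    · rw [List.length_take]
      omega
    · intro x hx
      exact hmem x (List.mem_of_mem_take hx)
    · have := (isWeaklyRegular_append_iff R (rs.take (k + 1)) (rs.drop (k + 1))).1
        (by rw [List.take_append_drop]; exact hreg)
      exact this.1
    · intro h
      apply htop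
      have hofle : Ideal.ofList (rs.take (k + 1)) ≤ detIdeal (A k) := by
        rw [Ideal.ofList, Ideal.span_le]
        intro x hx
        exact hmem x (List.mem_of_mem_take hx)
      rw [smul_eq_mul, Ideal.mul_top] at h
      rw [eq_top_iff, h]
      exact hofle

end Necessity

end Groth.Agent.Lib.Helper29.BE
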