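import Groth.Prelude.Def_Exal2
import Mathlib.LinearAlgebra.Isomorphisms
import Mathlib.LinearAlgebra.Prod
import Mathlib.Algebra.Algebra.Equiv
import Mathlib.Tactic.LinearCombination
import Mathlib.Tactic.Ring
import Mathlib.RingTheory.Ideal.Operations

/-!
# Helper lemmas on extensions of a commutative algebra by a module (`Exal.Ext`)
-/

universe u v w

set_option linter.unusedSectionVars false

namespace Groth.Agent.Lib.Helper29.ExalLib

open Exal

section General

variable {A : Type u} {B L : Type v} [CommRing A] [CommRing B] [Algebra A B] [AddCommGroup L] [Module B L]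

lemma proj_incl (X : Ext A B L) (z : L) : X.proj (X.incl z) = 0 :=
  (X.isExtension.exact _).2 ⟨z, rfl⟩

lemma incl_mul_incl (X : Ext A B L) (z z' : L) : X.incl z * X.incl z' = 0 := by
  rw [X.isExtension.mul_incl, proj_incl, zero_smul, map_zero]

lemma incl_eq_zero_iff (X : Ext A B L) (z : L) : X.incl z = 0 ↔ z = 0 := by
  constructor
  · intro h
    apply X.isExtension.incl_injective
    rw [h, map_zero]
  · rintro rfl
    exact map_zero _

lemma exists_incl_of_proj_eq (X : Ext A B L) {x y : X.E} (h : X.proj x = X.proj y) :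
    ∃ z : L, x = y + X.incl z := by
  have h0 : X.proj (x - y) = 0 := by rw [map_sub, h, sub_self]
  obtain ⟨z, hz⟩ := (X.isExtension.exact _).1 h0
  exact ⟨z, by rw [hz]; ring⟩

/-- Five lemma: an algebra map between middle rings compatible with projections and inclusions is an
equivalence of extensions. -/
noncomputable def equivOfHom (X Y : Ext A B L) (f : X.E →ₐ[A] Y.E)
    (hp : ∀ x, Y.proj (f x) = X.proj x) (hi : ∀ z, f (X.incl z) = Y.incl z) : X.Equiv Y where
  toAlgEquiv := AlgEquiv.ofBijective f (by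
    constructor
    · rw [injective_iff_map_eq_zero]
      intro x hx
      have h0 : X.proj x = 0 := by rw [← hp, hx, map_zero]
      obtain ⟨z, rfl⟩ := (X.isExtension.exact _).1 h0
      rw [hi, incl_eq_zero_iff] at hx
      rw [hx, map_zero]
    · intro y
      obtain ⟨x, hx⟩ := X.isExtension.proj_surjective (Y.proj y)
      obtain ⟨z, hz⟩ := exists_incl_of_proj_eq Y (x := y) (y := f x) (by rw [hp, hx])
      exact ⟨x + X.incl z, by rw [map_add, hi, hz]⟩)
  proj_apply x := hp x
  apply_incl z := hi z

end General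

section Conormal

variable {B : Type u} [CommRing B] (J : Ideal B) {M : Type u} [AddCommGroup M] [Module (B ⧸ J) M]
  [Module B M] [IsScalarTower B (B ⧸ J) M]

lemma incl_smul (X : Ext B (B ⧸ J) M) (b : B) (m : M) : X.incl (b • m) = b • X.incl m := by
  rw [Algebra.smul_def, X.isExtension.mul_incl, X.proj.commutes, IsScalarTower.algebraMap_smul]

/-- The inclusion as a `B`-linear map. -/
noncomputable def inclₗ (X : Ext B (B ⧸ J) M) : M →ₗ[B] X.E where
  toFun := X.incl
  map_add' := map_add _
  map_smul' := incl_smul J X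

/-- The canonical surjection `B × M → E`. -/
noncomputable def phi (X : Ext B (B ⧸ J) M) : (B × M) →ₗ[B] X.E :=
  (Algebra.linearMap B X.E).coprod (inclₗ J X)

lemma phi_apply (X : Ext B (B ⧸ J) M) (b : B) (m : M) :
    phi J X (b, m) = algebraMap B X.E b + X.incl m := rfl

lemma phi_surjective (X : Ext B (B ⧸ J) M) : Function.Surjective (phi J X) := by
  intro x
  obtain ⟨b, hb⟩ := Ideal.Quotient.mk_surjective (X.proj x)
  obtain ⟨m, hm⟩ := exists_incl_of_proj_eq X (x := x) (y := algebraMap B X.E b) (by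
    rw [X.proj.commutes, ← hb]; rfl)
  exact ⟨(b, m), by rw [phi_apply, hm]⟩

lemma phi_mul (X : Ext B (B ⧸ J) M) (b b' : B) (m m' : M) :
    phi J X (b, m) * phi J X (b', m') = phi J X (b * b', b • m' + b' • m) := by
  simp only [phi_apply, map_add, incl_smul, map_mul, Algebra.smul_def]
  have := incl_mul_incl X m m'
  linear_combination this

lemma proj_phi (X : Ext B (B ⧸ J) M) (b : B) (m : M) :
    X.proj (phi J X (b, m)) = Ideal.Quotient.mk J b := by
  rw [phi_apply, map_add, proj_incl, add_zero, X.proj.commutes]; rfl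

lemma incl_idealToKer (X : Ext B (B ⧸ J) M) (z : J) :
    X.incl (X.idealToKer J z) = algebraMap B X.E z :=
  X.incl_kerLift _ (X.proj_algebraMap_eq_zero J z)

lemma mem_ker_phi (X : Ext B (B ⧸ J) M) (b : B) (m : M) :
    (b, m) ∈ LinearMap.ker (phi J X) ↔ ∃ h : b ∈ J, m = - X.idealToKer J ⟨b, h⟩ := by
  rw [LinearMap.mem_ker]
  constructor
  · intro h0
    have hb : b ∈ J := by
      rw [← Ideal.Quotient.eq_zero_iff_mem, ← proj_phi J X b m, h0, map_zero]
    refine ⟨hb, ?_⟩
    apply X.isExtension.incl_injective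
    rw [map_neg, incl_idealToKer]
    rw [phi_apply] at h0
    exact eq_neg_of_add_eq_zero_right h0
  · rintro ⟨hb, rfl⟩
    rw [phi_apply, map_neg, incl_idealToKer, add_neg_cancel]

lemma conormalMap_toCotangent (X : Ext B (B ⧸ J) M) (z : J) :
    X.conormalMap J (J.toCotangent z) = X.idealToKer J z := rfl

lemma idealToKer_eq_of_conormalMap_eq (X Y : Ext B (B ⧸ J) M)
    (h : X.conormalMap J = Y.conormalMap J) : X.idealToKer J = Y.idealToKer J := by
  ext z
  rw [← conormalMap_toCotangent, ← conormalMap_toCotangent, h]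

lemma ker_phi_eq_of_idealToKer_eq (X Y : Ext B (B ⧸ J) M)
    (h : X.idealToKer J = Y.idealToKer J) : LinearMap.ker (phi J X) = LinearMap.ker (phi J Y) := by
  ext ⟨b, m⟩
  rw [mem_ker_phi, mem_ker_phi, h]

/-- The linear equivalence between the middle rings of two extensions with the same kernel
of `phi`. -/
noncomputable def linearEquivOfKerEq (X Y : Ext B (B ⧸ J) M)
    (h : LinearMap.ker (phi J X) = LinearMap.ker (phi J Y)) : X.E ≃ₗ[B] Y.E :=
  ((phi J X).quotKerEquivOfSurjective (phi_surjective J X)).symm ≪≫ₗ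
    (Submodule.quotEquivOfEq _ _ h) ≪≫ₗ (phi J Y).quotKerEquivOfSurjective (phi_surjective J Y)

lemma linearEquivOfKerEq_phi (X Y : Ext B (B ⧸ J) M)
    (h : LinearMap.ker (phi J X) = LinearMap.ker (phi J Y)) (t : B × M) :
    linearEquivOfKerEq J X Y h (phi J X t) = phi J Y t := by
  have h1 : ((phi J X).quotKerEquivOfSurjective (phi_surjective J X)).symm (phi J X t) =
      Submodule.Quotient.mk t := by
    rw [LinearEquiv.symm_apply_eq]
    rfl
  simp only [linearEquivOfKerEq, LinearEquiv.trans_apply, h1]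
  rfl

/-- Two extensions with the same `idealToKer` are equivalent. -/
noncomputable def equivOfIdealToKerEq (X Y : Ext B (B ⧸ J) M)
    (h : X.idealToKer J = Y.idealToKer J) : X.Equiv Y := by
  have hK := ker_phi_eq_of_idealToKer_eq J X Y h
  let e := linearEquivOfKerEq J X Y hK
  have he : ∀ t, e (phi J X t) = phi J Y t := linearEquivOfKerEq_phi J X Y hK
  have hone : e 1 = 1 := by
    have h1 : (1 : X.E) = phi J X (1, 0) := by rw [phi_apply, map_one, map_zero, add_zero]
    rw [h1, he, phi_apply, map_one, map_zero, add_zero]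
  have hmul : ∀ x y, e (x * y) = e x * e y := by
    intro x y
    obtain ⟨⟨b, m⟩, rfl⟩ := phi_surjective J X x
    obtain ⟨⟨b', m'⟩, rfl⟩ := phi_surjective J X y
    rw [phi_mul, he, he, he, phi_mul]
  refine ⟨AlgEquiv.ofLinearEquiv e hone hmul, ?_, ?_⟩
  · intro x
    obtain ⟨⟨b, m⟩, rfl⟩ := phi_surjective J X x
    show Y.proj (e _) = _
    rw [he, proj_phi, proj_phi]
  · intro z
    have h1 : X.incl z = phi J X (0, z) := by rw [phi_apply, map_zero, zero_add]
    show e _ = _
    rw [h1, he, phi_apply, map_zero, zero_add]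

end Conormal

section OfSurjective

variable {A : Type u} {B E : Type v} [CommRing A] [CommRing B] [Algebra A B] [CommRing E]
  [Algebra A E]

lemma ker_proj_sq {L : Type v} [AddCommGroup L] [Module B L] (X : Ext A B L) :
    RingHom.ker (X.proj : X.E →+* B) ^ 2 = ⊥ := by
  rw [eq_bot_iff, pow_two, Ideal.mul_le]
  intro x hx y hy
  obtain ⟨z, rfl⟩ := (X.isExtension.exact x).1 hx
  obtain ⟨z', rfl⟩ := (X.isExtension.exact y).1 hy
  rw [incl_mul_incl]
  exact Ideal.zero_mem _

lemma isNilpotent_ker_proj {L : Type v} [AddCommGroup L] [Module B L] (X : Ext A B L) :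
    IsNilpotent (RingHom.ker (X.proj : X.E →+* B)) :=
  ⟨2, ker_proj_sq X⟩

variable (p : E →ₐ[A] B) (hp : Function.Surjective p)
  (h2 : ∀ x y : E, p x = 0 → p y = 0 → x * y = 0)

/-- The action of `B` on the kernel of a surjection `E → B` with square-zero kernel. -/
@[reducible] noncomputable def kerModule : Module B (RingHom.ker (p : E →+* B)) :=
  letI : SMul B (RingHom.ker (p : E →+* B)) := ⟨fun b z => Function.surjInv hp b • z⟩
  Function.Surjective.moduleLeft (p : E →+* B) hp (by
    intro c x
    apply Subtype.ext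
    show Function.surjInv hp (p c) * (x : E) = c * x
    have h0 : p (Function.surjInv hp (p c) - c) = 0 := by
      rw [map_sub, Function.surjInv_eq hp, sub_self]
    have := h2 _ _ h0 x.2
    linear_combination this)

lemma kerModule_smul (x : E) (z : RingHom.ker (p : E →+* B)) :
    letI := kerModule p hp h2
    ((p x • z : RingHom.ker (p : E →+* B)) : E) = x * z := by
  let _ := kerModule p hp h2
  show Function.surjInv hp (p x) * (z : E) = x * z
  have h0 : p (Function.surjInv hp (p x) - x) = 0 := by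
    rw [map_sub, Function.surjInv_eq hp, sub_self]
  have := h2 _ _ h0 z.2
  linear_combination this

/-- The extension of `B` by the kernel of a surjection `p : E → B` whose kernel has square zero. -/
noncomputable def ofSurjective :
    @Ext A B (RingHom.ker (p : E →+* B)) _ _ _ _ (kerModule p hp h2) :=
  letI := kerModule p hp h2
  { E := E
    proj := p
    incl := (RingHom.ker (p : E →+* B)).subtype.toAddMonoidHom
    isExtension :=
      { proj_surjective := hp
        incl_injective := Subtype.val_injective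
        exact := fun x => ⟨fun h => ⟨⟨x, h⟩, rfl⟩, by rintro ⟨z, rfl⟩; exact z.2⟩
        mul_incl := fun x z => (kerModule_smul p hp h2 x z).symm } }

include hp h2 in
/-- If all extensions of `B` are trivial, any surjection onto `B` with square-zero kernel has
a section. -/
lemma exists_section_of_forall_isTrivial
    (H : ∀ (L : Type v) [AddCommGroup L] [Module B L] (X : Ext A B L), X.IsTrivial) :
    ∃ s : B →ₐ[A] E, ∀ b, p (s b) = b :=
  letI := kerModule p hp h2
  H _ (ofSurjective p hp h2)

end OfSurjective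

section FiberProd

variable {A : Type u} {B C : Type v} [CommRing A] [CommRing B] [Algebra A B] [CommRing C]
  [Algebra A C] (I : Ideal C) (g : B →ₐ[A] C ⧸ I)

/-- The fibre product `C ×_{C/I} B`. -/
def fiberProd : Subalgebra A (C × B) :=
  AlgHom.equalizer ((Ideal.Quotient.mkₐ A I).comp (AlgHom.fst A C B)) (g.comp (AlgHom.snd A C B))

lemma mem_fiberProd (x : C × B) : x ∈ fiberProd I g ↔ Ideal.Quotient.mk I x.1 = g x.2 := Iff.rfl

/-- Second projection. -/
def fiberProdSnd : fiberProd I g →ₐ[A] B := (AlgHom.snd A C B).comp (fiberProd I g).val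

/-- First projection. -/
def fiberProdFst : fiberProd I g →ₐ[A] C := (AlgHom.fst A C B).comp (fiberProd I g).val

lemma mk_fiberProdFst (x : fiberProd I g) :
    Ideal.Quotient.mk I (fiberProdFst I g x) = g (fiberProdSnd I g x) := x.2

lemma fiberProdSnd_surjective : Function.Surjective (fiberProdSnd I g) := by
  intro b
  obtain ⟨c, hc⟩ := Ideal.Quotient.mk_surjective (g b)
  exact ⟨⟨(c, b), hc⟩, rfl⟩

lemma fiberProd_mul_eq_zero (hI : I ^ 2 = ⊥) (x y : fiberProd I g)
    (hx : fiberProdSnd I g x = 0) (hy : fiberProdSnd I g y = 0) : x * y = 0 := by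
  have hx1 : fiberProdFst I g x ∈ I := by
    rw [← Ideal.Quotient.eq_zero_iff_mem, mk_fiberProdFst, hx, map_zero]
  have hy1 : fiberProdFst I g y ∈ I := by
    rw [← Ideal.Quotient.eq_zero_iff_mem, mk_fiberProdFst, hy, map_zero]
  have hxy : fiberProdFst I g x * fiberProdFst I g y = 0 := by
    have : fiberProdFst I g x * fiberProdFst I g y ∈ I ^ 2 := by
      rw [pow_two]; exact Ideal.mul_mem_mul hx1 hy1
    rw [hI] at this
    exact this
  apply Subtype.ext
  apply Prod.ext
  · exact hxy
  · show fiberProdSnd I g x * fiberProdSnd I g y = 0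
    rw [hx, zero_mul]

end FiberProd

section TrivialOver

variable {A : Type u} {B L : Type v} [CommRing A] [CommRing B] [Algebra A B] [AddCommGroup L]
  [Module B L]
variable (A' : Type w) [CommRing A'] [Algebra A' A] [Algebra A' B] [IsScalarTower A' A B]

/-- Triviality over `A'` without the carrier wrapper: a ring section compatible with `A'`. -/
lemma isTrivialOver_iff (X : Ext A B L) :
    X.IsTrivialOver A' ↔ ∃ s : B →+* X.E, (∀ b, X.proj (s b) = b) ∧
      ∀ a : A', s (algebraMap A' B a) = algebraMap A X.E (algebraMap A' A a) := by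
  constructor
  · rintro ⟨s, hs⟩
    exact ⟨(s.toRingHom : B →+* X.RestrictCarrier A'), hs, s.commutes⟩
  · rintro ⟨s, hs, hc⟩
    exact ⟨({ toRingHom := (s : B →+* X.RestrictCarrier A'), commutes' := hc } :
      B →ₐ[A'] (X.restrictBase A').E), hs⟩

lemma isTrivial_iff (X : Ext A B L) :
    X.IsTrivial ↔ ∃ s : B →+* X.E, (∀ b, X.proj (s b) = b) ∧
      ∀ a : A, s (algebraMap A B a) = algebraMap A X.E a := by
  constructor
  · rintro ⟨s, hs⟩
    exact ⟨s.toRingHom, hs, s.commutes⟩
  · rintro ⟨s, hs, hc⟩
    exact ⟨{ toRingHom := s, commutes' := hc }, hs⟩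

lemma isTrivialOver_of_equiv {X Y : Ext A B L} (e : X.Equiv Y) (h : Y.IsTrivialOver A') :
    X.IsTrivialOver A' := by
  rw [isTrivialOver_iff] at h ⊢
  obtain ⟨s, hs, hc⟩ := h
  refine ⟨(e.symm.toAlgEquiv : Y.E →+* X.E).comp s, fun b => ?_, fun a => ?_⟩
  · show X.proj (e.symm.toAlgEquiv (s b)) = b
    rw [e.symm.proj_apply, hs]
  · show e.symm.toAlgEquiv (s (algebraMap A' B a)) = _
    rw [hc, AlgEquiv.commutes]

lemma isTrivial_of_equiv {X Y : Ext A B L} (e : X.Equiv Y) (h : Y.IsTrivial) :
    X.IsTrivial := by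
  obtain ⟨s, hs⟩ := h
  refine ⟨(e.symm.toAlgEquiv : Y.E →ₐ[A] X.E).comp s, fun b => ?_⟩
  show X.proj (e.symm.toAlgEquiv (s b)) = b
  rw [e.symm.proj_apply, hs]

end TrivialOver

section DerCarrier

attribute [local instance] Exal.opModule Exal.isCentralScalar_opModule

variable {A : Type u} {B C L : Type v} [CommRing A] [CommRing B] [CommRing C]
  [Algebra A B] [Algebra B C] [Algebra A C] [IsScalarTower A B C]
  [AddCommGroup L] [Module C L] [Module B L] [IsScalarTower B C L] [Module A L] [IsScalarTower A B L]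
  (D : Derivation A B L)

/-- First component on the carrier of `ofDerivation D`. -/
def fstD (t : (Ext.ofDerivation (C := C) D).E) : C := TrivSqZeroExt.fst (t : TrivSqZeroExt C L)

/-- Second component on the carrier of `ofDerivation D`. -/
def sndD (t : (Ext.ofDerivation (C := C) D).E) : L := TrivSqZeroExt.snd (t : TrivSqZeroExt C L)

/-- The element `(c, z)` of the carrier of `ofDerivation D`. -/
def mkD (c : C) (z : L) : (Ext.ofDerivation (C := C) D).E :=
  (TrivSqZeroExt.inl c + TrivSqZeroExt.inr z : TrivSqZeroExt C L)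

variable {D}

lemma extD {t t' : (Ext.ofDerivation (C := C) D).E} (h1 : fstD D t = fstD D t')
    (h2 : sndD D t = sndD D t') : t = t' :=
  TrivSqZeroExt.ext (x := (t : TrivSqZeroExt C L)) (y := (t' : TrivSqZeroExt C L)) h1 h2

lemma fstD_mkD (c : C) (z : L) : fstD D (mkD D c z) = c := by
  show TrivSqZeroExt.fst (TrivSqZeroExt.inl c + TrivSqZeroExt.inr z : TrivSqZeroExt C L) = c
  simp

lemma sndD_mkD (c : C) (z : L) : sndD D (mkD D c z) = z := by
  show TrivSqZeroExt.snd (TrivSqZeroExt.inl c + TrivSqZeroExt.inr z : TrivSqZeroExt C L) = z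
  simp

lemma mkD_fstD_sndD (t : (Ext.ofDerivation (C := C) D).E) : mkD D (fstD D t) (sndD D t) = t :=
  extD (fstD_mkD _ _) (sndD_mkD _ _)

lemma fstD_mul (t t' : (Ext.ofDerivation (C := C) D).E) :
    fstD D (t * t') = fstD D t * fstD D t' :=
  TrivSqZeroExt.fst_mul (t : TrivSqZeroExt C L) (t' : TrivSqZeroExt C L)

lemma sndD_mul (t t' : (Ext.ofDerivation (C := C) D).E) :
    sndD D (t * t') = fstD D t • sndD D t' + fstD D t' • sndD D t := by
  have := TrivSqZeroExt.snd_mul (t : TrivSqZeroExt C L) (t' : TrivSqZeroExt C L)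
  rw [op_smul_eq_smul] at this
  exact this

lemma fstD_add (t t' : (Ext.ofDerivation (C := C) D).E) :
    fstD D (t + t') = fstD D t + fstD D t' :=
  TrivSqZeroExt.fst_add (t : TrivSqZeroExt C L) (t' : TrivSqZeroExt C L)

lemma sndD_add (t t' : (Ext.ofDerivation (C := C) D).E) :
    sndD D (t + t') = sndD D t + sndD D t' :=
  TrivSqZeroExt.snd_add (t : TrivSqZeroExt C L) (t' : TrivSqZeroExt C L)

lemma fstD_zero : fstD D (0 : (Ext.ofDerivation (C := C) D).E) = 0 := rfl
lemma sndD_zero : sndD D (0 : (Ext.ofDerivation (C := C) D).E) = 0 := rfl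
lemma fstD_one : fstD D (1 : (Ext.ofDerivation (C := C) D).E) = 1 := rfl
lemma sndD_one : sndD D (1 : (Ext.ofDerivation (C := C) D).E) = 0 := rfl

lemma fstD_algebraMap (b : B) :
    fstD D (algebraMap B (Ext.ofDerivation (C := C) D).E b) = algebraMap B C b := by
  show TrivSqZeroExt.fst (TrivSqZeroExt.inl (algebraMap B C b) + TrivSqZeroExt.inr (D b) :
    TrivSqZeroExt C L) = _
  simp

lemma sndD_algebraMap (b : B) :
    sndD D (algebraMap B (Ext.ofDerivation (C := C) D).E b) = D b := by
  show TrivSqZeroExt.snd (TrivSqZeroExt.inl (algebraMap B C b) + TrivSqZeroExt.inr (D b) :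
    TrivSqZeroExt C L) = _
  simp

lemma proj_ofDerivation (t : (Ext.ofDerivation (C := C) D).E) :
    (Ext.ofDerivation (C := C) D).proj t = fstD D t := rfl

lemma fstD_incl (z : L) : fstD D ((Ext.ofDerivation (C := C) D).incl z) = 0 := rfl

lemma sndD_incl (z : L) : sndD D ((Ext.ofDerivation (C := C) D).incl z) = z := rfl

end DerCarrier

end Groth.Agent.Lib.Helper29.ExalLib
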