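import Groth.Prelude.Def_Exal3
import Groth.Agent.Lib.Helper29.Exal
import Mathlib.RingTheory.Kaehler.Basic
import Mathlib.RingTheory.TensorProduct.Basic
import Mathlib.Algebra.Module.Injective

/-!
# The characteristic homomorphism of an extension: helper library
-/

universe u v

set_option linter.unusedSectionVars false

namespace Groth.Agent.Lib.Helper29.CharHomLib

open Exal TensorProduct Groth.Agent.Lib.Helper29.ExalLib

section Basic

variable (A : Type u) {B C L : Type v} [CommRing A] [CommRing B] [CommRing C] [Algebra A B]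
  [Algebra B C] [Algebra A C] [IsScalarTower A B C] [AddCommGroup L] [Module C L]
  (X : Exal.Ext B C L)

lemma algebraMap_E_C (e : X.CharCarrier A) : algebraMap (X.CharCarrier A) C e = X.proj e := rfl

lemma algebraMap_B_E (b : B) : algebraMap B (X.CharCarrier A) b = algebraMap B X.E b := rfl

lemma algebraMap_A_E (a : A) :
    algebraMap A (X.CharCarrier A) a = algebraMap B (X.CharCarrier A) (algebraMap A B a) := rfl

lemma algebraMap_inclC (z : L) : algebraMap (X.CharCarrier A) C (X.inclC A z) = 0 :=
  proj_incl X z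

lemma mul_inclC (e : X.CharCarrier A) (z : L) :
    e * X.inclC A z = X.inclC A (algebraMap (X.CharCarrier A) C e • z) :=
  X.isExtension.mul_incl e z

lemma inclC_injective : Function.Injective (X.inclC A) := X.isExtension.incl_injective

lemma exists_inclC_eq {e : X.CharCarrier A} (h : algebraMap (X.CharCarrier A) C e = 0) :
    ∃ z : L, X.inclC A z = e := (X.isExtension.exact e).1 h

lemma inclC_mul_inclC (z z' : L) : X.inclC A z * X.inclC A z' = 0 := incl_mul_incl X z z'

lemma algebraMap_E_C_surjective : Function.Surjective (algebraMap (X.CharCarrier A) C) :=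
  X.isExtension.proj_surjective

/-- An `A`-algebra section of the projection, on the carrier `X.CharCarrier A`. -/
structure ASection where
  /-- the section -/
  s : C →+* X.CharCarrier A
  proj_s : ∀ c, algebraMap (X.CharCarrier A) C (s c) = c
  s_algebraMap : ∀ a : A, s (algebraMap A C a) = algebraMap A (X.CharCarrier A) a

lemma isTrivialOver_iff_nonempty_aSection : X.IsTrivialOver A ↔ Nonempty (ASection A X) := by
  rw [isTrivialOver_iff]
  constructor
  · rintro ⟨s, hs, hc⟩
    exact ⟨⟨(s : C →+* X.CharCarrier A), hs, hc⟩⟩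
  · rintro ⟨⟨s, hs, hc⟩⟩
    exact ⟨(s : C →+* X.E), hs, hc⟩

variable {A X}

/-- The `L`-component of an element of the middle ring with respect to a section. -/
noncomputable def ASection.comp (σ : ASection A X) (e : X.CharCarrier A) : L :=
  X.kerLift (e - σ.s (algebraMap (X.CharCarrier A) C e) : X.CharCarrier A) (by
    show algebraMap (X.CharCarrier A) C (e - σ.s (algebraMap (X.CharCarrier A) C e)) = 0
    rw [map_sub, σ.proj_s, sub_self])

lemma ASection.inclC_comp (σ : ASection A X) (e : X.CharCarrier A) :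
    X.inclC A (σ.comp e) = e - σ.s (algebraMap (X.CharCarrier A) C e) :=
  X.incl_kerLift _ _

lemma ASection.eq_add (σ : ASection A X) (e : X.CharCarrier A) :
    e = σ.s (algebraMap (X.CharCarrier A) C e) + X.inclC A (σ.comp e) := by
  rw [σ.inclC_comp]; ring

lemma ASection.comp_inclC (σ : ASection A X) (z : L) : σ.comp (X.inclC A z) = z := by
  apply inclC_injective A X
  rw [σ.inclC_comp, algebraMap_inclC, map_zero, sub_zero]

lemma ASection.comp_s (σ : ASection A X) (c : C) : σ.comp (σ.s c) = 0 := by
  apply inclC_injective A X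
  rw [σ.inclC_comp, σ.proj_s, sub_self, map_zero]

lemma ASection.comp_add (σ : ASection A X) (e e' : X.CharCarrier A) :
    σ.comp (e + e') = σ.comp e + σ.comp e' := by
  apply inclC_injective A X
  rw [map_add, σ.inclC_comp, σ.inclC_comp, σ.inclC_comp, map_add, map_add]; ring

lemma ASection.comp_mul (σ : ASection A X) (e e' : X.CharCarrier A) :
    σ.comp (e * e') = algebraMap (X.CharCarrier A) C e • σ.comp e' +
      algebraMap (X.CharCarrier A) C e' • σ.comp e := by
  apply inclC_injective A X
  rw [map_add, σ.inclC_comp, ← mul_inclC, σ.inclC_comp]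
  conv_rhs => rw [← σ.proj_s (algebraMap (X.CharCarrier A) C e'), ← mul_inclC, σ.proj_s,
    σ.inclC_comp]
  rw [map_mul, map_mul]; ring

lemma ASection.comp_algebraMap (σ : ASection A X) (a : A) :
    σ.comp (algebraMap A (X.CharCarrier A) a) = 0 := by
  rw [← σ.s_algebraMap, σ.comp_s]

end Basic

section Generators

variable {A : Type u} {B C : Type v} [CommRing A] [CommRing B] [CommRing C] [Algebra A B]
  [Algebra B C]

/-- Additive maps out of `C ⊗_B Ω_{B/A}` agreeing on the `c ⊗ d b` are equal. -/
lemma addMonoidHom_ext_tmul_D {N : Type*} [AddCommGroup N] (f g : C ⊗[B] Ω[B⁄A] →+ N)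
    (h : ∀ (c : C) (b : B), f (c ⊗ₜ KaehlerDifferential.D A B b) =
      g (c ⊗ₜ KaehlerDifferential.D A B b)) : f = g := by
  apply AddMonoidHom.ext
  intro t
  induction t using TensorProduct.induction_on with
  | zero => rw [map_zero, map_zero]
  | add x y hx hy => rw [map_add, map_add, hx, hy]
  | tmul c ω =>
    have hω : ω ∈ Submodule.span B (Set.range (KaehlerDifferential.D A B)) := by
      rw [KaehlerDifferential.span_range_derivation]; trivial
    induction hω using Submodule.span_induction generalizing c with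
    | mem x hx => obtain ⟨b, rfl⟩ := hx; exact h c b
    | zero => rw [tmul_zero, map_zero, map_zero]
    | add x y _ _ hx hy => rw [tmul_add, map_add, map_add, hx, hy]
    | smul b x _ hx => rw [← TensorProduct.smul_tmul]; exact hx (b • c)

lemma forall_of_tmul_D {N : Type*} [AddCommGroup N] (f g : C ⊗[B] Ω[B⁄A] →+ N)
    (h : ∀ (c : C) (b : B), f (c ⊗ₜ KaehlerDifferential.D A B b) =
      g (c ⊗ₜ KaehlerDifferential.D A B b)) (t : C ⊗[B] Ω[B⁄A]) : f t = g t := by
  rw [addMonoidHom_ext_tmul_D f g h]

end Generators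

section Deriv

variable {A : Type u} {B C L : Type v} [CommRing A] [CommRing B] [CommRing C] [Algebra A B]
  [Algebra B C] [Algebra A C] [IsScalarTower A B C] [AddCommGroup L] [Module C L]
  [Module A L] [IsScalarTower A C L] [Module B L] [IsScalarTower B C L] [IsScalarTower A B L]
  {X : Exal.Ext B C L} [Module (X.CharCarrier A) L] [IsScalarTower (X.CharCarrier A) C L]
  [IsScalarTower A (X.CharCarrier A) L] [IsScalarTower B (X.CharCarrier A) L]

/-- The `A`-derivation `E → L` attached to a section. -/
noncomputable def ASection.deriv (σ : ASection A X) : Derivation A (X.CharCarrier A) L where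
  toFun := σ.comp
  map_add' := σ.comp_add
  map_smul' a e := by
    rw [RingHom.id_apply, Algebra.smul_def, σ.comp_mul, σ.comp_algebraMap, smul_zero, add_zero,
      ← IsScalarTower.algebraMap_apply A (X.CharCarrier A) C, IsScalarTower.algebraMap_smul]
  map_one_eq_zero' := by
    show σ.comp 1 = 0
    rw [← map_one σ.s, σ.comp_s]
  leibniz' e e' := by
    show σ.comp (e * e') = e • σ.comp e' + e' • σ.comp e
    rw [σ.comp_mul, IsScalarTower.algebraMap_smul, IsScalarTower.algebraMap_smul]

lemma ASection.deriv_apply (σ : ASection A X) (e : X.CharCarrier A) : σ.deriv e = σ.comp e := rfl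

/-- The retraction `C ⊗_E Ω_{E/A} → L` attached to a section. -/
noncomputable def ASection.retraction (σ : ASection A X) :
    C ⊗[X.CharCarrier A] Ω[X.CharCarrier A⁄A] →ₗ[C] L :=
  σ.deriv.liftKaehlerDifferential.liftBaseChange C

lemma ASection.retraction_tmul_D (σ : ASection A X) (c : C) (e : X.CharCarrier A) :
    σ.retraction (c ⊗ₜ KaehlerDifferential.D A (X.CharCarrier A) e) = c • σ.comp e := by
  rw [ASection.retraction, LinearMap.liftBaseChange_tmul, Derivation.liftKaehlerDifferential_comp_D]
  rfl

lemma ASection.retraction_deltaL (σ : ASection A X) (z : L) :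
    σ.retraction (X.deltaL A z) = z := by
  show σ.retraction ((1 : C) ⊗ₜ KaehlerDifferential.D A (X.CharCarrier A) (X.inclC A z)) = z
  rw [σ.retraction_tmul_D, one_smul, σ.comp_inclC]

lemma deltaL_injective_of_aSection (σ : ASection A X) : Function.Injective (X.deltaL A) := by
  intro z z' h
  rw [← σ.retraction_deltaL z, h, σ.retraction_deltaL]

/-- The `A`-derivation `B → L` attached to a section: `q b = s (v b) + i (D b)`. -/
noncomputable def ASection.derivB (σ : ASection A X) : Derivation A B L :=
  σ.deriv.compAlgebraMap B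

lemma ASection.derivB_apply (σ : ASection A X) (b : B) :
    σ.derivB b = σ.comp (algebraMap B (X.CharCarrier A) b) := rfl

/-- The `C`-linear map `C ⊗_B Ω_{B/A} → L` attached to a section. -/
noncomputable def ASection.tilde (σ : ASection A X) : C ⊗[B] Ω[B⁄A] →ₗ[C] L :=
  σ.derivB.liftKaehlerDifferential.liftBaseChange C

lemma ASection.tilde_tmul_D (σ : ASection A X) (c : C) (b : B) :
    σ.tilde (c ⊗ₜ KaehlerDifferential.D A B b) =
      c • σ.comp (algebraMap B (X.CharCarrier A) b) := by
  rw [ASection.tilde, LinearMap.liftBaseChange_tmul, Derivation.liftKaehlerDifferential_comp_D]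
  rfl

end Deriv

section Main

variable {A : Type u} {B C L : Type v} [CommRing A] [CommRing B] [CommRing C] [Algebra A B]
  [Algebra B C] [Algebra A C] [IsScalarTower A B C] [AddCommGroup L] [Module C L]

section NoModule

variable (A) (X : Exal.Ext B C L)

lemma baseChangeToMiddle_tmul (c : C) (ω : Ω[B⁄A]) :
    X.baseChangeToMiddle A (c ⊗ₜ ω) =
      c ⊗ₜ[X.CharCarrier A] KaehlerDifferential.map A A B (X.CharCarrier A) ω := rfl

lemma baseChangeToMiddle_tmul_D (c : C) (b : B) :
    X.baseChangeToMiddle A (c ⊗ₜ KaehlerDifferential.D A B b) =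
      c ⊗ₜ[X.CharCarrier A] KaehlerDifferential.D A (X.CharCarrier A)
        (algebraMap B (X.CharCarrier A) b) := by
  rw [baseChangeToMiddle_tmul, KaehlerDifferential.map_D]

lemma deltaL_apply (z : L) :
    X.deltaL A z = (1 : C) ⊗ₜ[X.CharCarrier A]
      KaehlerDifferential.D A (X.CharCarrier A) (X.inclC A z) := rfl

lemma mapBaseChange_baseChangeToMiddle (t : C ⊗[B] Ω[B⁄A]) :
    KaehlerDifferential.mapBaseChange A (X.CharCarrier A) C (X.baseChangeToMiddle A t) =
      KaehlerDifferential.mapBaseChange A B C t := by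
  refine forall_of_tmul_D
    ((KaehlerDifferential.mapBaseChange A (X.CharCarrier A) C).toAddMonoidHom.comp
      (X.baseChangeToMiddle A).toAddMonoidHom)
    (KaehlerDifferential.mapBaseChange A B C).toAddMonoidHom ?_ t
  intro c b
  show KaehlerDifferential.mapBaseChange A (X.CharCarrier A) C
      (X.baseChangeToMiddle A (c ⊗ₜ KaehlerDifferential.D A B b)) =
    KaehlerDifferential.mapBaseChange A B C (c ⊗ₜ KaehlerDifferential.D A B b)
  rw [baseChangeToMiddle_tmul_D, KaehlerDifferential.mapBaseChange_tmul,
    KaehlerDifferential.mapBaseChange_tmul, KaehlerDifferential.map_D, KaehlerDifferential.map_D,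
    ← IsScalarTower.algebraMap_apply B (X.CharCarrier A) C]

lemma exists_deltaL_eq_of_mapBaseChange_eq_zero (t : C ⊗[X.CharCarrier A] Ω[X.CharCarrier A⁄A])
    (ht : KaehlerDifferential.mapBaseChange A (X.CharCarrier A) C t = 0) :
    ∃ z : L, X.deltaL A z = t := by
  have hr := KaehlerDifferential.range_kerCotangentToTensor A (X.CharCarrier A) C
    (algebraMap_E_C_surjective A X)
  have hmem : t ∈ LinearMap.range (KaehlerDifferential.kerCotangentToTensor A (X.CharCarrier A) C) := by
    rw [hr]
    exact ht
  obtain ⟨y, rfl⟩ := hmem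
  obtain ⟨x, rfl⟩ := Ideal.toCotangent_surjective _ y
  obtain ⟨z, hz⟩ := exists_inclC_eq A X (RingHom.mem_ker.1 x.2)
  refine ⟨z, ?_⟩
  rw [KaehlerDifferential.kerCotangentToTensor_toCotangent, deltaL_apply, hz]

end NoModule

variable [Module A L] [IsScalarTower A C L] [Module B L] [IsScalarTower B C L] [IsScalarTower A B L]
  {X : Exal.Ext B C L} [Module (X.CharCarrier A) L] [IsScalarTower (X.CharCarrier A) C L]
  [IsScalarTower A (X.CharCarrier A) L] [IsScalarTower B (X.CharCarrier A) L]

lemma ASection.retraction_baseChangeToMiddle (σ : ASection A X) (t : C ⊗[B] Ω[B⁄A]) :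
    σ.retraction (X.baseChangeToMiddle A t) = σ.tilde t := by
  refine forall_of_tmul_D
    (σ.retraction.toAddMonoidHom.comp (X.baseChangeToMiddle A).toAddMonoidHom)
    σ.tilde.toAddMonoidHom ?_ t
  intro c b
  show σ.retraction (X.baseChangeToMiddle A (c ⊗ₜ KaehlerDifferential.D A B b)) =
    σ.tilde (c ⊗ₜ KaehlerDifferential.D A B b)
  rw [baseChangeToMiddle_tmul_D, σ.retraction_tmul_D, σ.tilde_tmul_D]

/-- The characteristic homomorphism is the restriction of `σ.tilde` to the imperfection module. -/
theorem isCharHom_iff (σ : ASection A X) (χ : EGA41.imperfection A B C →ₗ[C] L) :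
    X.IsCharHom A χ ↔ ∀ z : EGA41.imperfection A B C, χ z = σ.tilde (z : C ⊗[B] Ω[B⁄A]) := by
  constructor
  · intro h z
    rw [← σ.retraction_baseChangeToMiddle, ← h z, σ.retraction_deltaL]
  · intro h z
    have hz : KaehlerDifferential.mapBaseChange A B C (z : C ⊗[B] Ω[B⁄A]) = 0 :=
      LinearMap.mem_ker.1 z.2
    obtain ⟨l, hl⟩ := exists_deltaL_eq_of_mapBaseChange_eq_zero A X
      (X.baseChangeToMiddle A (z : C ⊗[B] Ω[B⁄A]))
      (by rw [mapBaseChange_baseChangeToMiddle, hz])
    rw [h z, ← σ.retraction_baseChangeToMiddle, ← hl, σ.retraction_deltaL]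

/-- The characteristic homomorphism attached to a section. -/
noncomputable def ASection.charHom (σ : ASection A X) : EGA41.imperfection A B C →ₗ[C] L :=
  σ.tilde.comp (EGA41.imperfection A B C).subtype

lemma ASection.charHom_apply (σ : ASection A X) (z : EGA41.imperfection A B C) :
    σ.charHom z = σ.tilde (z : C ⊗[B] Ω[B⁄A]) := rfl

theorem isCharHom_iff_eq (σ : ASection A X) (χ : EGA41.imperfection A B C →ₗ[C] L) :
    X.IsCharHom A χ ↔ χ = σ.charHom := by
  rw [isCharHom_iff σ]
  constructor
  · intro h
    exact LinearMap.ext h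
  · rintro rfl z
    rfl

end Main

section Equiv

variable {A : Type u} {B C L : Type v} [CommRing A] [CommRing B] [CommRing C] [Algebra A B]
  [Algebra B C] [Algebra A C] [IsScalarTower A B C] [AddCommGroup L] [Module C L]
  {X Y : Exal.Ext B C L}

/-- Two extensions with sections having the same `B`-component function are equivalent. -/
noncomputable def equivOfComp (σX : ASection A X) (σY : ASection A Y)
    (h : ∀ b : B, σX.comp (algebraMap B (X.CharCarrier A) b) =
      σY.comp (algebraMap B (Y.CharCarrier A) b)) : X.Equiv Y := by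
  let f : X.CharCarrier A → Y.CharCarrier A := fun e =>
    σY.s (algebraMap (X.CharCarrier A) C e) + Y.inclC A (σX.comp e)
  have hf : ∀ e, f e = σY.s (algebraMap (X.CharCarrier A) C e) + Y.inclC A (σX.comp e) :=
    fun e => rfl
  have hone : σX.comp 1 = 0 := by rw [← map_one σX.s, σX.comp_s]
  have h1' : f 1 = 1 := by
    rw [hf, hone, map_one, map_one, map_zero, add_zero]
  have hmul : ∀ e e' : X.CharCarrier A, f (e * e') = f e * f e' := by
    intro e e'
    rw [hf, hf, hf, σX.comp_mul, map_mul, map_mul, map_add]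
    have h1 := mul_inclC A Y (σY.s (algebraMap (X.CharCarrier A) C e)) (σX.comp e')
    have h2 := mul_inclC A Y (σY.s (algebraMap (X.CharCarrier A) C e')) (σX.comp e)
    rw [σY.proj_s] at h1 h2
    have h3 := inclC_mul_inclC A Y (σX.comp e) (σX.comp e')
    rw [← h1, ← h2]
    linear_combination -h3
  have h0' : f 0 = 0 := by
    have h0 : σX.comp 0 = 0 := by rw [← map_zero σX.s, σX.comp_s]
    rw [hf, h0, map_zero, map_zero, map_zero, add_zero]
  have hadd : ∀ e e' : X.CharCarrier A, f (e + e') = f e + f e' := by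
    intro e e'
    rw [hf, hf, hf, σX.comp_add, map_add, map_add, map_add]; ring
  have hcomm : ∀ b : B, f (algebraMap B (X.CharCarrier A) b) = algebraMap B (Y.CharCarrier A) b := by
    intro b
    rw [hf, h b, σY.inclC_comp, ← IsScalarTower.algebraMap_apply B (X.CharCarrier A) C,
      ← IsScalarTower.algebraMap_apply B (Y.CharCarrier A) C]
    ring
  have hproj : ∀ e : X.CharCarrier A,
      algebraMap (Y.CharCarrier A) C (f e) = algebraMap (X.CharCarrier A) C e := by
    intro e
    rw [hf, map_add, σY.proj_s, algebraMap_inclC, add_zero]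
  have hincl : ∀ z : L, f (X.inclC A z) = Y.inclC A z := by
    intro z
    rw [hf, algebraMap_inclC, map_zero, σX.comp_inclC, zero_add]
  let g : X.E →ₐ[B] Y.E :=
    { toFun := f
      map_one' := h1'
      map_mul' := hmul
      map_zero' := h0'
      map_add' := hadd
      commutes' := hcomm }
  exact equivOfHom X Y g hproj hincl

end Equiv

section SubDeriv

variable {A : Type u} {B C L : Type v} [CommRing A] [CommRing B] [CommRing C] [Algebra A B]
  [Algebra B C] [Algebra A C] [IsScalarTower A B C] [AddCommGroup L] [Module C L]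
  [Module A L] {X : Exal.Ext B C L}

/-- Modify a section by a derivation `C → L`. -/
noncomputable def ASection.subDeriv (σ : ASection A X) (δ : Derivation A C L) : ASection A X where
  s :=
    { toFun := fun c => σ.s c - X.inclC A (δ c)
      map_one' := by rw [map_one, Derivation.map_one_eq_zero, map_zero, sub_zero]
      map_mul' := fun c c' => by
        rw [Derivation.leibniz, map_add, map_mul]
        have h1 := mul_inclC A X (σ.s c) (δ c')
        have h2 := mul_inclC A X (σ.s c') (δ c)
        rw [σ.proj_s] at h1 h2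
        have h3 := inclC_mul_inclC A X (δ c) (δ c')
        rw [← h1, ← h2]
        linear_combination -h3
      map_zero' := by rw [map_zero, map_zero, map_zero, sub_zero]
      map_add' := fun c c' => by rw [map_add, map_add, map_add]; ring }
  proj_s c := by
    show algebraMap (X.CharCarrier A) C (σ.s c - X.inclC A (δ c)) = c
    rw [map_sub, σ.proj_s, algebraMap_inclC, sub_zero]
  s_algebraMap a := by
    show σ.s (algebraMap A C a) - X.inclC A (δ (algebraMap A C a)) = _
    rw [Derivation.map_algebraMap, map_zero, sub_zero, σ.s_algebraMap]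

lemma ASection.subDeriv_s (σ : ASection A X) (δ : Derivation A C L) (c : C) :
    (σ.subDeriv δ).s c = σ.s c - X.inclC A (δ c) := rfl

lemma ASection.subDeriv_comp (σ : ASection A X) (δ : Derivation A C L) (e : X.CharCarrier A) :
    (σ.subDeriv δ).comp e = σ.comp e + δ (algebraMap (X.CharCarrier A) C e) := by
  apply inclC_injective A X
  rw [ASection.inclC_comp, map_add, σ.inclC_comp, σ.subDeriv_s]
  ring

end SubDeriv

section LinearAlgebra

variable {C : Type v} [CommRing C] {L M N : Type v} [AddCommGroup L] [Module C L]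
  [AddCommGroup M] [Module C M] [AddCommGroup N] [Module C N]

/-- A map vanishing on the kernel of `μ` induces a map on the range of `μ`. -/
noncomputable def rangeLift (μ : M →ₗ[C] N) (Δ : M →ₗ[C] L)
    (h : LinearMap.ker μ ≤ LinearMap.ker Δ) : LinearMap.range μ →ₗ[C] L :=
  ((LinearMap.ker μ).liftQ Δ h).comp (μ.quotKerEquivRange.symm : LinearMap.range μ →ₗ[C] _)

lemma rangeLift_apply (μ : M →ₗ[C] N) (Δ : M →ₗ[C] L)
    (h : LinearMap.ker μ ≤ LinearMap.ker Δ) (t : M) (ht : μ t ∈ LinearMap.range μ) :
    rangeLift μ Δ h ⟨μ t, ht⟩ = Δ t := by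
  have h1 : μ.quotKerEquivRange.symm ⟨μ t, ht⟩ = Submodule.Quotient.mk t := by
    rw [LinearEquiv.symm_apply_eq]
    rfl
  show (LinearMap.ker μ).liftQ Δ h (μ.quotKerEquivRange.symm ⟨μ t, ht⟩) = Δ t
  rw [h1]
  rfl

lemma exists_factor_of_injective [Module.Injective C L] (μ : M →ₗ[C] N) (Δ : M →ₗ[C] L)
    (h : LinearMap.ker μ ≤ LinearMap.ker Δ) : ∃ g : N →ₗ[C] L, ∀ t, g (μ t) = Δ t := by
  obtain ⟨g, hg⟩ := Module.Injective.extension_property C L _ _ (LinearMap.range μ).subtype
    (Submodule.injective_subtype _) (rangeLift μ Δ h)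
  refine ⟨g, fun t => ?_⟩
  have := LinearMap.congr_fun hg ⟨μ t, LinearMap.mem_range_self μ t⟩
  rw [rangeLift_apply] at this
  exact this

lemma exists_factor_of_proj (μ : M →ₗ[C] N) (Δ : M →ₗ[C] L)
    (h : LinearMap.ker μ ≤ LinearMap.ker Δ) (P : N →ₗ[C] N)
    (hP : ∀ n, P n ∈ LinearMap.range μ) (hPμ : ∀ t, P (μ t) = μ t) :
    ∃ g : N →ₗ[C] L, ∀ t, g (μ t) = Δ t := by
  refine ⟨(rangeLift μ Δ h).comp (P.codRestrict (LinearMap.range μ) hP), fun t => ?_⟩
  show rangeLift μ Δ h ⟨P (μ t), hP _⟩ = Δ t
  have : (⟨P (μ t), hP _⟩ : LinearMap.range μ) = ⟨μ t, LinearMap.mem_range_self μ t⟩ :=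
    Subtype.ext (hPμ t)
  rw [this, rangeLift_apply]

end LinearAlgebra

section Uniqueness

variable {A : Type u} {B C L : Type v} [CommRing A] [CommRing B] [CommRing C] [Algebra A B]
  [Algebra B C] [Algebra A C] [IsScalarTower A B C] [AddCommGroup L] [Module C L]
  [Module A L] [IsScalarTower A C L] [Module B L] [IsScalarTower B C L] [IsScalarTower A B L]
  {X Y : Exal.Ext B C L}
  [Module (X.CharCarrier A) L] [IsScalarTower (X.CharCarrier A) C L]
  [IsScalarTower A (X.CharCarrier A) L] [IsScalarTower B (X.CharCarrier A) L]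
  [Module (Y.CharCarrier A) L] [IsScalarTower (Y.CharCarrier A) C L]
  [IsScalarTower A (Y.CharCarrier A) L] [IsScalarTower B (Y.CharCarrier A) L]

theorem nonempty_equiv_of_isCharHom
    (hfactor : ∀ Δ : C ⊗[B] Ω[B⁄A] →ₗ[C] L,
      LinearMap.ker (KaehlerDifferential.mapBaseChange A B C) ≤ LinearMap.ker Δ →
        ∃ g : Ω[C⁄A] →ₗ[C] L, ∀ t, g (KaehlerDifferential.mapBaseChange A B C t) = Δ t)
    (σX : ASection A X) (σY : ASection A Y) (χ : EGA41.imperfection A B C →ₗ[C] L)
    (hX : X.IsCharHom A χ) (hY : Y.IsCharHom A χ) : Nonempty (X.Equiv Y) := by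
  rw [isCharHom_iff σX] at hX
  rw [isCharHom_iff σY] at hY
  obtain ⟨g, hg⟩ := hfactor (σX.tilde - σY.tilde) (by
    intro t ht
    rw [LinearMap.mem_ker, LinearMap.sub_apply, sub_eq_zero]
    have h1 := hX ⟨t, ht⟩
    have h2 := hY ⟨t, ht⟩
    rw [← h1, ← h2])
  let δ : Derivation A C L := g.compDer (KaehlerDifferential.D A C)
  have hδ : ∀ b : B, δ (algebraMap B C b) =
      σX.comp (algebraMap B (X.CharCarrier A) b) - σY.comp (algebraMap B (Y.CharCarrier A) b) := by
    intro b
    show g (KaehlerDifferential.D A C (algebraMap B C b)) = _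
    have h1 : KaehlerDifferential.mapBaseChange A B C ((1 : C) ⊗ₜ KaehlerDifferential.D A B b) =
        KaehlerDifferential.D A C (algebraMap B C b) := by
      rw [KaehlerDifferential.mapBaseChange_tmul, one_smul, KaehlerDifferential.map_D]
    rw [← h1, hg, LinearMap.sub_apply, σX.tilde_tmul_D, σY.tilde_tmul_D, one_smul, one_smul]
  refine ⟨equivOfComp σX (σY.subDeriv δ) (fun b => ?_)⟩
  rw [σY.subDeriv_comp, ← IsScalarTower.algebraMap_apply B (Y.CharCarrier A) C, hδ]
  abel

end Uniqueness

section Existence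

variable {A : Type u} {B C L : Type v} [CommRing A] [CommRing B] [CommRing C] [Algebra A B]
  [Algebra B C] [Algebra A C] [IsScalarTower A B C] [AddCommGroup L] [Module C L]
  [Module A L] [IsScalarTower A C L] [Module B L] [IsScalarTower B C L] [IsScalarTower A B L]

/-- The derivation `b ↦ T (1 ⊗ d b)` attached to a linear map on `C ⊗_B Ω_{B/A}`. -/
noncomputable def derivOfTilde (T : C ⊗[B] Ω[B⁄A] →ₗ[C] L) : Derivation A B L :=
  ((T.restrictScalars B).comp (TensorProduct.mk B C Ω[B⁄A] 1)).compDer (KaehlerDifferential.D A B)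

lemma derivOfTilde_apply (T : C ⊗[B] Ω[B⁄A] →ₗ[C] L) (b : B) :
    derivOfTilde T b = T ((1 : C) ⊗ₜ KaehlerDifferential.D A B b) := rfl

/-- The canonical ring section of `ofDerivation D`. -/
noncomputable def secRingHom (D : Derivation A B L) : C →+* (Exal.Ext.ofDerivation (C := C) D).E where
  toFun := fun c => mkD D c 0
  map_one' := extD (by rw [fstD_mkD, fstD_one]) (by rw [sndD_mkD, sndD_one])
  map_mul' := fun c c' => extD (by rw [fstD_mkD, fstD_mul, fstD_mkD, fstD_mkD])
    (by rw [sndD_mkD, sndD_mul, sndD_mkD, sndD_mkD, smul_zero, smul_zero, add_zero])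
  map_zero' := extD (by rw [fstD_mkD, fstD_zero]) (by rw [sndD_mkD, sndD_zero])
  map_add' := fun c c' => extD (by rw [fstD_mkD, fstD_add, fstD_mkD, fstD_mkD])
    (by rw [sndD_mkD, sndD_add, sndD_mkD, sndD_mkD, add_zero])

lemma secRingHom_apply (D : Derivation A B L) (c : C) : secRingHom (C := C) D c = mkD D c 0 := rfl

/-- The canonical section of `ofDerivation D`. -/
noncomputable def sectionOfDerivation (D : Derivation A B L) :
    ASection A (Exal.Ext.ofDerivation (C := C) D) where
  s := (secRingHom (C := C) D : C →+* (Exal.Ext.ofDerivation (C := C) D).CharCarrier A)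
  proj_s c := by
    show fstD D (mkD D c 0) = c
    rw [fstD_mkD]
  s_algebraMap a := by
    show mkD D (algebraMap A C a) 0 = algebraMap B (Exal.Ext.ofDerivation (C := C) D).E
      (algebraMap A B a)
    exact extD (by rw [fstD_mkD, fstD_algebraMap, ← IsScalarTower.algebraMap_apply])
      (by rw [sndD_mkD, sndD_algebraMap, Derivation.map_algebraMap])

lemma sectionOfDerivation_comp (D : Derivation A B L)
    (e : (Exal.Ext.ofDerivation (C := C) D).E) :
    (sectionOfDerivation D).comp (e : (Exal.Ext.ofDerivation (C := C) D).CharCarrier A) =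
      sndD D e := by
  have he : e = secRingHom D (fstD D e) + (Exal.Ext.ofDerivation (C := C) D).incl (sndD D e) :=
    extD (by rw [fstD_add, secRingHom_apply, fstD_mkD, fstD_incl, add_zero])
      (by rw [sndD_add, secRingHom_apply, sndD_mkD, sndD_incl, zero_add])
  have he' : (e : (Exal.Ext.ofDerivation (C := C) D).CharCarrier A) =
      (sectionOfDerivation D).s (fstD D e) +
        (Exal.Ext.ofDerivation (C := C) D).inclC A (sndD D e) := he
  have := congrArg (sectionOfDerivation D).comp he'
  rw [ASection.comp_add, ASection.comp_s, ASection.comp_inclC, zero_add] at this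
  exact this

theorem exists_ext_isCharHom_of_tilde (T : C ⊗[B] Ω[B⁄A] →ₗ[C] L) :
    ∃ X : Exal.Ext B C L, X.IsTrivialOver A ∧
      ∀ χ : EGA41.imperfection A B C →ₗ[C] L,
        (∀ z : EGA41.imperfection A B C, χ z = T (z : C ⊗[B] Ω[B⁄A])) → X.IsCharHom A χ := by
  let D := derivOfTilde T
  let X := Exal.Ext.ofDerivation (C := C) D
  let σ := sectionOfDerivation (C := C) D
  refine ⟨X, (isTrivialOver_iff_nonempty_aSection A X).2 ⟨σ⟩, fun χ hχ => ?_⟩
  let _ : Module (X.CharCarrier A) L := Module.compHom L (algebraMap (X.CharCarrier A) C)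
  have : IsScalarTower (X.CharCarrier A) C L := IsScalarTower.of_algebraMap_smul fun _ _ => rfl
  have : IsScalarTower A (X.CharCarrier A) L := IsScalarTower.of_algebraMap_smul fun a z => by
    show algebraMap (X.CharCarrier A) C (algebraMap A (X.CharCarrier A) a) • z = a • z
    rw [← IsScalarTower.algebraMap_apply A (X.CharCarrier A) C, IsScalarTower.algebraMap_smul]
  have : IsScalarTower B (X.CharCarrier A) L := IsScalarTower.of_algebraMap_smul fun b z => by
    show algebraMap (X.CharCarrier A) C (algebraMap B (X.CharCarrier A) b) • z = b • z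
    rw [← IsScalarTower.algebraMap_apply B (X.CharCarrier A) C, IsScalarTower.algebraMap_smul]
  rw [isCharHom_iff σ]
  intro z
  rw [hχ z]
  refine (forall_of_tmul_D T.toAddMonoidHom σ.tilde.toAddMonoidHom ?_ _)
  intro c b
  show T (c ⊗ₜ KaehlerDifferential.D A B b) = σ.tilde (c ⊗ₜ KaehlerDifferential.D A B b)
  have hcomp : σ.comp (algebraMap B (X.CharCarrier A) b) = D b :=
    (sectionOfDerivation_comp D (algebraMap B (Exal.Ext.ofDerivation (C := C) D).E b)).trans
      (sndD_algebraMap b)
  rw [σ.tilde_tmul_D, hcomp, derivOfTilde_apply,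
    ← map_smul, TensorProduct.smul_tmul', smul_eq_mul, mul_one]

end Existence

section Wrappers

variable {A : Type u} {B C L : Type v} [CommRing A] [CommRing B] [CommRing C] [Algebra A B]
  [Algebra B C] [Algebra A C] [IsScalarTower A B C] [AddCommGroup L] [Module C L]

/-- Instance-free form: the map `T = σ.tilde` and its characterisation. -/
theorem exists_tilde {X : Exal.Ext B C L} (σ : ASection A X) :
    ∃ T : C ⊗[B] Ω[B⁄A] →ₗ[C] L,
      (∀ (c : C) (b : B), T (c ⊗ₜ KaehlerDifferential.D A B b) =
        c • σ.comp (algebraMap B (X.CharCarrier A) b)) ∧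
      ∀ χ : EGA41.imperfection A B C →ₗ[C] L,
        X.IsCharHom A χ ↔ ∀ z : EGA41.imperfection A B C, χ z = T (z : C ⊗[B] Ω[B⁄A]) := by
  let _ : Module A L := Module.compHom L (algebraMap A C)
  let _ : Module B L := Module.compHom L (algebraMap B C)
  have : IsScalarTower A C L := IsScalarTower.of_algebraMap_smul fun _ _ => rfl
  have : IsScalarTower B C L := IsScalarTower.of_algebraMap_smul fun _ _ => rfl
  have : IsScalarTower A B L := IsScalarTower.of_algebraMap_smul fun a z => by
    show algebraMap B C (algebraMap A B a) • z = algebraMap A C a • z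
    rw [← IsScalarTower.algebraMap_apply A B C]
  let _ : Module (X.CharCarrier A) L := Module.compHom L (algebraMap (X.CharCarrier A) C)
  have : IsScalarTower (X.CharCarrier A) C L := IsScalarTower.of_algebraMap_smul fun _ _ => rfl
  have : IsScalarTower A (X.CharCarrier A) L := IsScalarTower.of_algebraMap_smul fun a z => by
    show algebraMap (X.CharCarrier A) C (algebraMap A (X.CharCarrier A) a) • z =
      algebraMap A C a • z
    rw [← IsScalarTower.algebraMap_apply A (X.CharCarrier A) C]
  have : IsScalarTower B (X.CharCarrier A) L := IsScalarTower.of_algebraMap_smul fun b z => by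
    show algebraMap (X.CharCarrier A) C (algebraMap B (X.CharCarrier A) b) • z =
      algebraMap B C b • z
    rw [← IsScalarTower.algebraMap_apply B (X.CharCarrier A) C]
  exact ⟨σ.tilde, σ.tilde_tmul_D, fun χ => isCharHom_iff σ χ⟩

theorem existsUnique_isCharHom (X : Exal.Ext B C L) (hX : X.IsTrivialOver A) :
    ∃! χ : EGA41.imperfection A B C →ₗ[C] L, X.IsCharHom A χ := by
  obtain ⟨σ⟩ := (isTrivialOver_iff_nonempty_aSection A X).1 hX
  obtain ⟨T, -, hT⟩ := exists_tilde σ
  refine ⟨T.comp (EGA41.imperfection A B C).subtype, (hT _).2 fun z => rfl, fun χ hχ => ?_⟩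
  exact LinearMap.ext fun z => (hT χ).1 hχ z

theorem nonempty_equiv_of_isCharHom' {X Y : Exal.Ext B C L}
    (hfactor : ∀ Δ : C ⊗[B] Ω[B⁄A] →ₗ[C] L,
      LinearMap.ker (KaehlerDifferential.mapBaseChange A B C) ≤ LinearMap.ker Δ →
        ∃ g : Ω[C⁄A] →ₗ[C] L, ∀ t, g (KaehlerDifferential.mapBaseChange A B C t) = Δ t)
    (hX : X.IsTrivialOver A) (hY : Y.IsTrivialOver A)
    (χ : EGA41.imperfection A B C →ₗ[C] L)
    (hXχ : X.IsCharHom A χ) (hYχ : Y.IsCharHom A χ) : Nonempty (X.Equiv Y) := by
  obtain ⟨σX⟩ := (isTrivialOver_iff_nonempty_aSection A X).1 hX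
  obtain ⟨σY⟩ := (isTrivialOver_iff_nonempty_aSection A Y).1 hY
  let _ : Module A L := Module.compHom L (algebraMap A C)
  let _ : Module B L := Module.compHom L (algebraMap B C)
  have : IsScalarTower A C L := IsScalarTower.of_algebraMap_smul fun _ _ => rfl
  have : IsScalarTower B C L := IsScalarTower.of_algebraMap_smul fun _ _ => rfl
  have : IsScalarTower A B L := IsScalarTower.of_algebraMap_smul fun a z => by
    show algebraMap B C (algebraMap A B a) • z = algebraMap A C a • z
    rw [← IsScalarTower.algebraMap_apply A B C]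
  let _ : Module (X.CharCarrier A) L := Module.compHom L (algebraMap (X.CharCarrier A) C)
  have : IsScalarTower (X.CharCarrier A) C L := IsScalarTower.of_algebraMap_smul fun _ _ => rfl
  have : IsScalarTower A (X.CharCarrier A) L := IsScalarTower.of_algebraMap_smul fun a z => by
    show algebraMap (X.CharCarrier A) C (algebraMap A (X.CharCarrier A) a) • z =
      algebraMap A C a • z
    rw [← IsScalarTower.algebraMap_apply A (X.CharCarrier A) C]
  have : IsScalarTower B (X.CharCarrier A) L := IsScalarTower.of_algebraMap_smul fun b z => by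
    show algebraMap (X.CharCarrier A) C (algebraMap B (X.CharCarrier A) b) • z =
      algebraMap B C b • z
    rw [← IsScalarTower.algebraMap_apply B (X.CharCarrier A) C]
  let _ : Module (Y.CharCarrier A) L := Module.compHom L (algebraMap (Y.CharCarrier A) C)
  have : IsScalarTower (Y.CharCarrier A) C L := IsScalarTower.of_algebraMap_smul fun _ _ => rfl
  have : IsScalarTower A (Y.CharCarrier A) L := IsScalarTower.of_algebraMap_smul fun a z => by
    show algebraMap (Y.CharCarrier A) C (algebraMap A (Y.CharCarrier A) a) • z =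
      algebraMap A C a • z
    rw [← IsScalarTower.algebraMap_apply A (Y.CharCarrier A) C]
  have : IsScalarTower B (Y.CharCarrier A) L := IsScalarTower.of_algebraMap_smul fun b z => by
    show algebraMap (Y.CharCarrier A) C (algebraMap B (Y.CharCarrier A) b) • z =
      algebraMap B C b • z
    rw [← IsScalarTower.algebraMap_apply B (Y.CharCarrier A) C]
  exact nonempty_equiv_of_isCharHom hfactor σX σY χ hXχ hYχ

theorem exists_ext_isCharHom (χ : EGA41.imperfection A B C →ₗ[C] L)
    (hext : ∃ T : C ⊗[B] Ω[B⁄A] →ₗ[C] L,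
      ∀ z : EGA41.imperfection A B C, T (z : C ⊗[B] Ω[B⁄A]) = χ z) :
    ∃ X : Exal.Ext B C L, X.IsTrivialOver A ∧ X.IsCharHom A χ := by
  obtain ⟨T, hT⟩ := hext
  let _ : Module A L := Module.compHom L (algebraMap A C)
  let _ : Module B L := Module.compHom L (algebraMap B C)
  have : IsScalarTower A C L := IsScalarTower.of_algebraMap_smul fun _ _ => rfl
  have : IsScalarTower B C L := IsScalarTower.of_algebraMap_smul fun _ _ => rfl
  have : IsScalarTower A B L := IsScalarTower.of_algebraMap_smul fun a z => by
    show algebraMap B C (algebraMap A B a) • z = algebraMap A C a • z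
    rw [← IsScalarTower.algebraMap_apply A B C]
  obtain ⟨X, hX, hχ⟩ := exists_ext_isCharHom_of_tilde (A := A) T
  exact ⟨X, hX, hχ χ fun z => (hT z).symm⟩

/-- The factorisation hypothesis under (i) or (ii). -/
theorem hfactor_of_hyp
    (h : Module.Injective C L ∨
      ∃ s : Ω[C⁄B] →ₗ[C] Ω[C⁄A], ∀ ω : Ω[C⁄B], KaehlerDifferential.map A B C C (s ω) = ω) :
    ∀ Δ : C ⊗[B] Ω[B⁄A] →ₗ[C] L,
      LinearMap.ker (KaehlerDifferential.mapBaseChange A B C) ≤ LinearMap.ker Δ →
        ∃ g : Ω[C⁄A] →ₗ[C] L, ∀ t, g (KaehlerDifferential.mapBaseChange A B C t) = Δ t := by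
  intro Δ hΔ
  rcases h with hinj | ⟨s, hs⟩
  · exact exists_factor_of_injective _ Δ hΔ
  · let ν : Ω[C⁄A] →ₗ[C] Ω[C⁄B] := KaehlerDifferential.map A B C C
    have hrange := KaehlerDifferential.range_mapBaseChange A B C
    have hνμ : ∀ t, ν (KaehlerDifferential.mapBaseChange A B C t) = 0 := by
      intro t
      have : KaehlerDifferential.mapBaseChange A B C t ∈
          LinearMap.range (KaehlerDifferential.mapBaseChange A B C) := LinearMap.mem_range_self _ t
      rw [hrange] at this
      exact this
    refine exists_factor_of_proj _ Δ hΔ (LinearMap.id - s.comp ν) (fun n => ?_) (fun t => ?_)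
    · rw [hrange, LinearMap.mem_ker]
      show KaehlerDifferential.map A B C C (n - s (ν n)) = 0
      rw [map_sub, hs, sub_self]
    · show KaehlerDifferential.mapBaseChange A B C t -
        s (ν (KaehlerDifferential.mapBaseChange A B C t)) = _
      rw [hνμ, map_zero, sub_zero]

/-- The extension hypothesis under (i) or (ii). -/
theorem hext_of_hyp
    (h : Module.Injective C L ∨
      ∃ r : C ⊗[B] Ω[B⁄A] →ₗ[C] ↥(EGA41.imperfection A B C),
        ∀ z : ↥(EGA41.imperfection A B C), r z = z)
    (χ : EGA41.imperfection A B C →ₗ[C] L) :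
    ∃ T : C ⊗[B] Ω[B⁄A] →ₗ[C] L,
      ∀ z : EGA41.imperfection A B C, T (z : C ⊗[B] Ω[B⁄A]) = χ z := by
  rcases h with hinj | ⟨r, hr⟩
  · obtain ⟨T, hT⟩ := Module.Injective.extension_property C L
      (EGA41.imperfection A B C) (C ⊗[B] Ω[B⁄A])
      (EGA41.imperfection A B C).subtype (Submodule.injective_subtype _) χ
    exact ⟨T, fun z => LinearMap.congr_fun hT z⟩
  · exact ⟨χ.comp r, fun z => by show χ (r z) = χ z; rw [hr]⟩

end Wrappers

end Groth.Agent.Lib.Helper29.CharHomLib
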