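import Groth.Agent.Lib.Helper29.DepthSES
import Groth.Agent.Lib.Helper29.DepthLoc
import Groth.Agent.Lib.Helper29.DepthFinite

/-!
# Cochain form of the acyclicity lemma

For a cochain complex `X⁰ → X¹ → ⋯` of finite modules of depth `≥ g` over a Noetherian local
ring whose cohomology is killed elementwise by powers of elements of the maximal ideal (e.g. has
finite length), the complex is exact in degrees `< g`.
-/

set_option autoImplicit false
set_option linter.unusedSectionVars false
universe u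

namespace Groth.Agent.Lib.Helper29.CoAcyclic

open IsLocalRing

variable {R : Type u} [CommRing R] [IsLocalRing R] [IsNoetherianRing R]

/-- In a finite module of depth `≥ 1`, an element killed by a power of every element of the maximal
ideal vanishes. -/
theorem eq_zero_of_pow_smul (C : Type u) [AddCommGroup C] [Module R C] [Module.Finite R C]
    (hC : 1 ≤ LocCoh.depth R C) (c : C) (hc : ∀ x ∈ maximalIdeal R, ∃ k : ℕ, x ^ k • c = 0) :
    c = 0 := by
  rcases subsingleton_or_nontrivial C with h | h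
  · exact Subsingleton.elim _ _
  · have hne : maximalIdeal R • (⊤ : Submodule R C) ≠ ⊤ :=
      Groth.Agent.Lib.Helper29.maximalIdeal_smul_top_ne_top R C
    have h0 : LocCoh.depth R C ≠ 0 := by
      intro h0
      rw [h0] at hC
      simp at hC
    unfold LocCoh.depth at h0
    rw [Ne, DepthFinite.idealDepth_eq_zero_iff_forall_not_isSMulRegular _ C hne] at h0
    push Not at h0
    obtain ⟨x, hxm, hx⟩ := h0
    obtain ⟨k, hk⟩ := hc x hxm
    exact (hx.pow k) (by change x ^ k • c = x ^ k • 0; rw [hk, smul_zero])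

variable (X : ℕ → Type u) [∀ j, AddCommGroup (X j)] [∀ j, Module R (X j)]
  [∀ j, Module.Finite R (X j)] (d : ∀ j, X j →ₗ[R] X (j + 1))

/-- The cokernel of `d_j`. -/
abbrev Cok (j : ℕ) : Type u := X (j + 1) ⧸ LinearMap.range (d j)

variable (hd : ∀ j, (d (j + 1)).comp (d j) = 0)

include hd in
theorem range_le_ker (j : ℕ) : LinearMap.range (d j) ≤ LinearMap.ker (d (j + 1)) := by
  rintro _ ⟨x, rfl⟩
  rw [LinearMap.mem_ker, ← LinearMap.comp_apply, hd j, LinearMap.zero_apply]

/-- The map `Cok_j → X_{j+2}` induced by `d_{j+1}`. -/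
noncomputable def cokMap (j : ℕ) : Cok X d j →ₗ[R] X (j + 1 + 1) :=
  (LinearMap.range (d j)).liftQ (d (j + 1)) (range_le_ker X d hd j)

theorem cokMap_exact (j : ℕ) :
    Function.Exact (cokMap X d hd j) (LinearMap.range (d (j + 1))).mkQ := by
  rw [LinearMap.exact_iff, Submodule.ker_mkQ, cokMap, Submodule.range_liftQ]

theorem cokMap_injective (j : ℕ) (hex : Function.Exact (d j) (d (j + 1))) :
    Function.Injective (cokMap X d hd j) := by
  rw [← LinearMap.ker_eq_bot, cokMap, Submodule.ker_liftQ, hex.linearMap_ker_eq,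
    Submodule.mkQ_map_self]

variable (g : ℕ) (hdepth : ∀ j, (g : ℕ∞) ≤ LocCoh.depth R (X j))
  (h0 : ∀ z : X 0, d 0 z = 0 → ∀ x ∈ maximalIdeal R, ∃ k : ℕ, x ^ k • z = 0)
  (hH : ∀ j, ∀ z : X (j + 1), d (j + 1) z = 0 → ∀ x ∈ maximalIdeal R,
    ∃ k : ℕ, ∃ w : X j, d j w = x ^ k • z)

include hdepth h0 in
theorem injective_zero (hg : 0 < g) : Function.Injective (d 0) := by
  rw [injective_iff_map_eq_zero]
  intro z hz
  refine eq_zero_of_pow_smul (X 0) (le_trans ?_ (hdepth 0)) z (h0 z hz)
  exact_mod_cast hg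

theorem sub_one_le {a : ℕ∞} {n : ℕ} (h : ((n + 1 : ℕ) : ℕ∞) ≤ a) : (n : ℕ∞) ≤ a - 1 := by
  have h3 : ((n + 1 : ℕ) : ℕ∞) - 1 ≤ a - 1 := tsub_le_tsub_right h 1
  refine le_trans (le_of_eq ?_) h3
  rw [← ENat.natCast_one, ← ENat.natCast_sub]
  rfl

include hd hdepth h0 hH in
/-- Main induction: `depth Cok_j ≥ g - (j+1)` and exactness. -/
theorem main (j : ℕ) : j + 1 ≤ g →
    (((g - (j + 1) : ℕ) : ℕ∞) ≤ LocCoh.depth R (Cok X d j)) ∧
      (j + 1 + 1 ≤ g → Function.Exact (d j) (d (j + 1))) := by
  induction j with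
  | zero =>
    intro hg
    have hinj := injective_zero X d g hdepth h0 (by omega)
    have hdep : ((g - (0 + 1) : ℕ) : ℕ∞) ≤ LocCoh.depth R (Cok X d 0) := by
      have h2 := DepthSES.min_le_idealDepth_right (maximalIdeal R) (X 0) (X (0 + 1))
        (Cok X d 0) (d 0) (LinearMap.range (d 0)).mkQ hinj (Submodule.mkQ_surjective _)
        (LinearMap.exact_map_mkQ_range (d 0))
      refine le_trans (le_min ?_ ?_) h2
      · refine le_trans ?_ (hdepth (0 + 1))
        exact_mod_cast Nat.sub_le g 1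
      · apply sub_one_le
        refine le_trans ?_ (hdepth 0)
        exact_mod_cast (by omega : g - (0 + 1) + 1 ≤ g)
    refine ⟨hdep, fun hg2 => ?_⟩
    -- exactness at `X 1`
    rw [LinearMap.exact_iff]
    refine le_antisymm ?_ (range_le_ker X d hd 0)
    intro z hz
    rw [LinearMap.mem_ker] at hz
    have hc : (Submodule.Quotient.mk z : Cok X d 0) = 0 := by
      refine eq_zero_of_pow_smul (Cok X d 0) (le_trans ?_ hdep) _ ?_
      · exact_mod_cast (by omega : 1 ≤ g - (0 + 1))
      · intro x hx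
        obtain ⟨k, w, hw⟩ := hH 0 z hz x hx
        refine ⟨k, ?_⟩
        rw [← Submodule.Quotient.mk_smul, Submodule.Quotient.mk_eq_zero, ← hw]
        exact ⟨w, rfl⟩
    exact (Submodule.Quotient.mk_eq_zero _).1 hc
  | succ j ih =>
    intro hg
    obtain ⟨hdepj, hexj⟩ := ih (by omega)
    have hex := hexj (by omega)
    have hinj := cokMap_injective X d hd j hex
    have hdep : ((g - (j + 1 + 1) : ℕ) : ℕ∞) ≤ LocCoh.depth R (Cok X d (j + 1)) := by
      have h2 := DepthSES.min_le_idealDepth_right (maximalIdeal R) (Cok X d j) (X (j + 1 + 1))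
        (Cok X d (j + 1)) (cokMap X d hd j) (LinearMap.range (d (j + 1))).mkQ hinj
        (Submodule.mkQ_surjective _) (cokMap_exact X d hd j)
      refine le_trans (le_min ?_ ?_) h2
      · refine le_trans ?_ (hdepth (j + 1 + 1))
        exact_mod_cast Nat.sub_le g _
      · apply sub_one_le
        refine le_trans ?_ hdepj
        exact_mod_cast (by omega : g - (j + 1 + 1) + 1 ≤ g - (j + 1))
    refine ⟨hdep, fun hg2 => ?_⟩
    rw [LinearMap.exact_iff]
    refine le_antisymm ?_ (range_le_ker X d hd (j + 1))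
    intro z hz
    rw [LinearMap.mem_ker] at hz
    have hc : (Submodule.Quotient.mk z : Cok X d (j + 1)) = 0 := by
      refine eq_zero_of_pow_smul (Cok X d (j + 1)) (le_trans ?_ hdep) _ ?_
      · exact_mod_cast (by omega : 1 ≤ g - (j + 1 + 1))
      · intro x hx
        obtain ⟨k, w, hw⟩ := hH (j + 1) z hz x hx
        refine ⟨k, ?_⟩
        rw [← Submodule.Quotient.mk_smul, Submodule.Quotient.mk_eq_zero, ← hw]
        exact ⟨w, rfl⟩
    exact (Submodule.Quotient.mk_eq_zero _).1 hc

include hd hdepth h0 hH in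
theorem exact_of_lt (j : ℕ) (hj : j + 1 < g) : Function.Exact (d j) (d (j + 1)) :=
  (main X d hd g hdepth h0 hH j (by omega)).2 (by omega)

end Groth.Agent.Lib.Helper29.CoAcyclic
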