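import Groth.Agent.Lib.Helper29.TopDimLocal
import Mathlib.Topology.Homeomorph.Lemmas
import Mathlib.Order.ConditionallyCompleteLattice.Finset

set_option autoImplicit false
universe u

namespace Groth.Agent.Lib.Helper29

open TopologicalSpace Order Set Topology

variable {X : Type u} [TopologicalSpace X]

theorem dim_mono_of_subset {A B : Set X} (h : A ⊆ B) :
    topologicalKrullDim A ≤ topologicalKrullDim B :=
  (Topology.IsEmbedding.inclusion h).isInducing.topologicalKrullDim_le

/-- Dimension of a subset of a subspace equals the dimension of its image in the ambient space. -/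
theorem dim_subtype_image (S : Set X) (V : Set S) :
    topologicalKrullDim V = topologicalKrullDim ((Subtype.val : S → X) '' V) :=
  IsHomeomorph.topologicalKrullDim_eq _
    ((Topology.IsEmbedding.subtypeVal (p := fun x => x ∈ S)).homeomorphImage V).isHomeomorph

theorem localDim_eq_iSup_localDim_of_finite_closed_cover (x : X)
    (ι : Type u) [Finite ι] (Y : ι → Set X) (hY : ∀ i, IsClosed (Y i)) (hx : ∀ i, x ∈ Y i)
    (hcov : ⋃ i, Y i = Set.univ) :
    FlatMor.localDim X x = ⨆ i, FlatMor.localDim (Y i) ⟨x, hx i⟩ := by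
  apply le_antisymm
  · by_contra hlt
    rw [not_le] at hlt
    have hne : Nonempty ι := by
      have : x ∈ ⋃ i, Y i := by rw [hcov]; trivial
      obtain ⟨i, -⟩ := Set.mem_iUnion.mp this
      exact ⟨i⟩
    have hi : ∀ i, FlatMor.localDim (Y i) ⟨x, hx i⟩ < FlatMor.localDim X x :=
      fun i => lt_of_le_of_lt (le_iSup (fun i => FlatMor.localDim (Y i) ⟨x, hx i⟩) i) hlt
    have hV : ∀ i, ∃ V : TopologicalSpace.Opens (Y i), (⟨x, hx i⟩ : Y i) ∈ V ∧
        topologicalKrullDim (V : Set (Y i)) < FlatMor.localDim X x := by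
      intro i
      have := hi i
      conv_lhs at this => unfold FlatMor.localDim
      rw [iInf_lt_iff] at this
      obtain ⟨V, hV⟩ := this
      exact ⟨V.1, V.2, hV⟩
    choose V hxV hVd using hV
    have hW : ∀ i, ∃ W : Set X, IsOpen W ∧ (Subtype.val : Y i → X) ⁻¹' W = (V i : Set (Y i)) :=
      fun i => isOpen_induced_iff.mp (V i).isOpen
    choose W hWo hWV using hW
    have hxW : ∀ i, x ∈ W i := by
      intro i
      have : (⟨x, hx i⟩ : Y i) ∈ (Subtype.val : Y i → X) ⁻¹' W i := by
        rw [hWV i]; exact hxV i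
      exact this
    let U : TopologicalSpace.Opens X := ⟨⋂ i, W i, isOpen_iInter_of_finite hWo⟩
    have hxU : x ∈ U := Set.mem_iInter.mpr hxW
    -- dimension of U
    have hdimU : topologicalKrullDim (U : Set X) =
        ⨆ i, topologicalKrullDim ((Subtype.val : ↥(U : Set X) → X) ⁻¹' (Y i)) := by
      apply topologicalKrullDim_eq_iSup_of_locallyFinite_closed_cover ι
        (fun i => (Subtype.val : ↥(U : Set X) → X) ⁻¹' (Y i))
        (fun i => (hY i).preimage continuous_subtype_val) (locallyFinite_of_finite _)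
      rw [← Set.preimage_iUnion, hcov, Set.preimage_univ]
    have hle : ∀ i, topologicalKrullDim ((Subtype.val : ↥(U : Set X) → X) ⁻¹' (Y i)) ≤
        topologicalKrullDim (V i : Set (Y i)) := by
      intro i
      rw [dim_subtype_image, dim_subtype_image]
      apply dim_mono_of_subset
      rintro _ ⟨⟨y, hyU⟩, hyY, rfl⟩
      refine ⟨⟨y, hyY⟩, ?_, rfl⟩
      rw [← hWV i]
      exact Set.mem_iInter.mp hyU i
    obtain ⟨i₀, hi₀⟩ := exists_eq_ciSup_of_finite
      (f := fun i => topologicalKrullDim ((Subtype.val : ↥(U : Set X) → X) ⁻¹' (Y i)))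
    have h1 : FlatMor.localDim X x ≤ topologicalKrullDim (U : Set X) :=
      localDim_le_dim_of_mem x U hxU
    rw [hdimU, ← hi₀] at h1
    exact absurd (lt_of_le_of_lt (h1.trans (hle i₀)) (hVd i₀)) (lt_irrefl _)
  · refine iSup_le fun i => ?_
    unfold FlatMor.localDim
    refine le_iInf fun U => ?_
    let V : TopologicalSpace.Opens (Y i) :=
      ⟨(Subtype.val : Y i → X) ⁻¹' (U.1 : Set X), U.1.isOpen.preimage continuous_subtype_val⟩
    have hxV : (⟨x, hx i⟩ : Y i) ∈ V := U.2
    refine (iInf_le (fun V : {V : TopologicalSpace.Opens (Y i) // (⟨x, hx i⟩ : Y i) ∈ V} =>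
      topologicalKrullDim (V.1 : Set (Y i))) ⟨V, hxV⟩).trans ?_
    show topologicalKrullDim ((Subtype.val : Y i → X) ⁻¹' (U.1 : Set X)) ≤ _
    rw [dim_subtype_image]
    apply dim_mono_of_subset
    rintro _ ⟨y, hy, rfl⟩
    exact hy

end Groth.Agent.Lib.Helper29
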