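import Groth.Agent.Lib.Helper29.CMRing
import Groth.Agent.Lib.Helper29.CodepthOpen
import Groth.Agent.Lib.Helper29.RegIdeal
import Groth.Prelude.Def_W4c5grrsingularflatDSeq

/-!
# d-sequences: avoidance, exchange of generators, regularity modulo ideals
-/

set_option autoImplicit false
set_option linter.unusedSectionVars false
set_option linter.style.haveILetI false
set_option linter.deprecated false
universe u

namespace Groth.Agent.Lib.Helper29.DSeq

open IsLocalRing RingTheory.Sequence Pointwise
open Groth.Agent.Lib.Helper29

section Avoid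

variable {T : Type u} [CommRing T]

/-- Prime avoidance with two arbitrary ideals and finitely many primes. -/
theorem exists_mem_not_mem (p E N : Ideal T) (Ps : Finset (Ideal T))
    (hPs : ∀ P ∈ Ps, P.IsPrime) (hE : ¬ p ≤ E) (hN : ¬ p ≤ N) (hP : ∀ P ∈ Ps, ¬ p ≤ P) :
    ∃ x ∈ p, x ∉ E ∧ x ∉ N ∧ ∀ P ∈ Ps, x ∉ P := by
  classical
  by_contra hcon
  push Not at hcon
  have hsub : ((p : Ideal T) : Set T) ⊆
      ⋃ q ∈ (((insert E (insert N Ps) : Finset (Ideal T))) : Set (Ideal T)),
        ((id q : Ideal T) : Set T) := by
    intro x hx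
    by_cases hxE : x ∈ E
    · exact Set.mem_biUnion (by simp) hxE
    by_cases hxN : x ∈ N
    · exact Set.mem_biUnion (by simp) hxN
    obtain ⟨P, hPPs, hxP⟩ := hcon x hx hxE hxN
    exact Set.mem_biUnion (by simp [hPPs]) hxP
  rw [Ideal.subset_union_prime (f := id) E N] at hsub
  · obtain ⟨q, hq, hle⟩ := hsub
    rw [Finset.mem_insert, Finset.mem_insert] at hq
    rcases hq with rfl | rfl | hq
    · exact hE hle
    · exact hN hle
    · exact hP q hq hle
  · intro q hq h1 h2
    rw [Finset.mem_insert, Finset.mem_insert] at hq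
    rcases hq with rfl | rfl | hq
    · exact absurd rfl h1
    · exact absurd rfl h2
    · exact hPs q hq

end Avoid

section Exchange

variable {B : Type u} [CommRing B] [IsLocalRing B]

/-- Exchange lemma for generators over a local ring. -/
theorem exchange : ∀ (ws : List B) (I : Ideal B) (z : B),
    z ∈ I ⊔ Ideal.ofList ws → z ∉ I ⊔ maximalIdeal B • Ideal.ofList ws →
    ∃ ws' : List B, ws'.length + 1 = ws.length ∧
      I ⊔ Ideal.span {z} ⊔ Ideal.ofList ws' = I ⊔ Ideal.ofList ws := by
  intro ws
  induction ws with
  | nil =>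
    intro I z hz hnz
    exfalso
    apply hnz
    rw [Ideal.ofList_nil] at hz ⊢
    rw [Submodule.smul_bot]
    exact hz
  | cons y ws₀ ih =>
    intro I z hz hnz
    rw [Ideal.ofList_cons] at hz hnz
    obtain ⟨a, ha, v, hv, hav⟩ := Submodule.mem_sup.mp hz
    obtain ⟨by', hby, w, hw, hbw⟩ := Submodule.mem_sup.mp hv
    obtain ⟨b, rfl⟩ := Ideal.mem_span_singleton'.mp hby
    by_cases hb : IsUnit b
    · refine ⟨ws₀, rfl, ?_⟩
      rw [Ideal.ofList_cons]
      apply le_antisymm
      · refine sup_le (sup_le le_sup_left ?_) (le_sup_of_le_right le_sup_right)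
        rw [Ideal.span_singleton_le_iff_mem]
        exact hz
      · refine sup_le (le_sup_of_le_left le_sup_left) (sup_le ?_ le_sup_right)
        rw [Ideal.span_singleton_le_iff_mem]
        obtain ⟨c, hc⟩ := hb.exists_left_inv
        have hy : y = c * (z - a - w) := by
          rw [← hav, ← hbw]
          calc y = (c * b) * y := by rw [hc, one_mul]
            _ = c * (a + (b * y + w) - a - w) := by ring
        rw [hy]
        apply Ideal.mul_mem_left
        apply Ideal.sub_mem
        · apply Ideal.sub_mem
          · exact Ideal.mem_sup_left (Ideal.mem_sup_right (Ideal.mem_span_singleton_self z))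
          · exact Ideal.mem_sup_left (Ideal.mem_sup_left ha)
        · exact Ideal.mem_sup_right hw
    · have hbm : b ∈ maximalIdeal B := (mem_maximalIdeal b).mpr hb
      set z' : B := z - b * y with hz'
      have hz'eq : z' = a + w := by rw [hz', ← hav, ← hbw]; ring
      have hz'mem : z' ∈ I ⊔ Ideal.ofList ws₀ := by
        rw [hz'eq]
        exact Ideal.add_mem _ (Ideal.mem_sup_left ha) (Ideal.mem_sup_right hw)
      have hz'not : z' ∉ I ⊔ maximalIdeal B • Ideal.ofList ws₀ := by
        intro hcon
        apply hnz
        have h1 : z = z' + b * y := by rw [hz']; ring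
        rw [h1]
        apply Ideal.add_mem
        · refine (sup_le_sup_left ?_ I) hcon
          rw [smul_eq_mul, smul_eq_mul]
          exact Ideal.mul_mono_right le_sup_right
        · apply Ideal.mem_sup_right
          rw [smul_eq_mul]
          exact Ideal.mul_mem_mul hbm (Ideal.mem_sup_left (Ideal.mem_span_singleton_self y))
      obtain ⟨ws₀', hlen, heq⟩ := ih I z' hz'mem hz'not
      refine ⟨y :: ws₀', by rw [List.length_cons, List.length_cons, hlen], ?_⟩
      rw [Ideal.ofList_cons, Ideal.ofList_cons]
      apply le_antisymm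
      · refine sup_le (sup_le le_sup_left ?_) (sup_le (le_sup_of_le_right le_sup_left) ?_)
        · rw [Ideal.span_singleton_le_iff_mem]
          exact hz
        · have h1 : Ideal.ofList ws₀' ≤ I ⊔ Ideal.ofList ws₀ := by
            rw [← heq]; exact le_sup_right
          exact h1.trans (sup_le_sup_left le_sup_right I)
      · refine sup_le (le_sup_of_le_left le_sup_left) (sup_le (le_sup_of_le_right le_sup_left) ?_)
        have h1 : Ideal.ofList ws₀ ≤ I ⊔ Ideal.span {z'} ⊔ Ideal.ofList ws₀' := by
          rw [heq]; exact le_sup_right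
        refine h1.trans (sup_le (sup_le (le_sup_of_le_left le_sup_left) ?_)
          (le_sup_of_le_right le_sup_right))
        rw [Ideal.span_singleton_le_iff_mem, hz']
        apply Ideal.sub_mem
        · exact Ideal.mem_sup_left (Ideal.mem_sup_right (Ideal.mem_span_singleton_self z))
        · exact Ideal.mem_sup_right (Ideal.mem_sup_left
            (Ideal.mul_mem_left _ _ (Ideal.mem_span_singleton_self y)))

end Exchange

section RegMod

variable {T : Type u} [CommRing T]

/-- `a` is a nonzerodivisor modulo `J`. -/
def RegMod (J : Ideal T) (a : T) : Prop := ∀ y, a * y ∈ J → y ∈ J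

theorem colon_eq_self_of_regMod {J : Ideal T} {a : T} (ha : RegMod J a) :
    J.colon {a} = J := by
  ext y
  rw [Submodule.mem_colon_singleton, smul_eq_mul]
  constructor
  · intro h
    exact ha y (by rwa [mul_comm])
  · intro h
    exact Ideal.mul_mem_right _ _ h

theorem colon_mul_eq_of_regMod {J : Ideal T} {a b : T} (ha : RegMod J a) (hb : RegMod J b) :
    J.colon {a * b} = J.colon {a} := by
  rw [colon_eq_self_of_regMod ha]
  apply colon_eq_self_of_regMod
  intro y hy
  apply hb
  apply ha
  rw [← mul_assoc]
  exact hy

theorem smul_top_eq (J : Ideal T) : (J • (⊤ : Submodule T T) : Submodule T T) = J := by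
  rw [smul_eq_mul, Ideal.mul_top]

variable [IsNoetherianRing T]

/-- An element outside all associated primes of `T/J` is a nonzerodivisor modulo `J`. -/
theorem regMod_of_forall_not_mem_ass (J : Ideal T) (a : T)
    (h : ∀ P ∈ associatedPrimes T (T ⧸ (J • (⊤ : Submodule T T))), a ∉ P) : RegMod J a := by
  intro y hy
  by_contra hyJ
  have hz : (Submodule.Quotient.mk y : T ⧸ (J • (⊤ : Submodule T T))) ≠ 0 := by
    rw [Ne, Submodule.Quotient.mk_eq_zero, smul_top_eq]
    exact hyJ
  obtain ⟨P, hP, hle⟩ := exists_le_isAssociatedPrime_of_isNoetherianRing T _ hz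
  apply h P hP
  apply hle
  rw [Submodule.mem_colon_singleton, Submodule.mem_bot, ← Submodule.Quotient.mk_smul,
    Submodule.Quotient.mk_eq_zero, smul_top_eq, smul_eq_mul]
  exact hy

/-- Associated primes of `T/J` contain `J`. -/
theorem le_of_mem_ass (J : Ideal T) (P : Ideal T)
    (hP : P ∈ associatedPrimes T (T ⧸ (J • (⊤ : Submodule T T)))) : J ≤ P := by
  obtain ⟨-, z, hz⟩ := (isAssociatedPrime_iff).mp hP
  intro r hr
  rw [hz, Submodule.mem_colon_singleton, Submodule.mem_bot]
  obtain ⟨y, rfl⟩ := Submodule.Quotient.mk_surjective _ z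
  rw [← Submodule.Quotient.mk_smul, Submodule.Quotient.mk_eq_zero, smul_top_eq, smul_eq_mul]
  exact Ideal.mul_mem_right _ _ hr

end RegMod

section Height

variable {T : Type u} [CommRing T] [hT : LocCoh.IsCohenMacaulayLocalRing T]

/-- In a Cohen–Macaulay local ring the associated primes of the quotient by a regular sequence
have height the length of the sequence. -/
theorem height_eq_length_of_mem_ass (rs : List T) (hreg : IsWeaklyRegular T rs) (P : Ideal T)
    (hP : P ∈ associatedPrimes T (T ⧸ (Ideal.ofList rs • (⊤ : Submodule T T)))) :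
    P.height = rs.length := by
  have hprime : P.IsPrime := hP.isPrime
  have hring : LocCoh.IsCohenMacaulayRing T := CodepthOpen.isCohenMacaulayRing_of_local T
  have hle := le_of_mem_ass _ P hP
  exact CMRing.height_eq_length_of_mem_ass T
    (hring.isCohenMacaulayLocalRing_localization P) hreg
    (fun r hr => hle (Ideal.subset_span hr)) hP

end Height

end Groth.Agent.Lib.Helper29.DSeq
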