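import Groth.Agent.Lib.Helper29.DSeq1

/-!
# d-sequences: construction of the regular part of the generating sequence
-/

set_option autoImplicit false
set_option linter.unusedSectionVars false
set_option linter.style.haveILetI false
set_option linter.deprecated false
universe u

namespace Groth.Agent.Lib.Helper29.DSeq

open IsLocalRing RingTheory.Sequence Pointwise
open Groth.Agent.Lib.Helper29

section Good

variable {T : Type u} [CommRing T]

/-- Every member of the list is a nonzerodivisor modulo every earlier initial segment. -/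
def Good (xs : List T) : Prop :=
  ∀ (i k : ℕ) (hk : k < xs.length), i ≤ k → RegMod (Ideal.ofList (xs.take i)) xs[k]

theorem isSMulRegular_of_regMod {J : Ideal T} {a : T} (h : RegMod J a) :
    IsSMulRegular (T ⧸ (J • (⊤ : Submodule T T))) a := by
  rw [isSMulRegular_iff_right_eq_zero_of_smul]
  intro m hm
  obtain ⟨y, rfl⟩ := Submodule.Quotient.mk_surjective _ m
  rw [← Submodule.Quotient.mk_smul, Submodule.Quotient.mk_eq_zero, smul_top_eq, smul_eq_mul] at hm
  rw [Submodule.Quotient.mk_eq_zero, smul_top_eq]
  exact h y hm

theorem isWeaklyRegular_take_of_good {xs : List T} (h : Good xs) (i : ℕ) :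
    IsWeaklyRegular T (xs.take i) := by
  rw [isWeaklyRegular_iff]
  intro j hj
  have hj' : j < i ∧ j < xs.length := by
    rw [List.length_take] at hj
    omega
  have h1 : (xs.take i).take j = xs.take j := by
    rw [List.take_take, min_eq_left hj'.1.le]
  have h2 : (xs.take i)[j] = xs[j]'hj'.2 := List.getElem_take
  rw [h1, h2]
  exact isSMulRegular_of_regMod (h j j hj'.2 le_rfl)

theorem good_nil : Good ([] : List T) := by
  intro i k hk
  simp at hk

theorem good_append_singleton {xs : List T} {x : T} (h : Good xs)
    (hx : ∀ i, i ≤ xs.length → RegMod (Ideal.ofList (xs.take i)) x) : Good (xs ++ [x]) := by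
  intro i k hk hik
  rw [List.length_append, List.length_singleton] at hk
  have htake : (xs ++ [x]).take i = xs.take i :=
    List.take_append_of_le_length (by omega)
  rw [htake]
  by_cases hkn : k < xs.length
  · rw [List.getElem_append_left hkn]
    exact h i k hkn hik
  · have hk' : k = xs.length := by omega
    subst hk'
    have hget : (xs ++ [x])[xs.length]'(by simp) = x := by simp
    rw [hget]
    exact hx i hik

end Good

section Construction

variable {T : Type u} [CommRing T] [hT : LocCoh.IsCohenMacaulayLocalRing T]
  (p : Ideal T) [p.IsPrime]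

/-- The state of the inductive construction. -/
structure State (c h : ℕ) (xs : List T) : Prop where
  mem : ∀ x ∈ xs, x ∈ p
  good : Good xs
  exM : ∃ ys : List T, ys.length + xs.length = c ∧ Ideal.ofList xs ⊔ Ideal.ofList ys = p
  exL : ∃ ws : List (Localization.AtPrime p), ws.length + xs.length = h ∧
    (Ideal.ofList xs).map (algebraMap T (Localization.AtPrime p)) ⊔ Ideal.ofList ws =
      maximalIdeal (Localization.AtPrime p)

/-- The finite set of associated primes of the quotients by the initial segments. -/
noncomputable def badPrimes (xs : List T) (n : ℕ) : Finset (Ideal T) :=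
  (Finset.range (n + 1)).biUnion fun i =>
    (associatedPrimes.finite T (T ⧸ (Ideal.ofList (xs.take i) • (⊤ : Submodule T T)))).toFinset

theorem mem_badPrimes {xs : List T} {n : ℕ} {P : Ideal T} :
    P ∈ badPrimes xs n ↔ ∃ i ≤ n,
      P ∈ associatedPrimes T (T ⧸ (Ideal.ofList (xs.take i) • (⊤ : Submodule T T))) := by
  unfold badPrimes
  rw [Finset.mem_biUnion]
  constructor
  · rintro ⟨i, hi, hP⟩
    exact ⟨i, by rw [Finset.mem_range] at hi; omega, by simpa using hP⟩
  · rintro ⟨i, hi, hP⟩
    exact ⟨i, by rw [Finset.mem_range]; omega, by simpa using hP⟩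

theorem height_of_mem_badPrimes {xs : List T} (hgood : Good xs) {n : ℕ} (hn : n ≤ xs.length)
    {P : Ideal T} (hP : P ∈ badPrimes xs n) : ∃ i ≤ n, P.height = i := by
  obtain ⟨i, hi, hPi⟩ := mem_badPrimes.mp hP
  refine ⟨i, hi, ?_⟩
  have h1 := height_eq_length_of_mem_ass (xs.take i) (isWeaklyRegular_take_of_good hgood i) P hPi
  rw [h1, List.length_take, min_eq_left (by omega)]

variable [hreg : IsRegularLocalRing (Localization.AtPrime p)]

theorem height_maximalIdeal_localization (h : ℕ) (hh : p.height = h) :
    (maximalIdeal (Localization.AtPrime p)).height = h := by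
  have h1 : ((maximalIdeal (Localization.AtPrime p)).height : WithBot ℕ∞) = (p.height : WithBot ℕ∞) := by
    rw [IsLocalRing.maximalIdeal_height_eq_ringKrullDim,
      IsLocalization.AtPrime.ringKrullDim_eq_height p]
  rw [← hh]
  exact WithBot.coe_injective h1

/-- The inductive step. -/
theorem state_step (c h : ℕ) (hh : p.height = h) (xs : List T) (hlt : xs.length < h)
    (hS : State p c h xs) : ∃ x : T, State p c h (xs ++ [x]) := by
  classical
  obtain ⟨ys, hys, hysp⟩ := hS.exM
  obtain ⟨ws, hws, hwsm⟩ := hS.exL
  set alg := algebraMap T (Localization.AtPrime p) with halg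
  set E : Ideal T := Ideal.ofList xs ⊔ maximalIdeal T • Ideal.ofList ys with hE
  set X : Ideal (Localization.AtPrime p) :=
    (Ideal.ofList xs).map alg ⊔ maximalIdeal (Localization.AtPrime p) • Ideal.ofList ws with hX
  set N : Ideal T := X.comap alg with hN
  have hpne : p ≠ ⊤ := Ideal.IsPrime.ne_top inferInstance
  have hnotE : ¬ p ≤ E := by
    intro hle
    have h1 : Ideal.ofList ys ≤ Ideal.ofList xs ⊔ maximalIdeal T • Ideal.ofList ys := by
      refine le_trans ?_ hle
      rw [← hysp]; exact le_sup_right
    have h2 : Ideal.ofList ys ≤ Ideal.ofList xs :=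
      Submodule.le_of_le_smul_of_le_jacobson_bot (Ideal.ofList ys).fg_of_isNoetherianRing
        (maximalIdeal_le_jacobson _) h1
    have h3 : p = Ideal.ofList xs := by rw [← hysp, sup_eq_left.mpr h2]
    have h4 := Ideal.height_le_spanFinrank p hpne
    have h5 := RegIdeal.spanFinrank_ofList_le xs
    rw [← h3] at h5
    rw [hh] at h4
    have : (h : ℕ∞) ≤ xs.length := h4.trans (by exact_mod_cast h5)
    have : h ≤ xs.length := by exact_mod_cast this
    omega
  have hnotN : ¬ p ≤ N := by
    intro hle
    have h0 : maximalIdeal (Localization.AtPrime p) ≤ X := by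
      rw [← IsLocalization.AtPrime.map_eq_maximalIdeal p (Localization.AtPrime p)]
      rw [Ideal.map_le_iff_le_comap]
      exact hle
    have h1 : Ideal.ofList ws ≤ (Ideal.ofList xs).map alg ⊔
        maximalIdeal (Localization.AtPrime p) • Ideal.ofList ws := by
      refine le_trans ?_ h0
      rw [← hwsm]; exact le_sup_right
    have h2 : Ideal.ofList ws ≤ (Ideal.ofList xs).map alg :=
      Submodule.le_of_le_smul_of_le_jacobson_bot (Ideal.ofList ws).fg_of_isNoetherianRing
        (maximalIdeal_le_jacobson _) h1
    have h3 : maximalIdeal (Localization.AtPrime p) = Ideal.ofList (xs.map alg) := by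
      rw [← hwsm, sup_eq_left.mpr h2, Ideal.map_ofList]
    have h4 := Ideal.height_le_spanFinrank (maximalIdeal (Localization.AtPrime p))
      (Ideal.IsPrime.ne_top inferInstance)
    have h5 := RegIdeal.spanFinrank_ofList_le (xs.map alg)
    rw [← h3, List.length_map] at h5
    rw [height_maximalIdeal_localization p h hh] at h4
    have : (h : ℕ∞) ≤ xs.length := h4.trans (by exact_mod_cast h5)
    have : h ≤ xs.length := by exact_mod_cast this
    omega
  have hbadprime : ∀ P ∈ badPrimes xs xs.length, P.IsPrime := by
    intro P hP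
    obtain ⟨i, -, hPi⟩ := mem_badPrimes.mp hP
    exact hPi.isPrime
  have hnotP : ∀ P ∈ badPrimes xs xs.length, ¬ p ≤ P := by
    intro P hP hle
    obtain ⟨i, hi, hPi⟩ := height_of_mem_badPrimes hS.good le_rfl hP
    have h1 := Ideal.height_mono hle
    rw [hh, hPi] at h1
    have : h ≤ i := by exact_mod_cast h1
    omega
  obtain ⟨x, hxp, hxE, hxN, hxP⟩ :=
    exists_mem_not_mem p E N (badPrimes xs xs.length) hbadprime hnotE hnotN hnotP
  refine ⟨x, ?_, ?_, ?_, ?_⟩
  · intro y hy
    rw [List.mem_append, List.mem_singleton] at hy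
    rcases hy with hy | rfl
    · exact hS.mem y hy
    · exact hxp
  · apply good_append_singleton hS.good
    intro i hi
    apply regMod_of_forall_not_mem_ass
    intro P hP
    exact hxP P (mem_badPrimes.mpr ⟨i, hi, hP⟩)
  · have hx1 : x ∈ Ideal.ofList xs ⊔ Ideal.ofList ys := by rw [hysp]; exact hxp
    obtain ⟨ys', hlen, heq⟩ := exchange ys (Ideal.ofList xs) x hx1 hxE
    refine ⟨ys', ?_, ?_⟩
    · rw [List.length_append, List.length_singleton]; omega
    · rw [Ideal.ofList_append, Ideal.ofList_singleton, heq, hysp]
  · have hx1 : alg x ∈ (Ideal.ofList xs).map alg ⊔ Ideal.ofList ws := by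
      rw [hwsm, ← IsLocalization.AtPrime.map_eq_maximalIdeal p (Localization.AtPrime p)]
      exact Ideal.mem_map_of_mem _ hxp
    have hx2 : alg x ∉ (Ideal.ofList xs).map alg ⊔
        maximalIdeal (Localization.AtPrime p) • Ideal.ofList ws := fun hcon => hxN hcon
    obtain ⟨ws', hlen, heq⟩ := exchange ws ((Ideal.ofList xs).map alg) (alg x) hx1 hx2
    refine ⟨ws', ?_, ?_⟩
    · rw [List.length_append, List.length_singleton]; omega
    · have hsp : (Ideal.span {x}).map alg = Ideal.span {alg x} := by
        rw [Ideal.map_span, Set.image_singleton]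
      rw [Ideal.ofList_append, Ideal.ofList_singleton, Ideal.map_sup, hsp, heq, hwsm]

/-- The regular part of the sequence. -/
theorem exists_state (c h : ℕ) (hh : p.height = h) (hc : p.spanFinrank = c) :
    ∀ n ≤ h, ∃ xs : List T, xs.length = n ∧ State p c h xs := by
  classical
  intro n
  induction n with
  | zero =>
    intro _
    refine ⟨[], rfl, ?_, good_nil, ?_, ?_⟩
    · intro x hx; simp at hx
    · obtain ⟨s, hcard, hspan⟩ :=
        Submodule.FG.exists_span_finset_card_eq_spanFinrank (p.fg_of_isNoetherianRing)
      refine ⟨s.toList, by rw [Finset.length_toList, hcard, List.length_nil, add_zero, hc], ?_⟩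
      rw [Ideal.ofList_nil, bot_sup_eq, RegIdeal.ofList_toList]
      exact hspan
    · obtain ⟨s, hcard, hspan⟩ :=
        Submodule.FG.exists_span_finset_card_eq_spanFinrank
          ((maximalIdeal (Localization.AtPrime p)).fg_of_isNoetherianRing)
      have h1 : ((maximalIdeal (Localization.AtPrime p)).spanFinrank : WithBot ℕ∞) =
          ((h : ℕ) : WithBot ℕ∞) := by
        rw [hreg.spanFinrank_maximalIdeal, IsLocalization.AtPrime.ringKrullDim_eq_height p, hh]
        rfl
      have h2 : (maximalIdeal (Localization.AtPrime p)).spanFinrank = h := by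
        exact_mod_cast h1
      refine ⟨s.toList, by rw [Finset.length_toList, hcard, List.length_nil, add_zero, h2], ?_⟩
      rw [Ideal.ofList_nil, Ideal.map_bot, bot_sup_eq, RegIdeal.ofList_toList]
      exact hspan
  | succ n ih =>
    intro hn
    obtain ⟨xs, hlen, hS⟩ := ih (by omega)
    obtain ⟨x, hS'⟩ := state_step p c h hh xs (by omega) hS
    exact ⟨xs ++ [x], by rw [List.length_append, List.length_singleton, hlen], hS'⟩

end Construction

end Groth.Agent.Lib.Helper29.DSeq
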