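import Groth.Agent.Lib.Helper29.DSeq2

/-!
# d-sequences generating almost complete intersection primes of Cohen–Macaulay local rings
-/

set_option autoImplicit false
set_option linter.unusedSectionVars false
set_option linter.style.haveILetI false
set_option linter.deprecated false
universe u

namespace Groth.Agent.Lib.Helper29.DSeq

open IsLocalRing RingTheory.Sequence Pointwise
open Groth.Agent.Lib.Helper29

section Irredundant

variable {T : Type u} [CommRing T] [IsNoetherianRing T]

/-- A generating list of minimal length is irredundant. -/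
theorem not_mem_span_others (p : Ideal T) (ts : List T) (hts : Ideal.ofList ts = p)
    (hlen : ts.length = p.spanFinrank) (i : Fin ts.length) :
    ts[i] ∉ Ideal.span (Set.range fun j : {j : Fin ts.length // j ≠ i} =>
      ts[(j : Fin ts.length)]) := by
  classical
  intro hmem
  set S : Ideal T := Ideal.span (Set.range fun j : {j : Fin ts.length // j ≠ i} =>
      ts[(j : Fin ts.length)]) with hS
  have h1 : p ≤ S := by
    rw [← hts]
    unfold Ideal.ofList
    rw [Ideal.span_le]
    intro x hx
    obtain ⟨j, hj, rfl⟩ := List.getElem_of_mem hx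
    by_cases hji : (⟨j, hj⟩ : Fin ts.length) = i
    · rw [← hji] at hmem
      exact hmem
    · exact Ideal.subset_span ⟨⟨⟨j, hj⟩, hji⟩, rfl⟩
  have h2 : S ≤ p := by
    rw [hS, Ideal.span_le]
    rintro x ⟨j, rfl⟩
    have hmemp : ∀ y ∈ ts, y ∈ p := fun y hy => hts ▸ Ideal.subset_span hy
    exact hmemp _ (List.getElem_mem _)
  have h3 : S = p := le_antisymm h2 h1
  have hfin : (Set.range fun j : {j : Fin ts.length // j ≠ i} =>
      ts[(j : Fin ts.length)]).Finite := Set.finite_range _
  have h4 := Submodule.spanFinrank_span_le_ncard_of_finite (R := T) hfin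
  have h5 : (Set.range fun j : {j : Fin ts.length // j ≠ i} =>
      ts[(j : Fin ts.length)]).ncard ≤ ts.length - 1 := by
    rw [← Set.image_univ]
    refine (Set.ncard_image_le (Set.finite_univ)).trans ?_
    rw [Set.ncard_univ, Nat.card_eq_fintype_card]
    simp
  have h6 : S.spanFinrank ≤ ts.length - 1 := h4.trans h5
  rw [h3, ← hlen] at h6
  have : 0 < ts.length := i.pos
  omega

end Irredundant

section Last

variable {T : Type u} [CommRing T] [IsNoetherianRing T] (p : Ideal T) [p.IsPrime]

/-- The last colon condition. -/
theorem colon_sq_le (J : Ideal T) (x : T)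
    (hL : J.map (algebraMap T (Localization.AtPrime p)) =
      maximalIdeal (Localization.AtPrime p))
    (hx : ∀ P ∈ associatedPrimes T (T ⧸ (J • (⊤ : Submodule T T))), P ≠ p → x ∉ P) :
    J.colon {x * x} ≤ J.colon {x} := by
  intro y hy
  rw [Submodule.mem_colon_singleton, smul_eq_mul] at hy ⊢
  by_contra hcon
  have hz : (Submodule.Quotient.mk (y * x) : T ⧸ (J • (⊤ : Submodule T T))) ≠ 0 := by
    rw [Ne, Submodule.Quotient.mk_eq_zero, smul_top_eq]
    exact hcon
  obtain ⟨P, hP, hle⟩ := exists_le_isAssociatedPrime_of_isNoetherianRing T _ hz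
  have hmemcolon : ∀ r : T, r * (y * x) ∈ J →
      r ∈ (⊥ : Submodule T (T ⧸ (J • (⊤ : Submodule T T)))).colon
        {(Submodule.Quotient.mk (y * x) : T ⧸ (J • (⊤ : Submodule T T)))} := by
    intro r hr
    rw [Submodule.mem_colon_singleton, Submodule.mem_bot, ← Submodule.Quotient.mk_smul,
      Submodule.Quotient.mk_eq_zero, smul_top_eq, smul_eq_mul]
    exact hr
  have hxP : x ∈ P := by
    apply hle
    apply hmemcolon
    have : x * (y * x) = y * (x * x) := by ring
    rw [this]
    exact hy
  have hPp : P = p := by
    by_contra hne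
    exact hx P hP hne hxP
  have hyxp : y * x ∈ p := by
    rw [← hPp]
    exact Ideal.mul_mem_left _ _ hxP
  have h1 : algebraMap T (Localization.AtPrime p) (y * x) ∈
      J.map (algebraMap T (Localization.AtPrime p)) := by
    rw [hL, ← IsLocalization.AtPrime.map_eq_maximalIdeal p (Localization.AtPrime p)]
    exact Ideal.mem_map_of_mem _ hyxp
  rw [IsLocalization.mem_map_algebraMap_iff p.primeCompl] at h1
  obtain ⟨⟨⟨a, ha⟩, ⟨s, hs⟩⟩, has⟩ := h1
  simp only at has
  rw [← map_mul, IsLocalization.eq_iff_exists p.primeCompl] at has
  obtain ⟨⟨s', hs'⟩, hs'eq⟩ := has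
  simp only at hs'eq
  have h2 : (s' * s) * (y * x) ∈ J := by
    have : (s' * s) * (y * x) = s' * a := by rw [← hs'eq]; ring
    rw [this]
    exact Ideal.mul_mem_left _ _ ha
  have h3 : s' * s ∈ P := hle (hmemcolon _ h2)
  rw [hPp] at h3
  rcases (Ideal.IsPrime.mem_or_mem inferInstance h3) with h | h
  · exact hs' h
  · exact hs h

end Last

section Main

variable {T : Type u} [CommRing T] [hT : LocCoh.IsCohenMacaulayLocalRing T]
  (p : Ideal T) [p.IsPrime] [hreg : IsRegularLocalRing (Localization.AtPrime p)]

/-- **Huneke**: an almost complete intersection prime of a Cohen–Macaulay local ring which is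
generically a complete intersection is generated by a d-sequence. -/
theorem exists_dseq (hgen : (Submodule.spanFinrank p : ℕ∞) ≤ p.height + 1) :
    ∃ ts : List T, Ideal.ofList ts = p ∧ W4c5grrsingularflat.IsDSeq ts := by
  classical
  have hpne : p ≠ ⊤ := Ideal.IsPrime.ne_top inferInstance
  obtain ⟨h, hh⟩ : ∃ h : ℕ, p.height = h := by
    have := Ideal.height_ne_top hpne
    exact ⟨p.height.toNat, (ENat.coe_toNat this).symm⟩
  set c := p.spanFinrank with hc
  have hch : h ≤ c := by
    have := Ideal.height_le_spanFinrank p hpne
    rw [hh] at this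
    exact_mod_cast this
  have hch' : c ≤ h + 1 := by
    rw [hh] at hgen
    exact_mod_cast hgen
  obtain ⟨xs, hlen, hS⟩ := exists_state p c h hh hc.symm h le_rfl
  obtain ⟨ys, hys, hysp⟩ := hS.exM
  obtain ⟨ws, hws, hwsm⟩ := hS.exL
  have hws0 : ws = [] := by
    apply List.eq_nil_of_length_eq_zero
    omega
  rw [hws0, Ideal.ofList_nil, sup_bot_eq] at hwsm
  by_cases hcase : c = h
  · -- complete intersection case
    have hys0 : ys = [] := by
      apply List.eq_nil_of_length_eq_zero
      omega
    rw [hys0, Ideal.ofList_nil, sup_bot_eq] at hysp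
    refine ⟨xs, hysp, ?_, ?_⟩
    · intro i
      exact not_mem_span_others p xs hysp (by rw [hlen, ← hcase]) i
    · intro i k hk hik
      exact colon_mul_eq_of_regMod (hS.good i k hk hik)
        (hS.good i i (lt_of_le_of_lt hik hk) le_rfl)
  · -- almost complete intersection case
    have hc1 : c = h + 1 := by omega
    have hys1 : ys.length = 1 := by omega
    set E : Ideal T := Ideal.ofList xs ⊔ maximalIdeal T • Ideal.ofList ys with hE
    have hnotE : ¬ p ≤ E := by
      intro hle
      have h1 : Ideal.ofList ys ≤ Ideal.ofList xs ⊔ maximalIdeal T • Ideal.ofList ys := by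
        refine le_trans ?_ hle
        rw [← hysp]; exact le_sup_right
      have h2 : Ideal.ofList ys ≤ Ideal.ofList xs :=
        Submodule.le_of_le_smul_of_le_jacobson_bot (Ideal.ofList ys).fg_of_isNoetherianRing
          (maximalIdeal_le_jacobson _) h1
      have h3 : p = Ideal.ofList xs := by rw [← hysp, sup_eq_left.mpr h2]
      have h5 := RegIdeal.spanFinrank_ofList_le xs
      rw [← h3, ← hc] at h5
      omega
    set Ps : Finset (Ideal T) := (badPrimes xs h).erase p with hPs
    have hPsprime : ∀ P ∈ Ps, P.IsPrime := by
      intro P hP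
      obtain ⟨i, -, hPi⟩ := mem_badPrimes.mp (Finset.mem_of_mem_erase hP)
      exact hPi.isPrime
    have hnotP : ∀ P ∈ Ps, ¬ p ≤ P := by
      intro P hP hle
      have hPne : P ≠ p := Finset.ne_of_mem_erase hP
      have hPprime := hPsprime P hP
      obtain ⟨i, hi, hPi⟩ := height_of_mem_badPrimes hS.good (le_of_eq hlen.symm)
        (Finset.mem_of_mem_erase hP)
      have hlt : p < P := lt_of_le_of_ne hle (Ne.symm hPne)
      have h1 := Ideal.height_add_one_le_of_lt_of_isPrime hlt
      rw [hh, hPi] at h1
      have : h + 1 ≤ i := by exact_mod_cast h1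
      omega
    obtain ⟨x, hxp, hxE, -, hxP⟩ := exists_mem_not_mem p E E Ps hPsprime hnotE hnotE hnotP
    have hx1 : x ∈ Ideal.ofList xs ⊔ Ideal.ofList ys := by rw [hysp]; exact hxp
    obtain ⟨ys', hlen', heq⟩ := exchange ys (Ideal.ofList xs) x hx1 hxE
    have hys'0 : ys' = [] := by
      apply List.eq_nil_of_length_eq_zero
      omega
    rw [hys'0, Ideal.ofList_nil, sup_bot_eq, hysp] at heq
    have hts : Ideal.ofList (xs ++ [x]) = p := by
      rw [Ideal.ofList_append, Ideal.ofList_singleton, heq]
    have htslen : (xs ++ [x]).length = h + 1 := by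
      rw [List.length_append, List.length_singleton, hlen]
    -- regularity of `x` modulo the proper initial segments
    have hxreg : ∀ i, i < h → RegMod (Ideal.ofList (xs.take i)) x := by
      intro i hi
      apply regMod_of_forall_not_mem_ass
      intro P hP
      apply hxP P
      rw [hPs, Finset.mem_erase]
      refine ⟨?_, mem_badPrimes.mpr ⟨i, hi.le, hP⟩⟩
      intro hPp
      have h1 := height_eq_length_of_mem_ass (xs.take i)
        (isWeaklyRegular_take_of_good hS.good i) P hP
      rw [hPp, hh, List.length_take, min_eq_left (by omega)] at h1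
      have : h = i := by exact_mod_cast h1
      omega
    refine ⟨xs ++ [x], hts, ?_, ?_⟩
    · intro i
      exact not_mem_span_others p (xs ++ [x]) hts (by rw [htslen, ← hc1]) i
    · intro i k hk hik
      rw [htslen] at hk
      have htake : (xs ++ [x]).take i = xs.take i :=
        List.take_append_of_le_length (by omega)
      rw [htake]
      by_cases hkh : k < h
      · have hk' : k < xs.length := by omega
        have hi' : i < xs.length := by omega
        have e1 : (xs ++ [x])[k]'(by rw [htslen]; omega) = xs[k] :=
          List.getElem_append_left hk'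
        have e2 : (xs ++ [x])[i]'(by rw [htslen]; omega) = xs[i] :=
          List.getElem_append_left hi'
        rw [e1, e2]
        exact colon_mul_eq_of_regMod (hS.good i k hk' hik) (hS.good i i hi' le_rfl)
      · have hkeq : k = xs.length := by omega
        subst hkeq
        have e1 : (xs ++ [x])[xs.length]'(by simp) = x := by simp
        rw [e1]
        by_cases hih : i < xs.length
        · have e2 : (xs ++ [x])[i]'(by rw [htslen]; omega) = xs[i] :=
            List.getElem_append_left hih
          rw [e2]
          exact colon_mul_eq_of_regMod (hxreg i (by omega)) (hS.good i i hih le_rfl)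
        · have hieq : i = xs.length := by omega
          subst hieq
          rw [e1, List.take_length]
          apply le_antisymm
          · apply colon_sq_le p (Ideal.ofList xs) x hwsm
            intro P hP hPne
            apply hxP P
            rw [hPs, Finset.mem_erase]
            refine ⟨hPne, mem_badPrimes.mpr ⟨xs.length, by omega, ?_⟩⟩
            rw [List.take_length]
            exact hP
          · intro y hy
            rw [Submodule.mem_colon_singleton, smul_eq_mul] at hy ⊢
            rw [← mul_assoc]
            exact Ideal.mul_mem_right _ _ hy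

end Main

end Groth.Agent.Lib.Helper29.DSeq
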