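import Mathlib

/-!
# Global functions of a flat family over a local Artinian ring (helper29), part 1: algebra

Abstract form of: if `X → Spec C` is flat, `C` local Artinian and `H⁰(X₀, O) = k`, then
`H⁰(X, O) = C`.  The geometry enters only through a family of flat `C`-algebras `B U` (sections over
affine opens), joint injectivity of the restriction maps from the ring of global sections, and a
gluing property for the special fibre.
-/

set_option autoImplicit false
set_option linter.unusedSectionVars false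
universe u w
open IsLocalRing

namespace Groth.Agent.Lib.Helper29.DefGlobal

section Colon

variable {C B : Type*} [CommRing C] [CommRing B] [Algebra C B] [Module.Flat C B]

/-- Flatness and colon ideals: if `a x ∈ 𝔟 B` then `x ∈ (𝔟 : a) B`. -/
theorem mem_map_of_smul_mem_map [IsNoetherianRing C] (𝔟 𝔠 : Ideal C) (a : C)
    (h : ∀ c : C, a * c ∈ 𝔟 → c ∈ 𝔠) (x : B)
    (hx : a • x ∈ 𝔟.map (algebraMap C B)) : x ∈ 𝔠.map (algebraMap C B) := by
  obtain ⟨n, β, hβ⟩ := Submodule.fg_iff_exists_fin_generating_family.mp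
    (IsNoetherian.noetherian 𝔟)
  have hβmem : ∀ j, β j ∈ 𝔟 := fun j => by
    rw [← hβ]; exact Submodule.subset_span ⟨j, rfl⟩
  have hmap : 𝔟.map (algebraMap C B) = Ideal.span (Set.range fun j => algebraMap C B (β j)) := by
    have : 𝔟 = Ideal.span (Set.range β) := hβ.symm
    rw [this, Ideal.map_span, ← Set.range_comp]
    rfl
  rw [hmap, Ideal.mem_span_range_iff_exists_fun] at hx
  obtain ⟨y, hy⟩ := hx
  let e : Fin (n + 1) → C := Fin.cons a (fun j => -β j)
  let X : Fin (n + 1) → B := Fin.cons x y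
  have hrel : ∑ l, e l • X l = 0 := by
    rw [Fin.sum_univ_succ]
    simp only [e, X, Fin.cons_zero, Fin.cons_succ]
    rw [← hy]
    simp only [Algebra.smul_def, map_neg, neg_mul, Finset.sum_neg_distrib]
    rw [add_neg_eq_zero]
    exact Finset.sum_congr rfl fun j _ => mul_comm _ _
  obtain ⟨k, c, z, hz, hc⟩ :=
    Module.Flat.isTrivialRelation_of_sum_smul_eq_zero (R := C) (M := B) (f := e) (x := X) hrel
  have hx0 : x = ∑ j, c 0 j • z j := by
    have := hz 0
    simpa [X] using this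
  rw [hx0]
  refine Ideal.sum_mem _ fun j _ => ?_
  rw [Algebra.smul_def]
  refine Ideal.mul_mem_right _ _ (Ideal.mem_map_of_mem _ (h _ ?_))
  have := hc j
  rw [Fin.sum_univ_succ] at this
  simp only [e, Fin.cons_zero, Fin.cons_succ] at this
  have h2 : a * c 0 j = ∑ l : Fin n, β l * c l.succ j := by
    have h3 : a * c 0 j + ∑ l : Fin n, -β l * c l.succ j = 0 := this
    simp only [neg_mul, Finset.sum_neg_distrib] at h3
    exact eq_of_sub_eq_zero (by rw [sub_eq_add_neg]; exact h3)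
  rw [h2]
  exact Ideal.sum_mem _ fun l _ => Ideal.mul_mem_right _ _ (hβmem l)

theorem smul_mem_map_of_mul_mem {C B : Type*} [CommRing C] [CommRing B] [Algebra C B]
    (𝔟 𝔠 : Ideal C) (a : C) (h : ∀ c ∈ 𝔠, c * a ∈ 𝔟) (y : B)
    (hy : y ∈ 𝔠.map (algebraMap C B)) : a • y ∈ 𝔟.map (algebraMap C B) := by
  unfold Ideal.map at hy
  induction hy using Submodule.span_induction with
  | mem y hy =>
    obtain ⟨c, hc, rfl⟩ := hy
    rw [Algebra.smul_def, ← map_mul, mul_comm]
    exact Ideal.mem_map_of_mem _ (h c hc)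
  | zero => rw [smul_zero]; exact Ideal.zero_mem _
  | add y z _ _ hy hz => rw [smul_add]; exact Ideal.add_mem _ hy hz
  | smul r y _ hy => rw [smul_comm]; exact Ideal.mul_mem_left _ _ hy

end Colon

section Abstract

variable {C : Type u} [CommRing C] [IsLocalRing C] [IsArtinianRing C]
  {G : Type u} [CommRing G] (γ : C →+* G)
  {ι : Type w} (le : ι → ι → Prop)
  (B : ι → Type u) [∀ U, CommRing (B U)] [∀ U, Algebra C (B U)] [∀ U, Module.Flat C (B U)]
  (ρ : ∀ U, G →+* B U) (hργ : ∀ U c, ρ U (γ c) = algebraMap C (B U) c)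
  (res : ∀ U U', le U' U → (B U →+* B U'))
  (hres : ∀ U U' (h : le U' U) (s : G), res U U' h (ρ U s) = ρ U' s)
  (hinj : ∀ s : G, (∀ U, ρ U s = 0) → s = 0)
  (H : ∀ b : (∀ U, B U),
    (∀ U U' (h : le U' U), res U U' h (b U) - b U' ∈
      (maximalIdeal C).map (algebraMap C (B U'))) →
    ∃ c : C, ∀ U, b U - algebraMap C (B U) c ∈ (maximalIdeal C).map (algebraMap C (B U)))

include hργ hres in
theorem res_algebraMap (U U' : ι) (h : le U' U) (c : C) :
    res U U' h (algebraMap C (B U) c) = algebraMap C (B U') c := by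
  rw [← hργ, hres, hργ]

include hργ hres in
theorem res_mem_map (U U' : ι) (h : le U' U) (𝔟 : Ideal C) (x : B U)
    (hx : x ∈ 𝔟.map (algebraMap C (B U))) :
    res U U' h x ∈ 𝔟.map (algebraMap C (B U')) := by
  have : (𝔟.map (algebraMap C (B U))).map (res U U' h) ≤ 𝔟.map (algebraMap C (B U')) := by
    rw [Ideal.map_map, Ideal.map_le_iff_le_comap]
    intro c hc
    rw [Ideal.mem_comap, RingHom.comp_apply, res_algebraMap γ le B ρ hργ res hres]
    exact Ideal.mem_map_of_mem _ hc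
  exact this (Ideal.mem_map_of_mem _ hx)

/-- The property propagated down the ideals of `C`. -/
def Q (𝔟 : Ideal C) : Prop :=
  ∀ s : G, ∃ c : C, ∀ U, ρ U (s - γ c) ∈ 𝔟.map (algebraMap C (B U))

include hργ hres H in
/-- One step down a composition series. -/
theorem Q_step (𝔞 𝔟 : Ideal C) (a : C) (ha : a ∉ 𝔟) (h𝔞 : 𝔞 = 𝔟 ⊔ Ideal.span {a})
    (hm : ∀ c ∈ maximalIdeal C, c * a ∈ 𝔟) (hQ : Q γ B ρ 𝔞) : Q γ B ρ 𝔟 := by
  intro s
  obtain ⟨c₀, hc₀⟩ := hQ s
  -- local coefficients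
  have hloc : ∀ U, ∃ b : B U, ρ U (s - γ c₀) - a • b ∈ 𝔟.map (algebraMap C (B U)) := by
    intro U
    have h1 := hc₀ U
    rw [h𝔞, Ideal.map_sup, Submodule.mem_sup] at h1
    obtain ⟨y, hy, z, hz, hyz⟩ := h1
    rw [Ideal.map_span, Set.image_singleton, Ideal.mem_span_singleton'] at hz
    obtain ⟨b, hb⟩ := hz
    refine ⟨b, ?_⟩
    rw [← hyz, ← hb, Algebra.smul_def, mul_comm b, add_sub_cancel_right]
    exact hy
  choose b hb using hloc
  have hcolon : ∀ c : C, a * c ∈ 𝔟 → c ∈ maximalIdeal C := by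
    intro c hc
    by_contra hcm
    have hu : IsUnit c := by
      by_contra hnu
      exact hcm ((IsLocalRing.mem_maximalIdeal c).mpr hnu)
    obtain ⟨u, rfl⟩ := hu
    apply ha
    have := 𝔟.mul_mem_right (↑u⁻¹ : C) hc
    rwa [mul_assoc, Units.mul_inv, mul_one] at this
  -- compatibility
  have hcompat : ∀ U U' (h : le U' U), res U U' h (b U) - b U' ∈
      (maximalIdeal C).map (algebraMap C (B U')) := by
    intro U U' h
    apply mem_map_of_smul_mem_map 𝔟 (maximalIdeal C) a hcolon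
    have h1 := res_mem_map γ le B ρ hργ res hres U U' h 𝔟 _ (hb U)
    rw [map_sub, hres, Algebra.smul_def, map_mul, res_algebraMap γ le B ρ hργ res hres,
      ← Algebra.smul_def] at h1
    have h2 := (𝔟.map (algebraMap C (B U'))).sub_mem (hb U') h1
    have : ρ U' (s - γ c₀) - a • b U' - (ρ U' (s - γ c₀) - a • (res U U' h) (b U)) =
        a • ((res U U' h) (b U) - b U') := by
      rw [smul_sub]; ring
    rwa [this] at h2
  obtain ⟨c₁, hc₁⟩ := H b hcompat
  refine ⟨c₀ + a * c₁, fun U => ?_⟩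
  have e : ρ U (s - γ (c₀ + a * c₁)) =
      (ρ U (s - γ c₀) - a • b U) + a • (b U - algebraMap C (B U) c₁) := by
    rw [map_add, map_mul, ← sub_sub, map_sub (ρ U) _ (γ a * γ c₁), map_mul, hργ, hργ, smul_sub,
      Algebra.smul_def, Algebra.smul_def]
    ring
  rw [e]
  refine Ideal.add_mem _ (hb U) ?_
  exact smul_mem_map_of_mul_mem 𝔟 (maximalIdeal C) a hm _ (hc₁ U)

include hργ hres H hinj in
theorem surjective : Function.Surjective γ := by
  have hQtop : Q γ B ρ ⊤ := fun s => ⟨0, fun U => by rw [Ideal.map_top]; trivial⟩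
  obtain ⟨𝔞, h𝔞Q, hmin⟩ :=
    IsArtinian.set_has_minimal {𝔟 : Ideal C | Q γ B ρ 𝔟} ⟨⊤, hQtop⟩
  have h𝔞 : 𝔞 = ⊥ := by
    by_contra hne
    obtain ⟨𝔟, h𝔟lt, hmax⟩ :=
      (set_has_maximal_iff_noetherian (R := C) (M := C)).mpr inferInstance
        {𝔟 : Ideal C | 𝔟 < 𝔞} ⟨⊥, bot_lt_iff_ne_bot.mpr hne⟩
    have h𝔟lt' : 𝔟 < 𝔞 := h𝔟lt
    obtain ⟨a, ha𝔞, ha𝔟⟩ := SetLike.exists_of_lt h𝔟lt'
    -- intermediate ideals
    have hbetween : ∀ 𝔠 : Ideal C, 𝔟 ≤ 𝔠 → 𝔠 ≤ 𝔞 → 𝔠 = 𝔟 ∨ 𝔠 = 𝔞 := by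
      intro 𝔠 h1 h2
      rcases eq_or_lt_of_le h2 with h3 | h3
      · exact Or.inr h3
      · left
        by_contra h4
        exact hmax 𝔠 h3 (lt_of_le_of_ne h1 (Ne.symm h4))
    have hsup : 𝔞 = 𝔟 ⊔ Ideal.span {a} := by
      rcases hbetween (𝔟 ⊔ Ideal.span {a}) le_sup_left
        (sup_le h𝔟lt'.le ((Ideal.span_singleton_le_iff_mem _).mpr ha𝔞)) with h | h
      · exfalso
        apply ha𝔟
        rw [← h]
        exact Ideal.mem_sup_right (Ideal.mem_span_singleton_self a)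
      · exact h.symm
    have hm𝔞 : maximalIdeal C • 𝔞 ≤ 𝔟 := by
      rcases hbetween (𝔟 ⊔ maximalIdeal C • 𝔞) le_sup_left
        (sup_le h𝔟lt'.le (Submodule.smul_le.mpr fun c _ x hx => Ideal.mul_mem_left 𝔞 c hx)) with h | h
      · rw [← h]; exact le_sup_right
      · exfalso
        have h5 : 𝔞 ≤ 𝔟 := Submodule.le_of_le_smul_of_le_jacobson_bot
          (IsNoetherian.noetherian 𝔞) (IsLocalRing.maximalIdeal_le_jacobson ⊥) h.ge
        exact lt_irrefl _ (lt_of_lt_of_le h𝔟lt' h5)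
    have hm : ∀ c ∈ maximalIdeal C, c * a ∈ 𝔟 := fun c hc =>
      hm𝔞 (Submodule.smul_mem_smul hc ha𝔞)
    exact hmin 𝔟 (Q_step γ le B ρ hργ res hres H 𝔞 𝔟 a ha𝔟 hsup hm h𝔞Q) h𝔟lt'
  intro s
  obtain ⟨c, hc⟩ := h𝔞Q s
  refine ⟨c, ?_⟩
  have := hinj (s - γ c) (fun U => by
    have := hc U
    rw [h𝔞, Ideal.map_bot] at this
    exact this)
  exact (sub_eq_zero.mp this).symm

include hργ in
theorem injective (H' : ∃ U, (maximalIdeal C).map (algebraMap C (B U)) ≠ ⊤) :
    Function.Injective γ := by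
  obtain ⟨U, hU⟩ := H'
  have : Module.FaithfullyFlat C (B U) := ⟨fun m hm => by
    have : m = maximalIdeal C := IsLocalRing.eq_maximalIdeal hm
    rw [this, Ideal.smul_top_eq_map]
    intro h
    exact hU ((Submodule.restrictScalars_eq_top_iff (S := C) (R := B U) (M := B U)).mp h)⟩
  intro c c' h
  have : algebraMap C (B U) c = algebraMap C (B U) c' := by rw [← hργ, ← hργ, h]
  exact FaithfulSMul.algebraMap_injective C (B U) this

end Abstract

end Groth.Agent.Lib.Helper29.DefGlobal
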