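import Mathlib
import Groth.Agent.Lib.Helper29.DefGlobal1
import Groth.Agent.Lib.Helper20.IdealComap

/-!
# Global functions of a flat family over a local Artinian ring (helper29), part 2: geometry
-/

set_option autoImplicit false
set_option linter.unusedSectionVars false
set_option linter.style.haveILetI false
universe u
open IsLocalRing CategoryTheory CategoryTheory.Limits AlgebraicGeometry Opposite

namespace Groth.Agent.Lib.Helper29.DefGlobal

variable {C : Type u} [CommRing C] [IsLocalRing C]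
  {X X₀ : Scheme.{u}} (g : X ⟶ Spec (CommRingCat.of C))
  (i : X₀ ⟶ X) (f₀ : X₀ ⟶ Spec (CommRingCat.of (C ⧸ maximalIdeal C)))

/-- The structure map `C → Γ(X, ⊤)`. -/
noncomputable def γ : C →+* Γ(X, ⊤) :=
  ((Scheme.ΓSpecIso (CommRingCat.of C)).inv ≫ g.appTop).hom

/-- restriction from the global sections -/
noncomputable def ρ (U : X.Opens) : Γ(X, ⊤) →+* Γ(X, U) :=
  (X.presheaf.map (homOfLE (le_top : U ≤ ⊤)).op).hom

/-- restriction -/
noncomputable def res {U U' : X.Opens} (h : U' ≤ U) : Γ(X, U) →+* Γ(X, U') :=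
  (X.presheaf.map (homOfLE h).op).hom

theorem res_ρ {U U' : X.Opens} (h : U' ≤ U) (s : Γ(X, ⊤)) : res h (ρ U s) = ρ U' s := by
  unfold res ρ
  rw [← CommRingCat.comp_apply, ← Functor.map_comp]
  rfl

/-- `γ_U` as the composite through `appLE`. -/
theorem ρ_comp_γ (U : X.Opens) :
    (ρ U).comp (γ g) = (g.appLE ⊤ U le_top).hom.comp
      (Scheme.ΓSpecIso (CommRingCat.of C)).inv.hom := by
  rfl

variable (hsq : IsPullback i f₀ g
  (Spec.map (CommRingCat.ofHom (Ideal.Quotient.mk (maximalIdeal C)))))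

theorem isClosedImmersion_σ :
    IsClosedImmersion (Spec.map (CommRingCat.ofHom (Ideal.Quotient.mk (maximalIdeal C)))) :=
  IsClosedImmersion.spec_of_surjective _ Ideal.Quotient.mk_surjective

include hsq in
theorem isClosedImmersion_i : IsClosedImmersion i := by
  haveI := isClosedImmersion_σ (C := C)
  exact MorphismProperty.of_isPullback hsq.flip inferInstance

theorem ker_σ_ideal :
    haveI := isClosedImmersion_σ (C := C)
    (Spec.map (CommRingCat.ofHom (Ideal.Quotient.mk (maximalIdeal C)))).ker.ideal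
      ⟨⊤, isAffineOpen_top _⟩ =
    (maximalIdeal C).map (Scheme.ΓSpecIso (CommRingCat.of C)).inv.hom := by
  haveI := isClosedImmersion_σ (C := C)
  rw [Scheme.Hom.ker_apply]
  set σ := Spec.map (CommRingCat.ofHom (Ideal.Quotient.mk (maximalIdeal C)))
  have hnat := Scheme.ΓSpecIso_naturality (CommRingCat.ofHom (Ideal.Quotient.mk (maximalIdeal C)))
  have hnat' := Scheme.ΓSpecIso_inv_naturality
    (CommRingCat.ofHom (Ideal.Quotient.mk (maximalIdeal C)))
  apply le_antisymm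
  · intro x hx
    rw [RingHom.mem_ker] at hx
    have h1 : (Ideal.Quotient.mk (maximalIdeal C))
        ((Scheme.ΓSpecIso (CommRingCat.of C)).hom.hom x) = 0 := by
      have h3 : (Scheme.ΓSpecIso (CommRingCat.of (C ⧸ maximalIdeal C))).hom.hom
          (σ.appTop.hom x) = (Ideal.Quotient.mk (maximalIdeal C))
            ((Scheme.ΓSpecIso (CommRingCat.of C)).hom.hom x) := congr($(hnat) x)
      rw [← h3, show σ.appTop.hom x = 0 from hx, map_zero]
    rw [Ideal.Quotient.eq_zero_iff_mem] at h1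
    have h2 : x = (Scheme.ΓSpecIso (CommRingCat.of C)).inv.hom
        ((Scheme.ΓSpecIso (CommRingCat.of C)).hom.hom x) := by
      change x = ((Scheme.ΓSpecIso (CommRingCat.of C)).hom ≫
        (Scheme.ΓSpecIso (CommRingCat.of C)).inv).hom x
      rw [Iso.hom_inv_id]
      rfl
    rw [h2]
    exact Ideal.mem_map_of_mem _ h1
  · rw [Ideal.map_le_iff_le_comap]
    intro y hy
    rw [Ideal.mem_comap, RingHom.mem_ker]
    have h3 : (Scheme.ΓSpecIso (CommRingCat.of (C ⧸ maximalIdeal C))).inv.hom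
        ((Ideal.Quotient.mk (maximalIdeal C)) y) =
        σ.appTop.hom ((Scheme.ΓSpecIso (CommRingCat.of C)).inv.hom y) := congr($(hnat') y)
    change σ.appTop.hom ((Scheme.ΓSpecIso (CommRingCat.of C)).inv.hom y) = 0
    rw [← h3, Ideal.Quotient.eq_zero_iff_mem.mpr hy, map_zero]

include hsq in
/-- **Kernel of restriction to the special fibre**, on affine opens. -/
theorem ker_app (U : X.affineOpens) :
    RingHom.ker (i.app U.1).hom = (maximalIdeal C).map ((ρ U.1).comp (γ g)) := by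
  haveI := isClosedImmersion_σ (C := C)
  haveI := isClosedImmersion_i g i f₀ hsq
  rw [← Scheme.Hom.ker_apply]
  have h1 : i.ker = (Spec.map (CommRingCat.ofHom
      (Ideal.Quotient.mk (maximalIdeal C)))).ker.comap g := by
    have e : i = hsq.isoPullback.hom ≫ pullback.fst g _ := (hsq.isoPullback_hom_fst).symm
    rw [e, Scheme.Hom.ker_comp_of_isIso, Scheme.IdealSheafData.ker_fst_of_isClosedImmersion]
  rw [h1, Groth.Agent.Lib.Helper20.ideal_comap g _ U ⟨⊤, isAffineOpen_top _⟩ le_top,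
    ker_σ_ideal, Ideal.map_map, ρ_comp_γ]

omit [IsLocalRing C] in
theorem app_res {U U' : X.Opens} (h : U' ≤ U) (b : Γ(X, U)) :
    (i.app U').hom (res h b) =
      res (X := X₀) (show i ⁻¹ᵁ U' ≤ i ⁻¹ᵁ U from fun _ hx => h hx) ((i.app U).hom b) :=
  congr($(i.naturality (homOfLE h).op) b)

omit [IsLocalRing C] in
theorem res_res {U U' U'' : X.Opens} (h : U' ≤ U) (h' : U'' ≤ U') (b : Γ(X, U)) :
    res h' (res h b) = res (h'.trans h) b := by
  unfold res
  rw [← CommRingCat.comp_apply, ← Functor.map_comp]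
  rfl

include hsq in
theorem appTop_γ (c : C) :
    i.appTop.hom (γ g c) =
      ((Scheme.ΓSpecIso (CommRingCat.of (C ⧸ maximalIdeal C))).inv ≫ f₀.appTop).hom
        (Ideal.Quotient.mk (maximalIdeal C) c) := by
  have h1 : g.appTop ≫ i.appTop =
      (Spec.map (CommRingCat.ofHom (Ideal.Quotient.mk (maximalIdeal C)))).appTop ≫ f₀.appTop := by
    rw [← Scheme.Hom.comp_appTop, ← Scheme.Hom.comp_appTop, hsq.w]
  have h2 : (Scheme.ΓSpecIso (CommRingCat.of C)).inv ≫ g.appTop ≫ i.appTop =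
      CommRingCat.ofHom (Ideal.Quotient.mk (maximalIdeal C)) ≫
        (Scheme.ΓSpecIso (CommRingCat.of (C ⧸ maximalIdeal C))).inv ≫ f₀.appTop := by
    rw [h1, ← Category.assoc, ← Scheme.ΓSpecIso_inv_naturality, Category.assoc]
  exact congr($(h2) c)

include hsq in
/-- The gluing property of the special fibre, in the form needed by the abstract theorem. -/
theorem H_geom
    (h0 : Function.Bijective ((Scheme.ΓSpecIso (CommRingCat.of (C ⧸ maximalIdeal C))).inv ≫
      f₀.appTop))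
    (b : ∀ U : X.affineOpens, Γ(X, U.1))
    (hb : ∀ (U U' : X.affineOpens) (h : U'.1 ≤ U.1), res h (b U) - b U' ∈
      (maximalIdeal C).map ((ρ U'.1).comp (γ g))) :
    ∃ c : C, ∀ U : X.affineOpens, b U - (ρ U.1) (γ g c) ∈
      (maximalIdeal C).map ((ρ U.1).comp (γ g)) := by
  let V : X.affineOpens → X₀.Opens := fun U => i ⁻¹ᵁ U.1
  let t : ∀ U : X.affineOpens, Γ(X₀, V U) := fun U => (i.app U.1).hom (b U)
  have K1 : ∀ (U U' : X.affineOpens) (h : U'.1 ≤ U.1),
      res (X := X₀) (show V U' ≤ V U from fun _ hx => h hx) (t U) = t U' := by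
    intro U U' h
    show res (X := X₀) _ ((i.app U.1).hom (b U)) = (i.app U'.1).hom (b U')
    rw [← app_res i h, ← sub_eq_zero, ← map_sub, ← RingHom.mem_ker, ker_app g i f₀ hsq U']
    exact hb U U' h
  have compat : TopCat.Presheaf.IsCompatible X₀.presheaf V t := by
    intro U₁ U₂
    refine TopCat.Sheaf.eq_of_locally_eq' X₀.sheaf
      (fun U₃ : {U₃ : X.affineOpens // U₃.1 ≤ U₁.1 ⊓ U₂.1} => V U₃.1) (V U₁ ⊓ V U₂)
      (fun U₃ => homOfLE (fun x hx => ⟨(U₃.2 hx).1, (U₃.2 hx).2⟩)) ?_ _ _ (fun U₃ => ?_)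
    · intro x hx
      obtain ⟨_, ⟨W, hW, rfl⟩, hxW, hWU⟩ :=
        X.isBasis_affineOpens.exists_subset_of_mem_open
          (show i.base x ∈ ((U₁.1 ⊓ U₂.1 : X.Opens) : Set X) from hx) (U₁.1 ⊓ U₂.1).2
      exact TopologicalSpace.Opens.mem_iSup.mpr ⟨⟨⟨W, hW⟩, hWU⟩, hxW⟩
    · have e1 := K1 U₁ U₃.1 (U₃.2.trans inf_le_left)
      have e2 := K1 U₂ U₃.1 (U₃.2.trans inf_le_right)
      have l1 : X₀.presheaf.map (homOfLE (fun x hx => ⟨(U₃.2 hx).1, (U₃.2 hx).2⟩ :
          V U₃.1 ≤ V U₁ ⊓ V U₂)).op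
          (X₀.presheaf.map (TopologicalSpace.Opens.infLELeft (V U₁) (V U₂)).op (t U₁)) =
          t U₃.1 := by
        rw [← e1]
        unfold res
        rw [← CommRingCat.comp_apply, ← Functor.map_comp]
        rfl
      have l2 : X₀.presheaf.map (homOfLE (fun x hx => ⟨(U₃.2 hx).1, (U₃.2 hx).2⟩ :
          V U₃.1 ≤ V U₁ ⊓ V U₂)).op
          (X₀.presheaf.map (TopologicalSpace.Opens.infLERight (V U₁) (V U₂)).op (t U₂)) =
          t U₃.1 := by
        rw [← e2]
        unfold res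
        rw [← CommRingCat.comp_apply, ← Functor.map_comp]
        rfl
      exact l1.trans l2.symm
  have hcover : (⊤ : X₀.Opens) ≤ iSup V := by
    intro x _
    obtain ⟨_, ⟨W, hW, rfl⟩, hxW, -⟩ :=
      X.isBasis_affineOpens.exists_subset_of_mem_open (Set.mem_univ (i.base x)) isOpen_univ
    exact TopologicalSpace.Opens.mem_iSup.mpr ⟨⟨W, hW⟩, hxW⟩
  obtain ⟨tt, htt, -⟩ := TopCat.Sheaf.existsUnique_gluing' X₀.sheaf V ⊤
    (fun U => homOfLE le_top) hcover t compat
  obtain ⟨cbar, hcbar⟩ := h0.2 tt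
  obtain ⟨c, rfl⟩ := Ideal.Quotient.mk_surjective cbar
  refine ⟨c, fun U => ?_⟩
  rw [← ker_app g i f₀ hsq U, RingHom.mem_ker, map_sub, sub_eq_zero]
  have e1 : (i.app U.1).hom (b U) = res (X := X₀) (le_top : V U ≤ ⊤) tt := (htt U).symm
  have e2 : (i.app U.1).hom (ρ U.1 (γ g c)) =
      res (X := X₀) (le_top : V U ≤ ⊤) (i.appTop.hom (γ g c)) :=
    app_res i (le_top : U.1 ≤ ⊤) (γ g c)
  rw [e1, e2, appTop_γ g i f₀ hsq c]
  exact congrArg _ hcbar.symm

omit [IsLocalRing C] in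
theorem hinj_geom (s : Γ(X, ⊤)) (hs : ∀ U : X.affineOpens, ρ U.1 s = 0) : s = 0 := by
  refine TopCat.Sheaf.eq_of_locally_eq' X.sheaf (fun U : X.affineOpens => U.1) ⊤
    (fun U => homOfLE le_top) ?_ s 0 (fun U => ?_)
  · rw [iSup_affineOpens_eq_top]
  · show ρ U.1 s = ρ U.1 0
    rw [map_zero]
    exact hs U

include hsq in
theorem H'_geom
    (h0 : Function.Bijective ((Scheme.ΓSpecIso (CommRingCat.of (C ⧸ maximalIdeal C))).inv ≫
      f₀.appTop)) :
    ∃ U : X.affineOpens, (maximalIdeal C).map ((ρ U.1).comp (γ g)) ≠ ⊤ := by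
  by_contra hcon
  push Not at hcon
  have h1 : ∀ U : X.affineOpens, (1 : Γ(X₀, i ⁻¹ᵁ U.1)) = 0 := by
    intro U
    have : (1 : Γ(X, U.1)) ∈ RingHom.ker (i.app U.1).hom := by
      rw [ker_app g i f₀ hsq U, hcon U]
      trivial
    rw [RingHom.mem_ker, map_one] at this
    exact this
  have hcover : (⊤ : X₀.Opens) ≤ ⨆ U : X.affineOpens, i ⁻¹ᵁ U.1 := by
    intro x _
    obtain ⟨_, ⟨W, hW, rfl⟩, hxW, -⟩ :=
      X.isBasis_affineOpens.exists_subset_of_mem_open (Set.mem_univ (i.base x)) isOpen_univ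
    exact TopologicalSpace.Opens.mem_iSup.mpr ⟨⟨W, hW⟩, hxW⟩
  have h2 : (1 : Γ(X₀, ⊤)) = 0 := by
    refine TopCat.Sheaf.eq_of_locally_eq' X₀.sheaf (fun U : X.affineOpens => i ⁻¹ᵁ U.1) ⊤
      (fun U => homOfLE le_top) hcover 1 0 (fun U => ?_)
    show res (X := X₀) (le_top : i ⁻¹ᵁ U.1 ≤ ⊤) 1 = res (X := X₀) (le_top : i ⁻¹ᵁ U.1 ≤ ⊤) 0
    rw [map_one, map_zero]
    exact h1 U
  have h3 : ((Scheme.ΓSpecIso (CommRingCat.of (C ⧸ maximalIdeal C))).inv ≫ f₀.appTop) 1 =
      ((Scheme.ΓSpecIso (CommRingCat.of (C ⧸ maximalIdeal C))).inv ≫ f₀.appTop) 0 := by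
    rw [map_one, map_zero]
    exact h2
  have h4 : (1 : C ⧸ maximalIdeal C) = 0 := h0.1 h3
  exact one_ne_zero h4

theorem flat_γ [Flat g] (U : X.affineOpens) : ((ρ U.1).comp (γ g)).Flat := by
  rw [ρ_comp_γ]
  have h1 : (g.appLE ⊤ U.1 le_top).hom.Flat := g.flat_appLE (isAffineOpen_top _) U.2 le_top
  refine RingHom.Flat.comp (RingHom.Flat.of_bijective ?_) h1
  exact ConcreteCategory.bijective_of_isIso (Scheme.ΓSpecIso (CommRingCat.of C)).inv

include hsq in
/-- **Global functions of a flat family over a local Artinian base.** -/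
theorem bijective_γ [IsArtinianRing C] [Flat g]
    (h0 : Function.Bijective ((Scheme.ΓSpecIso (CommRingCat.of (C ⧸ maximalIdeal C))).inv ≫
      f₀.appTop)) : Function.Bijective (γ g) := by
  letI alg : ∀ U : X.affineOpens, Algebra C Γ(X, U.1) := fun U =>
    ((ρ U.1).comp (γ g)).toAlgebra
  haveI : ∀ U : X.affineOpens, Module.Flat C Γ(X, U.1) := fun U => flat_γ g U
  refine ⟨injective (γ g) (fun U : X.affineOpens => Γ(X, U.1)) (fun U => ρ U.1)
      (fun U c => rfl) (H'_geom g i f₀ hsq h0),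
    surjective (γ g) (fun U' U : X.affineOpens => U'.1 ≤ U.1) (fun U => Γ(X, U.1))
      (fun U => ρ U.1) (fun U c => rfl) (fun U U' h => res h) (fun U U' h s => res_ρ h s)
      hinj_geom (H_geom g i f₀ hsq h0)⟩

end Groth.Agent.Lib.Helper29.DefGlobal
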