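import Mathlib
import Groth.Agent.Lib.Helper20.IdealComap

/-!
# Trivial deformations of smooth affine schemes (helper29), part 1

The fibre of `g : X ⟶ Spec C` along `Spec K → Spec C` for a surjection `φ : C → K`: the inclusion is a
closed immersion whose kernel on an affine open `U` is `(ker φ) Γ(X, U)`.
-/

set_option autoImplicit false
set_option linter.unusedSectionVars false
set_option linter.style.haveILetI false
universe u
open CategoryTheory CategoryTheory.Limits AlgebraicGeometry Opposite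

namespace Groth.Agent.Lib.Helper29.DefTrivial

variable {C K : Type u} [CommRing C] [CommRing K] (φ : C →+* K)
  {X X₀ : Scheme.{u}} (g : X ⟶ Spec (CommRingCat.of C))
  (i : X₀ ⟶ X) (f₀ : X₀ ⟶ Spec (CommRingCat.of K))

/-- The structure map `C → Γ(X, ⊤)`. -/
noncomputable def γ : C →+* Γ(X, ⊤) :=
  ((Scheme.ΓSpecIso (CommRingCat.of C)).inv ≫ g.appTop).hom

/-- restriction from the global sections -/
noncomputable def ρ (U : X.Opens) : Γ(X, ⊤) →+* Γ(X, U) :=
  (X.presheaf.map (homOfLE (le_top : U ≤ ⊤)).op).hom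

theorem ρ_comp_γ (U : X.Opens) :
    (ρ U).comp (γ g) = (g.appLE ⊤ U le_top).hom.comp
      (Scheme.ΓSpecIso (CommRingCat.of C)).inv.hom := by
  rfl

variable (hφ : Function.Surjective φ)
  (hsq : IsPullback i f₀ g (Spec.map (CommRingCat.ofHom φ)))

include hφ in
theorem isClosedImmersion_σ : IsClosedImmersion (Spec.map (CommRingCat.ofHom φ)) :=
  IsClosedImmersion.spec_of_surjective _ hφ

include hφ hsq in
theorem isClosedImmersion_i : IsClosedImmersion i := by
  haveI := isClosedImmersion_σ φ hφ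
  exact MorphismProperty.of_isPullback hsq.flip inferInstance

include hφ in
theorem ker_σ_ideal :
    haveI := isClosedImmersion_σ φ hφ
    (Spec.map (CommRingCat.ofHom φ)).ker.ideal ⟨⊤, isAffineOpen_top _⟩ =
    (RingHom.ker φ).map (Scheme.ΓSpecIso (CommRingCat.of C)).inv.hom := by
  haveI := isClosedImmersion_σ φ hφ
  rw [Scheme.Hom.ker_apply]
  set σ := Spec.map (CommRingCat.ofHom φ)
  have hnat := Scheme.ΓSpecIso_naturality (CommRingCat.ofHom φ)
  have hnat' := Scheme.ΓSpecIso_inv_naturality (CommRingCat.ofHom φ)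
  apply le_antisymm
  · intro x hx
    rw [RingHom.mem_ker] at hx
    have h1 : φ ((Scheme.ΓSpecIso (CommRingCat.of C)).hom.hom x) = 0 := by
      have h3 : (Scheme.ΓSpecIso (CommRingCat.of K)).hom.hom (σ.appTop.hom x) =
          φ ((Scheme.ΓSpecIso (CommRingCat.of C)).hom.hom x) := congr($(hnat) x)
      rw [← h3, show σ.appTop.hom x = 0 from hx, map_zero]
    have h2 : x = (Scheme.ΓSpecIso (CommRingCat.of C)).inv.hom
        ((Scheme.ΓSpecIso (CommRingCat.of C)).hom.hom x) := by
      change x = ((Scheme.ΓSpecIso (CommRingCat.of C)).hom ≫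
        (Scheme.ΓSpecIso (CommRingCat.of C)).inv).hom x
      rw [Iso.hom_inv_id]
      rfl
    rw [h2]
    exact Ideal.mem_map_of_mem _ h1
  · rw [Ideal.map_le_iff_le_comap]
    intro y hy
    rw [Ideal.mem_comap, RingHom.mem_ker]
    have h3 : (Scheme.ΓSpecIso (CommRingCat.of K)).inv.hom (φ y) =
        σ.appTop.hom ((Scheme.ΓSpecIso (CommRingCat.of C)).inv.hom y) := congr($(hnat') y)
    change σ.appTop.hom ((Scheme.ΓSpecIso (CommRingCat.of C)).inv.hom y) = 0
    rw [← h3, (RingHom.mem_ker).mp hy, map_zero]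

include hφ hsq in
/-- **Kernel of restriction to the fibre**, on affine opens. -/
theorem ker_app (U : X.affineOpens) :
    RingHom.ker (i.app U.1).hom = (RingHom.ker φ).map ((ρ U.1).comp (γ g)) := by
  haveI := isClosedImmersion_σ φ hφ
  haveI := isClosedImmersion_i φ g i f₀ hφ hsq
  rw [← Scheme.Hom.ker_apply]
  have h1 : i.ker = (Spec.map (CommRingCat.ofHom φ)).ker.comap g := by
    have e : i = hsq.isoPullback.hom ≫ pullback.fst g _ := (hsq.isoPullback_hom_fst).symm
    rw [e, Scheme.Hom.ker_comp_of_isIso, Scheme.IdealSheafData.ker_fst_of_isClosedImmersion]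
  rw [h1, Groth.Agent.Lib.Helper20.ideal_comap g _ U ⟨⊤, isAffineOpen_top _⟩ le_top,
    ker_σ_ideal φ hφ, Ideal.map_map, ρ_comp_γ]

include hsq in
theorem appTop_γ (c : C) :
    i.appTop.hom (γ g c) =
      ((Scheme.ΓSpecIso (CommRingCat.of K)).inv ≫ f₀.appTop).hom (φ c) := by
  have h1 : g.appTop ≫ i.appTop =
      (Spec.map (CommRingCat.ofHom φ)).appTop ≫ f₀.appTop := by
    rw [← Scheme.Hom.comp_appTop, ← Scheme.Hom.comp_appTop, hsq.w]
  have h2 : (Scheme.ΓSpecIso (CommRingCat.of C)).inv ≫ g.appTop ≫ i.appTop =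
      CommRingCat.ofHom φ ≫ (Scheme.ΓSpecIso (CommRingCat.of K)).inv ≫ f₀.appTop := by
    rw [h1, ← Category.assoc, ← Scheme.ΓSpecIso_inv_naturality, Category.assoc]
  exact congr($(h2) c)

end Groth.Agent.Lib.Helper29.DefTrivial
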