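import Mathlib
import Groth.Agent.Lib.Helper7.NilFree

/-!
# Trivial deformations of smooth affine schemes (helper29), part 2: the ring-level statement

`A` a local Artinian `k`-algebra with an augmentation `e : A → k`, `B'` a flat `A`-algebra whose
reduction `B = B'/(ker e)B'` is formally smooth over `k`: then `B' ≅ A ⊗_k B` as `A`-algebras.
-/

set_option autoImplicit false
set_option linter.unusedSectionVars false
set_option linter.style.haveILetI false
universe u
open TensorProduct

namespace Groth.Agent.Lib.Helper29.DefTrivial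

variable (k : Type u) [Field k] (A : Type u) [CommRing A] [IsLocalRing A] [IsArtinianRing A]
  [Algebra k A] (e : A →ₐ[k] k)

theorem e_surjective : Function.Surjective e := fun c =>
  ⟨algebraMap k A c, by rw [AlgHom.commutes]; rfl⟩

theorem ker_e_eq : RingHom.ker (e : A →+* k) = IsLocalRing.maximalIdeal A := by
  have hmax : (RingHom.ker (e : A →+* k)).IsMaximal :=
    RingHom.ker_isMaximal_of_surjective (e : A →+* k) (e_surjective k A e)
  exact IsLocalRing.eq_maximalIdeal hmax

theorem isNilpotent_ker_e : IsNilpotent (RingHom.ker (e : A →+* k)) := by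
  rw [ker_e_eq]
  have := IsArtinianRing.isNilpotent_jacobson_bot (R := A)
  rwa [IsLocalRing.jacobson_eq_maximalIdeal ⊥ bot_ne_top] at this

theorem sub_algebraMap_mem (a : A) : a - algebraMap k A (e a) ∈ RingHom.ker (e : A →+* k) := by
  rw [RingHom.mem_ker, map_sub]
  show e a - e (algebraMap k A (e a)) = 0
  rw [AlgHom.commutes]
  simp

variable (B' : Type u) [CommRing B'] [Algebra A B'] [Algebra k B'] [IsScalarTower k A B']
  [Module.Flat A B']
  (B : Type u) [CommRing B] [Algebra k B] [Algebra.FormallySmooth k B]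
  (π : B' →ₐ[k] B) (hπ : Function.Surjective π)
  (hker : RingHom.ker (π : B' →+* B) = (RingHom.ker (e : A →+* k)).map (algebraMap A B'))

include hker in
theorem isNilpotent_ker_π : IsNilpotent (RingHom.ker (π : B' →+* B)) := by
  obtain ⟨n, hn⟩ := isNilpotent_ker_e k A e
  refine ⟨n, ?_⟩
  rw [hker, ← Ideal.map_pow, hn]
  exact Ideal.map_bot

/-- the section of `π` given by formal smoothness -/
noncomputable def sec : B →ₐ[k] B' :=
  Algebra.FormallySmooth.liftOfSurjective (AlgHom.id k B) π hπ (isNilpotent_ker_π k A e B' B π hker)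

theorem π_sec (b : B) : π (sec k A e B' B π hπ hker b) = b :=
  Algebra.FormallySmooth.liftOfSurjective_apply _ _ _ _ b

/-- the comparison map -/
noncomputable def ψ : A ⊗[k] B →ₐ[A] B' :=
  Algebra.TensorProduct.lift (Algebra.ofId A B') (sec k A e B' B π hπ hker)
    (fun _ _ => Commute.all _ _)

theorem ψ_tmul (a : A) (b : B) :
    ψ k A e B' B π hπ hker (a ⊗ₜ b) = algebraMap A B' a * sec k A e B' B π hπ hker b := by
  unfold ψ
  rw [Algebra.TensorProduct.lift_tmul]
  rfl

theorem ψ_surjective : Function.Surjective (ψ k A e B' B π hπ hker) := by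
  have hJ := isNilpotent_ker_e k A e
  set J := RingHom.ker (e : A →+* k) with hJdef
  have key : LinearMap.range (ψ k A e B' B π hπ hker).toLinearMap = ⊤ := by
    refine Groth.Agent.Lib.Helper7.ThickRing.eq_top_of_sup_smul_top_eq_top_of_isNilpotent _ J hJ ?_
    rw [eq_top_iff]
    intro b' _
    have h1 : b' - sec k A e B' B π hπ hker (π b') ∈ RingHom.ker (π : B' →+* B) := by
      rw [RingHom.mem_ker, map_sub]
      show π b' - π (sec k A e B' B π hπ hker (π b')) = 0
      rw [π_sec, sub_self]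
    rw [hker] at h1
    have h2 : b' - sec k A e B' B π hπ hker (π b') ∈ J • (⊤ : Submodule A B') := by
      rw [Ideal.smul_top_eq_map]
      exact h1
    have : b' = sec k A e B' B π hπ hker (π b') + (b' - sec k A e B' B π hπ hker (π b')) := by
      abel
    rw [this]
    refine Submodule.add_mem_sup ⟨(1 : A) ⊗ₜ π b', ?_⟩ h2
    show ψ k A e B' B π hπ hker (1 ⊗ₜ π b') = _
    rw [ψ_tmul, map_one, one_mul]
  intro b'
  have : b' ∈ LinearMap.range (ψ k A e B' B π hπ hker).toLinearMap := by rw [key]; trivial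
  obtain ⟨x, hx⟩ := this
  exact ⟨x, hx⟩

theorem exists_one_tmul_one_tmul (x : A ⊗[k] B) :
    ∃ b : B, (1 : A ⧸ RingHom.ker (e : A →+* k)) ⊗ₜ[A] x =
      (1 : A ⧸ RingHom.ker (e : A →+* k)) ⊗ₜ[A] ((1 : A) ⊗ₜ[k] b) := by
  induction x using TensorProduct.induction_on with
  | zero => exact ⟨0, by rw [TensorProduct.tmul_zero, TensorProduct.tmul_zero,
      TensorProduct.tmul_zero]⟩
  | add x y hx hy =>
    obtain ⟨b₁, h₁⟩ := hx
    obtain ⟨b₂, h₂⟩ := hy
    exact ⟨b₁ + b₂, by rw [TensorProduct.tmul_add, h₁, h₂, ← TensorProduct.tmul_add,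
      ← TensorProduct.tmul_add]⟩
  | tmul a b =>
    refine ⟨e a • b, ?_⟩
    have h1 : a ⊗ₜ[k] b = a • ((1 : A) ⊗ₜ[k] b) := by
      rw [TensorProduct.smul_tmul', smul_eq_mul, mul_one]
    have h2 : (1 : A) ⊗ₜ[k] (e a • b) = (algebraMap k A (e a)) • ((1 : A) ⊗ₜ[k] b) := by
      rw [TensorProduct.smul_tmul', smul_eq_mul, mul_one, TensorProduct.tmul_smul,
        TensorProduct.smul_tmul', Algebra.smul_def, mul_one]
    rw [h1, h2, TensorProduct.tmul_smul, TensorProduct.tmul_smul]
    rw [TensorProduct.smul_tmul', TensorProduct.smul_tmul']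
    congr 1
    have := sub_algebraMap_mem k A e a
    rw [← Ideal.Quotient.eq_zero_iff_mem, map_sub, sub_eq_zero] at this
    rw [Algebra.smul_def, Algebra.smul_def, mul_one, mul_one]
    exact this

theorem ψ_injective : Function.Injective (ψ k A e B' B π hπ hker) := by
  have hJ := isNilpotent_ker_e k A e
  refine Groth.Agent.Lib.Helper7.NilFree.injective_of_baseChange_injective
    (RingHom.ker (e : A →+* k)) hJ (ψ k A e B' B π hπ hker).toLinearMap
    (ψ_surjective k A e B' B π hπ hker) ?_
  rw [injective_iff_map_eq_zero]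
  intro z hz
  obtain ⟨x, rfl⟩ := Groth.Agent.Lib.Helper7.NilFree.exists_one_tmul_eq _ z
  obtain ⟨b, hb⟩ := exists_one_tmul_one_tmul k A e B x
  rw [hb] at hz ⊢
  rw [LinearMap.baseChange_tmul] at hz
  have h1 : (ψ k A e B' B π hπ hker).toLinearMap ((1 : A) ⊗ₜ[k] b) =
      sec k A e B' B π hπ hker b := by
    show ψ k A e B' B π hπ hker (1 ⊗ₜ b) = _
    rw [ψ_tmul, map_one, one_mul]
  rw [h1] at hz
  have h2 := Groth.Agent.Lib.Helper7.NilFree.mem_smul_top_of_one_tmul_eq_zero _ _ hz
  rw [Ideal.smul_top_eq_map] at h2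
  have h3 : sec k A e B' B π hπ hker b ∈ RingHom.ker (π : B' →+* B) := by
    rw [hker]; exact h2
  rw [RingHom.mem_ker] at h3
  have h4 : b = 0 := by
    rw [← π_sec k A e B' B π hπ hker b]
    exact h3
  rw [h4, TensorProduct.tmul_zero, TensorProduct.tmul_zero]

/-- **Trivial deformations**, ring level. -/
noncomputable def Ψ : (A ⊗[k] B) ≃ₐ[A] B' :=
  AlgEquiv.ofBijective (ψ k A e B' B π hπ hker)
    ⟨ψ_injective k A e B' B π hπ hker, ψ_surjective k A e B' B π hπ hker⟩

theorem Ψ_one_tmul (b : B) :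
    Ψ k A e B' B π hπ hker ((1 : A) ⊗ₜ[k] b) = sec k A e B' B π hπ hker b := by
  show ψ k A e B' B π hπ hker (1 ⊗ₜ b) = _
  rw [ψ_tmul, map_one, one_mul]

end Groth.Agent.Lib.Helper29.DefTrivial
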