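import Mathlib
import Groth.Agent.Lib.Helper29.DefTrivial1
import Groth.Agent.Lib.Helper29.DefTrivial2
import Groth.Agent.Lib.Helper39.ThickAff.General
import Groth.Agent.Lib.Helper62.SmoothReg5
import Groth.Agent.Lib.Helper49.StalkLoc

/-!
# Trivial deformations of smooth affine schemes (helper29), part 3: geometry
-/

set_option autoImplicit false
set_option linter.unusedSectionVars false
set_option linter.style.haveILetI false
universe u
open CategoryTheory CategoryTheory.Limits AlgebraicGeometry Opposite TensorProduct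

namespace Groth.Agent.Lib.Helper29.DefTrivial

section General

/-- A morphism from an affine scheme to `Spec R` in terms of its map on global sections. -/
theorem eq_isoSpec_hom_comp {Y : Scheme.{u}} [IsAffine Y] {R : CommRingCat.{u}} (f : Y ⟶ Spec R) :
    f = Y.isoSpec.hom ≫ Spec.map ((Scheme.ΓSpecIso R).inv ≫ f.appTop) := by
  rw [Spec.map_comp, ← Category.assoc, Scheme.isoSpec_hom, ← Scheme.toSpecΓ_naturality,
    Category.assoc, toSpecΓ_SpecMap_ΓSpecIso_inv, Category.comp_id]

/-- A pushout square of rings of global sections gives a pullback square of affine schemes. -/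
theorem isPullback_of_isPushout {X X' : Scheme.{u}} [IsAffine X] [IsAffine X']
    {R S : CommRingCat.{u}} (hX : X ⟶ Spec R) (g : X' ⟶ Spec S) (α : R ⟶ S)
    (s : Γ(X, ⊤) ⟶ Γ(X', ⊤))
    (h : IsPushout α ((Scheme.ΓSpecIso R).inv ≫ hX.appTop)
      ((Scheme.ΓSpecIso S).inv ≫ g.appTop) s) :
    IsPullback (X'.isoSpec.hom ≫ Spec.map s ≫ X.isoSpec.inv) g hX (Spec.map α) := by
  have h1 := (isPullback_SpecMap_of_isPushout _ _ _ _ h).flip
  refine h1.of_iso X'.isoSpec.symm X.isoSpec.symm (Iso.refl _) (Iso.refl _) ?_ ?_ ?_ ?_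
  · simp
  · rw [Iso.refl_hom, Category.comp_id, Iso.symm_hom, Iso.eq_inv_comp]
    exact (eq_isoSpec_hom_comp g).symm
  · rw [Iso.refl_hom, Category.comp_id, Iso.symm_hom, Iso.eq_inv_comp]
    exact (eq_isoSpec_hom_comp hX).symm
  · simp

end General

section Smooth

variable (k : Type u) [Field k] [IsAlgClosed k] (X : Scheme.{u})
  (hX : X ⟶ Spec (CommRingCat.of k)) [IsAffine X]

theorem ρ_top {Y : Scheme.{u}} : ρ (⊤ : Y.Opens) = RingHom.id _ := by
  unfold ρ
  have : (homOfLE (le_top : (⊤ : Y.Opens) ≤ ⊤)) = 𝟙 _ := Subsingleton.elim _ _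
  rw [this, op_id, Y.presheaf.map_id]
  rfl

omit [IsAlgClosed k] in
theorem finiteType_γ [LocallyOfFiniteType hX] : (γ hX).FiniteType := by
  have h1 : (hX.appLE ⊤ ⊤ le_top).hom.FiniteType :=
    hX.finiteType_appLE (isAffineOpen_top _) (isAffineOpen_top X) le_top
  have h2 : γ hX = (hX.appLE ⊤ ⊤ le_top).hom.comp
      (Scheme.ΓSpecIso (CommRingCat.of k)).inv.hom := by
    rw [← ρ_comp_γ, ρ_top, RingHom.id_comp]
  rw [h2]
  refine RingHom.FiniteType.comp h1 (RingHom.FiniteType.of_surjective _ ?_)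
  exact (ConcreteCategory.bijective_of_isIso (Scheme.ΓSpecIso (CommRingCat.of k)).inv).2

theorem regular_localization (hreg : ∀ x : X, IsRegularLocalRing (X.presheaf.stalk x))
    (q : PrimeSpectrum Γ(X, ⊤)) : IsRegularLocalRing (Localization.AtPrime q.asIdeal) := by
  have hU := isAffineOpen_top X
  set x : X := hU.fromSpec.base q with hx
  have hq : hU.primeIdealOf ⟨x, trivial⟩ = q := by
    apply hU.fromSpec.isOpenEmbedding.injective
    exact hU.fromSpec_primeIdealOf ⟨x, trivial⟩
  obtain ⟨eq⟩ := Groth.Agent.Lib.Helper49.StalkLoc.nonempty_stalk_equiv hU x trivial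
  haveI := hreg x
  have h1 : IsRegularLocalRing
      (Localization.AtPrime (hU.primeIdealOf ⟨x, trivial⟩).asIdeal) :=
    IsRegularLocalRing.of_ringEquiv eq
  have key : ∀ q' : PrimeSpectrum Γ(X, ⊤), q' = q →
      IsRegularLocalRing (Localization.AtPrime q'.asIdeal) →
      IsRegularLocalRing (Localization.AtPrime q.asIdeal) := by
    rintro q' rfl h
    exact h
  exact key _ hq h1

theorem formallySmooth_sections [LocallyOfFiniteType hX]
    (hreg : ∀ x : X, IsRegularLocalRing (X.presheaf.stalk x)) :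
    letI := (γ hX).toAlgebra
    Algebra.FormallySmooth k Γ(X, ⊤) := by
  letI := (γ hX).toAlgebra
  haveI : Algebra.FiniteType k Γ(X, ⊤) := finiteType_γ k X hX
  haveI : Algebra.FinitePresentation k Γ(X, ⊤) :=
    Algebra.FinitePresentation.of_finiteType.mp inferInstance
  rw [← Algebra.smoothLocus_eq_univ_iff]
  ext q
  simp only [Set.mem_univ, iff_true]
  show Algebra.IsSmoothAt k q.asIdeal
  rw [Groth.Agent.Lib.Helper62.SmoothReg.isSmoothAt_iff_isRegularLocalRing_of_perfectField]
  exact regular_localization X hreg q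

end Smooth

section Main

variable (k : Type u) [Field k] [IsAlgClosed k] (X : Scheme.{u})
  (hX : X ⟶ Spec (CommRingCat.of k)) [IsAffine X]
  (A : Type u) [CommRing A] [IsLocalRing A] [IsArtinianRing A] [Algebra k A] (e : A →ₐ[k] k)
  (X' : Scheme.{u}) (g : X' ⟶ Spec (CommRingCat.of A)) (i : X ⟶ X')
  (hsq : IsPullback i hX g (Spec.map (CommRingCat.ofHom e.toRingHom)))

omit [IsAlgClosed k] in
theorem surjective_σ :
    Function.Surjective (Spec.map (CommRingCat.ofHom e.toRingHom)).base := by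
  intro p
  refine ⟨(⟨⊥, Ideal.isPrime_bot⟩ : PrimeSpectrum k), ?_⟩
  apply PrimeSpectrum.ext
  show Ideal.comap e.toRingHom ⊥ = p.asIdeal
  rw [← RingHom.ker_eq_comap_bot]
  have h1 := ker_e_eq k A e
  have h2 : p.asIdeal = IsLocalRing.maximalIdeal A := by
    haveI := p.isPrime
    exact IsLocalRing.eq_maximalIdeal (IsArtinianRing.isMaximal_of_isPrime p.asIdeal)
  rw [h2]
  exact h1

omit [IsAlgClosed k] in
include hsq in
theorem isAffine_X' : IsAffine X' := by
  haveI := isClosedImmersion_i e.toRingHom g i hX (e_surjective k A e) hsq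
  haveI : Surjective (Spec.map (CommRingCat.ofHom e.toRingHom)) := ⟨surjective_σ k A e⟩
  haveI : Surjective i := MorphismProperty.of_isPullback hsq.flip inferInstance
  exact Groth.Agent.Lib.Helper39.ThickAff.isAffine_of_surjective i (Scheme.Hom.surjective i)

theorem flat_γ_top [Flat g] [IsAffine X'] : (γ g).Flat := by
  have h1 : (g.appLE ⊤ ⊤ le_top).hom.Flat :=
    g.flat_appLE (isAffineOpen_top _) (isAffineOpen_top X') le_top
  have h2 : γ g = (g.appLE ⊤ ⊤ le_top).hom.comp
      (Scheme.ΓSpecIso (CommRingCat.of A)).inv.hom := by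
    rw [← ρ_comp_γ, ρ_top, RingHom.id_comp]
  rw [h2]
  refine RingHom.Flat.comp (RingHom.Flat.of_bijective ?_) h1
  exact ConcreteCategory.bijective_of_isIso (Scheme.ΓSpecIso (CommRingCat.of A)).inv

include hsq in
/-- **Infinitesimal deformations of a regular affine scheme over an algebraically closed field are
trivial.** -/
theorem exists_iso [LocallyOfFiniteType hX] [Flat g]
    (hreg : ∀ x : X, IsRegularLocalRing (X.presheaf.stalk x)) :
    ∃ φ : X' ≅ pullback hX (Spec.map (CommRingCat.ofHom (algebraMap k A))),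
      φ.hom ≫ pullback.snd hX (Spec.map (CommRingCat.ofHom (algebraMap k A))) = g := by
  haveI := isAffine_X' k X hX A e X' g i hsq
  haveI := isClosedImmersion_i e.toRingHom g i hX (e_surjective k A e) hsq
  letI algB : Algebra k Γ(X, ⊤) := (γ hX).toAlgebra
  letI algB' : Algebra A Γ(X', ⊤) := (γ g).toAlgebra
  letI algkB' : Algebra k Γ(X', ⊤) := ((γ g).comp (algebraMap k A)).toAlgebra
  haveI : IsScalarTower k A Γ(X', ⊤) := IsScalarTower.of_algebraMap_eq (fun _ => rfl)
  haveI : Module.Flat A Γ(X', ⊤) := flat_γ_top A X' g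
  haveI : Algebra.FormallySmooth k Γ(X, ⊤) := formallySmooth_sections k X hX hreg
  let π : Γ(X', ⊤) →ₐ[k] Γ(X, ⊤) :=
    { i.appTop.hom with
      commutes' := fun c => by
        show i.appTop.hom (γ g (algebraMap k A c)) = γ hX c
        rw [appTop_γ e.toRingHom g i hX hsq]
        show γ hX (e (algebraMap k A c)) = γ hX c
        rw [AlgHom.commutes]
        rfl }
  have hπ : Function.Surjective π := i.app_surjective ⊤ (isAffineOpen_top X')
  have hker : RingHom.ker (π : Γ(X', ⊤) →+* Γ(X, ⊤)) =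
      (RingHom.ker (e : A →+* k)).map (algebraMap A Γ(X', ⊤)) := by
    have := ker_app e.toRingHom g i hX (e_surjective k A e) hsq ⟨⊤, isAffineOpen_top X'⟩
    rw [ρ_top, RingHom.id_comp] at this
    exact this
  have hpo : IsPushout (CommRingCat.ofHom (algebraMap k A))
      ((Scheme.ΓSpecIso (CommRingCat.of k)).inv ≫ hX.appTop)
      ((Scheme.ΓSpecIso (CommRingCat.of A)).inv ≫ g.appTop)
      (CommRingCat.ofHom (sec k A e Γ(X', ⊤) Γ(X, ⊤) π hπ hker).toRingHom) := by
    refine (CommRingCat.isPushout_tensorProduct k A Γ(X, ⊤)).of_iso (Iso.refl _) (Iso.refl _)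
      (Iso.refl _) (Ψ k A e Γ(X', ⊤) Γ(X, ⊤) π hπ hker).toRingEquiv.toCommRingCatIso ?_ ?_ ?_ ?_
    · rfl
    · rfl
    · ext a
      show Ψ k A e Γ(X', ⊤) Γ(X, ⊤) π hπ hker (a ⊗ₜ 1) = γ g a
      show ψ k A e Γ(X', ⊤) Γ(X, ⊤) π hπ hker (a ⊗ₜ 1) = γ g a
      rw [ψ_tmul, map_one, mul_one]
      rfl
    · ext b
      exact Ψ_one_tmul k A e Γ(X', ⊤) Γ(X, ⊤) π hπ hker b
  have hpb := isPullback_of_isPushout hX g (CommRingCat.ofHom (algebraMap k A)) _ hpo
  exact ⟨hpb.isoPullback, hpb.isoPullback_hom_snd⟩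

end Main

end Groth.Agent.Lib.Helper29.DefTrivial
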