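import Mathlib

/-!
# Truncated polynomial rings `D ≃ k[X]/(X^(n+1))`: elementary facts

`q : k[X] →ₐ[k] D`, nilpotency of `τ`, annihilator of `τ`, the Euler derivation `θ` with `θ τ = τ`.
-/

namespace Groth.Agent.Lib.Helper29.Deform

open Polynomial

universe u

section TruncPoly

variable {k : Type u} [Field k] {n : ℕ} {D : Type u} [CommRing D] [Algebra k D] {τ : D}
  (e : (k[X] ⧸ Ideal.span {(X : k[X]) ^ (n + 1)}) ≃ₐ[k] D)

/-- The presentation `k[X] → D`. -/
noncomputable def q : k[X] →ₐ[k] D :=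
  e.toAlgHom.comp (Ideal.Quotient.mkₐ k (Ideal.span {(X : k[X]) ^ (n + 1)}))

lemma q_surjective : Function.Surjective (q e) := by
  intro d
  obtain ⟨x, rfl⟩ := e.surjective d
  obtain ⟨p, rfl⟩ := Ideal.Quotient.mk_surjective x
  exact ⟨p, rfl⟩

lemma q_eq_zero_iff (p : k[X]) : q e p = 0 ↔ (X : k[X]) ^ (n + 1) ∣ p := by
  change e (Ideal.Quotient.mk _ p) = 0 ↔ _
  rw [EmbeddingLike.map_eq_zero_iff, Ideal.Quotient.eq_zero_iff_mem, Ideal.mem_span_singleton]

variable (he : e (Ideal.Quotient.mk (Ideal.span {(X : k[X]) ^ (n + 1)}) X) = τ)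
include he

lemma q_X : q e X = τ := he

lemma q_eq_aeval (p : k[X]) : q e p = aeval τ p := by
  have : q e = aeval τ := by
    ext
    simp [q_X e he]
  rw [this]

lemma tau_pow_succ : τ ^ (n + 1) = 0 := by
  rw [← q_X e he, ← map_pow, q_eq_zero_iff]

lemma exists_eq_add_mul (d : D) : ∃ (c : k) (d' : D), d = algebraMap k D c + τ * d' := by
  obtain ⟨p, rfl⟩ := q_surjective e d
  refine ⟨p.coeff 0, q e p.divX, ?_⟩
  rw [← q_X e he, ← map_mul, ← AlgHom.commutes (q e), ← map_add]
  congr 1
  conv_lhs => rw [← Polynomial.divX_mul_X_add p]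
  rw [add_comm, mul_comm]
  rfl

lemma mem_span_pow_of_mul_eq_zero (x : D) (hx : x * τ = 0) : x ∈ Ideal.span {τ ^ n} := by
  obtain ⟨p, rfl⟩ := q_surjective e x
  rw [← q_X e he, ← map_mul, q_eq_zero_iff, pow_succ] at hx
  have : (X : k[X]) ^ n ∣ p := (mul_dvd_mul_iff_right X_ne_zero).mp hx
  obtain ⟨c, rfl⟩ := this
  rw [map_mul, map_pow, q_X e he]
  exact Ideal.mul_mem_right _ _ (Ideal.subset_span rfl)

/-- The Euler derivation `τ · d/dτ` of `D`. -/
noncomputable def euler : Derivation k D D :=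
  Derivation.liftOfSurjective (f := q e) (q_surjective e)
    (d := (X : k[X]) • (Polynomial.derivative' : Derivation k k[X] k[X])) (by
      intro p hp
      rw [q_eq_zero_iff] at hp ⊢
      obtain ⟨c, rfl⟩ := hp
      simp only [Derivation.coe_smul, Pi.smul_apply, derivative'_apply, smul_eq_mul,
        derivative_mul, derivative_X_pow, Nat.add_sub_cancel]
      refine ⟨C ((n : k) + 1) * c + X * derivative c, ?_⟩
      simp only [map_add, map_natCast, map_one, Nat.cast_add, Nat.cast_one]
      ring)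

lemma euler_tau : euler e τ = τ := by
  have := Derivation.liftOfSurjective_apply (f := q e) (q_surjective e)
    (d := (X : k[X]) • (Polynomial.derivative' : Derivation k k[X] k[X])) (hd := by
      intro p hp
      rw [q_eq_zero_iff] at hp ⊢
      obtain ⟨c, rfl⟩ := hp
      simp only [Derivation.coe_smul, Pi.smul_apply, derivative'_apply, smul_eq_mul,
        derivative_mul, derivative_X_pow, Nat.add_sub_cancel]
      refine ⟨C ((n : k) + 1) * c + X * derivative c, ?_⟩
      simp only [map_add, map_natCast, map_one, Nat.cast_add, Nat.cast_one]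
      ring) X
  rw [q_X e he] at this
  unfold euler
  rw [this]
  simp [q_X e he]

end TruncPoly

end Groth.Agent.Lib.Helper29.Deform
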