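import Mathlib
import Groth.Agent.Lib.Helper29.Deform1

/-!
# Flat deformations over `k[X]/(X^(n+1))` with smooth central fibre are smooth
-/

namespace Groth.Agent.Lib.Helper29.Deform

open Polynomial TensorProduct

universe u

section

variable {k : Type u} [Field k] {n : ℕ} {D : Type u} [CommRing D] [Algebra k D] {τ : D}
  (e : (k[X] ⧸ Ideal.span {(X : k[X]) ^ (n + 1)}) ≃ₐ[k] D)
  (he : e (Ideal.Quotient.mk (Ideal.span {(X : k[X]) ^ (n + 1)}) X) = τ)

include e in
lemma isNoetherianRing_D : IsNoetherianRing D :=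
  isNoetherianRing_of_surjective k[X] D (q e).toRingHom (q_surjective e)

include he in
lemma prime_eq_span (I : Ideal D) [hI : I.IsPrime] : I = Ideal.span {τ} := by
  have hτ : τ ∈ I := hI.mem_of_pow_mem (n + 1) (by rw [tau_pow_succ e he]; exact I.zero_mem)
  refine le_antisymm (fun x hx => ?_) ((Ideal.span_singleton_le_iff_mem I).mpr hτ)
  obtain ⟨c, d', rfl⟩ := exists_eq_add_mul e he x
  have hc : algebraMap k D c ∈ I := by
    have := I.sub_mem hx (I.mul_mem_right d' hτ)
    simpa using this
  by_cases hc0 : c = 0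
  · subst hc0
    simp only [map_zero, zero_add]
    exact Ideal.mul_mem_right _ _ (Ideal.subset_span rfl)
  · exfalso
    apply hI.ne_top
    rw [Ideal.eq_top_iff_one]
    have : (1 : D) = algebraMap k D c⁻¹ * algebraMap k D c := by
      rw [← map_mul, inv_mul_cancel₀ hc0, map_one]
    rw [this]
    exact I.mul_mem_left _ hc

include he in
lemma isMaximal_span_tau : (Ideal.span {τ} : Ideal D).IsMaximal := by
  have hne : (Ideal.span {τ} : Ideal D) ≠ ⊤ := by
    intro h
    rw [Ideal.eq_top_iff_one, Ideal.mem_span_singleton] at h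
    obtain ⟨c, hc⟩ := h
    have hu : IsUnit τ := IsUnit.of_mul_eq_one c hc.symm
    have h0 : (0 : D) = 1 := by
      have := (hu.pow (n + 1))
      rw [tau_pow_succ e he] at this
      exact (isUnit_zero_iff.mp this)
    have h1 : (1 : k[X] ⧸ Ideal.span {(X : k[X]) ^ (n + 1)}) = 0 := by
      apply e.injective
      rw [map_one, map_zero, h0]
    rw [← map_one (Ideal.Quotient.mk _), Ideal.Quotient.eq_zero_iff_mem,
      Ideal.mem_span_singleton] at h1
    have := Polynomial.natDegree_le_of_dvd h1 one_ne_zero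
    rw [natDegree_X_pow, natDegree_one] at this
    omega
  obtain ⟨M, hM, hle⟩ := Ideal.exists_le_maximal _ hne
  have := prime_eq_span e he M (hI := hM.isPrime)
  rw [← this]
  exact hM

variable {B : Type u} [CommRing B] [Algebra k B] [Algebra D B] [IsScalarTower k D B]

include he in
lemma algebraMap_residueField_surjective (I : Ideal D) [hI : I.IsPrime] :
    Function.Surjective (algebraMap k I.ResidueField) := by
  have hIe := prime_eq_span e he I
  have hmax : I.IsMaximal := hIe ▸ isMaximal_span_tau e he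
  intro x
  obtain ⟨y, rfl⟩ := (Ideal.bijective_algebraMap_quotient_residueField I).2 x
  obtain ⟨d, rfl⟩ := Ideal.Quotient.mk_surjective y
  obtain ⟨c, d', rfl⟩ := exists_eq_add_mul e he d
  refine ⟨c, ?_⟩
  have hτ : τ ∈ I := hIe ▸ Ideal.subset_span rfl
  have h1 : Ideal.Quotient.mk I (algebraMap k D c + τ * d') = Ideal.Quotient.mk I (algebraMap k D c) := by
    rw [map_add, map_mul, Ideal.Quotient.eq_zero_iff_mem.mpr hτ, zero_mul, add_zero]
  rw [h1, IsScalarTower.algebraMap_apply k D I.ResidueField,
    IsScalarTower.algebraMap_apply D (D ⧸ I) I.ResidueField]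
  rfl

include he in
/-- The fibre of `B` over a prime of `D` is the central fibre `B/tB`. -/
noncomputable def fiberEquiv (I : Ideal D) [hI : I.IsPrime] :
    (I.ResidueField ⊗[D] B) ≃ₐ[D] B ⧸ Ideal.span {algebraMap D B τ} := by
  have hIe := prime_eq_span e he I
  have hmax : I.IsMaximal := hIe ▸ isMaximal_span_tau e he
  let e₁ : (D ⧸ I) ≃ₐ[D] I.ResidueField :=
    AlgEquiv.ofBijective (IsScalarTower.toAlgHom D (D ⧸ I) I.ResidueField)
      (Ideal.bijective_algebraMap_quotient_residueField I)
  let e₂ : I.ResidueField ⊗[D] B ≃ₐ[D] (D ⧸ I) ⊗[D] B :=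
    Algebra.TensorProduct.congr e₁.symm AlgEquiv.refl
  let e₃ : (D ⧸ I) ⊗[D] B ≃ₐ[D] B ⊗[D] (D ⧸ I) := Algebra.TensorProduct.comm D _ _
  let e₄ : B ⊗[D] (D ⧸ I) ≃ₐ[D] B ⧸ I.map (algebraMap D B) :=
    (Algebra.TensorProduct.quotIdealMapEquivTensorQuot B I).symm.restrictScalars D
  let e₅ : (B ⧸ I.map (algebraMap D B)) ≃ₐ[D] B ⧸ Ideal.span {algebraMap D B τ} :=
    Ideal.quotientEquivAlgOfEq D (by rw [hIe, Ideal.map_span, Set.image_singleton])
  exact ((e₂.trans e₃).trans e₄).trans e₅

variable [Algebra.FiniteType k B] [Module.Flat D B]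

include he in
theorem smooth_of_flat (hsm : Algebra.Smooth k (B ⧸ Ideal.span {algebraMap D B τ})) :
    Algebra.Smooth D B := by
  have : IsNoetherianRing D := isNoetherianRing_D e
  have : Algebra.FiniteType D B := Algebra.FiniteType.of_restrictScalars_finiteType k D B
  have : Algebra.FinitePresentation D B := Algebra.FinitePresentation.of_finiteType.mp inferInstance
  refine Algebra.Smooth.of_formallySmooth_fiber (fun I hI => ?_)
  have : Algebra.FormallySmooth k (B ⧸ Ideal.span {algebraMap D B τ}) := hsm.1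
  have : Algebra.FormallySmooth k (I.ResidueField ⊗[D] B) :=
    Algebra.FormallySmooth.of_equiv ((fiberEquiv e he I).restrictScalars k).symm
  have : Algebra.FormallyUnramified k I.ResidueField :=
    Algebra.FormallyUnramified.of_surjective (Algebra.ofId k I.ResidueField)
      (algebraMap_residueField_surjective e he I)
  exact Algebra.FormallySmooth.of_restrictScalars k I.ResidueField _

end

end Groth.Agent.Lib.Helper29.Deform
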