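import Mathlib
import Groth.Agent.Lib.Helper29.Deform2

/-!
# Kähler differentials of a flat deformation over `k[X]/(X^(n+1))`
-/

namespace Groth.Agent.Lib.Helper29.Deform

open Polynomial TensorProduct

universe u

section

variable {k : Type u} [Field k] {n : ℕ} {D : Type u} [CommRing D] [Algebra k D] {τ : D}
  (e : (k[X] ⧸ Ideal.span {(X : k[X]) ^ (n + 1)}) ≃ₐ[k] D)
  (he : e (Ideal.Quotient.mk (Ideal.span {(X : k[X]) ^ (n + 1)}) X) = τ)
  {B : Type u} [CommRing B] [Algebra k B] [Algebra D B] [IsScalarTower k D B]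

include he in
/-- Annihilator of `τ ^ j` in `D`. -/
lemma mem_span_pow_of_mul_pow_eq_zero
    (j : ℕ) (hj : j ≤ n + 1) (x : D) (hx : x * τ ^ j = 0) :
    x ∈ Ideal.span {τ ^ (n + 1 - j)} := by
  obtain ⟨p, rfl⟩ := q_surjective e x
  rw [← q_X e he, ← map_pow, ← map_mul, q_eq_zero_iff] at hx
  have h1 : (X : k[X]) ^ (n + 1) = X ^ (n + 1 - j) * X ^ j := by
    rw [← pow_add]; congr 1; omega
  rw [h1] at hx
  have : (X : k[X]) ^ (n + 1 - j) ∣ p := (mul_dvd_mul_iff_right (pow_ne_zero _ X_ne_zero)).mp hx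
  obtain ⟨c, rfl⟩ := this
  rw [map_mul, map_pow, q_X e he]
  exact Ideal.mul_mem_right _ _ (Ideal.subset_span rfl)

omit [Algebra k B] [IsScalarTower k D B] in
include he in
/-- Annihilator of `t ^ j` in a flat `D`-algebra. -/
lemma mem_span_pow_of_mul_pow_eq_zero_of_flat [Module.Flat D B]
    (j : ℕ) (hj : j ≤ n + 1) (b : B) (hb : b * algebraMap D B τ ^ j = 0) :
    b ∈ Ideal.span {algebraMap D B τ ^ (n + 1 - j)} := by
  have h : ∑ i : Fin 1, (fun _ => τ ^ j) i • (fun _ => b) i = 0 := by
    simp only [Finset.univ_unique, Fin.default_eq_zero, Fin.isValue, Finset.sum_const,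
      Finset.card_singleton, one_smul]
    rw [Algebra.smul_def, map_pow, mul_comm, hb]
  obtain ⟨m, a, y, hx, ha⟩ := Module.Flat.isTrivialRelation_of_sum_smul_eq_zero
    (f := fun _ : Fin 1 => τ ^ j) (x := fun _ => b) h
  have h0 := hx 0
  simp only at h0
  rw [h0]
  refine Ideal.sum_mem _ (fun i _ => ?_)
  have hai := ha i
  simp only [Finset.univ_unique, Fin.default_eq_zero, Fin.isValue, Finset.sum_singleton] at hai
  have := mem_span_pow_of_mul_pow_eq_zero e he j hj (a 0 i) (by rw [mul_comm]; exact hai)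
  obtain ⟨c, hc⟩ := Ideal.mem_span_singleton'.mp this
  rw [← hc, Algebra.smul_def, map_mul, map_pow]
  exact Ideal.mul_mem_right _ _ (Ideal.mul_mem_left _ _ (Ideal.subset_span rfl))

omit [Algebra k B] [IsScalarTower k D B] in
include he in
lemma algebraMap_tau_pow_succ : algebraMap D B τ ^ (n + 1) = 0 := by
  rw [← map_pow, tau_pow_succ e he, map_zero]

include he in
/-- `Ω[D⁄k]` is generated by `dτ`. -/
lemma exists_eq_smul_D_tau
    (η : Ω[D⁄k]) : ∃ d : D, η = d • KaehlerDifferential.D k D τ := by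
  have hη : η ∈ Submodule.span D (Set.range (KaehlerDifferential.D k D)) := by
    rw [KaehlerDifferential.span_range_derivation]; trivial
  induction hη using Submodule.span_induction with
  | mem x hx =>
    obtain ⟨y, rfl⟩ := hx
    obtain ⟨p, rfl⟩ := q_surjective e y
    rw [q_eq_aeval e he, Derivation.comp_aeval_eq]
    exact ⟨_, rfl⟩
  | zero => exact ⟨0, by simp⟩
  | add x y _ _ hx hy =>
    obtain ⟨a, rfl⟩ := hx
    obtain ⟨b, rfl⟩ := hy
    exact ⟨a + b, by rw [add_smul]⟩
  | smul a x _ hx =>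
    obtain ⟨b, rfl⟩ := hx
    exact ⟨a * b, by rw [mul_smul]⟩

include he in
/-- The kernel of `Ω[B⁄k] → Ω[B⁄D]` is generated by `dt`. -/
lemma exists_eq_smul_D_of_map_eq_zero
    (ω : Ω[B⁄k]) (hω : KaehlerDifferential.map k D B B ω = 0) :
    ∃ b : B, ω = b • KaehlerDifferential.D k B (algebraMap D B τ) := by
  obtain ⟨x, rfl⟩ := (KaehlerDifferential.exact_mapBaseChange_map k D B ω).mp hω
  clear hω
  induction x with
  | zero => exact ⟨0, by simp⟩
  | tmul b η =>
    obtain ⟨d, rfl⟩ := exists_eq_smul_D_tau e he η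
    refine ⟨b * algebraMap D B d, ?_⟩
    rw [KaehlerDifferential.mapBaseChange_tmul, map_smul, KaehlerDifferential.map_D, mul_smul,
      algebraMap_smul]
  | add x y hx hy =>
    obtain ⟨a, ha⟩ := hx
    obtain ⟨b, hb⟩ := hy
    exact ⟨a + b, by rw [map_add, ha, hb, add_smul]⟩

lemma map_D_algebraMap (d : D) :
    KaehlerDifferential.map k D B B (KaehlerDifferential.D k B (algebraMap D B d)) = 0 := by
  rw [KaehlerDifferential.map_D]
  exact (KaehlerDifferential.D D B).map_algebraMap d

include he in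
/-- `t ^ n • dt = 0` when `n + 1` is invertible in `k`. -/
lemma pow_smul_D_eq_zero (hn : ((n + 1 : ℕ) : k) ≠ 0) :
    algebraMap D B τ ^ n • KaehlerDifferential.D k B (algebraMap D B τ) = 0 := by
  have h := (KaehlerDifferential.D k B).leibniz_pow (algebraMap D B τ) (n + 1)
  rw [algebraMap_tau_pow_succ e he, map_zero, Nat.add_sub_cancel] at h
  have h2 : ((n + 1 : ℕ) : k) • (algebraMap D B τ ^ n • KaehlerDifferential.D k B (algebraMap D B τ)) = 0 := by
    rw [Nat.cast_smul_eq_nsmul]; exact h.symm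
  rcases smul_eq_zero.mp h2 with h3 | h3
  · exact absurd h3 hn
  · exact h3

variable [Algebra.FormallySmooth D B]

lemma mapBaseChange_injective : Function.Injective (KaehlerDifferential.mapBaseChange k D B) := by
  rw [injective_iff_map_eq_zero]
  intro x hx
  obtain ⟨y, rfl⟩ := (Algebra.H1Cotangent.exact_δ_mapBaseChange k D B x).mp hx
  rw [Subsingleton.elim y 0, map_zero]

include he in
/-- Key fact: `b • dt = 0` in `Ω[B⁄k]` forces `b * t = 0`. -/
lemma mul_eq_zero_of_smul_D_eq_zero (b : B)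
    (hb : b • KaehlerDifferential.D k B (algebraMap D B τ) = 0) : b * algebraMap D B τ = 0 := by
  have h1 : KaehlerDifferential.mapBaseChange k D B (b ⊗ₜ KaehlerDifferential.D k D τ) = 0 := by
    rw [KaehlerDifferential.mapBaseChange_tmul, KaehlerDifferential.map_D, hb]
  have h2 : b ⊗ₜ[D] KaehlerDifferential.D k D τ = 0 :=
    mapBaseChange_injective (by rw [h1, map_zero])
  let ρ : Ω[D⁄k] →ₗ[D] D := (euler e).liftKaehlerDifferential
  have h3 := congrArg (fun z => TensorProduct.rid D B (LinearMap.lTensor B ρ z)) h2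
  simp only [LinearMap.lTensor_tmul, map_zero, TensorProduct.rid_tmul] at h3
  have h4 : ρ (KaehlerDifferential.D k D τ) = τ := by
    simp only [ρ, Derivation.liftKaehlerDifferential_comp_D]
    exact euler_tau e he
  rw [h4, Algebra.smul_def, mul_comm] at h3
  exact h3

end

end Groth.Agent.Lib.Helper29.Deform
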