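import Mathlib
import Groth.Agent.Lib.Helper29.Deform3

/-!
# The `dt`-sequence of a flat deformation over `k[X]/(X^(n+1))`
-/

namespace Groth.Agent.Lib.Helper29.Deform

open Polynomial TensorProduct

universe u

/-- `1 ⊗ x = 0` in `(R/I) ⊗ M` iff `x ∈ I M`. -/
lemma one_tmul_eq_zero_iff {R : Type*} [CommRing R] (I : Ideal R) {M : Type*} [AddCommGroup M]
    [Module R M] (x : M) :
    (1 : R ⧸ I) ⊗ₜ[R] x = 0 ↔ x ∈ I • (⊤ : Submodule R M) := by
  rw [← (TensorProduct.quotTensorEquivQuotSMul M I).map_eq_zero_iff,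
    TensorProduct.quotTensorEquivQuotSMul_mk_one_tmul, Submodule.Quotient.mk_eq_zero]

lemma one_tmul_eq_zero_iff_span {R : Type*} [CommRing R] (a : R) {M : Type*} [AddCommGroup M]
    [Module R M] (x : M) :
    (1 : R ⧸ Ideal.span {a}) ⊗ₜ[R] x = 0 ↔ ∃ y : M, x = a • y := by
  rw [one_tmul_eq_zero_iff, Submodule.ideal_span_singleton_smul,
    Submodule.mem_smul_pointwise_iff_exists]
  constructor
  · rintro ⟨y, -, rfl⟩; exact ⟨y, rfl⟩
  · rintro ⟨y, rfl⟩; exact ⟨y, trivial, rfl⟩

section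

variable {k : Type u} [Field k] {n : ℕ} {D : Type u} [CommRing D] [Algebra k D] {τ : D}
  (e : (k[X] ⧸ Ideal.span {(X : k[X]) ^ (n + 1)}) ≃ₐ[k] D)
  (he : e (Ideal.Quotient.mk (Ideal.span {(X : k[X]) ^ (n + 1)}) X) = τ)
  {B : Type u} [CommRing B] [Algebra k B] [Algebra D B] [IsScalarTower k D B]
  [Algebra.FormallySmooth D B] [Module.Flat D B]

variable (k D B) in
lemma exists_section : ∃ σ : Ω[B⁄D] →ₗ[B] Ω[B⁄k],
    ∀ x, KaehlerDifferential.map k D B B (σ x) = x := by
  obtain ⟨σ, hσ⟩ := Module.projective_lifting_property (KaehlerDifferential.map k D B B)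
    LinearMap.id (KaehlerDifferential.map_surjective k D B)
  exact ⟨σ, fun x => by simpa using congrArg (fun f => f x) hσ⟩

include he in
/-- If `b • dt ∈ t ^ n • Ω[B⁄k]` then `b ∈ (t ^ n)`. -/
lemma mem_span_of_smul_D_eq (hn1 : ((n + 1 : ℕ) : k) ≠ 0) (b : B) (ω : Ω[B⁄k])
    (h : b • KaehlerDifferential.D k B (algebraMap D B τ) = algebraMap D B τ ^ n • ω) :
    b ∈ Ideal.span {algebraMap D B τ ^ n} := by
  obtain ⟨σ, hσ⟩ := exists_section k D B
  set π := KaehlerDifferential.map k D B B with hπ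
  -- `ω = c • dt + σ (π ω)`
  obtain ⟨c, hc⟩ := exists_eq_smul_D_of_map_eq_zero e he (ω - σ (π ω))
    (by rw [map_sub, hσ, sub_self])
  have h1 : π (b • KaehlerDifferential.D k B (algebraMap D B τ)) = 0 := by
    rw [map_smul, hπ, map_D_algebraMap, smul_zero]
  have h2 : algebraMap D B τ ^ n • π ω = 0 := by
    rw [← map_smul, ← h, h1]
  have h3 : algebraMap D B τ ^ n • ω = 0 := by
    have : ω = c • KaehlerDifferential.D k B (algebraMap D B τ) + σ (π ω) := by
      rw [← hc]; abel
    rw [this, smul_add, smul_comm, pow_smul_D_eq_zero e he hn1, smul_zero, zero_add, ← map_smul,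
      h2, map_zero]
  rw [h3] at h
  have h4 := mul_eq_zero_of_smul_D_eq_zero e he b h
  have := mem_span_pow_of_mul_pow_eq_zero_of_flat e he 1 (by omega) b (by rw [pow_one]; exact h4)
  simpa using this

include he in
/-- Injectivity of `B' → B' ⊗ Ω[B⁄k]`, `b ↦ b • (1 ⊗ dt)`, in elementwise form. -/
lemma mem_span_of_mk_smul_eq_zero (hn1 : ((n + 1 : ℕ) : k) ≠ 0) (b : B)
    (h : (Ideal.Quotient.mk (Ideal.span {algebraMap D B τ ^ n}) b) •
      ((1 : B ⧸ Ideal.span {algebraMap D B τ ^ n}) ⊗ₜ[B]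
        KaehlerDifferential.D k B (algebraMap D B τ)) = 0) :
    b ∈ Ideal.span {algebraMap D B τ ^ n} := by
  have h1 : (1 : B ⧸ Ideal.span {algebraMap D B τ ^ n}) ⊗ₜ[B]
      (b • KaehlerDifferential.D k B (algebraMap D B τ)) = 0 := by
    rw [← h, TensorProduct.smul_tmul', TensorProduct.tmul_smul, ← Ideal.Quotient.algebraMap_eq,
      algebraMap_smul, TensorProduct.smul_tmul']
  obtain ⟨ω, hω⟩ := (one_tmul_eq_zero_iff_span _ _).mp h1
  exact mem_span_of_smul_D_eq e he hn1 b ω hω

include he in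
theorem injective_toSpanSingleton (hn1 : ((n + 1 : ℕ) : k) ≠ 0) :
    Function.Injective
      (LinearMap.toSpanSingleton (B ⧸ Ideal.span {algebraMap D B τ ^ n})
        ((B ⧸ Ideal.span {algebraMap D B τ ^ n}) ⊗[B] Ω[B⁄k])
        ((1 : (B ⧸ Ideal.span {algebraMap D B τ ^ n})) ⊗ₜ[B]
          KaehlerDifferential.D k B (algebraMap D B τ))) := by
  rw [injective_iff_map_eq_zero]
  intro x hx
  obtain ⟨b, rfl⟩ := Ideal.Quotient.mk_surjective x
  rw [LinearMap.toSpanSingleton_apply] at hx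
  exact Ideal.Quotient.eq_zero_iff_mem.mpr (mem_span_of_mk_smul_eq_zero e he hn1 b hx)

theorem surjective_baseChange (J : Ideal B) :
    Function.Surjective (LinearMap.baseChange (B ⧸ J) (KaehlerDifferential.map k D B B)) := by
  have := LinearMap.lTensor_surjective (B ⧸ J) (KaehlerDifferential.map_surjective k D B)
  intro y
  obtain ⟨x, hx⟩ := this y
  exact ⟨x, by rw [← hx, LinearMap.baseChange_eq_ltensor]⟩

include he in
theorem exact_toSpanSingleton_baseChange (J : Ideal B) :
    Function.Exact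
      (LinearMap.toSpanSingleton (B ⧸ J) ((B ⧸ J) ⊗[B] Ω[B⁄k])
        ((1 : (B ⧸ J)) ⊗ₜ[B] KaehlerDifferential.D k B (algebraMap D B τ)))
      (LinearMap.baseChange (B ⧸ J) (KaehlerDifferential.map k D B B)) := by
  obtain ⟨σ, hσ⟩ := exists_section k D B
  set π := KaehlerDifferential.map k D B B with hπ
  intro y
  constructor
  · intro hy
    -- `y = (id ⊗ (1 - σ π)) y`
    have key : ∀ z : (B ⧸ J) ⊗[B] Ω[B⁄k],
        LinearMap.lTensor (B ⧸ J) (LinearMap.id - σ ∘ₗ π) z ∈ Set.range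
          (LinearMap.toSpanSingleton (B ⧸ J) ((B ⧸ J) ⊗[B] Ω[B⁄k])
            ((1 : (B ⧸ J)) ⊗ₜ[B] KaehlerDifferential.D k B (algebraMap D B τ))) := by
      intro z
      induction z with
      | zero => exact ⟨0, by simp⟩
      | tmul b' ω =>
        obtain ⟨c, hc⟩ := exists_eq_smul_D_of_map_eq_zero e he (ω - σ (π ω))
          (by rw [map_sub, hσ, sub_self])
        refine ⟨b' * Ideal.Quotient.mk J c, ?_⟩
        rw [LinearMap.lTensor_tmul, LinearMap.sub_apply, LinearMap.id_apply, LinearMap.comp_apply,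
          hc, LinearMap.toSpanSingleton_apply, TensorProduct.smul_tmul', smul_eq_mul, mul_one,
          TensorProduct.tmul_smul, ← Ideal.Quotient.algebraMap_eq, ← algebraMap_smul (B ⧸ J) c,
          TensorProduct.smul_tmul', smul_eq_mul, mul_comm]
      | add x y hx hy =>
        obtain ⟨a, ha⟩ := hx
        obtain ⟨b, hb⟩ := hy
        exact ⟨a + b, by rw [map_add, ha, hb, map_add]⟩
    have h2 : LinearMap.lTensor (B ⧸ J) (LinearMap.id - σ ∘ₗ π) y = y := by
      have h3 : LinearMap.lTensor (B ⧸ J) π y = 0 := by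
        rw [← LinearMap.baseChange_eq_ltensor]; exact hy
      rw [LinearMap.lTensor_sub, LinearMap.sub_apply, LinearMap.lTensor_id, LinearMap.id_apply,
        LinearMap.lTensor_comp, LinearMap.comp_apply, h3, map_zero, sub_zero]
    rw [← h2]
    exact key y
  · rintro ⟨b', rfl⟩
    rw [LinearMap.toSpanSingleton_apply, map_smul, LinearMap.baseChange_tmul, hπ,
      map_D_algebraMap, TensorProduct.tmul_zero, smul_zero]

/-- Middle term of a short exact sequence with projective ends is projective. -/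
lemma projective_of_exact {R : Type*} [CommRing R] {M₁ M₂ M₃ : Type*} [AddCommGroup M₁]
    [AddCommGroup M₂] [AddCommGroup M₃] [Module R M₁] [Module R M₂] [Module R M₃]
    [Module.Projective R M₁] [Module.Projective R M₃]
    (f : M₁ →ₗ[R] M₂) (g : M₂ →ₗ[R] M₃) (hf : Function.Injective f) (hfg : Function.Exact f g)
    (hg : Function.Surjective g) : Module.Projective R M₂ := by
  obtain ⟨l, hl⟩ := Module.projective_lifting_property g LinearMap.id hg
  have eqv := (Function.Exact.splitSurjectiveEquiv hfg hf) ⟨l, hl⟩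
  exact Module.Projective.of_equiv eqv.1.symm

include he in
theorem projective_tensor (hn1 : ((n + 1 : ℕ) : k) ≠ 0) :
    Module.Projective (B ⧸ Ideal.span {algebraMap D B τ ^ n})
      ((B ⧸ Ideal.span {algebraMap D B τ ^ n}) ⊗[B] Ω[B⁄k]) := by
  have hproj : Module.Projective (B ⧸ Ideal.span {algebraMap D B τ ^ n})
      ((B ⧸ Ideal.span {algebraMap D B τ ^ n}) ⊗[B] Ω[B⁄D]) := inferInstance
  exact projective_of_exact _ _ (injective_toSpanSingleton e he hn1)
    (exact_toSpanSingleton_baseChange e he _) (surjective_baseChange _)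

end

end Groth.Agent.Lib.Helper29.Deform
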