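import Mathlib
import Groth.Agent.Lib.Helper29.Deform4

/-!
# `f ↦ (f mod t^n, 1 ⊗ df)` for a flat deformation over `k[X]/(X^(n+1))`
-/

namespace Groth.Agent.Lib.Helper29.Deform

open Polynomial TensorProduct

universe u

/-- Second fundamental sequence, elementwise: an element of `(A/J) ⊗ Ω[A⁄R]` killed by
`mapBaseChange` is `1 ⊗ dy` with `y ∈ J`. -/
lemma exists_eq_one_tmul_D_of_mapBaseChange_eq_zero {R A : Type u} [CommRing R] [CommRing A]
    [Algebra R A] (J : Ideal A) (β : (A ⧸ J) ⊗[A] Ω[A⁄R])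
    (hβ : KaehlerDifferential.mapBaseChange R A (A ⧸ J) β = 0) :
    ∃ y ∈ J, β = (1 : A ⧸ J) ⊗ₜ[A] KaehlerDifferential.D R A y := by
  obtain ⟨x, rfl⟩ := (KaehlerDifferential.exact_kerCotangentToTensor_mapBaseChange R A (A ⧸ J)
    Ideal.Quotient.mk_surjective β).mp hβ
  obtain ⟨y, rfl⟩ := Ideal.toCotangent_surjective _ x
  refine ⟨y.1, ?_, ?_⟩
  · have h0 : Ideal.Quotient.mk J y.1 = 0 := RingHom.mem_ker.mp y.2
    exact Ideal.Quotient.eq_zero_iff_mem.mp h0
  · rw [KaehlerDifferential.kerCotangentToTensor_toCotangent]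

section

variable {k : Type u} [Field k] {n : ℕ} {D : Type u} [CommRing D] [Algebra k D] {τ : D}
  (e : (k[X] ⧸ Ideal.span {(X : k[X]) ^ (n + 1)}) ≃ₐ[k] D)
  (he : e (Ideal.Quotient.mk (Ideal.span {(X : k[X]) ^ (n + 1)}) X) = τ)
  {B : Type u} [CommRing B] [Algebra k B] [Algebra D B] [IsScalarTower k D B]
  [Algebra.FormallySmooth D B] [Module.Flat D B]

include he in
/-- If `h ∈ (t^n)` and `1 ⊗ dh = 0` in `B/t^n ⊗ Ω[B⁄k]`, then `h = 0`. -/
lemma eq_zero_of_mem_span_of_one_tmul_D_eq_zero (hn : 1 ≤ n) (hnk : ((n : ℕ) : k) ≠ 0)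
    (hn1 : ((n + 1 : ℕ) : k) ≠ 0) (h : B)
    (hmem : h ∈ Ideal.span {algebraMap D B τ ^ n})
    (hd : (1 : B ⧸ Ideal.span {algebraMap D B τ ^ n}) ⊗ₜ[B] KaehlerDifferential.D k B h = 0) :
    h = 0 := by
  set t := algebraMap D B τ with ht
  obtain ⟨c, rfl⟩ := Ideal.mem_span_singleton'.mp hmem
  obtain ⟨ω, hω⟩ := (one_tmul_eq_zero_iff_span _ _).mp hd
  -- `d (c t^n) = c • n t^(n-1) dt + t^n dc`
  have h1 : KaehlerDifferential.D k B (c * t ^ n)
      = (c * ((n : ℕ) : B) * t ^ (n - 1)) • KaehlerDifferential.D k B t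
        + t ^ n • KaehlerDifferential.D k B c := by
    rw [Derivation.leibniz, Derivation.leibniz_pow, mul_assoc, mul_smul, mul_smul,
      Nat.cast_smul_eq_nsmul]
  have h2 : (c * ((n : ℕ) : B) * t ^ (n - 1)) • KaehlerDifferential.D k B t
      = t ^ n • (ω - KaehlerDifferential.D k B c) := by
    rw [smul_sub, ← hω, h1]; abel
  have h3 := mem_span_of_smul_D_eq e he hn1 _ _ h2
  -- cancel the unit `n`
  have h4 : c * t ^ (n - 1) ∈ Ideal.span {t ^ n} := by
    have hu : ((n : ℕ) : B) * algebraMap k B (((n : ℕ) : k)⁻¹) = 1 := by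
      rw [← map_natCast (algebraMap k B), ← map_mul, mul_inv_cancel₀ hnk, map_one]
    have := Ideal.mul_mem_right (algebraMap k B (((n : ℕ) : k)⁻¹)) _ h3
    have h5 : c * ((n : ℕ) : B) * t ^ (n - 1) * algebraMap k B (((n : ℕ) : k)⁻¹)
        = c * t ^ (n - 1) * (((n : ℕ) : B) * algebraMap k B (((n : ℕ) : k)⁻¹)) := by ring
    rwa [h5, hu, mul_one] at this
  obtain ⟨u, hu⟩ := Ideal.mem_span_singleton'.mp h4
  have h6 : (c - u * t) * t ^ (n - 1) = 0 := by
    have : t ^ n = t * t ^ (n - 1) := by rw [← pow_succ']; congr 1; omega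
    rw [sub_mul, ← hu, this]; ring
  have h7 := mem_span_pow_of_mul_pow_eq_zero_of_flat e he (n - 1) (by omega) _ h6
  have h8 : n + 1 - (n - 1) = 2 := by omega
  rw [h8] at h7
  obtain ⟨v, hv⟩ := Ideal.mem_span_singleton'.mp h7
  have h9 : c = (u + v * t) * t := by
    have : c = (c - u * t) + u * t := by ring
    rw [this, ← hv]; ring
  rw [h9, mul_assoc, ← pow_succ', show t ^ (n + 1) = 0 from algebraMap_tau_pow_succ e he, mul_zero]

include he in
theorem injective_mu (hn : 1 ≤ n) (hnk : ((n : ℕ) : k) ≠ 0) (hn1 : ((n + 1 : ℕ) : k) ≠ 0) :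
    Function.Injective (fun f : B =>
      ((Ideal.Quotient.mk (Ideal.span {algebraMap D B τ ^ n}) f,
        (1 : (B ⧸ Ideal.span {algebraMap D B τ ^ n})) ⊗ₜ[B] KaehlerDifferential.D k B f) :
        (B ⧸ Ideal.span {algebraMap D B τ ^ n}) ×
          ((B ⧸ Ideal.span {algebraMap D B τ ^ n}) ⊗[B] Ω[B⁄k]))) := by
  intro f g hfg
  simp only [Prod.mk.injEq] at hfg
  obtain ⟨h1, h2⟩ := hfg
  have h3 : f - g ∈ Ideal.span {algebraMap D B τ ^ n} := Ideal.Quotient.eq.mp h1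
  have h4 : (1 : B ⧸ Ideal.span {algebraMap D B τ ^ n}) ⊗ₜ[B]
      KaehlerDifferential.D k B (f - g) = 0 := by
    rw [map_sub, TensorProduct.tmul_sub, h2, sub_self]
  exact sub_eq_zero.mp (eq_zero_of_mem_span_of_one_tmul_D_eq_zero e he hn hnk hn1 _ h3 h4)

omit [Algebra D B] [IsScalarTower k D B] [Algebra.FormallySmooth D B] [Module.Flat D B] in
theorem range_mu (J : Ideal B) :
    Set.range (fun f : B =>
      ((Ideal.Quotient.mk J f, (1 : (B ⧸ J)) ⊗ₜ[B] KaehlerDifferential.D k B f) :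
        (B ⧸ J) × ((B ⧸ J) ⊗[B] Ω[B⁄k]))) =
      {p | KaehlerDifferential.D k (B ⧸ J) p.1 =
        KaehlerDifferential.mapBaseChange k B (B ⧸ J) p.2} := by
  ext p
  constructor
  · rintro ⟨f, rfl⟩
    simp only [Set.mem_ofPred_eq, KaehlerDifferential.mapBaseChange_tmul, one_smul,
      KaehlerDifferential.map_D]
    rfl
  · rintro hp
    obtain ⟨g, α⟩ := p
    simp only [Set.mem_ofPred_eq] at hp
    obtain ⟨f, rfl⟩ := Ideal.Quotient.mk_surjective g
    have h1 : KaehlerDifferential.mapBaseChange k B (B ⧸ J)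
        (α - (1 : B ⧸ J) ⊗ₜ[B] KaehlerDifferential.D k B f) = 0 := by
      rw [map_sub, ← hp, KaehlerDifferential.mapBaseChange_tmul, one_smul,
        KaehlerDifferential.map_D]
      exact sub_self _
    obtain ⟨y, hy, hy2⟩ := exists_eq_one_tmul_D_of_mapBaseChange_eq_zero J _ h1
    refine ⟨f + y, ?_⟩
    simp only [Prod.mk.injEq]
    constructor
    · rw [map_add, Ideal.Quotient.eq_zero_iff_mem.mpr hy, add_zero]
    · rw [map_add, TensorProduct.tmul_add, ← hy2]; abel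

end

end Groth.Agent.Lib.Helper29.Deform
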