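import Mathlib
import Groth.Agent.Lib.Helper29.Deform5

/-!
# `η ↦ (η rel. D, 1 ⊗ η)` for a flat deformation over `k[X]/(X^(n+1))`
-/

namespace Groth.Agent.Lib.Helper29.Deform

open Polynomial TensorProduct

universe u

section

variable {k : Type u} [Field k] {n : ℕ} {D : Type u} [CommRing D] [Algebra k D] {τ : D}
  (e : (k[X] ⧸ Ideal.span {(X : k[X]) ^ (n + 1)}) ≃ₐ[k] D)
  (he : e (Ideal.Quotient.mk (Ideal.span {(X : k[X]) ^ (n + 1)}) X) = τ)
  {B : Type u} [CommRing B] [Algebra k B] [Algebra D B] [IsScalarTower k D B]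

/-- The two ways from `Ω[B⁄k]` to `Ω[(B/J)⁄D]` agree. -/
lemma map_map_eq (J : Ideal B) (η : Ω[B⁄k]) :
    KaehlerDifferential.map D D B (B ⧸ J) (KaehlerDifferential.map k D B B η) =
      KaehlerDifferential.map k D (B ⧸ J) (B ⧸ J)
        (KaehlerDifferential.mapBaseChange k B (B ⧸ J) ((1 : B ⧸ J) ⊗ₜ[B] η)) := by
  rw [KaehlerDifferential.mapBaseChange_tmul, one_smul]
  have hη : η ∈ Submodule.span B (Set.range (KaehlerDifferential.D k B)) := by
    rw [KaehlerDifferential.span_range_derivation]; trivial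
  induction hη using Submodule.span_induction with
  | mem x hx =>
    obtain ⟨f, rfl⟩ := hx
    simp only [KaehlerDifferential.map_D]
    rfl
  | zero => simp
  | add x y _ _ hx hy => simp only [map_add, hx, hy]
  | smul a x _ hx =>
    simp only [map_smul, hx]
    exact (LinearMap.map_smul_of_tower _ a _).symm

omit [Algebra D B] [IsScalarTower k D B] in
lemma one_tmul_smul_eq_zero (J : Ideal B) (a : B) (ha : a ∈ J) (ω : Ω[B⁄k]) :
    (1 : B ⧸ J) ⊗ₜ[B] (a • ω) = 0 := by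
  rw [TensorProduct.tmul_smul, TensorProduct.smul_tmul', Algebra.smul_def, mul_one,
    Ideal.Quotient.algebraMap_eq, Ideal.Quotient.eq_zero_iff_mem.mpr ha, TensorProduct.zero_tmul]

variable [Algebra.FormallySmooth D B] [Module.Flat D B]

include he in
theorem injective_nu (hn1 : ((n + 1 : ℕ) : k) ≠ 0) :
    Function.Injective (fun η : Ω[B⁄k] =>
      ((KaehlerDifferential.map k D B B η,
        (1 : (B ⧸ Ideal.span {algebraMap D B τ ^ n})) ⊗ₜ[B] η) :
        Ω[B⁄D] × ((B ⧸ Ideal.span {algebraMap D B τ ^ n}) ⊗[B] Ω[B⁄k]))) := by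
  intro η₁ η₂ h12
  simp only [Prod.mk.injEq] at h12
  obtain ⟨h1, h2⟩ := h12
  rw [← sub_eq_zero]
  have h3 : KaehlerDifferential.map k D B B (η₁ - η₂) = 0 := by rw [map_sub, h1, sub_self]
  have h4 : (1 : (B ⧸ Ideal.span {algebraMap D B τ ^ n})) ⊗ₜ[B] (η₁ - η₂) = 0 := by
    rw [TensorProduct.tmul_sub, h2, sub_self]
  obtain ⟨b, hb⟩ := exists_eq_smul_D_of_map_eq_zero e he _ h3
  rw [hb] at h4 ⊢
  obtain ⟨ω, hω⟩ := (one_tmul_eq_zero_iff_span _ _).mp h4
  obtain ⟨c, rfl⟩ := Ideal.mem_span_singleton'.mp (mem_span_of_smul_D_eq e he hn1 b ω hω)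
  rw [mul_smul, pow_smul_D_eq_zero e he hn1, smul_zero]

omit [Algebra.FormallySmooth D B] [Module.Flat D B] in
include he in
theorem range_nu :
    Set.range (fun η : Ω[B⁄k] =>
      ((KaehlerDifferential.map k D B B η,
        (1 : (B ⧸ Ideal.span {algebraMap D B τ ^ n})) ⊗ₜ[B] η) :
        Ω[B⁄D] × ((B ⧸ Ideal.span {algebraMap D B τ ^ n}) ⊗[B] Ω[B⁄k]))) =
      {p | KaehlerDifferential.map D D B (B ⧸ Ideal.span {algebraMap D B τ ^ n}) p.1 =
        KaehlerDifferential.map k D (B ⧸ Ideal.span {algebraMap D B τ ^ n})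
          (B ⧸ Ideal.span {algebraMap D B τ ^ n})
          (KaehlerDifferential.mapBaseChange k B (B ⧸ Ideal.span {algebraMap D B τ ^ n}) p.2)} := by
  set t := algebraMap D B τ with ht
  ext p
  constructor
  · rintro ⟨η, rfl⟩
    exact map_map_eq _ η
  · intro hp
    obtain ⟨α, β⟩ := p
    simp only [Set.mem_ofPred_eq] at hp
    obtain ⟨η, rfl⟩ := KaehlerDifferential.map_surjective k D B α
    -- `β' = β - 1 ⊗ η` maps into the kernel of `Ω[B'⁄k] → Ω[B'⁄D]`
    have h1 : KaehlerDifferential.map k D (B ⧸ Ideal.span {t ^ n}) (B ⧸ Ideal.span {t ^ n})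
        (KaehlerDifferential.mapBaseChange k B (B ⧸ Ideal.span {t ^ n})
          (β - (1 : B ⧸ Ideal.span {t ^ n}) ⊗ₜ[B] η)) = 0 := by
      rw [map_sub, map_sub, ← hp, ← map_map_eq, sub_self]
    obtain ⟨b', hb'⟩ := exists_eq_smul_D_of_map_eq_zero (B := B ⧸ Ideal.span {t ^ n}) e he _ h1
    obtain ⟨b, rfl⟩ := Ideal.Quotient.mk_surjective b'
    have h2 : KaehlerDifferential.mapBaseChange k B (B ⧸ Ideal.span {t ^ n})
        (β - (1 : B ⧸ Ideal.span {t ^ n}) ⊗ₜ[B] η
          - (1 : B ⧸ Ideal.span {t ^ n}) ⊗ₜ[B] (b • KaehlerDifferential.D k B t)) = 0 := by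
      rw [map_sub, hb', KaehlerDifferential.mapBaseChange_tmul, one_smul, map_smul,
        KaehlerDifferential.map_D, IsScalarTower.algebraMap_apply D B (B ⧸ Ideal.span {t ^ n}),
        ← Ideal.Quotient.algebraMap_eq, algebraMap_smul, sub_self]
    obtain ⟨y, hy, hy2⟩ := exists_eq_one_tmul_D_of_mapBaseChange_eq_zero _ _ h2
    obtain ⟨c, rfl⟩ := Ideal.mem_span_singleton'.mp hy
    -- `1 ⊗ d(c t^n) = 1 ⊗ (c n t^(n-1)) dt`
    have h3 : (1 : B ⧸ Ideal.span {t ^ n}) ⊗ₜ[B] KaehlerDifferential.D k B (c * t ^ n)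
        = (1 : B ⧸ Ideal.span {t ^ n}) ⊗ₜ[B]
          ((c * ((n : ℕ) : B) * t ^ (n - 1)) • KaehlerDifferential.D k B t) := by
      have : KaehlerDifferential.D k B (c * t ^ n)
          = (c * ((n : ℕ) : B) * t ^ (n - 1)) • KaehlerDifferential.D k B t
            + t ^ n • KaehlerDifferential.D k B c := by
        rw [Derivation.leibniz, Derivation.leibniz_pow, mul_assoc, mul_smul, mul_smul,
          Nat.cast_smul_eq_nsmul]
      rw [this, TensorProduct.tmul_add,
        one_tmul_smul_eq_zero (Ideal.span {t ^ n}) (t ^ n) (Ideal.subset_span rfl), add_zero]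
    refine ⟨η + (b + c * ((n : ℕ) : B) * t ^ (n - 1)) • KaehlerDifferential.D k B t, ?_⟩
    simp only [Prod.mk.injEq]
    constructor
    · rw [map_add, map_smul, map_D_algebraMap, smul_zero, add_zero]
    · rw [TensorProduct.tmul_add, add_smul, TensorProduct.tmul_add, ← h3, ← hy2]
      abel

end

end Groth.Agent.Lib.Helper29.Deform
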