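import Groth.Prelude
import Groth.Agent.Lib.Helper29.DepthFlat
import Groth.Agent.Lib.Helper29.FormalEquidim
import Groth.Agent.S6284

/-!
# Depth and height under flat base change, when `V(I)` lies in the image of `Spec B → Spec A`
-/

set_option autoImplicit false
universe u

namespace Groth.Agent.Lib.Helper29.DepthFlat2

open RingTheory.Sequence IsLocalRing TensorProduct
open Groth.Agent.Lib.Helper29 Groth.Agent.Lib.Helper29.DepthLib Groth.Agent.Lib.Helper29.CMLib
open Groth.Agent.Lib.Helper29.DepthFinite Groth.Agent.Lib.Helper29.DepthFlat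

variable (A B : Type u) [CommRing A] [CommRing B] [Algebra A B] (I : Ideal A)

/-- If `IM ≠ M` and every prime containing `I` is a contraction, then `IB(B ⊗ M) ≠ B ⊗ M`. -/
theorem smul_top_ne_top_baseChange
    (hI : ∀ p : PrimeSpectrum A, I ≤ p.asIdeal →
      ∃ q : PrimeSpectrum B, q.asIdeal.comap (algebraMap A B) = p.asIdeal)
    (M : Type u) [AddCommGroup M] [Module A M] [Module.Finite A M]
    (h : I • (⊤ : Submodule A M) ≠ ⊤) :
    I.map (algebraMap A B) • (⊤ : Submodule B (B ⊗[A] M)) ≠ ⊤ := by
  intro htop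
  -- a prime `p ⊇ I` in the support of `M`
  have hnt : Nontrivial (M ⧸ (I • (⊤ : Submodule A M))) :=
    Submodule.Quotient.nontrivial_iff.2 h
  obtain ⟨p, hp⟩ := (Module.nonempty_support_iff (R := A)).2 hnt
  rw [Module.support_quotient] at hp
  obtain ⟨hpM, hpI⟩ := hp
  rw [PrimeSpectrum.mem_zeroLocus] at hpI
  have hIp : I ≤ p.asIdeal := hpI
  obtain ⟨q, hq⟩ := hI p hIp
  have hqS : q ∈ Module.support B (B ⊗[A] M) := by
    rw [Groth.Agent.S6284.result, Set.mem_preimage]
    have : PrimeSpectrum.comap (algebraMap A B) q = p := PrimeSpectrum.ext hq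
    rw [this]
    exact hpM
  -- Nakayama
  have hfg : (⊤ : Submodule B (B ⊗[A] M)).FG := Module.Finite.fg_top
  obtain ⟨b, hb1, hb2⟩ := Submodule.exists_sub_one_mem_and_smul_eq_zero_of_fg_of_le_smul
    (I.map (algebraMap A B)) (⊤ : Submodule B (B ⊗[A] M)) hfg (by rw [htop])
  have hbq : b ∉ q.asIdeal := by
    intro hbq
    have hle : I.map (algebraMap A B) ≤ q.asIdeal := by
      rw [Ideal.map_le_iff_le_comap, hq]
      exact hIp
    have h1 : (1 : B) ∈ q.asIdeal := by
      have : (1 : B) = b - (b - 1) := by ring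
      rw [this]
      exact q.asIdeal.sub_mem hbq (hle hb1)
    exact q.isPrime.ne_top ((Ideal.eq_top_iff_one _).2 h1)
  rw [Module.mem_support_iff'] at hqS
  obtain ⟨m, hm⟩ := hqS
  exact hm b hbq (hb2 m Submodule.mem_top)

variable [IsNoetherianRing A] [IsNoetherianRing B]

theorem idealDepth_baseChange_aux [Module.Flat A B]
    (hI : ∀ p : PrimeSpectrum A, I ≤ p.asIdeal →
      ∃ q : PrimeSpectrum B, q.asIdeal.comap (algebraMap A B) = p.asIdeal) (n : ℕ) :
    ∀ (M : Type u) [AddCommGroup M] [Module A M] [Module.Finite A M],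
      I • (⊤ : Submodule A M) ≠ ⊤ → LocCoh.idealDepth I M = n →
      LocCoh.idealDepth (I.map (algebraMap A B)) (B ⊗[A] M) = n := by
  induction n with
  | zero =>
    intro M _ _ _ hne hd
    have hneB := smul_top_ne_top_baseChange A B I hI M hne
    have hd' : LocCoh.idealDepth I M = 0 := by exact_mod_cast hd
    rw [idealDepth_eq_zero_iff_forall_not_isSMulRegular I M hne] at hd'
    obtain ⟨P, hP, hIP⟩ := exists_mem_ass_ge A M I hd'
    obtain ⟨hPp, f, hf⟩ := (isAssociatedPrime_iff_exists_injective_linearMap P M).1 hP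
    obtain ⟨g, hg⟩ := FormalEquidim.exists_injective_quotient_map_tensor A B P M f hf
    obtain ⟨q, hq⟩ := hI ⟨P, hPp⟩ hIP
    have hPq : P.map (algebraMap A B) ≤ q.asIdeal := by
      rw [Ideal.map_le_iff_le_comap, hq]
    have hne1 : (Ideal.Quotient.mk (P.map (algebraMap A B)) 1) ≠ 0 := by
      intro h0
      rw [Ideal.Quotient.eq_zero_iff_mem] at h0
      exact q.isPrime.ne_top ((Ideal.eq_top_iff_one _).2 (hPq h0))
    have hg1 : g (Ideal.Quotient.mk (P.map (algebraMap A B)) 1) ≠ 0 := by
      intro h0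
      apply hne1
      apply hg
      rw [h0, map_zero]
    have : LocCoh.idealDepth (I.map (algebraMap A B)) (B ⊗[A] M) = 0 := by
      rw [idealDepth_eq_zero_iff_forall_not_isSMulRegular _ _ hneB]
      intro b hb hreg
      apply hg1
      apply hreg
      change b • g _ = b • 0
      rw [smul_zero, ← map_smul]
      have hbP : b ∈ P.map (algebraMap A B) := Ideal.map_mono hIP hb
      have : b • (Ideal.Quotient.mk (P.map (algebraMap A B)) 1) = 0 := by
        rw [← Ideal.Quotient.mk_eq_mk, ← Submodule.Quotient.mk_smul, smul_eq_mul, mul_one]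
        exact (Submodule.Quotient.mk_eq_zero _).2 hbP
      rw [this, map_zero]
    exact_mod_cast this
  | succ n ih =>
    intro M _ _ _ hne hd
    have hneB := smul_top_ne_top_baseChange A B I hI M hne
    have hne0 : LocCoh.idealDepth I M ≠ 0 := by
      rw [hd]; exact_mod_cast Nat.succ_ne_zero n
    rw [Ne, idealDepth_eq_zero_iff_forall_not_isSMulRegular I M hne] at hne0
    push Not at hne0
    obtain ⟨x, hxI, hx⟩ := hne0
    have hxB : IsSMulRegular (B ⊗[A] M) (algebraMap A B x) :=
      hx.of_flat_of_isBaseChange (TensorProduct.isBaseChange A M B)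
    have hxIB : algebraMap A B x ∈ I.map (algebraMap A B) := Ideal.mem_map_of_mem _ hxI
    have h1 := idealDepth_quotSMulTop_add_one I M hne hxI hx
    have h2 := idealDepth_quotSMulTop_add_one (I.map (algebraMap A B)) (B ⊗[A] M) hneB hxIB hxB
    have e := QuotSMulTop.algebraMapTensorEquivTensorQuotSMulTop x M B
    have hdQ : LocCoh.idealDepth I (QuotSMulTop x M) = n := by
      rw [hd] at h1
      have h3 : LocCoh.idealDepth I (QuotSMulTop x M) + 1 = (n : ℕ∞) + 1 := by
        rw [h1]; push_cast; rfl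
      exact ENat.add_left_injective_of_ne_top ENat.one_ne_top h3
    have hneQ : I • (⊤ : Submodule A (QuotSMulTop x M)) ≠ ⊤ :=
      Groth.Agent.S5151.smul_top_quotSMulTop_ne_top hxI hne
    have := ih (QuotSMulTop x M) hneQ hdQ
    rw [← h2, idealDepth_congr _ e, this]
    push_cast
    rfl

/-- Depth is invariant under flat base change when `V(I)` lies in the image of `Spec B`. -/
theorem idealDepth_baseChange_eq [Module.Flat A B]
    (hI : ∀ p : PrimeSpectrum A, I ≤ p.asIdeal →
      ∃ q : PrimeSpectrum B, q.asIdeal.comap (algebraMap A B) = p.asIdeal)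
    (M : Type u) [AddCommGroup M] [Module A M] [Module.Finite A M] :
    LocCoh.idealDepth (I.map (algebraMap A B)) (B ⊗[A] M) = LocCoh.idealDepth I M := by
  by_cases h : I • (⊤ : Submodule A M) = ⊤
  · have h' := smul_top_eq_top_baseChange A B I M h
    unfold LocCoh.idealDepth
    rw [if_pos h, if_pos h']
  · obtain ⟨n, hn⟩ := ENat.ne_top_iff_exists.1 (idealDepth_ne_top I M h)
    rw [idealDepth_baseChange_aux A B I hI n M h hn.symm, hn]


/-- Going down: for a flat algebra, `ht (Q ∩ A) ≤ ht Q`. -/
theorem height_comap_le [Module.Flat A B] (Q : Ideal B) [Q.IsPrime] :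
    (Q.comap (algebraMap A B)).height ≤ Q.height := by
  have : Q.LiesOver (Q.comap (algebraMap A B)) := ⟨rfl⟩
  rw [Ideal.height_eq_height_add_of_liesOver_of_hasGoingDown (Q.comap (algebraMap A B)) Q]
  exact le_self_add

/-- `ht(IB) = ht(I)` for flat `B` when `V(I)` lies in the image of `Spec B`. -/
theorem height_map_eq [Module.Flat A B]
    (hI : ∀ p : PrimeSpectrum A, I ≤ p.asIdeal →
      ∃ q : PrimeSpectrum B, q.asIdeal.comap (algebraMap A B) = p.asIdeal) :
    (I.map (algebraMap A B)).height = I.height := by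
  apply le_antisymm
  · by_cases hItop : I = ⊤
    · rw [hItop, Ideal.height_top]
      exact le_top
    -- a minimal prime of `I` of height `ht I`
    rw [Ideal.height_eq_inf_minimalPrimes I]
    refine le_iInf₂ ?_
    intro p hp
    have hpp : p.IsPrime := hp.1.1
    obtain ⟨q, hq⟩ := hI ⟨p, hpp⟩ hp.1.2
    replace hq : q.asIdeal.comap (algebraMap A B) = p := hq
    have hpq : p.map (algebraMap A B) ≤ q.asIdeal := by
      rw [Ideal.map_le_iff_le_comap, hq]
    obtain ⟨Q, hQ, hQq⟩ := Ideal.exists_minimalPrimes_le hpq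
    have hQp : Q.IsPrime := hQ.1.1
    have hcomap : Q.comap (algebraMap A B) = p := by
      apply le_antisymm
      · rw [← hq]
        exact Ideal.comap_mono hQq
      · rw [← Ideal.map_le_iff_le_comap]
        exact hQ.1.2
    have : Q.LiesOver p := ⟨hcomap.symm⟩
    have hform := Ideal.height_eq_height_add_of_liesOver_of_hasGoingDown p Q
    have h0 : (Q.map (Ideal.Quotient.mk (p.map (algebraMap A B)))).height = 0 := by
      rw [Ideal.minimalPrimes_eq_comap] at hQ
      obtain ⟨Q', hQ', rfl⟩ := hQ
      rw [Ideal.map_comap_of_surjective _ Ideal.Quotient.mk_surjective]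
      have : Q'.IsPrime := hQ'.1.1
      exact Ideal.height_eq_zero_iff.2 hQ'
    rw [h0, add_zero] at hform
    rw [← hform]
    exact Ideal.height_mono ((Ideal.map_mono hp.1.2).trans hQ.1.2)
  · rw [Ideal.height_eq_inf_minimalPrimes (I.map (algebraMap A B))]
    refine le_iInf₂ ?_
    intro Q hQ
    have hQp : Q.IsPrime := hQ.1.1
    refine le_trans ?_ (height_comap_le A B Q)
    apply Ideal.height_mono
    rw [← Ideal.map_le_iff_le_comap]
    exact hQ.1.2

end Groth.Agent.Lib.Helper29.DepthFlat2
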