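import Groth.Agent.Lib.Helper29.DepthExt
import Groth.Agent.Lib.Helper29.DepthFinite
import Groth.Agent.Lib.Helper29.CMRing
import Groth.Agent.Lib.Helper29.Ischebeck

/-!
# Depth and the number of generators

Over a Noetherian local ring: `depth (J + (y), M) ≤ depth (J, M) + 1`, and a sequence `xs ⊆ 𝔪` with
`depth ((xs), M) ≥ length xs` is `M`-regular.
-/

set_option autoImplicit false
universe u

namespace Groth.Agent.Lib.Helper29.DepthGen

open CategoryTheory Abelian RingTheory.Sequence IsLocalRing
open Groth.Agent.Lib.Helper29 Groth.Agent.Lib.Helper29.DepthLib Groth.Agent.Lib.Helper29.DepthExt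
  Groth.Agent.Lib.Helper29.CMLib

variable {R : Type u} [CommRing R] [IsNoetherianRing R] [IsLocalRing R]

omit [IsNoetherianRing R] in
theorem smul_top_ne_top_of_le (I : Ideal R) (hI : I ≤ maximalIdeal R) (M : Type u) [AddCommGroup M]
    [Module R M] [Module.Finite R M] [Nontrivial M] : I • (⊤ : Submodule R M) ≠ ⊤ := by
  intro h
  apply maximalIdeal_smul_top_ne_top R M
  have hle : I • (⊤ : Submodule R M) ≤ maximalIdeal R • (⊤ : Submodule R M) :=
    Submodule.smul_mono_left hI
  rw [h] at hle
  exact eq_top_iff.2 hle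

/-- Elements of an associated prime are zero divisors. -/
theorem not_isSMulRegular_of_mem_ass {A : Type u} [CommRing A] [IsNoetherianRing A] (N : Type u) [AddCommGroup N]
    [Module A N] {p : Ideal A} (hp : p ∈ associatedPrimes A N) {x : A} (hx : x ∈ p) :
    ¬ IsSMulRegular N x := by
  intro hreg
  obtain ⟨hprime, m, hm⟩ := isAssociatedPrime_iff.1 hp
  have hxm : x • m = 0 := by
    have : x ∈ (⊥ : Submodule A N).colon {m} := hm ▸ hx
    rw [Submodule.mem_colon_singleton, Submodule.mem_bot] at this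
    exact this
  have hm0 : m = 0 := hreg (show x • m = x • 0 by rw [hxm, smul_zero])
  apply hprime.ne_top
  rw [hm, Ideal.eq_top_iff_one, Submodule.mem_colon_singleton, hm0, smul_zero]
  exact Submodule.zero_mem _

/-- `depth (J, N) = 0` implies `depth (J + (y), N) ≤ 1`. -/
theorem idealDepth_sup_span_le_one (J : Ideal R) (hJ : J ≤ maximalIdeal R) (y : R)
    (hy : y ∈ maximalIdeal R) (N : Type u) [AddCommGroup N] [Module R N] [Module.Finite R N]
    [Nontrivial N] (h0 : LocCoh.idealDepth J N = 0) :
    LocCoh.idealDepth (J ⊔ Ideal.span {y}) N ≤ 1 := by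
  have hI : J ⊔ Ideal.span {y} ≤ maximalIdeal R :=
    sup_le hJ ((Ideal.span_singleton_le_iff_mem _).2 hy)
  have hJN := smul_top_ne_top_of_le J hJ N
  have hIN := smul_top_ne_top_of_le _ hI N
  by_contra hlt
  rw [not_le] at hlt
  obtain ⟨rs, hreg, hmem, -, hlen⟩ := exists_maximal_regular (J ⊔ Ideal.span {y}) N hIN
  have hlen2 : 2 ≤ rs.length := by
    have : ((1 : ℕ) : ℕ∞) < (rs.length : ℕ∞) := by rw [hlen]; exact_mod_cast hlt
    have : 1 < rs.length := by exact_mod_cast this
    omega
  rw [DepthFinite.idealDepth_eq_zero_iff_forall_not_isSMulRegular J N hJN] at h0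
  obtain ⟨p, hp, hJp⟩ := exists_mem_ass_ge R N J h0
  have hpp : p.IsPrime := IsAssociatedPrime.isPrime hp
  by_cases hyp : y ∈ p
  · have hIp : J ⊔ Ideal.span {y} ≤ p := sup_le hJp ((Ideal.span_singleton_le_iff_mem _).2 hyp)
    cases rs with
    | nil => simp at hlen2
    | cons x rs' =>
      rw [isWeaklyRegular_cons_iff] at hreg
      exact not_isSMulRegular_of_mem_ass N hp (hIp (hmem x (by simp))) hreg.1
  · have hy0 : Ideal.Quotient.mk p y ≠ 0 := fun h => hyp (Ideal.Quotient.eq_zero_iff_mem.1 h)
    have hregy : IsSMulRegular (R ⧸ p) y := by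
      intro a b hab
      have hab' : y • a = y • b := hab
      rw [Algebra.smul_def, Algebra.smul_def] at hab'
      exact mul_left_cancel₀ hy0 hab'
    have hann : ∀ x ∈ rs, x ∈ Module.annihilator R (ModuleCat.of R (QuotSMulTop y (R ⧸ p))) := by
      intro x hx
      obtain ⟨j, hj, z, hz, rfl⟩ := Submodule.mem_sup.1 (hmem x hx)
      obtain ⟨r, rfl⟩ := Ideal.mem_span_singleton'.1 hz
      rw [Module.mem_annihilator]
      intro k
      obtain ⟨a, rfl⟩ := Submodule.mkQ_surjective _ k
      obtain ⟨b, rfl⟩ := Ideal.Quotient.mk_surjective a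
      change (j + r * y) • Submodule.Quotient.mk (Ideal.Quotient.mk p b) = 0
      rw [← Submodule.Quotient.mk_smul, Submodule.Quotient.mk_eq_zero, add_smul]
      refine Submodule.add_mem _ ?_ ?_
      · have : j • Ideal.Quotient.mk p b = 0 := by
          rw [Algebra.smul_def]
          change Ideal.Quotient.mk p j * _ = 0
          rw [Ideal.Quotient.eq_zero_iff_mem.2 (hJp hj), zero_mul]
        rw [this]
        exact Submodule.zero_mem _
      · rw [mul_comm, mul_smul]
        exact Submodule.smul_mem_pointwise_smul _ _ _ Submodule.mem_top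
    have hv := ExtRegSeq.ext_vanish (ModuleCat.of R (QuotSMulTop y (R ⧸ p))) rs N hann hreg 1
      (by omega)
    have hsub1 : Subsingleton (Ext (ModuleCat.of R (QuotSMulTop y (R ⧸ p))) (ModuleCat.of R N) 1) :=
      ⟨fun a b => by rw [hv a, hv b]⟩
    have hsub0 := Ischebeck.subsingleton_ext_of_regular N (R ⧸ p) hy hregy 0 hsub1
    obtain ⟨-, m, hm⟩ := isAssociatedPrime_iff.1 hp
    have hm0 : m ≠ 0 := by
      rintro rfl
      apply hpp.ne_top
      rw [hm, Ideal.eq_top_iff_one, Submodule.mem_colon_singleton, smul_zero]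
      exact Submodule.zero_mem _
    let φ : (R ⧸ p) →ₗ[R] N :=
      Submodule.liftQ p (LinearMap.toSpanSingleton R N m) (by
        intro a ha
        rw [LinearMap.mem_ker, LinearMap.toSpanSingleton_apply]
        have : a ∈ (⊥ : Submodule R N).colon {m} := hm ▸ ha
        rw [Submodule.mem_colon_singleton, Submodule.mem_bot] at this
        exact this)
    have h1 : Ext.mk₀ (ModuleCat.ofHom φ) = Ext.mk₀ (0 : ModuleCat.of R (R ⧸ p) ⟶ ModuleCat.of R N) :=
      hsub0.elim _ _
    have h2 : ModuleCat.ofHom φ = 0 := (Ext.mk₀_bijective _ _).1 h1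
    have h3 : φ (Submodule.Quotient.mk 1) = 0 := by
      have := congrArg (fun f => f.hom (Submodule.Quotient.mk (1 : R) : R ⧸ p)) h2
      exact this
    rw [Submodule.liftQ_apply, LinearMap.toSpanSingleton_apply, one_smul] at h3
    exact hm0 h3

omit [IsNoetherianRing R] in
/-- Nakayama: `M/(rs)M ≠ 0` for `rs ⊆ 𝔪`. -/
theorem nontrivial_quotient_ofList (M : Type u) [AddCommGroup M] [Module R M] [Module.Finite R M]
    [Nontrivial M] (rs : List R) (hrs : ∀ r ∈ rs, r ∈ maximalIdeal R) :
    Nontrivial (M ⧸ (Ideal.ofList rs • (⊤ : Submodule R M))) := by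
  apply Submodule.Quotient.nontrivial_iff.2
  apply smul_top_ne_top_of_le _ _ M
  rw [Ideal.ofList, Ideal.span_le]
  exact fun r hr => hrs r hr

/-- `depth (J + (y), M) ≤ depth (J, M) + 1`. -/
theorem idealDepth_sup_span_le (J : Ideal R) (hJ : J ≤ maximalIdeal R) (y : R)
    (hy : y ∈ maximalIdeal R) (M : Type u) [AddCommGroup M] [Module R M] [Module.Finite R M]
    [Nontrivial M] :
    LocCoh.idealDepth (J ⊔ Ideal.span {y}) M ≤ LocCoh.idealDepth J M + 1 := by
  have hI : J ⊔ Ideal.span {y} ≤ maximalIdeal R :=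
    sup_le hJ ((Ideal.span_singleton_le_iff_mem _).2 hy)
  have hJM := smul_top_ne_top_of_le J hJ M
  have hIM := smul_top_ne_top_of_le _ hI M
  obtain ⟨rs, hreg, hmem, hmax, hlen⟩ := exists_maximal_regular J M hJM
  have hrsm : ∀ r ∈ rs, r ∈ maximalIdeal R := fun r hr => hJ (hmem r hr)
  have hnt := nontrivial_quotient_ofList M rs hrsm
  have h1 := CMRing.idealDepth_quotient_ofList_add_length J rs M hJM hreg hmem
  have h2 := CMRing.idealDepth_quotient_ofList_add_length (J ⊔ Ideal.span {y}) rs M hIM hreg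
    (fun r hr => Submodule.mem_sup_left (hmem r hr))
  have h0 : LocCoh.idealDepth J (M ⧸ (Ideal.ofList rs • (⊤ : Submodule R M))) = 0 := by
    rw [← hlen] at h1
    have h3 : LocCoh.idealDepth J (M ⧸ (Ideal.ofList rs • (⊤ : Submodule R M))) + rs.length =
        0 + rs.length := by rw [h1, zero_add]
    exact (ENat.add_left_injective_of_ne_top (ENat.natCast_ne_top _)) h3
  have h4 := idealDepth_sup_span_le_one J hJ y hy _ h0
  rw [← h2, ← hlen, add_comm (rs.length : ℕ∞) 1]
  exact add_le_add_left h4 _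

/-- A sequence `xs ⊆ 𝔪` with `depth ((xs), M) ≥ length xs` is `M`-regular. -/
theorem isWeaklyRegular_of_length_le_idealDepth (M : Type u) [AddCommGroup M] [Module R M]
    [Module.Finite R M] [Nontrivial M] (xs : List R) (hxs : ∀ x ∈ xs, x ∈ maximalIdeal R)
    (h : (xs.length : ℕ∞) ≤ LocCoh.idealDepth (Ideal.ofList xs) M) : IsWeaklyRegular M xs := by
  induction xs using List.reverseRecOn with
  | nil => exact IsWeaklyRegular.nil R M
  | append_singleton ys y ih =>
    have hys : ∀ x ∈ ys, x ∈ maximalIdeal R := fun x hx => hxs x (by simp [hx])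
    have hy : y ∈ maximalIdeal R := hxs y (by simp)
    have hJ : Ideal.ofList ys ≤ maximalIdeal R := by
      rw [Ideal.ofList, Ideal.span_le]
      exact fun r hr => hys r hr
    have hIeq : Ideal.ofList (ys ++ [y]) = Ideal.ofList ys ⊔ Ideal.span {y} := by
      rw [Ideal.ofList_append, Ideal.ofList_singleton]
    rw [hIeq, List.length_append, List.length_singleton] at h
    have hineq := idealDepth_sup_span_le (Ideal.ofList ys) hJ y hy M
    have hys_depth : (ys.length : ℕ∞) ≤ LocCoh.idealDepth (Ideal.ofList ys) M := by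
      have h5 : ((ys.length : ℕ) : ℕ∞) + 1 ≤ LocCoh.idealDepth (Ideal.ofList ys) M + 1 := by
        refine le_trans ?_ hineq
        exact_mod_cast h
      exact (ENat.add_le_add_iff_right ENat.one_ne_top).1 h5
    have hreg := ih hys hys_depth
    have hI : Ideal.ofList ys ⊔ Ideal.span {y} ≤ maximalIdeal R :=
      sup_le hJ ((Ideal.span_singleton_le_iff_mem _).2 hy)
    have hIM := smul_top_ne_top_of_le _ hI M
    have hnt := nontrivial_quotient_ofList M ys hys
    have h2 := CMRing.idealDepth_quotient_ofList_add_length (Ideal.ofList ys ⊔ Ideal.span {y}) ys M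
      hIM hreg (fun r hr => Submodule.mem_sup_left (Ideal.subset_span hr))
    have hpos : LocCoh.idealDepth (Ideal.ofList ys ⊔ Ideal.span {y})
        (M ⧸ (Ideal.ofList ys • (⊤ : Submodule R M))) ≠ 0 := by
      intro h0
      rw [h0, zero_add] at h2
      rw [← h2] at h
      have : ys.length + 1 ≤ ys.length := by exact_mod_cast h
      omega
    have hIM' := smul_top_ne_top_of_le _ hI (M ⧸ (Ideal.ofList ys • (⊤ : Submodule R M)))
    rw [Ne, DepthFinite.idealDepth_eq_zero_iff_forall_not_isSMulRegular _ _ hIM'] at hpos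
    push Not at hpos
    obtain ⟨z, hzI, hz⟩ := hpos
    obtain ⟨j, hj, w, hw, rfl⟩ := Submodule.mem_sup.1 hzI
    obtain ⟨r, rfl⟩ := Ideal.mem_span_singleton'.1 hw
    have hjkill : ∀ m : M ⧸ (Ideal.ofList ys • (⊤ : Submodule R M)), j • m = 0 := by
      intro m
      obtain ⟨m, rfl⟩ := Submodule.mkQ_surjective _ m
      change j • Submodule.Quotient.mk m = 0
      rw [← Submodule.Quotient.mk_smul, Submodule.Quotient.mk_eq_zero]
      exact Submodule.smul_mem_smul hj Submodule.mem_top
    have hyreg : IsSMulRegular (M ⧸ (Ideal.ofList ys • (⊤ : Submodule R M))) y := by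
      intro a b hab
      have hab' : y • a = y • b := hab
      apply hz
      change (j + r * y) • a = (j + r * y) • b
      rw [add_smul, add_smul, hjkill, hjkill, mul_smul, mul_smul, hab']
    rw [isWeaklyRegular_append_iff]
    refine ⟨hreg, ?_⟩
    rw [isWeaklyRegular_cons_iff]
    exact ⟨hyreg, IsWeaklyRegular.nil _ _⟩

end Groth.Agent.Lib.Helper29.DepthGen
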