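import Mathlib.Algebra.Category.ModuleCat.Ext.HasExt
import Mathlib.Algebra.Homology.DerivedCategory.Ext.ExactSequences
import Mathlib.Algebra.Homology.ShortComplex.ModuleCat
import Mathlib.RingTheory.Regular.ProjectiveDimension
import Mathlib.RingTheory.Ideal.Quotient.Operations

set_option autoImplicit false
universe u

namespace Groth.Agent.Lib.Helper29

open CategoryTheory Abelian

variable (A : Type u) [CommRing A]

theorem ext_subsingleton_of_iso {X Y Y' : ModuleCat.{u} A} (e : Y ≅ Y') (k : ℕ)
    (h : Subsingleton (Ext X Y k)) : Subsingleton (Ext X Y' k) := by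
  refine ⟨fun x y => ?_⟩
  have hx : ∀ z : Ext X Y' k, z = (z.comp (Ext.mk₀ e.inv) (add_zero k)).comp (Ext.mk₀ e.hom)
      (add_zero k) := by
    intro z
    rw [Ext.comp_assoc_of_third_deg_zero, Ext.mk₀_comp_mk₀, e.inv_hom_id, Ext.comp_mk₀_id]
  rw [hx x, hx y, h.elim (x.comp (Ext.mk₀ e.inv) (add_zero k)) (y.comp (Ext.mk₀ e.inv) (add_zero k))]

/-- If `Ext^k(X, A/I) = 0` for all ideals `I`, then `Ext^k(X, L) = 0` for all `L` generated by
`n` elements. -/
theorem ext_subsingleton_of_cyclic_aux (X : ModuleCat.{u} A) (k : ℕ)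
    (h : ∀ I : Ideal A, Subsingleton (Ext X (ModuleCat.of A (A ⧸ I)) k)) (n : ℕ) :
    ∀ (L : Type u) [AddCommGroup L] [Module A L] (s : Fin n → L),
      Submodule.span A (Set.range s) = ⊤ → Subsingleton (Ext X (ModuleCat.of A L) k) := by
  induction n with
  | zero =>
    intro L _ _ s hs
    have hL : Subsingleton L := by
      refine ⟨fun a b => ?_⟩
      have ha : a ∈ (⊤ : Submodule A L) := Submodule.mem_top
      have hb : b ∈ (⊤ : Submodule A L) := Submodule.mem_top
      rw [← hs, Set.range_eq_empty s, Submodule.span_empty, Submodule.mem_bot] at ha hb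
      rw [ha, hb]
    have : Subsingleton (A ⧸ (⊤ : Ideal A)) := Ideal.Quotient.subsingleton_iff.mpr rfl
    let e : (A ⧸ (⊤ : Ideal A)) ≃ₗ[A] L := LinearEquiv.ofSubsingleton _ _
    exact ext_subsingleton_of_iso A e.toModuleIso k (h ⊤)
  | succ n ih =>
    intro L _ _ s hs
    let φ : A →ₗ[A] L := LinearMap.toSpanSingleton A L (s 0)
    let C : Submodule A L := LinearMap.range φ
    -- C is cyclic
    let eC : (A ⧸ LinearMap.ker φ) ≃ₗ[A] C := φ.quotKerEquivRange
    have hC : Subsingleton (Ext X (ModuleCat.of A C) k) :=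
      ext_subsingleton_of_iso A eC.toModuleIso k (h (LinearMap.ker φ))
    -- L/C is generated by n elements
    have hQ : Subsingleton (Ext X (ModuleCat.of A (L ⧸ C)) k) := by
      apply ih (L ⧸ C) (fun i => C.mkQ (s i.succ))
      rw [eq_top_iff]
      rintro x -
      obtain ⟨l, rfl⟩ := C.mkQ_surjective x
      have hl : l ∈ Submodule.span A (Set.range s) := by rw [hs]; trivial
      induction hl using Submodule.span_induction with
      | mem y hy =>
        obtain ⟨i, rfl⟩ := hy
        induction i using Fin.cases with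
        | zero =>
          have : C.mkQ (s 0) = 0 := by
            rw [Submodule.mkQ_apply, Submodule.Quotient.mk_eq_zero]
            exact ⟨1, by simp [φ]⟩
          rw [this]; exact Submodule.zero_mem _
        | succ j => exact Submodule.subset_span ⟨j, rfl⟩
      | zero => rw [map_zero]; exact Submodule.zero_mem _
      | add y z _ _ hy hz => rw [map_add]; exact Submodule.add_mem _ hy hz
      | smul a y _ hy => rw [map_smul]; exact Submodule.smul_mem _ a hy
    let S : ShortComplex (ModuleCat.{u} A) :=
      ModuleCat.shortComplexOfCompEqZero C.subtype C.mkQ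
        (by ext x; exact (Submodule.Quotient.mk_eq_zero C).mpr x.2)
    have hS : S.ShortExact := ModuleCat.shortComplex_shortExact S
      (LinearMap.exact_subtype_mkQ C) (Submodule.injective_subtype C) (Submodule.mkQ_surjective C)
    refine ⟨fun x y => ?_⟩
    have hz : ∀ x : Ext X (ModuleCat.of A L) k, x = 0 := by
      intro x
      obtain ⟨x₁, rfl⟩ := Ext.covariant_sequence_exact₂ X hS x (hQ.elim _ _)
      rw [hC.elim x₁ 0, Ext.zero_comp]
    rw [hz x, hz y]

theorem ext_subsingleton_of_cyclic (X : ModuleCat.{u} A) (k : ℕ)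
    (h : ∀ I : Ideal A, Subsingleton (Ext X (ModuleCat.of A (A ⧸ I)) k))
    (L : ModuleCat.{u} A) [Module.Finite A L] : Subsingleton (Ext X L k) := by
  obtain ⟨n, s, hs⟩ := Module.Finite.exists_fin (R := A) (M := L)
  exact ext_subsingleton_of_cyclic_aux A X k h n L s hs

theorem hasProjectiveDimensionLT_succ_iff_ext_quotient [IsNoetherianRing A]
    (M : ModuleCat.{u} A) [Module.Finite A M] (n : ℕ) :
    HasProjectiveDimensionLT M (n + 1) ↔
      ∀ I : Ideal A, Subsingleton (Ext M (ModuleCat.of A (A ⧸ I)) (n + 1)) := by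
  constructor
  · intro _ I
    exact HasProjectiveDimensionLT.subsingleton M (n + 1) (n + 1) le_rfl _
  · intro h
    apply ModuleCat.hasProjectiveDimensionLT_of_forall_finite
    intro L _
    exact ext_subsingleton_of_cyclic A M (n + 1) h L

end Groth.Agent.Lib.Helper29
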