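import Groth.Agent.Lib.Helper29.ExtRegSeq
import Groth.Agent.Lib.Helper29.Ischebeck
import Groth.Agent.Lib.Helper29.Bass
import Groth.Agent.Lib.Helper46.ExtRegular
import Groth.Agent.S0559
import Mathlib.RingTheory.Length
import Mathlib.RingTheory.FiniteLength

/-!
# `Ext` of a module of finite length into a regular local ring

For `A` regular local of dimension `n` and `M` of finite length: `Extⁱ(M, A) = 0` for `i ≠ n` and
`length Extⁿ(M, A) = length M`.
-/

set_option autoImplicit false
universe u

namespace Groth.Agent.Lib.Helper29.ExtFL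

open CategoryTheory Abelian RingTheory.Sequence IsLocalRing

variable (A : Type u) [CommRing A]

/-- The property we propagate. -/
def P (Y : Type u) [AddCommGroup Y] [Module A Y] (n : ℕ) (X : Type u) [AddCommGroup X] [Module A X] :
    Prop :=
  (∀ i : ℕ, i ≠ n → Subsingleton (Ext (ModuleCat.of A X) (ModuleCat.of A Y) i)) ∧
    Module.length A (Ext (ModuleCat.of A X) (ModuleCat.of A Y) n) = Module.length A X

/-- `P` is invariant under isomorphism. -/
theorem P_of_equiv (Y : Type u) [AddCommGroup Y] [Module A Y] (n : ℕ)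
    {X X' : Type u} [AddCommGroup X] [Module A X] [AddCommGroup X'] [Module A X']
    (e : X ≃ₗ[A] X') (h : P A Y n X') : P A Y n X := by
  let f : Ext (ModuleCat.of A X') (ModuleCat.of A Y) n →ₗ[A]
      Ext (ModuleCat.of A X) (ModuleCat.of A Y) n :=
    Ext.precompOfLinear (Ext.mk₀ (ModuleCat.ofHom e.toLinearMap)) A (ModuleCat.of A Y) (zero_add n)
  let g : Ext (ModuleCat.of A X) (ModuleCat.of A Y) n →ₗ[A]
      Ext (ModuleCat.of A X') (ModuleCat.of A Y) n :=
    Ext.precompOfLinear (Ext.mk₀ (ModuleCat.ofHom e.symm.toLinearMap)) A (ModuleCat.of A Y)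
      (zero_add n)
  have hgf : ∀ x, g (f x) = x := by
    intro x
    change (Ext.mk₀ _).comp ((Ext.mk₀ _).comp x (zero_add n)) (zero_add n) = x
    rw [← Ext.comp_assoc_of_second_deg_zero, Ext.mk₀_comp_mk₀, ← ModuleCat.ofHom_comp]
    have : e.toLinearMap ∘ₗ e.symm.toLinearMap = LinearMap.id := by
      ext y; simp
    rw [this, ModuleCat.ofHom_id, Ext.mk₀_id_comp]
  have hfg : ∀ x, f (g x) = x := by
    intro x
    change (Ext.mk₀ _).comp ((Ext.mk₀ _).comp x (zero_add n)) (zero_add n) = x
    rw [← Ext.comp_assoc_of_second_deg_zero, Ext.mk₀_comp_mk₀, ← ModuleCat.ofHom_comp]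
    have : e.symm.toLinearMap ∘ₗ e.toLinearMap = LinearMap.id := by
      ext y; simp
    rw [this, ModuleCat.ofHom_id, Ext.mk₀_id_comp]
  let E : Ext (ModuleCat.of A X') (ModuleCat.of A Y) n ≃ₗ[A]
      Ext (ModuleCat.of A X) (ModuleCat.of A Y) n :=
    LinearEquiv.ofLinearMap f g (LinearMap.ext hfg) (LinearMap.ext hgf)
  refine ⟨fun i hi => ?_, ?_⟩
  · have := h.1 i hi
    exact Bass.subsingleton_ext_of_equiv Y X X' e i this
  · rw [← LinearEquiv.length_eq E, h.2, LinearEquiv.length_eq e]

/-- `P` propagates along short exact sequences. -/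
theorem P_of_exact (Y : Type u) [AddCommGroup Y] [Module A Y] (n : ℕ)
    (N₁ N₂ N₃ : Type u) [AddCommGroup N₁] [Module A N₁] [AddCommGroup N₂] [Module A N₂]
    [AddCommGroup N₃] [Module A N₃] (f : N₁ →ₗ[A] N₂) (g : N₂ →ₗ[A] N₃)
    (hf : Function.Injective f) (hg : Function.Surjective g) (hfg : Function.Exact f g)
    (h1 : P A Y n N₁) (h3 : P A Y n N₃) : P A Y n N₂ := by
  refine ⟨fun i hi => Ischebeck.subsingleton_ext_of_exact Y N₁ N₂ N₃ f g hf hg hfg i (h1.1 i hi)
    (h3.1 i hi), ?_⟩
  let S : ShortComplex (ModuleCat.{u} A) :=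
    ModuleCat.shortComplexOfCompEqZero f g hfg.linearMap_comp_eq_zero
  have hS : S.ShortExact :=
    { exact := ModuleCat.shortComplex_exact _ hfg
      mono_f := (ModuleCat.mono_iff_injective _).2 hf
      epi_g := (ModuleCat.epi_iff_surjective _).2 hg }
  let α : Ext (ModuleCat.of A N₃) (ModuleCat.of A Y) n →ₗ[A]
      Ext (ModuleCat.of A N₂) (ModuleCat.of A Y) n :=
    Ext.precompOfLinear (Ext.mk₀ S.g) A (ModuleCat.of A Y) (zero_add n)
  let β : Ext (ModuleCat.of A N₂) (ModuleCat.of A Y) n →ₗ[A]
      Ext (ModuleCat.of A N₁) (ModuleCat.of A Y) n :=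
    Ext.precompOfLinear (Ext.mk₀ S.f) A (ModuleCat.of A Y) (zero_add n)
  have hα : Function.Injective α := by
    rw [injective_iff_map_eq_zero]
    intro x hx
    cases n with
    | zero =>
      have : Epi S.g := hS.epi_g
      exact Ext.precomp_mk₀_injective_of_epi (ModuleCat.of A Y) S.g (by
        change (Ext.mk₀ S.g).comp x (zero_add 0) = (Ext.mk₀ S.g).comp 0 (zero_add 0)
        rw [Ext.comp_zero]
        exact hx)
    | succ m =>
      obtain ⟨x₁, hx₁⟩ := Ext.contravariant_sequence_exact₃ hS (ModuleCat.of A Y) x hx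
        (add_comm 1 m)
      have : x₁ = 0 := (h1.1 m (by omega)).elim _ _
      rw [← hx₁, this, Ext.comp_zero]
  have hβ : Function.Surjective β := by
    intro x₁
    have h0 : hS.extClass.comp x₁ (add_comm 1 n) = 0 := (h3.1 (n + 1) (by omega)).elim _ _
    exact Ext.contravariant_sequence_exact₁ hS (ModuleCat.of A Y) x₁ (add_comm 1 n) h0
  have hex : Function.Exact α β := by
    intro x₂
    constructor
    · intro hx₂
      exact Ext.contravariant_sequence_exact₂ hS (ModuleCat.of A Y) x₂ hx₂
    · rintro ⟨x₃, rfl⟩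
      change (Ext.mk₀ S.f).comp ((Ext.mk₀ S.g).comp x₃ (zero_add n)) (zero_add n) = 0
      rw [← Ext.comp_assoc_of_second_deg_zero, Ext.mk₀_comp_mk₀, S.zero, Ext.mk₀_zero,
        Ext.zero_comp]
  rw [Module.length_eq_add_of_exact α β hα hβ hex, h1.2, h3.2,
    Module.length_eq_add_of_exact f g hf hg hfg, add_comm]

/-- The residue field of a regular local ring of dimension `n` satisfies `P`. -/
theorem P_residueField [IsRegularLocalRing A] (n : ℕ) (hn : ringKrullDim A = n) :
    P A A n (A ⧸ maximalIdeal A) := by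
  classical
  have hAl : IsLocalRing A := inferInstance
  have hAn : IsNoetherianRing A := inferInstance
  have h5 : ((maximalIdeal A).spanFinrank : WithBot ℕ∞) = ringKrullDim A :=
    IsRegularLocalRing.spanFinrank_maximalIdeal
  set d := (maximalIdeal A).spanFinrank with hd
  have hdn : d = n := by
    rw [hn] at h5
    exact_mod_cast h5
  have hfg : (maximalIdeal A).FG := IsNoetherian.noetherian _
  obtain ⟨s, hcard, hspan⟩ := Submodule.FG.exists_span_finset_card_eq_spanFinrank hfg
  let e := s.equivFinOfCardEq hcard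
  let x : Fin d → A := fun i => (e.symm i : A)
  have hrange : Set.range x = (s : Set A) := by
    ext a
    constructor
    · rintro ⟨i, rfl⟩; exact (e.symm i).2
    · intro ha; exact ⟨e ⟨a, ha⟩, by simp [x]⟩
  have hx : Ideal.span (Set.range x) = maximalIdeal A := by rw [hrange]; exact hspan
  have hreg := Groth.Agent.S0559.isRegular_aux d A rfl x hx
  have hofList : Ideal.ofList (List.ofFn x) = maximalIdeal A := by
    rw [← hx, Ideal.ofList]
    congr 1
    ext a
    simp [List.mem_ofFn]
  have hlen : (List.ofFn x).length = n := by rw [List.length_ofFn, hdn]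
  have hmem : ∀ r ∈ List.ofFn x, r ∈ maximalIdeal A := by
    intro r hr
    rw [← hofList]
    exact Ideal.subset_span hr
  -- reduce to `A ⧸ ofList l`
  have e1 : (A ⧸ maximalIdeal A) ≃ₗ[A] (A ⧸ Ideal.ofList (List.ofFn x)) :=
    Submodule.quotEquivOfEq _ _ hofList.symm
  refine P_of_equiv A A n e1 ?_
  have key := Groth.Agent.Lib.Helper46.ExtRegular.ext_quot_regular (A := A) A (List.ofFn x)
    hreg.toIsWeaklyRegular
  refine ⟨fun i hi => ?_, ?_⟩
  · rcases lt_or_gt_of_ne hi with h | h
    · -- i < n
      constructor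
      intro a b
      have hann : ∀ r ∈ List.ofFn x, r ∈ Module.annihilator A
          (ModuleCat.of A (A ⧸ Ideal.ofList (List.ofFn x))) := by
        intro r hr
        rw [Module.mem_annihilator]
        intro m
        obtain ⟨a, rfl⟩ := Submodule.Quotient.mk_surjective _ m
        rw [← Submodule.Quotient.mk_smul, Submodule.Quotient.mk_eq_zero]
        exact Ideal.mul_mem_right _ _ (Ideal.subset_span hr)
      have hv := ExtRegSeq.ext_vanish (ModuleCat.of A (A ⧸ Ideal.ofList (List.ofFn x)))
        (List.ofFn x) A hann hreg.toIsWeaklyRegular i (by rw [hlen]; exact h)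
      rw [hv a, hv b]
    · constructor
      intro a b
      have hv := key.1 i (by rw [hlen]; exact h)
      rw [hv a, hv b]
  · obtain ⟨E⟩ := key.2
    rw [hlen] at E
    rw [LinearEquiv.length_eq E]
    have e2 : (A ⧸ (Ideal.ofList (List.ofFn x) • ⊤ : Submodule A A)) ≃ₗ[A]
        (A ⧸ Ideal.ofList (List.ofFn x)) :=
      Submodule.quotEquivOfEq _ _ (by simp)
    exact LinearEquiv.length_eq e2

/-- Main theorem: over a regular local ring of dimension `n`, `Extⁱ(M, A) = 0` for `i ≠ n` and
`length Extⁿ(M, A) = length M` for `M` of finite length. -/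
theorem P_of_isFiniteLength [IsRegularLocalRing A] (n : ℕ) (hn : ringKrullDim A = n)
    (M : Type u) [AddCommGroup M] [Module A M] (hM : IsFiniteLength A M) : P A A n M := by
  induction hM with
  | of_subsingleton =>
    rename_i M _ _ _
    refine ⟨fun i _ => Ischebeck.subsingleton_ext_of_subsingleton M A i, ?_⟩
    have := Ischebeck.subsingleton_ext_of_subsingleton (A := A) M A n
    rw [Module.length_eq_zero, Module.length_eq_zero]
  | of_simple_quotient hN ih =>
    rename_i M _ _ N hs
    have hAl : IsLocalRing A := inferInstance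
    obtain ⟨I, hI, ⟨e⟩⟩ := isSimpleModule_iff_quot_maximal.1 hs
    have hIm : I = maximalIdeal A := IsLocalRing.eq_maximalIdeal hI
    subst hIm
    have h3 : P A A n (M ⧸ N) := P_of_equiv A A n e (P_residueField A n hn)
    exact P_of_exact A A n N M (M ⧸ N) N.subtype N.mkQ N.injective_subtype
      N.mkQ_surjective (LinearMap.exact_subtype_mkQ N) ih h3

end Groth.Agent.Lib.Helper29.ExtFL
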