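import Groth.Agent.Lib.Helper46.ExtRegular

/-!
# `Ext^i(A/J, M)` for `J` generated by a regular sequence and `M` killed by `J`

For `l` weakly regular on `A` of length `p`, `J = (l)` and `M` an `A`-module with `JM = 0`:
`Extⁱ_A(A/J, M) ≃ M^(p choose i)`.  The proof is by induction on `l`, carrying along naturality in
`M` in order to split the short exact sequences `0 → Extⁱ(A/J', M) → Extⁱ⁺¹(A/J, M) →
Extⁱ⁺¹(A/J', M) → 0`.
-/

set_option autoImplicit false
set_option backward.isDefEq.respectTransparency false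
set_option backward.defeqAttrib.useBackward true

universe u

namespace Groth.Agent.Lib.Helper29.ExtKilled

open CategoryTheory Abelian RingTheory.Sequence
open Groth.Agent.Lib.Helper46 Groth.Agent.Lib.Helper46.TorShift

variable {A : Type u} [CommRing A]

/-- A family of isomorphisms `Extⁱ(C, M) ≃ Mⁿ`, natural in the module `M` killed by `J`. -/
structure NatIso (J : Ideal A) (C : Type u) [AddCommGroup C] [Module A C] (i n : ℕ) where
  φ : ∀ (M : Type u) [AddCommGroup M] [Module A M], J • (⊤ : Submodule A M) = ⊥ →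
    (Ext (ModuleCat.of A C) (ModuleCat.of A M) i ≃ₗ[A] (Fin n → M))
  nat : ∀ (M N : Type u) [AddCommGroup M] [Module A M] [AddCommGroup N] [Module A N]
    (hM : J • (⊤ : Submodule A M) = ⊥) (hN : J • (⊤ : Submodule A N) = ⊥) (f : M →ₗ[A] N)
    (e : Ext (ModuleCat.of A C) (ModuleCat.of A M) i),
    φ N hN (e.comp (Ext.mk₀ (ModuleCat.ofHom f)) (add_zero i)) = fun k => f (φ M hM e k)

theorem smul_eq_zero_of_killed {J : Ideal A} {M : Type u} [AddCommGroup M] [Module A M]
    (hM : J • (⊤ : Submodule A M) = ⊥) {a : A} (ha : a ∈ J) (m : M) : a • m = 0 := by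
  have : a • m ∈ J • (⊤ : Submodule A M) := Submodule.smul_mem_smul ha Submodule.mem_top
  rw [hM] at this
  exact this

theorem killed_of_le {J' J : Ideal A} (h : J' ≤ J) {M : Type u} [AddCommGroup M] [Module A M]
    (hM : J • (⊤ : Submodule A M) = ⊥) : J' • (⊤ : Submodule A M) = ⊥ := by
  rw [eq_bot_iff, ← hM]
  exact Submodule.smul_mono_left h

/-- Restriction of a natural family to modules killed by a bigger ideal. -/
def NatIso.restrict {J' J : Ideal A} (h : J' ≤ J) {C : Type u} [AddCommGroup C] [Module A C]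
    {i n : ℕ} (T : NatIso J' C i n) : NatIso J C i n where
  φ M _ _ hM := T.φ M (killed_of_le h hM)
  nat M N _ _ _ _ hM hN f e := T.nat M N (killed_of_le h hM) (killed_of_le h hN) f e

/-- Change of the exponent along an equality. -/
def NatIso.cast {J : Ideal A} {C : Type u} [AddCommGroup C] [Module A C]
    {i n n' : ℕ} (h : n = n') (T : NatIso J C i n) : NatIso J C i n' := h ▸ T

/-- Projective modules: the higher `Ext` vanish. -/
noncomputable def NatIso.ofProjective (J : Ideal A) (C : Type u) [AddCommGroup C] [Module A C]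
    [Module.Projective A C] (i : ℕ) : NatIso J C (i + 1) 0 where
  φ M _ _ _ :=
    haveI : Projective (ModuleCat.of A C) :=
      (IsProjective.iff_projective (R := A) _).mp inferInstance
    haveI : Subsingleton (Ext (ModuleCat.of A C) (ModuleCat.of A M) (i + 1)) :=
      ⟨fun x y => by rw [Ext.eq_zero_of_projective x, Ext.eq_zero_of_projective y]⟩
    LinearEquiv.ofSubsingleton _ _
  nat := by
    intros
    exact Subsingleton.elim _ _

section Lift

variable {J : Ideal A} {M : Type u} [AddCommGroup M] [Module A M]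

/-- For `M` killed by `J`: the map `A/J → M` sending `1` to `m`. -/
noncomputable def liftK (hM : J • (⊤ : Submodule A M) = ⊥) : M →ₗ[A] ((A ⧸ J) →ₗ[A] M) where
  toFun m := Submodule.liftQ J (LinearMap.toSpanSingleton A M m) (fun a ha => by
    rw [LinearMap.mem_ker, LinearMap.toSpanSingleton_apply]
    exact smul_eq_zero_of_killed hM ha m)
  map_add' m m' := by
    apply Submodule.linearMap_qext
    ext
    change (1 : A) • (m + m') = (1 : A) • m + (1 : A) • m'
    rw [smul_add]
  map_smul' c m := by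
    apply Submodule.linearMap_qext
    ext
    change (1 : A) • (c • m) = c • ((1 : A) • m)
    rw [smul_comm]

@[simp]
theorem liftK_mk (hM : J • (⊤ : Submodule A M) = ⊥) (m : M) (c : A) :
    liftK hM m (Submodule.Quotient.mk c) = c • m := rfl

theorem liftK_one (hM : J • (⊤ : Submodule A M) = ⊥) (m : M) :
    liftK hM m (1 : A ⧸ J) = m := by
  have : (1 : A ⧸ J) = Submodule.Quotient.mk (1 : A) := rfl
  rw [this, liftK_mk, one_smul]

theorem liftK_comp {N : Type u} [AddCommGroup N] [Module A N]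
    (hM : J • (⊤ : Submodule A M) = ⊥) (hN : J • (⊤ : Submodule A N) = ⊥) (f : M →ₗ[A] N)
    (m : M) : f ∘ₗ liftK hM m = liftK hN (f m) := by
  apply Submodule.linearMap_qext
  ext
  change f ((1 : A) • m) = (1 : A) • f m
  rw [map_smul]

/-- `Hom(A/J, M) ≃ M` for `M` killed by `J`. -/
noncomputable def evalOne (hM : J • (⊤ : Submodule A M) = ⊥) : ((A ⧸ J) →ₗ[A] M) ≃ₗ[A] M where
  toFun f := f 1
  map_add' f g := rfl
  map_smul' c f := rfl
  invFun m := liftK hM m
  left_inv f := by
    apply Submodule.linearMap_qext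
    ext
    change (1 : A) • f 1 = f 1
    rw [one_smul]
  right_inv m := liftK_one hM m

end Lift

/-- Degree `0`: `Hom(A/J, M) ≃ M`. -/
noncomputable def NatIso.zero (J : Ideal A) : NatIso J (A ⧸ J) 0 1 where
  φ M _ _ hM := Ext.linearEquiv₀ ≪≫ₗ ModuleCat.homLinearEquiv ≪≫ₗ evalOne hM ≪≫ₗ
    (LinearEquiv.funUnique (Fin 1) A M).symm
  nat M N _ _ _ _ hM hN f e := by
    obtain ⟨g, rfl⟩ : ∃ g : ModuleCat.of A (A ⧸ J) ⟶ ModuleCat.of A M, Ext.mk₀ g = e :=
      ⟨Ext.linearEquiv₀ (R := A) e, Ext.mk₀_linearEquiv₀_apply e⟩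
    rw [Ext.mk₀_comp_mk₀]
    funext k
    have h1 : ∀ (P : Type u) [AddCommGroup P] [Module A P]
        (h : ModuleCat.of A (A ⧸ J) ⟶ ModuleCat.of A P),
        Ext.linearEquiv₀ (R := A) (Ext.mk₀ h) = h := by
      intro P _ _ h
      rw [← Ext.linearEquiv₀_symm_apply (R := A), LinearEquiv.apply_symm_apply]
    simp only [LinearEquiv.trans_apply, h1]
    rfl

section Split

theorem smul_ext_eq_zero {r : A} {N M : Type u} [AddCommGroup N] [Module A N] [AddCommGroup M]
    [Module A M] (hM : ∀ m : M, r • m = 0) {n : ℕ}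
    (e : Ext (ModuleCat.of A N) (ModuleCat.of A M) n) : r • e = 0 := by
  have h0 : r • 𝟙 (ModuleCat.of A M) = 0 := by
    ext m
    exact hM m
  rw [← Ext.comp_mk₀_id e, ← Ext.comp_smul, ← Ext.mk₀_smul, h0, Ext.mk₀_zero, Ext.comp_zero]

variable {J : Ideal A} {r : A} {C : Type u} [AddCommGroup C] [Module A C]
  {π : C →ₗ[A] (A ⧸ J)}
  {hex : Function.Exact (r • (LinearMap.id : C →ₗ[A] C)) π}
  (hS : (sesSC (r • (LinearMap.id : C →ₗ[A] C)) π hex).ShortExact)

/-- The connecting map. -/
noncomputable def δ (M : Type u) [AddCommGroup M] [Module A M] (i : ℕ) :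
    Ext (ModuleCat.of A C) (ModuleCat.of A M) i →ₗ[A]
      Ext (ModuleCat.of A (A ⧸ J)) (ModuleCat.of A M) (i + 1) :=
  Ext.precompOfLinear hS.extClass A (ModuleCat.of A M) (add_comm 1 i)

/-- Restriction along `π`. -/
noncomputable def res (π : C →ₗ[A] (A ⧸ J)) (M : Type u) [AddCommGroup M] [Module A M] (n : ℕ) :
    Ext (ModuleCat.of A (A ⧸ J)) (ModuleCat.of A M) n →ₗ[A]
      Ext (ModuleCat.of A C) (ModuleCat.of A M) n :=
  Ext.precompOfLinear (Ext.mk₀ (ModuleCat.ofHom π)) A (ModuleCat.of A M) (zero_add n)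

theorem δ_apply (M : Type u) [AddCommGroup M] [Module A M] (i : ℕ)
    (x : Ext (ModuleCat.of A C) (ModuleCat.of A M) i) :
    δ hS M i x = hS.extClass.comp x (add_comm 1 i) := rfl

theorem res_apply (M : Type u) [AddCommGroup M] [Module A M] (n : ℕ)
    (y : Ext (ModuleCat.of A (A ⧸ J)) (ModuleCat.of A M) n) :
    res π M n y = (Ext.mk₀ (ModuleCat.ofHom π)).comp y (zero_add n) := rfl

theorem res_δ (M : Type u) [AddCommGroup M] [Module A M] (i : ℕ)
    (x : Ext (ModuleCat.of A C) (ModuleCat.of A M) i) : res π M (i + 1) (δ hS M i x) = 0 :=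
  hS.comp_extClass_assoc x (add_comm 1 i)

theorem exists_δ_eq (M : Type u) [AddCommGroup M] [Module A M] (i : ℕ)
    (y : Ext (ModuleCat.of A (A ⧸ J)) (ModuleCat.of A M) (i + 1)) (hy : res π M (i + 1) y = 0) :
    ∃ x, δ hS M i x = y :=
  Ext.contravariant_sequence_exact₃ hS (ModuleCat.of A M) y hy (add_comm 1 i)

theorem mk₀_f_comp (M : Type u) [AddCommGroup M] [Module A M] (hM : ∀ m : M, r • m = 0) (n : ℕ)
    (x : Ext (ModuleCat.of A C) (ModuleCat.of A M) n) :
    (Ext.mk₀ (sesSC (r • (LinearMap.id : C →ₗ[A] C)) π hex).f).comp x (zero_add n) = 0 := by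
  have hf : (sesSC (r • (LinearMap.id : C →ₗ[A] C)) π hex).f = r • 𝟙 _ := rfl
  rw [hf, Ext.mk₀_smul, Ext.smul_comp, Ext.mk₀_id_comp]
  exact smul_ext_eq_zero hM x

theorem δ_injective (M : Type u) [AddCommGroup M] [Module A M] (hM : ∀ m : M, r • m = 0) (i : ℕ) :
    Function.Injective (δ hS M i) := by
  rw [injective_iff_map_eq_zero]
  intro x hx
  obtain ⟨x₂, hx₂⟩ := Ext.contravariant_sequence_exact₁ hS (ModuleCat.of A M) x (add_comm 1 i) hx
  rw [← hx₂]
  exact mk₀_f_comp M hM i x₂

include hS in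
theorem res_surjective (M : Type u) [AddCommGroup M] [Module A M] (hM : ∀ m : M, r • m = 0)
    (n : ℕ) : Function.Surjective (res π M n) := by
  intro z
  exact Ext.contravariant_sequence_exact₂ hS (ModuleCat.of A M) z (mk₀_f_comp M hM n z)

end Split

section Universal

variable {J : Ideal A}

theorem killed_pi (J : Ideal A) (a : ℕ) : J • (⊤ : Submodule A (Fin a → A ⧸ J)) = ⊥ := by
  rw [eq_bot_iff, Submodule.smul_le]
  intro c hc w _
  rw [Submodule.mem_bot]
  funext k
  obtain ⟨d, hd⟩ := Submodule.Quotient.mk_surjective J (w k)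
  change c • w k = 0
  rw [← hd, ← Submodule.Quotient.mk_smul, Submodule.Quotient.mk_eq_zero]
  exact J.mul_mem_right d hc

variable {M : Type u} [AddCommGroup M] [Module A M]

/-- The map `(A/J)^a → M` determined by `v : Fin a → M`, for `M` killed by `J`. -/
noncomputable def F (hM : J • (⊤ : Submodule A M) = ⊥) (a : ℕ) :
    (Fin a → M) →ₗ[A] ((Fin a → A ⧸ J) →ₗ[A] M) :=
  (LinearMap.lsum A (fun _ : Fin a => A ⧸ J) A).toLinearMap ∘ₗ (liftK hM).compLeft (Fin a)

theorem F_apply (hM : J • (⊤ : Submodule A M) = ⊥) (a : ℕ) (v : Fin a → M)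
    (w : Fin a → A ⧸ J) : F hM a v w = ∑ k, liftK hM (v k) (w k) := by
  simp [F, LinearMap.lsum_apply]

theorem F_single (hM : J • (⊤ : Submodule A M) = ⊥) (a : ℕ) (v : Fin a → M) (k : Fin a) :
    F hM a v (Pi.single k 1) = v k := by
  rw [F_apply, Finset.sum_eq_single k]
  · rw [Pi.single_eq_same, liftK_one]
  · intro j _ hj
    rw [Pi.single_eq_of_ne hj, map_zero]
  · intro h
    exact absurd (Finset.mem_univ k) h

theorem comp_F {N : Type u} [AddCommGroup N] [Module A N]
    (hM : J • (⊤ : Submodule A M) = ⊥) (hN : J • (⊤ : Submodule A N) = ⊥) (f : M →ₗ[A] N)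
    (a : ℕ) (v : Fin a → M) : f ∘ₗ F hM a v = F hN a (fun k => f (v k)) := by
  refine LinearMap.ext fun w => ?_
  rw [LinearMap.comp_apply, F_apply, F_apply, map_sum]
  refine Finset.sum_congr rfl fun k _ => ?_
  rw [← liftK_comp hM hN f (v k)]
  rfl

end Universal

section SplitMain

variable {J : Ideal A} {r : A} (hr : r ∈ J) {C : Type u} [AddCommGroup C] [Module A C]
  {π : C →ₗ[A] (A ⧸ J)}
  {hex : Function.Exact (r • (LinearMap.id : C →ₗ[A] C)) π}
  (hS : (sesSC (r • (LinearMap.id : C →ₗ[A] C)) π hex).ShortExact)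
  {i a b : ℕ} (T₀ : NatIso J C i b) (T₁ : NatIso J C (i + 1) a)

/-- The universal element of `Extⁱ⁺¹(C, (A/J)^a)`. -/
noncomputable def univ : Ext (ModuleCat.of A C) (ModuleCat.of A (Fin a → A ⧸ J)) (i + 1) :=
  (T₁.φ _ (killed_pi J a)).symm (fun k => Pi.single k 1)

include hr hS in
theorem exists_xi : ∃ ξ : Ext (ModuleCat.of A (A ⧸ J)) (ModuleCat.of A (Fin a → A ⧸ J)) (i + 1),
    res π _ (i + 1) ξ = univ T₁ :=
  res_surjective hS _ (fun m => smul_eq_zero_of_killed (killed_pi J a) hr m) (i + 1) _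

/-- A lift of the universal element. -/
noncomputable def xi : Ext (ModuleCat.of A (A ⧸ J)) (ModuleCat.of A (Fin a → A ⧸ J)) (i + 1) :=
  Classical.choose (exists_xi hr hS T₁)

theorem res_xi : res π _ (i + 1) (xi hr hS T₁) = univ T₁ :=
  Classical.choose_spec (exists_xi hr hS T₁)

/-- The section of the restriction map. -/
noncomputable def sec (M : Type u) [AddCommGroup M] [Module A M]
    (hM : J • (⊤ : Submodule A M) = ⊥) :
    (Fin a → M) →ₗ[A] Ext (ModuleCat.of A (A ⧸ J)) (ModuleCat.of A M) (i + 1) :=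
  (Ext.precompOfLinear (xi hr hS T₁) A (ModuleCat.of A M) (add_zero (i + 1))) ∘ₗ
    (Ext.linearEquiv₀ (R := A)).symm.toLinearMap ∘ₗ
      (ModuleCat.homLinearEquiv (S := A)).symm.toLinearMap ∘ₗ F hM a

theorem sec_apply (M : Type u) [AddCommGroup M] [Module A M]
    (hM : J • (⊤ : Submodule A M) = ⊥) (v : Fin a → M) :
    sec hr hS T₁ M hM v =
      (xi hr hS T₁).comp (Ext.mk₀ (ModuleCat.ofHom (F hM a v))) (add_zero (i + 1)) := rfl

theorem res_sec (M : Type u) [AddCommGroup M] [Module A M]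
    (hM : J • (⊤ : Submodule A M) = ⊥) (v : Fin a → M) :
    T₁.φ M hM (res π M (i + 1) (sec hr hS T₁ M hM v)) = v := by
  rw [sec_apply, res_apply, ← Ext.comp_assoc_of_third_deg_zero, ← res_apply, res_xi,
    T₁.nat _ M (killed_pi J a) hM]
  funext k
  rw [univ, LinearEquiv.apply_symm_apply, F_single]

/-- The splitting map. -/
noncomputable def Φ (M : Type u) [AddCommGroup M] [Module A M]
    (hM : J • (⊤ : Submodule A M) = ⊥) :
    ((Fin b → M) × (Fin a → M)) →ₗ[A] Ext (ModuleCat.of A (A ⧸ J)) (ModuleCat.of A M) (i + 1) :=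
  LinearMap.coprod ((δ hS M i) ∘ₗ (T₀.φ M hM).symm.toLinearMap) (sec hr hS T₁ M hM)

theorem Φ_apply (M : Type u) [AddCommGroup M] [Module A M]
    (hM : J • (⊤ : Submodule A M) = ⊥) (w : Fin b → M) (v : Fin a → M) :
    Φ hr hS T₀ T₁ M hM (w, v) = δ hS M i ((T₀.φ M hM).symm w) + sec hr hS T₁ M hM v := rfl

theorem Φ_bijective (M : Type u) [AddCommGroup M] [Module A M]
    (hM : J • (⊤ : Submodule A M) = ⊥) : Function.Bijective (Φ hr hS T₀ T₁ M hM) := by
  have hrM : ∀ m : M, r • m = 0 := fun m => smul_eq_zero_of_killed hM hr m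
  constructor
  · rw [injective_iff_map_eq_zero]
    rintro ⟨w, v⟩ h
    rw [Φ_apply] at h
    have h1 := congrArg (fun e => T₁.φ M hM (res π M (i + 1) e)) h
    simp only [map_add, res_δ, res_sec, map_zero, zero_add] at h1
    rw [h1, map_zero, add_zero] at h
    have h2 := δ_injective hS M hrM i (by rw [h, map_zero] :
      δ hS M i ((T₀.φ M hM).symm w) = δ hS M i 0)
    have h3 : w = 0 := by
      have := congrArg (T₀.φ M hM) h2
      rwa [LinearEquiv.apply_symm_apply, map_zero] at this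
    rw [h1, h3]
    rfl
  · intro e
    have h0 : res π M (i + 1) (e - sec hr hS T₁ M hM (T₁.φ M hM (res π M (i + 1) e))) = 0 := by
      apply (T₁.φ M hM).injective
      rw [map_sub, map_sub, res_sec, sub_self, map_zero]
    obtain ⟨x, hx⟩ := exists_δ_eq hS M i _ h0
    refine ⟨(T₀.φ M hM x, T₁.φ M hM (res π M (i + 1) e)), ?_⟩
    rw [Φ_apply, LinearEquiv.symm_apply_apply, hx, sub_add_cancel]

theorem Φ_nat (M N : Type u) [AddCommGroup M] [Module A M] [AddCommGroup N] [Module A N]
    (hM : J • (⊤ : Submodule A M) = ⊥) (hN : J • (⊤ : Submodule A N) = ⊥) (f : M →ₗ[A] N)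
    (w : Fin b → M) (v : Fin a → M) :
    (Φ hr hS T₀ T₁ M hM (w, v)).comp (Ext.mk₀ (ModuleCat.ofHom f)) (add_zero (i + 1)) =
      Φ hr hS T₀ T₁ N hN (fun k => f (w k), fun k => f (v k)) := by
  rw [Φ_apply, Φ_apply, Ext.add_comp]
  congr 1
  · rw [δ_apply, δ_apply, Ext.comp_assoc_of_third_deg_zero]
    congr 1
    apply (T₀.φ N hN).injective
    rw [T₀.nat M N hM hN, LinearEquiv.apply_symm_apply, LinearEquiv.apply_symm_apply]
  · rw [sec_apply, sec_apply, Ext.comp_assoc_of_third_deg_zero, Ext.mk₀_comp_mk₀,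
      ← ModuleCat.ofHom_comp, comp_F hM hN]

/-- The family of isomorphisms for the quotient by one more regular element. -/
noncomputable def NatIso.split : NatIso J (A ⧸ J) (i + 1) (b + a) where
  φ M _ _ hM := (LinearEquiv.ofBijective (Φ hr hS T₀ T₁ M hM) (Φ_bijective hr hS T₀ T₁ M hM)).symm ≪≫ₗ
    (LinearEquiv.sumArrowLequivProdArrow (Fin b) (Fin a) A M).symm ≪≫ₗ
      LinearEquiv.funCongrLeft A M finSumFinEquiv.symm
  nat M N _ _ _ _ hM hN f e := by
    obtain ⟨⟨w, v⟩, rfl⟩ := (Φ_bijective hr hS T₀ T₁ M hM).2 e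
    rw [Φ_nat hr hS T₀ T₁ M N hM hN]
    simp only [LinearEquiv.trans_apply, LinearEquiv.ofBijective_symm_apply_apply]
    funext k
    simp only [LinearEquiv.funCongrLeft_apply, LinearMap.funLeft_apply]
    rcases finSumFinEquiv.symm k with j | j <;> simp

end SplitMain

section Main

/-- `Extⁱ(A/(l), M) ≃ M^(|l| choose i)`, naturally in `M` killed by `(l)`, for `l` weakly regular
on `A`. -/
theorem nonempty_natIso (l : List A) (hA : IsWeaklyRegular A l) :
    ∀ i : ℕ, Nonempty (NatIso (Ideal.ofList l) (A ⧸ Ideal.ofList l) i (l.length.choose i)) := by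
  induction l using List.reverseRecOn with
  | nil =>
    intro i
    cases i with
    | zero => exact ⟨(NatIso.zero _).cast (by simp)⟩
    | succ i =>
      have e : (A ⧸ Ideal.ofList ([] : List A)) ≃ₗ[A] A :=
        Submodule.quotEquivOfEqBot _ Ideal.ofList_nil
      have : Module.Projective A (A ⧸ Ideal.ofList ([] : List A)) :=
        Module.Projective.of_equiv e.symm
      exact ⟨(NatIso.ofProjective _ _ i).cast (by simp)⟩
  | append_singleton l r ih =>
    intro i
    cases i with
    | zero => exact ⟨(NatIso.zero _).cast (by simp)⟩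
    | succ i =>
      have ih' := ih ((isWeaklyRegular_append_iff A l [r]).mp hA).1
      obtain ⟨T₀⟩ := ih' i
      obtain ⟨T₁⟩ := ih' (i + 1)
      have hle := TorRegular.ofList_le_snoc A l r
      have hreg := TorRegular.isSMulRegular_quot_of_snoc A l r hA
      have hex := TorRegular.exact_quot_snoc A l r
      have hπ : Function.Surjective (Submodule.factor hle) := Submodule.factor_surjective _
      have hι := TorLinear.smulId_injective r hreg
      have hS := sesSC_shortExact _ _ hι hex hπ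
      have hr : r ∈ Ideal.ofList (l ++ [r]) := Ideal.subset_span (by simp)
      refine ⟨(NatIso.split hr hS (T₀.restrict hle) (T₁.restrict hle)).cast ?_⟩
      rw [List.length_append, List.length_singleton, Nat.choose_succ_succ]

/-- EGA III 1.1.? / SGA 2: `Extⁱ_A(A/J, M) ≃ M^(p choose i)` for `J` generated by a regular
sequence of length `p` and `M` killed by `J`. -/
theorem nonempty_linearEquiv (l : List A) (hA : IsWeaklyRegular A l) (M : Type u)
    [AddCommGroup M] [Module A M] (hM : Ideal.ofList l • (⊤ : Submodule A M) = ⊥) (i : ℕ) :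
    Nonempty (Ext (ModuleCat.of A (A ⧸ Ideal.ofList l)) (ModuleCat.of A M) i ≃ₗ[A]
      (Fin (l.length.choose i) → M)) := by
  obtain ⟨T⟩ := nonempty_natIso l hA i
  exact ⟨T.φ M hM⟩

end Main

end Groth.Agent.Lib.Helper29.ExtKilled
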