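import Groth.Agent.Lib.Helper49.CMFibre
import Groth.Agent.Lib.Helper49.StalkLoc
import Groth.Agent.Lib.Helper33.GorDescent
import Groth.Agent.Lib.Helper33.GorPoly
import Groth.Agent.Lib.Helper33.GorRing
import Groth.Agent.Lib.Helper28.CMRingAux
import Groth.Agent.Lib.Helper29.CodepthOpen
import Groth.Agent.Lib.Helper29.Linkage4

/-!
# Cohen–Macaulay / Gorenstein: localizations, Laurent polynomial rings

General lemmas used for the extended Rees algebra.
-/

set_option autoImplicit false
set_option linter.unusedSectionVars false
set_option linter.style.haveILetI false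
set_option linter.deprecated false
universe u

namespace Groth.Agent.Lib.Helper29.ExtRees

open IsLocalRing LaurentPolynomial
open Groth.Agent.Lib.Helper29
open Groth.Agent.Lib.Helper33.GorTransfer

section Localization

variable {R : Type u} [CommRing R]

/-- A localization of a Cohen–Macaulay ring is Cohen–Macaulay. -/
theorem isCohenMacaulayRing_of_isLocalization (M : Submonoid R)
    (S : Type u) [CommRing S] [Algebra R S] [IsLocalization M S]
    [hR : LocCoh.IsCohenMacaulayRing R] : LocCoh.IsCohenMacaulayRing S := by
  haveI : IsNoetherianRing S := IsLocalization.isNoetherianRing M S inferInstance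
  refine ⟨?_⟩
  intro P hP
  haveI : (P.comap (algebraMap R S)).IsPrime := Ideal.comap_isPrime _ _
  haveI : IsLocalization.AtPrime (Localization.AtPrime P) (P.comap (algebraMap R S)) :=
    IsLocalization.isLocalization_isLocalization_atPrime_isLocalization M
      (Localization.AtPrime P) P
  have key := hR.isCohenMacaulayLocalRing_localization (P.comap (algebraMap R S))
  exact Groth.Agent.Lib.Helper49.StalkLoc.isCohenMacaulayLocalRing_of_ringEquiv
    (IsLocalization.algEquiv (P.comap (algebraMap R S)).primeCompl
      (Localization.AtPrime (P.comap (algebraMap R S))) (Localization.AtPrime P)).toRingEquiv key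

/-- Localization at a prime of a localization. -/
theorem nonempty_ringEquiv_localization_comap (M : Submonoid R)
    (S : Type u) [CommRing S] [Algebra R S] [IsLocalization M S] (P : Ideal S) [P.IsPrime] :
    ∃ (_ : (P.comap (algebraMap R S)).IsPrime),
      Nonempty (Localization.AtPrime (P.comap (algebraMap R S)) ≃+* Localization.AtPrime P) := by
  haveI : (P.comap (algebraMap R S)).IsPrime := Ideal.comap_isPrime _ _
  haveI : IsLocalization.AtPrime (Localization.AtPrime P) (P.comap (algebraMap R S)) :=
    IsLocalization.isLocalization_isLocalization_atPrime_isLocalization M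
      (Localization.AtPrime P) P
  exact ⟨inferInstance, ⟨(IsLocalization.algEquiv (P.comap (algebraMap R S)).primeCompl
      (Localization.AtPrime (P.comap (algebraMap R S))) (Localization.AtPrime P)).toRingEquiv⟩⟩

theorem cmLocal_transport (P P' : Ideal R) [P.IsPrime] [P'.IsPrime] (h : P = P')
    (hg : LocCoh.IsCohenMacaulayLocalRing (Localization.AtPrime P)) :
    LocCoh.IsCohenMacaulayLocalRing (Localization.AtPrime P') := by
  subst h
  exact hg

theorem gorLocal_transport (P P' : Ideal R) [P.IsPrime] [P'.IsPrime] (h : P = P')
    (hg : LocCoh.IsGorensteinLocalRing (Localization.AtPrime P)) :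
    LocCoh.IsGorensteinLocalRing (Localization.AtPrime P') := by
  subst h
  exact hg

/-- If `R_Q` is Cohen–Macaulay and `P ≤ Q` then `R_P` is Cohen–Macaulay. -/
theorem cmLocal_of_le (P Q : Ideal R) [P.IsPrime] [Q.IsPrime] (h : P ≤ Q)
    (hQ : LocCoh.IsCohenMacaulayLocalRing (Localization.AtPrime Q)) :
    LocCoh.IsCohenMacaulayLocalRing (Localization.AtPrime P) := by
  have hring : LocCoh.IsCohenMacaulayRing (Localization.AtPrime Q) :=
    CodepthOpen.isCohenMacaulayRing_of_local _
  have hdisj : Disjoint (Q.primeCompl : Set R) (P : Set R) := by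
    rw [Set.disjoint_left]
    intro x hx hxP
    exact hx (h hxP)
  have hprime : (P.map (algebraMap R (Localization.AtPrime Q))).IsPrime :=
    IsLocalization.isPrime_of_isPrime_disjoint Q.primeCompl _ P inferInstance hdisj
  have hcomap : (P.map (algebraMap R (Localization.AtPrime Q))).comap
      (algebraMap R (Localization.AtPrime Q)) = P :=
    IsLocalization.comap_map_of_isPrime_disjoint Q.primeCompl _ inferInstance hdisj
  obtain ⟨hp, ⟨e⟩⟩ := nonempty_ringEquiv_localization_comap Q.primeCompl
    (Localization.AtPrime Q) (P.map (algebraMap R (Localization.AtPrime Q)))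
  have h1 := hring.isCohenMacaulayLocalRing_localization
    (P.map (algebraMap R (Localization.AtPrime Q)))
  have h2 := Groth.Agent.Lib.Helper49.StalkLoc.isCohenMacaulayLocalRing_of_ringEquiv e.symm h1
  exact cmLocal_transport _ P hcomap h2

/-- If `R_Q` is Gorenstein and `P ≤ Q` then `R_P` is Gorenstein. -/
theorem gorLocal_of_le (P Q : Ideal R) [P.IsPrime] [Q.IsPrime] (h : P ≤ Q)
    (hQ : LocCoh.IsGorensteinLocalRing (Localization.AtPrime Q)) :
    LocCoh.IsGorensteinLocalRing (Localization.AtPrime P) := by
  have hring : LocCoh.IsGorensteinRing (Localization.AtPrime Q) :=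
    Groth.Agent.Lib.Helper33.GorDescent.isGorensteinRing_of_isGorensteinLocalRing _
  have hdisj : Disjoint (Q.primeCompl : Set R) (P : Set R) := by
    rw [Set.disjoint_left]
    intro x hx hxP
    exact hx (h hxP)
  have hprime : (P.map (algebraMap R (Localization.AtPrime Q))).IsPrime :=
    IsLocalization.isPrime_of_isPrime_disjoint Q.primeCompl _ P inferInstance hdisj
  have hcomap : (P.map (algebraMap R (Localization.AtPrime Q))).comap
      (algebraMap R (Localization.AtPrime Q)) = P :=
    IsLocalization.comap_map_of_isPrime_disjoint Q.primeCompl _ inferInstance hdisj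
  obtain ⟨hp, ⟨e⟩⟩ := nonempty_ringEquiv_localization_comap Q.primeCompl
    (Localization.AtPrime Q) (P.map (algebraMap R (Localization.AtPrime Q)))
  have h1 := hring.isGorensteinLocalRing_localization
    (P.map (algebraMap R (Localization.AtPrime Q)))
  have h2 := gorenstein_of_ringEquiv e.symm h1
  exact gorLocal_transport _ P hcomap h2

end Localization

end Groth.Agent.Lib.Helper29.ExtRees
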