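import Groth.Agent.Lib.Helper29.ExtRees9
import Groth.Agent.Lib.Helper49.DepthLoc

/-!
# `(S_2)` descends from the extended Rees algebra to the Rees algebra
-/

set_option autoImplicit false
set_option linter.unusedSectionVars false
set_option linter.style.haveILetI false
set_option linter.deprecated false
set_option linter.overlappingInstances false
universe u

namespace Groth.Agent.Lib.Helper29.ExtRees

open IsLocalRing LaurentPolynomial AssocGr Polynomial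
open Groth.Agent.Lib.Helper29
open Groth.Agent.Lib.Helper49.Serre Groth.Agent.Lib.Helper49.SkLift

section MonoR

variable {A : Type u} [CommRing A] (𝓕 : FiltBl.IdealFiltration A)

/-- The monomial `b X^n` as an element of the Rees algebra. -/
noncomputable def monoR (n : ℕ) (b : A) (hb : b ∈ 𝓕.F n) : 𝓕.rees :=
  ⟨Polynomial.monomial n b, fun m => by
    rw [Polynomial.coeff_monomial]
    split_ifs with h
    · subst h; exact hb
    · exact Ideal.zero_mem _⟩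

@[simp] theorem coe_monoR (n : ℕ) (b : A) (hb : b ∈ 𝓕.F n) :
    (monoR 𝓕 n b hb : A[X]) = Polynomial.monomial n b := rfl

theorem toExt_injective : Function.Injective (toExt 𝓕) := by
  intro x y h
  have h1 := congrArg (fun z : 𝓕.extRees => (z : A[T;T⁻¹])) h
  simp only [coe_toExt] at h1
  exact Subtype.ext (Polynomial.toLaurent_injective h1)

theorem coe_toExt_monoR (n : ℕ) (b : A) (hb : b ∈ 𝓕.F n) :
    ((toExt 𝓕 (monoR 𝓕 n b hb) : 𝓕.extRees) : A[T;T⁻¹]) = AddMonoidAlgebra.single (n : ℤ) b := by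
  rw [coe_toExt, coe_monoR, Polynomial.toLaurent_C_mul_T, ← single_eq_C_mul_T]

theorem pow_mem_F {m : ℕ} {b : A} (hb : b ∈ 𝓕.F m) (N : ℕ) : b ^ N ∈ 𝓕.F (N * m) := by
  induction N with
  | zero => simp [𝓕.zero_eq]
  | succ N ih =>
    rw [pow_succ, Nat.succ_mul]
    exact 𝓕.mul_le _ _ (Ideal.mul_mem_mul ih hb)

/-- Every element of the extended Rees algebra is carried into the Rees algebra by a power of
`b X^m`, `m ≥ 1`. -/
theorem exists_toExt_eq_pow_mul (m : ℕ) (hm : 1 ≤ m) (b : A) (hb : b ∈ 𝓕.F m) (y : 𝓕.extRees) :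
    ∃ (k : ℕ) (r : 𝓕.rees), toExt 𝓕 r = toExt 𝓕 (monoR 𝓕 m b hb) ^ k * y := by
  classical
  set σ : 𝓕.extRees := toExt 𝓕 (monoR 𝓕 m b hb) with hσ
  have mono : ∀ (x : 𝓕.extRees) (k j : ℕ), (∃ r : 𝓕.rees, toExt 𝓕 r = σ ^ k * x) →
      ∃ r : 𝓕.rees, toExt 𝓕 r = σ ^ (k + j) * x := by
    rintro x k j ⟨r, hr⟩
    refine ⟨monoR 𝓕 m b hb ^ j * r, ?_⟩
    rw [map_mul, map_pow, hr, ← hσ, pow_add]
    ring
  have hsum : ∀ (S : Finset ℤ) (t : ℤ → 𝓕.extRees),
      (∀ z, ∃ (k : ℕ) (r : 𝓕.rees), toExt 𝓕 r = σ ^ k * t z) →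
      ∃ (k : ℕ) (r : 𝓕.rees), toExt 𝓕 r = σ ^ k * ∑ z ∈ S, t z := by
    intro S t ht
    induction S using Finset.induction_on with
    | empty => exact ⟨0, 0, by simp⟩
    | insert z S hz ih =>
      obtain ⟨k₁, r₁, h₁⟩ := ih
      obtain ⟨k₂, hk₂⟩ := ht z
      obtain ⟨r₁', h₁'⟩ := mono _ k₁ k₂ ⟨r₁, h₁⟩
      obtain ⟨r₂', h₂'⟩ := mono _ k₂ k₁ hk₂
      refine ⟨k₁ + k₂, r₂' + r₁', ?_⟩
      rw [Finset.sum_insert hz, map_add, h₁', h₂', mul_add, add_comm k₂ k₁]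
  rw [← sum_termL 𝓕 y]
  apply hsum
  intro z
  by_cases hz : 0 ≤ z
  · rw [termL_eq_toExt 𝓕 y hz]
    exact ⟨0, _, by rw [pow_zero, one_mul]⟩
  · have hz' : z < 0 := lt_of_not_ge hz
    set N : ℕ := (-z).toNat with hN
    have hbN : b ^ N * (y : A[T;T⁻¹]).coeff z ∈ 𝓕.F (((N * m : ℕ) : ℤ) + z).toNat := by
      have h1 : b ^ N ∈ 𝓕.F (N * m) := pow_mem_F 𝓕 hb N
      have h2 : b ^ N ∈ 𝓕.F (((N * m : ℕ) : ℤ) + z).toNat := 𝓕.antitone (by omega) h1
      exact Ideal.mul_mem_right _ _ h2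
    refine ⟨N, monoR 𝓕 _ _ hbN, ?_⟩
    refine Subtype.ext ?_
    rw [coe_toExt_monoR, Subalgebra.coe_mul, SubmonoidClass.coe_pow, hσ, coe_toExt_monoR,
      coe_termL, AddMonoidAlgebra.single_pow, AddMonoidAlgebra.single_mul_single]
    congr 1
    have h3 : 0 ≤ ((N * m : ℕ) : ℤ) + z := by
      have : (N : ℤ) = -z := by omega
      have h4 : (N : ℤ) ≤ (N : ℤ) * (m : ℤ) := by
        have : (1 : ℤ) ≤ m := by exact_mod_cast hm
        nlinarith
      push_cast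
      omega
    rw [Int.toNat_of_nonneg h3]
    push_cast
    simp

/-- Every polynomial is carried into the Rees algebra by a power of an element of `F¹`. -/
theorem exists_coe_eq_pow_mul (b : A) (hb : b ∈ 𝓕.F 1) (y : A[X]) :
    ∃ (k : ℕ) (r : 𝓕.rees), (algebraMap 𝓕.rees A[X]) r =
      (algebraMap 𝓕.rees A[X]) (algebraMap A 𝓕.rees b) ^ k * y := by
  refine ⟨y.natDegree, ⟨Polynomial.C b ^ y.natDegree * y, ?_⟩, rfl⟩
  intro n
  rw [← Polynomial.C_pow, Polynomial.coeff_C_mul]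
  by_cases hn : n ≤ y.natDegree
  · have h1 : b ^ y.natDegree ∈ 𝓕.F (y.natDegree * 1) := pow_mem_F 𝓕 hb _
    rw [mul_one] at h1
    exact Ideal.mul_mem_right _ _ (𝓕.antitone hn h1)
  · rw [Polynomial.coeff_eq_zero_of_natDegree_lt (lt_of_not_ge hn), mul_zero]
    exact Ideal.zero_mem _

end MonoR

end Groth.Agent.Lib.Helper29.ExtRees
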