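import Groth.Agent.Lib.Helper29.ExtRees10

/-!
# `(S_2)` descends from the extended Rees algebra to the Rees algebra: the irrelevant primes
-/

set_option autoImplicit false
set_option linter.unusedSectionVars false
set_option linter.style.haveILetI false
set_option linter.deprecated false
set_option linter.overlappingInstances false
universe u

namespace Groth.Agent.Lib.Helper29.ExtRees

open IsLocalRing LaurentPolynomial AssocGr Polynomial Pointwise
open Groth.Agent.Lib.Helper29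
open Groth.Agent.Lib.Helper49.Serre Groth.Agent.Lib.Helper49.SkLift

section CaseC

variable {A : Type u} [CommRing A] (𝓕 : FiltBl.IdealFiltration A)

theorem coe_algebraMap_rees (b : A) : ((algebraMap A 𝓕.rees b : 𝓕.rees) : A[X]) = Polynomial.C b :=
  rfl

theorem isSMulRegular_algebraMap_rees {a : A} (hareg : ∀ c : A, c * a = 0 → c = 0) :
    IsSMulRegular 𝓕.rees (algebraMap A 𝓕.rees a) := by
  intro x y h
  have h1 : algebraMap A 𝓕.rees a * x = algebraMap A 𝓕.rees a * y := h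
  refine Subtype.ext (Polynomial.ext fun n => ?_)
  have h2 := congrArg (fun z : 𝓕.rees => (z : A[X]).coeff n) h1
  simp only [Subalgebra.coe_mul, coe_algebraMap_rees, Polynomial.coeff_C_mul] at h2
  have h3 : ((x : A[X]).coeff n - (y : A[X]).coeff n) * a = 0 := by linear_combination h2
  exact sub_eq_zero.mp (hareg _ h3)

variable [IsNoetherianRing A]

/-- The irrelevant primes of the Rees algebra are not associated to `R/aR`. -/
theorem not_mem_ass_of_forall_mem (hfg : Algebra.FiniteType A 𝓕.rees)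
    (hG : LocCoh.HasSk 1 𝓕.Gr 𝓕.Gr) (a b₀ : A) (ha1 : a ∈ 𝓕.F 1) (hb₀ : b₀ ∈ 𝓕.F 1)
    (hareg : ∀ c : A, c * a = 0 → c = 0)
    (hbreg : ∀ c d : A, b₀ * c = a * d → ∃ e, c = a * e)
    (P : Ideal 𝓕.rees) [P.IsPrime]
    (hP1 : ∀ b ∈ 𝓕.F 1, algebraMap A 𝓕.rees b ∈ P)
    (hP2 : ∀ (m : ℕ), 1 ≤ m → ∀ (b : A) (hb : b ∈ 𝓕.F m), monoR 𝓕 m b hb ∈ P) :
    P ∉ associatedPrimes 𝓕.rees (QuotSMulTop (algebraMap A 𝓕.rees a) 𝓕.rees) := by
  classical
  have hnoe : IsNoetherianRing 𝓕.rees := Algebra.FiniteType.isNoetherianRing A 𝓕.rees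
  intro hass
  obtain ⟨-, ybar, hPeq⟩ := (isAssociatedPrime_iff).mp hass
  obtain ⟨y, rfl⟩ := Submodule.Quotient.mk_surjective _ ybar
  -- elements of `P` multiply `y` into `aR`
  have hmul : ∀ x ∈ P, ∃ z : 𝓕.rees, x * y = algebraMap A 𝓕.rees a * z := by
    intro x hx
    rw [hPeq, Submodule.mem_colon_singleton, Submodule.mem_bot, ← Submodule.Quotient.mk_smul,
      Submodule.Quotient.mk_eq_zero, Submodule.mem_smul_pointwise_iff_exists] at hx
    obtain ⟨z, -, hz⟩ := hx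
    exact ⟨z, hz.symm⟩
  have hcoeff : ∀ n : ℕ, ∃ d ∈ 𝓕.F n, (y : A[X]).coeff n = a * d := by
    intro n
    apply exists_mem_F_eq_mul 𝓕 hfg hG a b₀ ha1 hb₀ hareg hbreg n
    · intro b hb
      obtain ⟨z, hz⟩ := hmul _ (hP1 b hb)
      refine ⟨(z : A[X]).coeff n, z.2 n, ?_⟩
      have h2 := congrArg (fun w : 𝓕.rees => (w : A[X]).coeff n) hz
      simpa only [Subalgebra.coe_mul, coe_algebraMap_rees, Polynomial.coeff_C_mul] using h2
    · intro m hm b hb
      obtain ⟨z, hz⟩ := hmul _ (hP2 m hm b hb)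
      refine ⟨(z : A[X]).coeff (n + m), z.2 (n + m), ?_⟩
      have h2 := congrArg (fun w : 𝓕.rees => (w : A[X]).coeff (n + m)) hz
      simpa only [Subalgebra.coe_mul, coe_algebraMap_rees, Polynomial.coeff_C_mul, coe_monoR,
        Polynomial.coeff_monomial_mul] using h2
  choose d hdF hd using hcoeff
  have hz₀mem : (∑ n ∈ (y : A[X]).support, Polynomial.monomial n (d n)) ∈ 𝓕.rees := by
    intro k
    rw [Polynomial.finset_sum_coeff]
    refine Ideal.sum_mem _ fun n _ => ?_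
    rw [Polynomial.coeff_monomial]
    split_ifs with h
    · subst h; exact hdF n
    · exact Ideal.zero_mem _
  have hy : y = algebraMap A 𝓕.rees a * ⟨_, hz₀mem⟩ := by
    refine Subtype.ext (Polynomial.ext fun k => ?_)
    rw [Subalgebra.coe_mul, coe_algebraMap_rees, Polynomial.coeff_C_mul,
      Polynomial.finset_sum_coeff]
    simp only [Polynomial.coeff_monomial]
    rw [Finset.sum_ite_eq']
    split_ifs with h
    · exact hd k
    · rw [mul_zero]
      exact Polynomial.notMem_support_iff.mp h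
  have hzero : (Submodule.Quotient.mk y : QuotSMulTop (algebraMap A 𝓕.rees a) 𝓕.rees) = 0 := by
    rw [Submodule.Quotient.mk_eq_zero, Submodule.mem_smul_pointwise_iff_exists]
    exact ⟨_, trivial, hy.symm⟩
  have htop : P = ⊤ := by
    rw [hPeq, hzero, eq_top_iff]
    intro x _
    rw [Submodule.mem_colon_singleton, smul_zero]
    exact Submodule.zero_mem _
  exact (Ideal.IsPrime.ne_top inferInstance) htop

/-- The local rings of the Rees algebra at irrelevant primes have depth at least two. -/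
theorem two_le_depth_of_forall_mem (hfg : Algebra.FiniteType A 𝓕.rees)
    (hG : LocCoh.HasSk 1 𝓕.Gr 𝓕.Gr) (a b₀ : A) (ha1 : a ∈ 𝓕.F 1) (hb₀ : b₀ ∈ 𝓕.F 1)
    (hareg : ∀ c : A, c * a = 0 → c = 0)
    (hbreg : ∀ c d : A, b₀ * c = a * d → ∃ e, c = a * e)
    (P : Ideal 𝓕.rees) [P.IsPrime]
    (hP1 : ∀ b ∈ 𝓕.F 1, algebraMap A 𝓕.rees b ∈ P)
    (hP2 : ∀ (m : ℕ), 1 ≤ m → ∀ (b : A) (hb : b ∈ 𝓕.F m), monoR 𝓕 m b hb ∈ P) :
    2 ≤ LocCoh.depth (Localization.AtPrime P) (Localization.AtPrime P) := by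
  have hnoe : IsNoetherianRing 𝓕.rees := Algebra.FiniteType.isNoetherianRing A 𝓕.rees
  have hnot := not_mem_ass_of_forall_mem 𝓕 hfg hG a b₀ ha1 hb₀ hareg hbreg P hP1 hP2
  have h1 := depth_localizedModule_quotSMulTop_add_one' 𝓕.rees P (hP1 a ha1)
    (isSMulRegular_algebraMap_rees 𝓕 hareg)
  have h0 : LocCoh.depth (Localization.AtPrime P)
      (LocalizedModule P.primeCompl (QuotSMulTop (algebraMap A 𝓕.rees a) 𝓕.rees)) ≠ 0 :=
    fun h => hnot ((depth_localizedModule_eq_zero_iff _ P).mp h)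
  rw [← depth_localizedModule_self, ← h1]
  have h2 : (1 : ℕ∞) ≤ LocCoh.depth (Localization.AtPrime P)
      (LocalizedModule P.primeCompl (QuotSMulTop (algebraMap A 𝓕.rees a) 𝓕.rees)) :=
    Order.one_le_iff_ne_zero.mpr h0
  calc (2 : ℕ∞) = 1 + 1 := by norm_num
    _ ≤ _ := add_le_add_left h2 1

end CaseC

section Main

variable {A : Type u} [CommRing A] [IsNoetherianRing A] [IsLocalRing A]
  (𝓕 : FiltBl.IdealFiltration A)

/-- **`(S_2)` descends from the extended Rees algebra to the Rees algebra.** -/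
theorem hasS2_rees_of_extRees (hsep : ⨅ n, 𝓕.F n = ⊥) (hfg : Algebra.FiniteType A 𝓕.rees)
    (hht : 2 ≤ (𝓕.F 1).height) (h : LocCoh.HasSk 2 𝓕.extRees 𝓕.extRees) :
    LocCoh.HasSk 2 𝓕.rees 𝓕.rees := by
  have hnoeR : IsNoetherianRing 𝓕.rees := Algebra.FiniteType.isNoetherianRing A 𝓕.rees
  have hnoe := isNoetherianRing_extRees 𝓕 hfg
  obtain ⟨hG, hA⟩ := (hasS2_extRees_iff 𝓕 hfg).mp h
  have hF1 : 𝓕.F 1 ≤ maximalIdeal A := F_one_le_maximalIdeal 𝓕 hsep
  have hIM : 𝓕.F 1 • (⊤ : Submodule A A) ≠ ⊤ := by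
    rw [smul_eq_mul, Ideal.mul_top]
    intro htop
    rw [htop] at hF1
    exact (Ideal.IsPrime.ne_top (inferInstance : (maximalIdeal A).IsPrime)) (top_le_iff.mp hF1)
  have h2 : ((2 : ℕ) : ℕ∞) ≤ LocCoh.idealDepth (𝓕.F 1) A := by
    apply le_idealDepth_of_hasSk 2 A (𝓕.F 1) hA
    intro p hp _
    have : p.asIdeal.IsPrime := p.2
    rw [supportDim_localizedModule_self]
    have h3 : (2 : ℕ∞) ≤ p.asIdeal.height := hht.trans (Ideal.height_mono hp)
    have h4 : ((2 : ℕ∞) : WithBot ℕ∞) ≤ (p.asIdeal.height : WithBot ℕ∞) :=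
      WithBot.coe_le_coe.mpr h3
    exact h4
  obtain ⟨rs, hreg, hmem, -, hlen⟩ := DepthLib.exists_maximal_regular (𝓕.F 1) A hIM
  rw [← hlen] at h2
  obtain ⟨a, b₀, ha1, hb₀, hareg, hbreg⟩ : ∃ a b₀ : A, a ∈ 𝓕.F 1 ∧ b₀ ∈ 𝓕.F 1 ∧
      (∀ c : A, c * a = 0 → c = 0) ∧ (∀ c d : A, b₀ * c = a * d → ∃ e, c = a * e) := by
    match rs, hreg, hmem, h2 with
    | [], _, _, h2 => simp at h2
    | [_], _, _, h2 => norm_num at h2
    | a :: b₀ :: rest, hreg, hmem, _ =>
      refine ⟨a, b₀, hmem a (by simp), hmem b₀ (by simp), ?_, ?_⟩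
      · have h3 := ((RingTheory.Sequence.isWeaklyRegular_cons_iff A a _).mp hreg).1
        intro c hc
        apply h3
        show a • c = a • 0
        rw [smul_zero, smul_eq_mul, mul_comm]
        exact hc
      · have h3 := ((RingTheory.Sequence.isWeaklyRegular_cons_iff A a _).mp hreg).2
        have h4 := ((RingTheory.Sequence.isWeaklyRegular_cons_iff _ b₀ _).mp h3).1
        intro c d hcd
        have h5 : b₀ • (Submodule.Quotient.mk c : QuotSMulTop a A) = b₀ • 0 := by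
          rw [smul_zero, ← Submodule.Quotient.mk_smul, Submodule.Quotient.mk_eq_zero,
            Submodule.mem_smul_pointwise_iff_exists]
          exact ⟨d, trivial, by rw [smul_eq_mul, smul_eq_mul, hcd]⟩
        have h6 := h4 h5
        rw [Submodule.Quotient.mk_eq_zero, Submodule.mem_smul_pointwise_iff_exists] at h6
        obtain ⟨e, -, he⟩ := h6
        exact ⟨e, he.symm⟩
  rw [hasSk_self_iff']
  intro P hP
  by_cases hA' : ∃ (m : ℕ) (_ : 1 ≤ m) (b : A) (hb : b ∈ 𝓕.F m), monoR 𝓕 m b hb ∉ P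
  · obtain ⟨m, hm, b, hb, hnot⟩ := hA'
    obtain ⟨P', hP', -, ⟨e⟩⟩ := exists_ringEquiv_of_forall_exists
      (toExt 𝓕 : 𝓕.rees →+* 𝓕.extRees) (toExt_injective 𝓕) (monoR 𝓕 m b hb)
      (exists_toExt_eq_pow_mul 𝓕 m hm b hb) P hnot
    obtain ⟨h3, h4⟩ := height_depth_of_ringEquiv P P' e
    rw [h3, h4]
    exact (hasSk_self_iff' _ 2).mp h P'
  by_cases hB : ∃ b ∈ 𝓕.F 1, algebraMap A 𝓕.rees b ∉ P
  · obtain ⟨b, hb, hnot⟩ := hB
    obtain ⟨P', hP', -, ⟨e⟩⟩ := exists_ringEquiv_of_forall_exists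
      (algebraMap 𝓕.rees A[X]) Subtype.val_injective (algebraMap A 𝓕.rees b)
      (exists_coe_eq_pow_mul 𝓕 b hb) P hnot
    obtain ⟨h3, h4⟩ := height_depth_of_ringEquiv P P' e
    rw [h3, h4]
    exact (hasSk_self_iff' _ 2).mp (hasSk_polynomial A 2 hA) P'
  · push Not at hA' hB
    refine (min_le_left _ _).trans ?_
    exact two_le_depth_of_forall_mem 𝓕 hfg hG a b₀ ha1 hb₀ hareg hbreg P hB
      (fun m hm b hb => hA' m hm b hb)

end Main

end Groth.Agent.Lib.Helper29.ExtRees
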