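import Groth.Agent.Lib.Helper29.ExtRees11

/-!
# Unique factorization: Nagata's criterion for one prime, Laurent polynomial rings
-/

set_option autoImplicit false
set_option linter.unusedSectionVars false
set_option linter.style.haveILetI false
set_option linter.deprecated false
set_option linter.overlappingInstances false
universe u

namespace Groth.Agent.Lib.Helper29.ExtRees

open IsLocalRing LaurentPolynomial AssocGr
open Groth.Agent.Lib.Helper29

section Nagata

variable {R : Type u} [CommRing R] [IsDomain R] [WfDvdMonoid R]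

/-- **Nagata's criterion** for the powers of one prime element. -/
theorem ufm_of_prime_of_away (u : R) (hu : Prime u) (L : Type u) [CommRing L] [IsDomain L]
    [Algebra R L] [IsLocalization.Away u L] [UniqueFactorizationMonoid L] :
    UniqueFactorizationMonoid R := by
  have hinj : Function.Injective (algebraMap R L) :=
    IsLocalization.injective L (M := Submonoid.powers u)
      (Submonoid.powers_le.mpr (mem_nonZeroDivisors_of_ne_zero hu.ne_zero))
  have hunit : ∀ n : ℕ, IsUnit (algebraMap R L (u ^ n)) := fun n =>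
    IsLocalization.map_units L (⟨u ^ n, n, rfl⟩ : Submonoid.powers u)
  -- divisibility descends for elements not divisible by `u`
  have hdvd : ∀ x' a : R, ¬ u ∣ x' → algebraMap R L x' ∣ algebraMap R L a → x' ∣ a := by
    intro x' a hx' ⟨g, hg⟩
    obtain ⟨⟨c, ⟨_, n, rfl⟩⟩, hc⟩ := IsLocalization.surj (Submonoid.powers u) g
    simp only at hc
    have h1 : a * u ^ n = x' * c := by
      apply hinj
      rw [map_mul, map_mul, hg, ← hc]
      ring
    have h2 : u ^ n ∣ x' * c := ⟨a, by rw [← h1]; ring⟩
    obtain ⟨c', rfl⟩ := hu.pow_dvd_of_dvd_mul_left n hx' h2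
    refine ⟨c', ?_⟩
    have h3 : u ^ n * a = u ^ n * (x' * c') := by rw [mul_comm, h1]; ring
    exact mul_left_cancel₀ (pow_ne_zero n hu.ne_zero) h3
  apply UniqueFactorizationMonoid.iff_exists_prime_mem_of_isPrime.mpr
  intro P hP0 hPprime
  by_cases huP : u ∈ P
  · exact ⟨u, huP, hu⟩
  have hdisj : Disjoint (Submonoid.powers u : Set R) (P : Set R) := by
    rw [Set.disjoint_left]
    rintro x ⟨n, rfl⟩ hx
    exact huP (Ideal.IsPrime.mem_of_pow_mem inferInstance n hx)
  set P'' : Ideal L := P.map (algebraMap R L) with hP''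
  have hprime : P''.IsPrime :=
    IsLocalization.isPrime_of_isPrime_disjoint (Submonoid.powers u) _ P inferInstance hdisj
  have hcomap : P''.comap (algebraMap R L) = P :=
    IsLocalization.comap_map_of_isPrime_disjoint (Submonoid.powers u) _ inferInstance hdisj
  have hne : P'' ≠ ⊥ := by
    intro hbot
    apply hP0
    rw [eq_bot_iff]
    intro x hx
    have h1 : algebraMap R L x ∈ P'' := Ideal.mem_map_of_mem _ hx
    rw [hbot, Ideal.mem_bot] at h1
    rw [Ideal.mem_bot]
    exact hinj (by rw [h1, map_zero])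
  obtain ⟨π, hπP, hπ⟩ := Ideal.IsPrime.exists_mem_prime_of_ne_bot hprime hne
  obtain ⟨⟨x, ⟨_, n, rfl⟩⟩, hx⟩ := IsLocalization.surj (Submonoid.powers u) π
  simp only at hx
  have hx0 : x ≠ 0 := by
    rintro rfl
    rw [map_zero] at hx
    rcases mul_eq_zero.mp hx with h | h
    · exact hπ.ne_zero h
    · exact (hunit n).ne_zero h
  obtain ⟨j, x', hx', rfl⟩ := WfDvdMonoid.max_power_factor hx0 hu.irreducible
  have hassoc : Associated π (algebraMap R L x') := by
    obtain ⟨v, hv⟩ := hunit n
    obtain ⟨w, hw⟩ := hunit j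
    refine ⟨v * w⁻¹, ?_⟩
    rw [Units.val_mul, ← mul_assoc, hv, hx, map_mul, ← hw, mul_comm (w : L), mul_assoc,
      Units.mul_inv, mul_one]
  have hprimeL : Prime (algebraMap R L x') := hassoc.prime hπ
  have hx'P : x' ∈ P := by
    have h1 : algebraMap R L x' ∈ P'' := by
      obtain ⟨v, hv⟩ := hassoc
      rw [← hv]
      exact P''.mul_mem_right _ hπP
    have h2 : x' ∈ P''.comap (algebraMap R L) := h1
    rwa [hcomap] at h2
  refine ⟨x', hx'P, ?_, ?_, ?_⟩
  · rintro rfl
    exact hprimeL.ne_zero (map_zero _)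
  · intro hun
    exact hprimeL.not_unit (hun.map (algebraMap R L))
  · intro a b hab
    have h1 : algebraMap R L x' ∣ algebraMap R L a * algebraMap R L b := by
      rw [← map_mul]
      exact map_dvd (algebraMap R L) hab
    rcases hprimeL.dvd_or_dvd h1 with h | h
    · exact Or.inl (hdvd x' a hx' h)
    · exact Or.inr (hdvd x' b hx' h)

end Nagata

section Mono

variable {A : Type u} [CommRing A] [IsDomain A]

/-- In a Laurent polynomial ring over a domain, divisors of monomials are monomials. -/
theorem exists_single_of_mul_eq_single (x y : A[T;T⁻¹]) (z : ℤ) (c : A) (hc : c ≠ 0)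
    (h : x * y = AddMonoidAlgebra.single z c) :
    ∃ (z₁ : ℤ) (c₁ : A), x = AddMonoidAlgebra.single z₁ c₁ := by
  obtain ⟨n₁, p₁, h₁⟩ := exists_T_pow x
  obtain ⟨n₂, p₂, h₂⟩ := exists_T_pow y
  set N : ℤ := z + n₁ + n₂ with hN
  have h3 : Polynomial.toLaurent (p₁ * p₂) = AddMonoidAlgebra.single N c := by
    rw [map_mul, h₁, h₂]
    calc x * T n₁ * (y * T n₂) = (x * y) * (T n₁ * T n₂) := by ring
      _ = AddMonoidAlgebra.single N c := by
        rw [h, ← T_add, single_eq_C_mul_T, single_eq_C_mul_T, mul_assoc, ← T_add, hN, add_assoc]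
  have hN0 : 0 ≤ N := by
    by_contra hneg
    have h4 := congrArg (fun f : A[T;T⁻¹] => f.coeff N) h3
    simp only [AssocGr.coeff_toLaurent, AddMonoidAlgebra.coeff_single,
      Finsupp.single_eq_same] at h4
    rw [if_neg hneg] at h4
    exact hc h4.symm
  have h4 : p₁ * p₂ = Polynomial.monomial N.toNat c := by
    apply Polynomial.toLaurent_injective
    rw [h3, Polynomial.toLaurent_C_mul_T, ← single_eq_C_mul_T, Int.toNat_of_nonneg hN0]
  have hmne : Polynomial.monomial N.toNat c ≠ 0 := by
    rw [Ne, Polynomial.monomial_eq_zero_iff]; exact hc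
  have hp₁ : p₁ ≠ 0 := by
    rintro rfl; rw [zero_mul] at h4; exact hmne h4.symm
  have hp₂ : p₂ ≠ 0 := by
    rintro rfl; rw [mul_zero] at h4; exact hmne h4.symm
  have hd := Polynomial.natDegree_mul hp₁ hp₂
  have ht := Polynomial.natTrailingDegree_mul hp₁ hp₂
  rw [h4, Polynomial.natDegree_monomial_eq _ hc] at hd
  rw [h4, Polynomial.natTrailingDegree_monomial hc] at ht
  have hle₁ := Polynomial.natTrailingDegree_le_natDegree p₁
  have hle₂ := Polynomial.natTrailingDegree_le_natDegree p₂
  have heq : p₁.natTrailingDegree = p₁.natDegree := by omega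
  have hp₁mono : p₁ = Polynomial.monomial p₁.natDegree (p₁.coeff p₁.natDegree) := by
    ext n
    rw [Polynomial.coeff_monomial]
    split_ifs with hn
    · rw [hn]
    · rcases lt_or_gt_of_ne hn with hlt | hgt
      · exact Polynomial.coeff_eq_zero_of_natDegree_lt hlt
      · rw [← heq] at hgt
        exact Polynomial.coeff_eq_zero_of_lt_natTrailingDegree hgt
  obtain ⟨d, a, hda⟩ : ∃ (d : ℕ) (a : A), p₁ = Polynomial.monomial d a := ⟨_, _, hp₁mono⟩
  refine ⟨(d : ℤ) - n₁, a, ?_⟩
  have h5 : x = x * T n₁ * T (-(n₁ : ℤ)) := by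
    rw [mul_assoc, ← T_add, add_neg_cancel, T_zero, mul_one]
  rw [h5, ← h₁, hda, Polynomial.toLaurent_C_mul_T, mul_assoc, ← T_add, single_eq_C_mul_T,
    sub_eq_add_neg]

/-- Evaluation of Laurent polynomials at `T = 1`. -/
noncomputable def evalOne (A : Type u) [CommRing A] : A[T;T⁻¹] →+* A :=
  LaurentPolynomial.eval₂ (RingHom.id A) (1 : Aˣ)

omit [IsDomain A] in
theorem evalOne_single (z : ℤ) (c : A) : evalOne A (AddMonoidAlgebra.single z c) = c := by
  unfold evalOne
  rw [single_eq_C_mul_T, LaurentPolynomial.eval₂_C_mul_T]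
  simp

/-- If `A[T;T⁻¹]` is a unique factorization domain then so is `A`. -/
theorem ufm_of_ufm_laurent [UniqueFactorizationMonoid A[T;T⁻¹]] : UniqueFactorizationMonoid A := by
  apply UniqueFactorizationMonoid.of_exists_prime_factors
  intro a ha
  have hCa : (AddMonoidAlgebra.single (0 : ℤ) a : A[T;T⁻¹]) ≠ 0 := by
    intro h
    have := congrArg (evalOne A) h
    rw [evalOne_single, map_zero] at this
    exact ha this
  obtain ⟨f, hf, hfa⟩ := UniqueFactorizationMonoid.exists_prime_factors _ hCa
  refine ⟨f.map (evalOne A), ?_, ?_⟩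
  · intro c hc
    obtain ⟨p, hp, rfl⟩ := Multiset.mem_map.mp hc
    have hpprime := hf p hp
    have hdvd : p ∣ AddMonoidAlgebra.single (0 : ℤ) a :=
      (Multiset.dvd_prod hp).trans hfa.dvd
    obtain ⟨q, hq⟩ := hdvd
    obtain ⟨z, c, rfl⟩ := exists_single_of_mul_eq_single p q 0 a ha hq.symm
    rw [evalOne_single]
    have hc0 : c ≠ 0 := by
      rintro rfl
      exact hpprime.ne_zero (by simp)
    refine ⟨hc0, ?_, ?_⟩
    · intro hun
      apply hpprime.not_unit
      obtain ⟨v, rfl⟩ := hun
      refine IsUnit.of_mul_eq_one (AddMonoidAlgebra.single (-z) ((v⁻¹ : Aˣ) : A)) ?_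
      rw [AddMonoidAlgebra.single_mul_single, add_neg_cancel, Units.mul_inv]
      rfl
    · intro r s hrs
      obtain ⟨d, hd⟩ := hrs
      have h1 : (AddMonoidAlgebra.single z c : A[T;T⁻¹]) ∣
          AddMonoidAlgebra.single (0 : ℤ) r * AddMonoidAlgebra.single (0 : ℤ) s := by
        refine ⟨AddMonoidAlgebra.single (-z) d, ?_⟩
        rw [AddMonoidAlgebra.single_mul_single, AddMonoidAlgebra.single_mul_single, add_zero,
          add_neg_cancel, hd]
      rcases hpprime.dvd_or_dvd h1 with ⟨g, hg⟩ | ⟨g, hg⟩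
      · left
        refine ⟨evalOne A g, ?_⟩
        have := congrArg (evalOne A) hg
        rwa [map_mul, evalOne_single, evalOne_single] at this
      · right
        refine ⟨evalOne A g, ?_⟩
        have := congrArg (evalOne A) hg
        rwa [map_mul, evalOne_single, evalOne_single] at this
  · have h1 := hfa.map (evalOne A)
    rw [map_multiset_prod, evalOne_single] at h1
    exact h1

end Mono

end Groth.Agent.Lib.Helper29.ExtRees
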