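import Groth.Agent.Lib.Helper29.ExtRees12

/-!
# Unique factorization for the extended Rees algebra
-/

set_option autoImplicit false
set_option linter.unusedSectionVars false
set_option linter.style.haveILetI false
set_option linter.deprecated false
set_option linter.overlappingInstances false
universe u

namespace Groth.Agent.Lib.Helper29.ExtRees

open IsLocalRing LaurentPolynomial AssocGr
open Groth.Agent.Lib.Helper29

section UFD

variable {A : Type u} [CommRing A] [IsDomain A] (𝓕 : FiltBl.IdealFiltration A)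

theorem coeff_mem_of_coe_eq_single (x : 𝓕.extRees) (z : ℤ) (b : A)
    (h : (x : A[T;T⁻¹]) = AddMonoidAlgebra.single z b) : b ∈ 𝓕.F z.toNat := by
  have h1 := x.2 z
  rw [h, AddMonoidAlgebra.coeff_single, Finsupp.single_eq_same] at h1
  exact h1

theorem isUnit_of_coe_eq_single_zero (x : 𝓕.extRees) (b : A) (hb : IsUnit b)
    (h : (x : A[T;T⁻¹]) = AddMonoidAlgebra.single 0 b) : IsUnit x := by
  have h1 : x = algebraMap A 𝓕.extRees b := by
    refine Subtype.ext ?_
    rw [h, algebraMap_eq_monoE, coe_monoE]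
  rw [h1]
  exact hb.map _

/-- `u = T⁻¹` is irreducible in the extended Rees algebra when `F¹ ≠ A`. -/
theorem irreducible_u (hF1 : 𝓕.F 1 ≠ ⊤) : Irreducible 𝓕.u := by
  have hunitF : ∀ (z : ℤ) (b : A), IsUnit b → b ∈ 𝓕.F z.toNat → z ≤ 0 := by
    intro z b hb hbF
    by_contra hz
    apply hF1
    have h1 : b ∈ 𝓕.F 1 := 𝓕.antitone (by omega) hbF
    exact Ideal.eq_top_of_isUnit_mem _ h1 hb
  rw [irreducible_iff]
  constructor
  · intro hun
    obtain ⟨v, hv⟩ := hun.exists_right_inv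
    have h1 := congrArg (fun y : 𝓕.extRees => (y : A[T;T⁻¹])) hv
    simp only [Subalgebra.coe_mul, coe_u, Subalgebra.coe_one] at h1
    have h2 : (v : A[T;T⁻¹]) = T 1 := by
      calc (v : A[T;T⁻¹]) = T 1 * (T (-1) * (v : A[T;T⁻¹])) := by
            rw [← mul_assoc, ← T_add]; simp
        _ = T 1 := by rw [h1, mul_one]
    have h3 : (1 : A) ∈ 𝓕.F (1 : ℤ).toNat :=
      coeff_mem_of_coe_eq_single 𝓕 v 1 1 h2
    have := hunitF 1 1 isUnit_one h3
    omega
  · intro x y hxy
    have h1 := congrArg (fun y : 𝓕.extRees => (y : A[T;T⁻¹])) hxy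
    simp only [Subalgebra.coe_mul, coe_u] at h1
    have h2 : (x : A[T;T⁻¹]) * (y : A[T;T⁻¹]) = AddMonoidAlgebra.single (-1 : ℤ) (1 : A) :=
      h1.symm
    obtain ⟨z, b, hx⟩ := exists_single_of_mul_eq_single (x : A[T;T⁻¹]) (y : A[T;T⁻¹]) (-1) 1
      one_ne_zero h2
    obtain ⟨w, c, hy⟩ := exists_single_of_mul_eq_single (y : A[T;T⁻¹]) (x : A[T;T⁻¹]) (-1) 1
      one_ne_zero ((mul_comm _ _).trans h2)
    rw [hx, hy, AddMonoidAlgebra.single_mul_single] at h2
    have h3 : z + w = -1 ∧ b * c = 1 := by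
      have h4 := congrArg (fun f : A[T;T⁻¹] => f.coeff) h2
      simp only [AddMonoidAlgebra.coeff_single] at h4
      rcases (Finsupp.single_eq_single_iff _ _ _ _).mp h4 with h | h
      · exact h
      · exact absurd h.2 one_ne_zero
    obtain ⟨hzw, hbc⟩ := h3
    have hbu : IsUnit b := IsUnit.of_mul_eq_one c hbc
    have hcu : IsUnit c := IsUnit.of_mul_eq_one b ((mul_comm _ _).trans hbc)
    have hz := hunitF z b hbu (coeff_mem_of_coe_eq_single 𝓕 x z b hx)
    have hw := hunitF w c hcu (coeff_mem_of_coe_eq_single 𝓕 y w c hy)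
    have hor : z = 0 ∨ w = 0 := by omega
    rcases hor with rfl | rfl
    · exact Or.inl (isUnit_of_coe_eq_single_zero 𝓕 x b hbu hx)
    · exact Or.inr (isUnit_of_coe_eq_single_zero 𝓕 y c hcu hy)

variable [IsNoetherianRing A] [IsLocalRing A]

/-- **Unique factorization for the extended Rees algebra.** -/
theorem ufm_extRees_iff [IsDomain 𝓕.extRees] (hsep : ⨅ n, 𝓕.F n = ⊥)
    (hfg : Algebra.FiniteType A 𝓕.rees) :
    UniqueFactorizationMonoid 𝓕.extRees ↔ (UniqueFactorizationMonoid A ∧ IsDomain 𝓕.Gr) := by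
  have hnoe := isNoetherianRing_extRees 𝓕 hfg
  have hF1 : 𝓕.F 1 ≠ ⊤ := by
    intro htop
    have h1 := F_one_le_maximalIdeal 𝓕 hsep
    rw [htop] at h1
    exact (Ideal.IsPrime.ne_top (inferInstance : (maximalIdeal A).IsPrime)) (top_le_iff.mp h1)
  have hu0 : 𝓕.u ≠ 0 := nonZeroDivisors.ne_zero (u_mem_nonZeroDivisors 𝓕)
  constructor
  · intro hR
    have hL : UniqueFactorizationMonoid A[T;T⁻¹] :=
      UniqueFactorizationMonoid.of_isLocalization (M := 𝓕.extRees) (Submonoid.powers 𝓕.u)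
        A[T;T⁻¹]
    refine ⟨ufm_of_ufm_laurent, ?_⟩
    have hprime : Prime 𝓕.u :=
      UniqueFactorizationMonoid.irreducible_iff_prime.mp (irreducible_u 𝓕 hF1)
    have : (Ideal.span {𝓕.u}).IsPrime := (Ideal.span_singleton_prime hu0).mpr hprime
    exact (Ideal.Quotient.isDomain_iff_prime _).mpr this
  · rintro ⟨hA, hG⟩
    have hprime : Prime 𝓕.u :=
      (Ideal.span_singleton_prime hu0).mp ((Ideal.Quotient.isDomain_iff_prime _).mp hG)
    have hL : UniqueFactorizationMonoid A[T;T⁻¹] :=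
      UniqueFactorizationMonoid.of_isLocalization (M := Polynomial A)
        (Submonoid.powers (Polynomial.X : Polynomial A)) A[T;T⁻¹]
    exact ufm_of_prime_of_away 𝓕.u hprime A[T;T⁻¹]

end UFD

end Groth.Agent.Lib.Helper29.ExtRees
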