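import Groth.Agent.Lib.Helper29.ExtRees1

/-!
# Laurent polynomial rings: Cohen–Macaulay and Gorenstein
-/

set_option autoImplicit false
set_option linter.unusedSectionVars false
set_option linter.style.haveILetI false
set_option linter.deprecated false
universe u

namespace Groth.Agent.Lib.Helper29.ExtRees

open IsLocalRing LaurentPolynomial TensorProduct
open Groth.Agent.Lib.Helper29
open Groth.Agent.Lib.Helper33.GorTransfer Groth.Agent.Lib.Helper49.FibreSk
  Groth.Agent.Lib.Helper49.CMFibre

section Laurent

variable (A : Type u) [CommRing A]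

instance isNoetherianRing_laurent [IsNoetherianRing A] : IsNoetherianRing A[T;T⁻¹] :=
  IsLocalization.isNoetherianRing (Submonoid.powers (Polynomial.X : Polynomial A)) A[T;T⁻¹]
    inferInstance

theorem isDedekindDomain_laurent (k : Type u) [Field k] : IsDedekindDomain k[T;T⁻¹] := by
  have hM : Submonoid.powers (Polynomial.X : Polynomial k) ≤ nonZeroDivisors (Polynomial k) := by
    rw [Submonoid.powers_le]
    exact mem_nonZeroDivisors_of_ne_zero Polynomial.X_ne_zero
  exact IsLocalization.isDedekindDomain (Polynomial k) hM k[T;T⁻¹]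

theorem isRegularRing_laurent (k : Type u) [Field k] : IsRegularRing k[T;T⁻¹] := by
  have := isDedekindDomain_laurent k
  infer_instance

variable [IsNoetherianRing A]

/-- The fibres of `A → A[T;T⁻¹]` are Cohen–Macaulay. -/
theorem isCM_fiber_laurent (p : Ideal A) [p.IsPrime] :
    LocCoh.IsCohenMacaulayRing (p.Fiber A[T;T⁻¹]) := by
  have hreg := isRegularRing_laurent p.ResidueField
  have hcm : LocCoh.IsCohenMacaulayRing (p.ResidueField[T;T⁻¹]) :=
    Linkage.isCohenMacaulayRing_of_isRegularRing' _
  exact Groth.Agent.Lib.Helper28.CMRingAux.isCohenMacaulayRing_of_ringEquiv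
    (AddMonoidAlgebra.scalarTensorEquiv A p.ResidueField (M := ℤ)).toRingEquiv hcm

/-- Cohen–Macaulayness of localizations of `A[T;T⁻¹]`. -/
theorem cmLocal_laurent_iff (P : Ideal A[T;T⁻¹]) [P.IsPrime] :
    LocCoh.IsCohenMacaulayLocalRing (Localization.AtPrime P) ↔
      LocCoh.IsCohenMacaulayLocalRing (Localization.AtPrime (P.under A)) := by
  have h1 := depth_localization_eq_add (P.under A) P
  have h2 := height_eq_add' (P.under A) P
  have h3 : fibDim (P.under A) P = fibDepth (P.under A) P :=
    (isCM_fiber_iff (S := A[T;T⁻¹]) (P.under A)).1 (isCM_fiber_laurent A (P.under A)) P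
  rw [isCMLocal_iff, isCMLocal_iff, h1, h2, h3]
  have hfin : fibDepth (P.under A) P ≠ ⊤ := by
    intro htop
    have hP : P.height ≠ ⊤ := Ideal.height_ne_top (Ideal.IsPrime.ne_top inferInstance)
    rw [h2, h3, htop, add_top] at hP
    exact hP rfl
  constructor
  · intro h
    exact ENat.add_left_injective_of_ne_top hfin h
  · intro h
    rw [h]

/-- The Laurent polynomial ring over a Cohen–Macaulay ring is Cohen–Macaulay. -/
theorem isCohenMacaulayRing_laurent [hA : LocCoh.IsCohenMacaulayRing A] :
    LocCoh.IsCohenMacaulayRing A[T;T⁻¹] :=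
  isCM_of_flat_of_fibres (R := A) (fun p _ => isCM_fiber_laurent A p)

omit [IsNoetherianRing A] in
/-- The Laurent polynomial ring over a Gorenstein ring is Gorenstein. -/
theorem isGorensteinRing_laurent [hA : LocCoh.IsGorensteinRing A] :
    LocCoh.IsGorensteinRing A[T;T⁻¹] := by
  have h1 : LocCoh.IsGorensteinRing (Polynomial A) :=
    Groth.Agent.Lib.Helper33.GorPoly.isGorensteinRing_polynomial A
  exact Groth.Agent.Lib.Helper33.GorRing.isGorensteinRing_of_isLocalization
    (Submonoid.powers (Polynomial.X : Polynomial A)) A[T;T⁻¹]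

end Laurent

end Groth.Agent.Lib.Helper29.ExtRees
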