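import Groth.Agent.Lib.Helper29.ExtRees3

/-!
# The extended Rees algebra: `R'[u⁻¹] = A[T;T⁻¹]`, finite type
-/

set_option autoImplicit false
set_option linter.unusedSectionVars false
set_option linter.style.haveILetI false
set_option linter.deprecated false
universe u

namespace Groth.Agent.Lib.Helper29.ExtRees

open IsLocalRing LaurentPolynomial AssocGr
open Groth.Agent.Lib.Helper29

section ER

variable {A : Type u} [CommRing A] (𝓕 : FiltBl.IdealFiltration A)

theorem algebraMap_extRees (x : 𝓕.extRees) :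
    algebraMap 𝓕.extRees A[T;T⁻¹] x = (x : A[T;T⁻¹]) := rfl

theorem coe_u_pow (n : ℕ) : ((𝓕.u ^ n : 𝓕.extRees) : A[T;T⁻¹]) = T (-(n : ℤ)) := by
  rw [SubmonoidClass.coe_pow, coe_u, T_pow, mul_neg_one]

theorem coeff_mul_T (z : A[T;T⁻¹]) (N m : ℤ) : (z * T N).coeff m = z.coeff (m - N) := by
  have h := AddMonoidAlgebra.coeff_mul_single_add z (1 : A) N (m - N)
  rw [sub_add_cancel, mul_one] at h
  exact h

/-- `A[T;T⁻¹]` is the localization of the extended Rees algebra at `u = T⁻¹`. -/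
instance isLocalization_away_u : IsLocalization.Away 𝓕.u A[T;T⁻¹] := by
  unfold IsLocalization.Away
  rw [isLocalization_iff]
  refine ⟨?_, ?_, ?_⟩
  · rintro ⟨y, n, rfl⟩
    show IsUnit ((𝓕.u ^ n : 𝓕.extRees) : A[T;T⁻¹])
    rw [coe_u_pow]
    exact isUnit_T _
  · intro z
    obtain ⟨M, hM⟩ := Finset.exists_le z.coeff.support
    have hN : ∀ m ∈ z.coeff.support, m ≤ ((M.toNat : ℕ) : ℤ) := fun m hm =>
      (hM m hm).trans (Int.self_le_toNat M)
    refine ⟨(⟨z * T (-((M.toNat : ℕ) : ℤ)), ?_⟩, ⟨𝓕.u ^ M.toNat, M.toNat, rfl⟩), ?_⟩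
    · rw [mem_extRees_iff]
      intro m
      rw [coeff_mul_T, sub_neg_eq_add]
      by_cases hm : 0 < m
      · have : z.coeff (m + ((M.toNat : ℕ) : ℤ)) = 0 := by
          by_contra hne
          have := hN _ (Finsupp.mem_support_iff.mpr hne)
          omega
        rw [this]
        exact Ideal.zero_mem _
      · have : m.toNat = 0 := by omega
        rw [this, 𝓕.zero_eq]
        exact Submodule.mem_top
    · show z * ((𝓕.u ^ M.toNat : 𝓕.extRees) : A[T;T⁻¹]) = z * T (-((M.toNat : ℕ) : ℤ))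
      rw [coe_u_pow]
  · intro x y h
    exact ⟨1, by rw [Subtype.ext h]⟩

theorem u_mem_nonZeroDivisors : 𝓕.u ∈ nonZeroDivisors 𝓕.extRees := by
  rw [mem_nonZeroDivisors_iff_right]
  intro x hx
  apply Subtype.ext
  have h1 : (x : A[T;T⁻¹]) * T (-1) = 0 := by
    have := congrArg (fun y : 𝓕.extRees => (y : A[T;T⁻¹])) hx
    simpa [coe_u] using this
  have h2 : (x : A[T;T⁻¹]) * T (-1) * T 1 = 0 := by rw [h1, zero_mul]
  rw [mul_T_assoc, neg_add_cancel, T_zero, mul_one] at h2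
  exact h2

theorem termL_neg (x : 𝓕.extRees) {z : ℤ} (hz : z < 0) :
    termL 𝓕 x z = ((x : A[T;T⁻¹]).coeff z) • 𝓕.u ^ (-z).toNat := by
  refine Subtype.ext ?_
  rw [coe_termL]
  show _ = ((x : A[T;T⁻¹]).coeff z) • ((𝓕.u ^ (-z).toNat : 𝓕.extRees) : A[T;T⁻¹])
  rw [coe_u_pow, Int.toNat_of_nonneg (by omega), neg_neg, single_eq_C_mul_T, smul_eq_C_mul]

/-- The extended Rees algebra is of finite type when the Rees algebra is. -/
theorem finiteType_extRees (hfg : Algebra.FiniteType A 𝓕.rees) :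
    Algebra.FiniteType A 𝓕.extRees := by
  classical
  obtain ⟨s, hs⟩ := hfg.out
  refine ⟨⟨s.image (toExt 𝓕) ∪ {𝓕.u}, ?_⟩⟩
  rw [eq_top_iff]
  intro x _
  have hu : 𝓕.u ∈ Algebra.adjoin A (↑(s.image (toExt 𝓕) ∪ {𝓕.u}) : Set 𝓕.extRees) :=
    Algebra.subset_adjoin (by simp)
  have hrange : ∀ f : 𝓕.rees, toExt 𝓕 f ∈
      Algebra.adjoin A (↑(s.image (toExt 𝓕) ∪ {𝓕.u}) : Set 𝓕.extRees) := by
    intro f
    have hf : f ∈ Algebra.adjoin A (s : Set 𝓕.rees) := by rw [hs]; trivial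
    induction hf using Algebra.adjoin_induction with
    | mem y hy =>
      apply Algebra.subset_adjoin
      simp only [Finset.coe_union, Finset.coe_image, Finset.coe_singleton, Set.union_singleton,
        Set.mem_insert_iff, Set.mem_image, Finset.mem_coe]
      exact Or.inr ⟨y, hy, rfl⟩
    | algebraMap r => rw [AlgHom.commutes]; exact Subalgebra.algebraMap_mem _ r
    | add a b _ _ ha hb => rw [map_add]; exact Subalgebra.add_mem _ ha hb
    | mul a b _ _ ha hb => rw [map_mul]; exact Subalgebra.mul_mem _ ha hb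
  rw [← sum_termL 𝓕 x]
  refine Subalgebra.sum_mem _ fun z _ => ?_
  by_cases hz : 0 ≤ z
  · rw [termL_eq_toExt 𝓕 x hz]
    exact hrange _
  · rw [termL_neg 𝓕 x (lt_of_not_ge hz)]
    exact Subalgebra.smul_mem _ (Subalgebra.pow_mem _ hu _) _

theorem isNoetherianRing_extRees [IsNoetherianRing A] (hfg : Algebra.FiniteType A 𝓕.rees) :
    IsNoetherianRing 𝓕.extRees :=
  have := finiteType_extRees 𝓕 hfg
  Algebra.FiniteType.isNoetherianRing A 𝓕.extRees

/-- For a prime `P'` of `A[T;T⁻¹]`: `R'_{P' ∩ R'} ≃ A[T;T⁻¹]_{P'}`. -/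
theorem nonempty_ringEquiv_of_prime (P' : Ideal A[T;T⁻¹]) [P'.IsPrime] :
    ∃ (_ : (P'.comap (algebraMap 𝓕.extRees A[T;T⁻¹])).IsPrime),
      Nonempty (Localization.AtPrime (P'.comap (algebraMap 𝓕.extRees A[T;T⁻¹])) ≃+*
        Localization.AtPrime P') :=
  nonempty_ringEquiv_localization_comap (Submonoid.powers 𝓕.u) A[T;T⁻¹] P'

/-- Primes of the extended Rees algebra not containing `u` come from `A[T;T⁻¹]`. -/
theorem exists_prime_of_not_mem (P : Ideal 𝓕.extRees) [P.IsPrime] (hu : 𝓕.u ∉ P) :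
    ∃ (P' : Ideal A[T;T⁻¹]) (_ : P'.IsPrime),
      P'.comap (algebraMap 𝓕.extRees A[T;T⁻¹]) = P := by
  have hdisj : Disjoint (Submonoid.powers 𝓕.u : Set 𝓕.extRees) (P : Set 𝓕.extRees) := by
    rw [Set.disjoint_left]
    rintro x ⟨n, rfl⟩ hx
    exact hu (Ideal.IsPrime.mem_of_pow_mem inferInstance n hx)
  exact ⟨P.map (algebraMap _ _),
    IsLocalization.isPrime_of_isPrime_disjoint (Submonoid.powers 𝓕.u) _ P inferInstance hdisj,
    IsLocalization.comap_map_of_isPrime_disjoint (Submonoid.powers 𝓕.u) _ inferInstance hdisj⟩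

end ER

end Groth.Agent.Lib.Helper29.ExtRees
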