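import Groth.Agent.Lib.Helper29.ExtRees4

/-!
# The extended Rees algebra: Cohen–Macaulay and Gorenstein iff the associated graded ring is
-/

set_option autoImplicit false
set_option linter.unusedSectionVars false
set_option linter.style.haveILetI false
set_option linter.deprecated false
set_option linter.overlappingInstances false
universe u

namespace Groth.Agent.Lib.Helper29.ExtRees

open IsLocalRing LaurentPolynomial AssocGr
open Groth.Agent.Lib.Helper29
open Groth.Agent.Lib.Helper33.GorTransfer Groth.Agent.Lib.Helper49.FibreSk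
  Groth.Agent.Lib.Helper33.GorFlat

section FlatDescent

variable {R S : Type u} [CommRing R] [CommRing S] [IsNoetherianRing R] [IsNoetherianRing S]
  [Algebra R S] [Module.Flat R S]

/-- Gorenstein descends along flat maps, at the level of localizations. -/
theorem gorLocal_under_of_flat (p : Ideal R) [p.IsPrime] (q : Ideal S) [q.IsPrime]
    [q.LiesOver p] (h : LocCoh.IsGorensteinLocalRing (Localization.AtPrime q)) :
    LocCoh.IsGorensteinLocalRing (Localization.AtPrime p) := by
  have := isLocalRing_fibLoc p q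
  let _ := Localization.AtPrime.algebraOfLiesOver p q
  have hloc : IsLocalHom (algebraMap (Localization.AtPrime p) (Localization.AtPrime q)) :=
    Localization.isLocalHom_localRingHom p q (algebraMap R S) Ideal.LiesOver.over
  have hker : RingHom.ker (Ideal.Quotient.mk
      ((p.map (algebraMap R S)).map (algebraMap S (Localization.AtPrime q)))) =
      (maximalIdeal (Localization.AtPrime p)).map
        (algebraMap (Localization.AtPrime p) (Localization.AtPrime q)) := by
    rw [Ideal.mk_ker, ← IsLocalization.AtPrime.map_eq_maximalIdeal p (Localization.AtPrime p),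
      Ideal.map_map, Ideal.map_map, ← IsScalarTower.algebraMap_eq, ← IsScalarTower.algebraMap_eq]
  exact ((gorenstein_flat_local_iff (Localization.AtPrime p) (Localization.AtPrime q)
    (FibLoc p q) (Ideal.Quotient.mk _) Ideal.Quotient.mk_surjective hker).1 h).1

end FlatDescent

section PrimeOver

variable {A : Type u} [CommRing A]

/-- The prime `q[T;T⁻¹]` of the Laurent polynomial ring, as a kernel. -/
noncomputable def primeOver (q : Ideal A) : Ideal A[T;T⁻¹] :=
  RingHom.ker (AddMonoidAlgebra.mapRingHom ℤ (Ideal.Quotient.mk q))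

theorem mem_primeOver_iff (q : Ideal A) (f : A[T;T⁻¹]) :
    f ∈ primeOver q ↔ ∀ n, f.coeff n ∈ q := by
  unfold primeOver
  rw [RingHom.mem_ker]
  constructor
  · intro h n
    have := congrArg (fun g : (A ⧸ q)[T;T⁻¹] => g.coeff n) h
    simp only [AddMonoidAlgebra.coeff_mapRingHom] at this
    exact Ideal.Quotient.eq_zero_iff_mem.mp this
  · intro h
    refine LaurentPolynomial.ext fun n => ?_
    rw [AddMonoidAlgebra.coeff_mapRingHom, Ideal.Quotient.eq_zero_iff_mem.mpr (h n)]
    rfl

instance isPrime_primeOver (q : Ideal A) [q.IsPrime] : (primeOver q).IsPrime :=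
  RingHom.ker_isPrime _

theorem under_primeOver (q : Ideal A) : (primeOver q).under A = q := by
  ext a
  rw [Ideal.under, Ideal.mem_comap, mem_primeOver_iff]
  constructor
  · intro h
    have := h 0
    rw [← LaurentPolynomial.C_eq_algebraMap, LaurentPolynomial.C_apply, if_pos rfl] at this
    exact this
  · intro h n
    rw [← LaurentPolynomial.C_eq_algebraMap, LaurentPolynomial.C_apply]
    split_ifs
    · exact h
    · exact Ideal.zero_mem _

end PrimeOver

section Main

variable {A : Type u} [CommRing A] [IsNoetherianRing A] [IsLocalRing A]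
  (𝓕 : FiltBl.IdealFiltration A)

omit [IsNoetherianRing A] in
theorem F_one_le_maximalIdeal (hsep : ⨅ n, 𝓕.F n = ⊥) : 𝓕.F 1 ≤ maximalIdeal A := by
  apply le_maximalIdeal
  intro htop
  have hall : ∀ n, 𝓕.F n = ⊤ := by
    intro n
    induction n with
    | zero => exact 𝓕.zero_eq
    | succ n ih =>
      have := 𝓕.mul_le n 1
      rw [ih, htop, Ideal.top_mul] at this
      exact top_le_iff.mp this
  have : (⨅ n, 𝓕.F n) = ⊤ := by
    rw [iInf_eq_top]
    exact hall
  rw [hsep] at this
  exact bot_ne_top this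

omit [IsNoetherianRing A] in
/-- The homogeneous prime `𝔪 R' + R'_+` together with `u` does not generate the unit ideal. -/
theorem comap_primeOver_sup_span_ne_top (hsep : ⨅ n, 𝓕.F n = ⊥) :
    (primeOver (maximalIdeal A)).comap (algebraMap 𝓕.extRees A[T;T⁻¹]) ⊔ Ideal.span {𝓕.u} ≠ ⊤ := by
  intro htop
  have h1 : (1 : 𝓕.extRees) ∈
      (primeOver (maximalIdeal A)).comap (algebraMap 𝓕.extRees A[T;T⁻¹]) ⊔ Ideal.span {𝓕.u} := by
    rw [htop]
    trivial
  obtain ⟨n, hn, s, hs, hns⟩ := Submodule.mem_sup.mp h1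
  obtain ⟨r, rfl⟩ := Ideal.mem_span_singleton'.mp hs
  rw [Ideal.mem_comap, algebraMap_extRees, mem_primeOver_iff] at hn
  have h2 := congrArg (fun y : 𝓕.extRees => (y : A[T;T⁻¹]).coeff 0) hns
  simp only [Subalgebra.coe_add, Subalgebra.coe_mul, Subalgebra.coe_one, coe_u,
    AddMonoidAlgebra.coeff_add, Finsupp.add_apply] at h2
  rw [coeff_mul_T, sub_neg_eq_add, zero_add] at h2
  have h3 : ((1 : A[T;T⁻¹])).coeff 0 = (1 : A) := by
    rw [← LaurentPolynomial.T_zero, LaurentPolynomial.T_apply, if_pos rfl]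
  rw [h3] at h2
  have h4 : (r : A[T;T⁻¹]).coeff 1 ∈ maximalIdeal A :=
    F_one_le_maximalIdeal 𝓕 hsep (by simpa using r.2 1)
  have h5 : (1 : A) ∈ maximalIdeal A := by
    rw [← h2]
    exact Ideal.add_mem _ (hn 0) h4
  exact (maximalIdeal.isMaximal A).ne_top ((Ideal.eq_top_iff_one _).mpr h5)

omit [IsLocalRing A] in
theorem span_u_le_iff (P : Ideal 𝓕.extRees) : Ideal.span {𝓕.u} ≤ P ↔ 𝓕.u ∈ P :=
  Ideal.span_singleton_le_iff_mem _

omit [IsLocalRing A] in
/-- Localizations of `R'` at primes not containing `u` are localizations of `A[T;T⁻¹]`. -/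
theorem exists_ringEquiv_of_not_mem (P : Ideal 𝓕.extRees) [P.IsPrime] (huP : 𝓕.u ∉ P) :
    ∃ (P' : Ideal A[T;T⁻¹]) (_ : P'.IsPrime),
      P'.comap (algebraMap 𝓕.extRees A[T;T⁻¹]) = P ∧
      Nonempty (Localization.AtPrime P ≃+* Localization.AtPrime P') := by
  obtain ⟨P', hP', hcomap⟩ := exists_prime_of_not_mem 𝓕 P huP
  refine ⟨P', hP', hcomap, ?_⟩
  subst hcomap
  obtain ⟨_, he⟩ := nonempty_ringEquiv_of_prime 𝓕 P'
  exact he

theorem maximalIdeal_primeCompl_le :
    (maximalIdeal A).primeCompl ≤ IsUnit.submonoid A := by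
  intro x hx
  by_contra hnu
  exact hx ((mem_maximalIdeal x).mpr hnu)

/-- If the associated graded ring is Cohen–Macaulay, so is the extended Rees algebra. -/
theorem isCohenMacaulayRing_extRees_of_gr (hsep : ⨅ n, 𝓕.F n = ⊥)
    (hfg : Algebra.FiniteType A 𝓕.rees) (hG : LocCoh.IsCohenMacaulayRing 𝓕.Gr) :
    LocCoh.IsCohenMacaulayRing 𝓕.extRees := by
  have hnoe := isNoetherianRing_extRees 𝓕 hfg
  have hu_case : ∀ (P : Ideal 𝓕.extRees) [P.IsPrime], 𝓕.u ∈ P →
      LocCoh.IsCohenMacaulayLocalRing (Localization.AtPrime P) := fun P _ huP =>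
    cmLocal_of_mem_of_quotient 𝓕.u (u_mem_nonZeroDivisors 𝓕) P huP
      (fun q _ _ => hG.isCohenMacaulayLocalRing_localization q)
  have hA : LocCoh.IsCohenMacaulayLocalRing A := by
    obtain ⟨Q, hQmax, hle⟩ := Ideal.exists_le_maximal _ (comap_primeOver_sup_span_ne_top 𝓕 hsep)
    have hQprime : Q.IsPrime := hQmax.isPrime
    have huQ : 𝓕.u ∈ Q := hle (Ideal.mem_sup_right (Ideal.mem_span_singleton_self _))
    have hQ := hu_case Q huQ
    obtain ⟨hp, ⟨e⟩⟩ := nonempty_ringEquiv_of_prime 𝓕 (primeOver (maximalIdeal A))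
    have h𝔑 := cmLocal_of_le ((primeOver (maximalIdeal A)).comap
      (algebraMap 𝓕.extRees A[T;T⁻¹])) Q (le_sup_left.trans hle) hQ
    have h3 : LocCoh.IsCohenMacaulayLocalRing
        (Localization.AtPrime (primeOver (maximalIdeal A))) :=
      Groth.Agent.Lib.Helper49.StalkLoc.isCohenMacaulayLocalRing_of_ringEquiv e h𝔑
    have h4 := (cmLocal_laurent_iff A (primeOver (maximalIdeal A))).1 h3
    have h5 := cmLocal_transport _ (maximalIdeal A) (under_primeOver _) h4
    exact Groth.Agent.Lib.Helper49.StalkLoc.isCohenMacaulayLocalRing_of_ringEquiv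
      (IsLocalization.atUnits A (maximalIdeal A).primeCompl
        (S := Localization.AtPrime (maximalIdeal A)) maximalIdeal_primeCompl_le).symm.toRingEquiv
      h5
  have hAring : LocCoh.IsCohenMacaulayRing A := CodepthOpen.isCohenMacaulayRing_of_local A
  have hS : LocCoh.IsCohenMacaulayRing A[T;T⁻¹] := isCohenMacaulayRing_laurent A
  refine ⟨fun P _ => ?_⟩
  by_cases huP : 𝓕.u ∈ P
  · exact hu_case P huP
  · obtain ⟨P', hP', -, ⟨e⟩⟩ := exists_ringEquiv_of_not_mem 𝓕 P huP
    exact Groth.Agent.Lib.Helper49.StalkLoc.isCohenMacaulayLocalRing_of_ringEquiv e.symm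
      (hS.isCohenMacaulayLocalRing_localization P')

/-- If the associated graded ring is Gorenstein, so is the extended Rees algebra. -/
theorem isGorensteinRing_extRees_of_gr (hsep : ⨅ n, 𝓕.F n = ⊥)
    (hfg : Algebra.FiniteType A 𝓕.rees) (hG : LocCoh.IsGorensteinRing 𝓕.Gr) :
    LocCoh.IsGorensteinRing 𝓕.extRees := by
  have hnoe := isNoetherianRing_extRees 𝓕 hfg
  have hu_case : ∀ (P : Ideal 𝓕.extRees) [P.IsPrime], 𝓕.u ∈ P →
      LocCoh.IsGorensteinLocalRing (Localization.AtPrime P) := fun P _ huP =>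
    gorLocal_of_mem_of_quotient 𝓕.u (u_mem_nonZeroDivisors 𝓕) P huP
      (fun q _ _ => hG.isGorensteinLocalRing_localization q)
  have hA : LocCoh.IsGorensteinLocalRing A := by
    obtain ⟨Q, hQmax, hle⟩ := Ideal.exists_le_maximal _ (comap_primeOver_sup_span_ne_top 𝓕 hsep)
    have hQprime : Q.IsPrime := hQmax.isPrime
    have huQ : 𝓕.u ∈ Q := hle (Ideal.mem_sup_right (Ideal.mem_span_singleton_self _))
    have hQ := hu_case Q huQ
    obtain ⟨hp, ⟨e⟩⟩ := nonempty_ringEquiv_of_prime 𝓕 (primeOver (maximalIdeal A))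
    have h𝔑 := gorLocal_of_le ((primeOver (maximalIdeal A)).comap
      (algebraMap 𝓕.extRees A[T;T⁻¹])) Q (le_sup_left.trans hle) hQ
    have h3 : LocCoh.IsGorensteinLocalRing
        (Localization.AtPrime (primeOver (maximalIdeal A))) :=
      gorenstein_of_ringEquiv e h𝔑
    have h4 := gorLocal_under_of_flat ((primeOver (maximalIdeal A)).under A)
      (primeOver (maximalIdeal A)) h3
    have h5 := gorLocal_transport _ (maximalIdeal A) (under_primeOver _) h4
    exact gorenstein_of_ringEquiv
      (IsLocalization.atUnits A (maximalIdeal A).primeCompl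
        (S := Localization.AtPrime (maximalIdeal A)) maximalIdeal_primeCompl_le).symm.toRingEquiv
      h5
  have hAring : LocCoh.IsGorensteinRing A :=
    Groth.Agent.Lib.Helper33.GorDescent.isGorensteinRing_of_isGorensteinLocalRing A
  have hS : LocCoh.IsGorensteinRing A[T;T⁻¹] := isGorensteinRing_laurent A
  refine ⟨fun P _ => ?_⟩
  by_cases huP : 𝓕.u ∈ P
  · exact hu_case P huP
  · obtain ⟨P', hP', -, ⟨e⟩⟩ := exists_ringEquiv_of_not_mem 𝓕 P huP
    exact gorenstein_of_ringEquiv e.symm (hS.isGorensteinLocalRing_localization P')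

end Main

end Groth.Agent.Lib.Helper29.ExtRees
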