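import Groth.Agent.Lib.Helper29.ExtRees5

/-!
# The extended Rees algebra: Cohen–Macaulayness away from the irrelevant ideal
-/

set_option autoImplicit false
set_option linter.unusedSectionVars false
set_option linter.style.haveILetI false
set_option linter.deprecated false
set_option linter.overlappingInstances false
universe u

namespace Groth.Agent.Lib.Helper29.ExtRees

open IsLocalRing LaurentPolynomial AssocGr
open Groth.Agent.Lib.Helper29

section RingEquiv

/-- Localizations at corresponding primes of isomorphic rings are isomorphic. -/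
theorem nonempty_ringEquiv_localization_of_ringEquiv {G₁ G₂ : Type u} [CommRing G₁]
    [CommRing G₂] (e : G₁ ≃+* G₂) (p : Ideal G₂) [p.IsPrime] :
    ∃ (_ : (p.comap (e : G₁ →+* G₂)).IsPrime),
      Nonempty (Localization.AtPrime (p.comap (e : G₁ →+* G₂)) ≃+* Localization.AtPrime p) := by
  haveI : (p.comap (e : G₁ →+* G₂)).IsPrime := Ideal.comap_isPrime _ _
  have H : (p.comap (e : G₁ →+* G₂)).primeCompl.map e.toMonoidHom = p.primeCompl := by
    ext x
    constructor
    · rintro ⟨y, hy, rfl⟩
      exact hy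
    · intro hx
      refine ⟨e.symm x, ?_, by simp⟩
      show e.symm x ∉ p.comap (e : G₁ →+* G₂)
      rw [Ideal.mem_comap]
      simpa using hx
  exact ⟨inferInstance, ⟨IsLocalization.ringEquivOfRingEquiv
    (Localization.AtPrime (p.comap (e : G₁ →+* G₂))) (Localization.AtPrime p) e H⟩⟩

variable {R G : Type u} [CommRing R] [IsNoetherianRing R] [CommRing G] (x : R)
  (hx : x ∈ nonZeroDivisors R) (φ : R →+* G) (hφ : Function.Surjective φ)
  (hker : RingHom.ker φ = Ideal.span {x})

include hx hφ hker in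
/-- Cohen–Macaulayness at a prime of a quotient `G ≅ R/(x)` by a nonzerodivisor and at its
preimage. -/
theorem cmLocal_iff_of_surjective (p : Ideal G) [p.IsPrime] :
    LocCoh.IsCohenMacaulayLocalRing (Localization.AtPrime p) ↔
      LocCoh.IsCohenMacaulayLocalRing (Localization.AtPrime (p.comap φ)) := by
  let e : (R ⧸ Ideal.span {x}) ≃+* G :=
    (Ideal.quotEquivOfEq hker.symm).trans (RingHom.quotientKerEquivOfSurjective hφ)
  have he : ∀ r : R, e (Ideal.Quotient.mk _ r) = φ r := fun r => rfl
  obtain ⟨hq, ⟨ε⟩⟩ := nonempty_ringEquiv_localization_of_ringEquiv e p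
  have hcomap : (p.comap (e : (R ⧸ Ideal.span {x}) →+* G)).comap
      (Ideal.Quotient.mk (Ideal.span {x})) = p.comap φ := by
    ext r
    simp only [Ideal.mem_comap]
    rw [show ((e : (R ⧸ Ideal.span {x}) →+* G)) (Ideal.Quotient.mk _ r) = φ r from he r]
  have h1 := cmLocal_quotient_iff x hx (p.comap (e : (R ⧸ Ideal.span {x}) →+* G))
  constructor
  · intro h
    have h2 := Groth.Agent.Lib.Helper49.StalkLoc.isCohenMacaulayLocalRing_of_ringEquiv ε.symm h
    exact cmLocal_transport _ _ hcomap (h1.1 h2)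
  · intro h
    have h2 := cmLocal_transport _ _ hcomap.symm h
    exact Groth.Agent.Lib.Helper49.StalkLoc.isCohenMacaulayLocalRing_of_ringEquiv ε (h1.2 h2)

end RingEquiv

section Main

variable {A : Type u} [CommRing A] [IsNoetherianRing A] (𝓕 : FiltBl.IdealFiltration A)

/-- Cohen–Macaulayness of `Spec R' ∖ V(R'_+)` in terms of the associated graded ring and the
base. -/
theorem cm_off_positive_iff (hfg : Algebra.FiniteType A 𝓕.rees)
    (G : Type u) [CommRing G] (φ : 𝓕.extRees →+* G) (hφ : Function.Surjective φ)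
    (hker : RingHom.ker φ = Ideal.span {𝓕.u}) (Rp : Ideal 𝓕.extRees)
    (hRp : Rp = Ideal.span {x : 𝓕.extRees | ∃ n : ℕ, 0 < n ∧ ∃ a ∈ 𝓕.F n,
      (x : LaurentPolynomial A) = LaurentPolynomial.C a * LaurentPolynomial.T (n : ℤ)}) :
    (∀ (P : Ideal 𝓕.extRees) [P.IsPrime], ¬ Rp ≤ P →
        LocCoh.IsCohenMacaulayLocalRing (Localization.AtPrime P)) ↔
      ((∀ (p : Ideal G) [p.IsPrime], ¬ Ideal.map φ Rp ≤ p →
          LocCoh.IsCohenMacaulayLocalRing (Localization.AtPrime p)) ∧
        (∀ (q : Ideal A) [q.IsPrime], ¬ 𝓕.F 1 ≤ q →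
            LocCoh.IsCohenMacaulayLocalRing (Localization.AtPrime q))) := by
  have hnoe := isNoetherianRing_extRees 𝓕 hfg
  have hnzd := u_mem_nonZeroDivisors 𝓕
  constructor
  · intro h
    refine ⟨?_, ?_⟩
    · intro p _ hp
      have hP : ¬ Rp ≤ p.comap φ := fun hle => hp (Ideal.map_le_iff_le_comap.mpr hle)
      exact (cmLocal_iff_of_surjective 𝓕.u hnzd φ hφ hker p).2 (h (p.comap φ) hP)
    · intro q _ hq
      obtain ⟨a, ha, haq⟩ := SetLike.not_le_iff_exists.mp hq
      obtain ⟨hp, ⟨e⟩⟩ := nonempty_ringEquiv_of_prime 𝓕 (primeOver q)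
      have hxmem : (LaurentPolynomial.C a * LaurentPolynomial.T ((1 : ℕ) : ℤ) : A[T;T⁻¹]) ∈
          𝓕.extRees := by
        rw [mem_extRees_iff]
        intro z
        rw [← single_eq_C_mul_T, AddMonoidAlgebra.coeff_single, Finsupp.single_apply]
        split_ifs with hz
        · rw [← hz]
          exact ha
        · exact Ideal.zero_mem _
      have hP : ¬ Rp ≤ (primeOver q).comap (algebraMap 𝓕.extRees A[T;T⁻¹]) := by
        intro hle
        have h1 : (⟨_, hxmem⟩ : 𝓕.extRees) ∈ Rp := by
          rw [hRp]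
          exact Ideal.subset_span ⟨1, one_pos, a, ha, rfl⟩
        have h2 := hle h1
        rw [Ideal.mem_comap, algebraMap_extRees, mem_primeOver_iff] at h2
        have h3 : (LaurentPolynomial.C a * LaurentPolynomial.T ((1 : ℕ) : ℤ) : A[T;T⁻¹]).coeff 1
            ∈ q := h2 1
        rw [← single_eq_C_mul_T, AddMonoidAlgebra.coeff_single, Finsupp.single_apply,
          if_pos (by norm_num)] at h3
        exact haq h3
      have h1 := h _ hP
      have h2 := Groth.Agent.Lib.Helper49.StalkLoc.isCohenMacaulayLocalRing_of_ringEquiv e h1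
      have h3 := (cmLocal_laurent_iff A (primeOver q)).1 h2
      exact cmLocal_transport _ q (under_primeOver q) h3
  · rintro ⟨hG, hA⟩ P _ hP
    by_cases huP : 𝓕.u ∈ P
    · have hkerP : RingHom.ker φ ≤ P := by
        rw [hker]
        exact (Ideal.span_singleton_le_iff_mem _).2 huP
      have hprime : (P.map φ).IsPrime := Ideal.map_isPrime_of_surjective hφ hkerP
      have hcomap : (P.map φ).comap φ = P := by
        rw [Ideal.comap_map_of_surjective' φ hφ, sup_eq_left.2 hkerP]
      have hnot : ¬ Ideal.map φ Rp ≤ P.map φ := by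
        intro hle
        apply hP
        have := Ideal.map_le_iff_le_comap.mp hle
        rwa [hcomap] at this
      have h1 := (cmLocal_iff_of_surjective 𝓕.u hnzd φ hφ hker (P.map φ)).1 (hG _ hnot)
      exact cmLocal_transport _ P hcomap h1
    · obtain ⟨P', hP', hcomap, ⟨e⟩⟩ := exists_ringEquiv_of_not_mem 𝓕 P huP
      have hq : ¬ 𝓕.F 1 ≤ P'.under A := by
        intro hle
        apply hP
        rw [hRp, Ideal.span_le]
        rintro x ⟨n, hn, a, ha, hxa⟩
        have ha1 : a ∈ 𝓕.F 1 := 𝓕.antitone (by omega : 1 ≤ n) ha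
        have ha2 : algebraMap A A[T;T⁻¹] a ∈ P' := hle ha1
        rw [← hcomap]
        show algebraMap 𝓕.extRees A[T;T⁻¹] x ∈ P'
        rw [algebraMap_extRees, hxa, LaurentPolynomial.C_eq_algebraMap]
        exact Ideal.mul_mem_right _ _ ha2
      have h1 := hA (P'.under A) hq
      have h2 := (cmLocal_laurent_iff A P').2 h1
      exact Groth.Agent.Lib.Helper49.StalkLoc.isCohenMacaulayLocalRing_of_ringEquiv e.symm h2

end Main

end Groth.Agent.Lib.Helper29.ExtRees
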