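import Groth.Agent.Lib.Helper29.ExtRees6
import Groth.Agent.Lib.Helper49.FibreSk
import Groth.Agent.Lib.Helper49.GeomNormalExt

/-!
# The extended Rees algebra: Serre's conditions
-/

set_option autoImplicit false
set_option linter.unusedSectionVars false
set_option linter.style.haveILetI false
set_option linter.deprecated false
set_option linter.overlappingInstances false
universe u

namespace Groth.Agent.Lib.Helper29.ExtRees

open IsLocalRing LaurentPolynomial
open Groth.Agent.Lib.Helper29
open Groth.Agent.Lib.Helper49.Serre Groth.Agent.Lib.Helper49.CMQuot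
  Groth.Agent.Lib.Helper49.SkLift

section Quot

variable {A : Type u} [CommRing A] [IsNoetherianRing A]

/-- Height and depth of the local ring of `A/tA` at `Q` versus those of `A` at `Q ∩ A`, for a
regular element `t`. -/
theorem height_depth_comap_quotient {t : A} (hreg : IsSMulRegular A t)
    (Q : Ideal (A ⧸ Ideal.span {t})) [Q.IsPrime] :
    ∃ (_ : (Q.comap (Ideal.Quotient.mk (Ideal.span {t}))).IsPrime),
      Q.height + 1 = (Q.comap (Ideal.Quotient.mk (Ideal.span {t}))).height ∧
      LocCoh.depth (Localization.AtPrime Q) (Localization.AtPrime Q) + 1 =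
        LocCoh.depth (Localization.AtPrime (Q.comap (Ideal.Quotient.mk (Ideal.span {t}))))
          (Localization.AtPrime (Q.comap (Ideal.Quotient.mk (Ideal.span {t})))) := by
  set p : Ideal A := Q.comap (Ideal.Quotient.mk (Ideal.span {t})) with hp
  have hpprime : p.IsPrime := Ideal.IsPrime.comap _
  refine ⟨hpprime, ?_⟩
  have htp : t ∈ p := by
    rw [hp, Ideal.mem_comap]
    have : Ideal.Quotient.mk (Ideal.span {t}) t = 0 :=
      Ideal.Quotient.eq_zero_iff_mem.mpr (Ideal.mem_span_singleton_self t)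
    rw [this]; exact Q.zero_mem
  set f' : Localization.AtPrime p := algebraMap A (Localization.AtPrime p) t with hf'
  have hf'm : f' ∈ maximalIdeal (Localization.AtPrime p) := by
    rw [← IsLocalization.AtPrime.map_eq_maximalIdeal p (Localization.AtPrime p)]
    exact Ideal.mem_map_of_mem _ htp
  have hf'reg : IsSMulRegular (Localization.AtPrime p) f' := hreg.of_flat
  have hmap : (Ideal.span {t}).map (algebraMap A (Localization.AtPrime p)) = Ideal.span {f'} := by
    rw [Ideal.map_span, Set.image_singleton]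
  let e1 : Localization.AtPrime Q ≃+* (Localization.AtPrime p ⧸
      (Ideal.span {t}).map (algebraMap A (Localization.AtPrime p))) :=
    localizationQuotientEquiv (Ideal.span {t}) Q
  let e2 : (Localization.AtPrime p ⧸
      (Ideal.span {t}).map (algebraMap A (Localization.AtPrime p))) ≃+*
      (Localization.AtPrime p ⧸ Ideal.span {f'}) := Ideal.quotEquivOfEq hmap
  let e : Localization.AtPrime Q ≃+* (Localization.AtPrime p ⧸ Ideal.span {f'}) := e1.trans e2
  have hloc : IsLocalRing (Localization.AtPrime p ⧸ Ideal.span {f'}) := e.isLocalRing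
  have hd1 : LocCoh.depth (Localization.AtPrime Q) (Localization.AtPrime Q) =
      LocCoh.depth (Localization.AtPrime p ⧸ Ideal.span {f'})
        (Localization.AtPrime p ⧸ Ideal.span {f'}) := depth_eq_of_ringEquiv e
  have hd2 := depth_quotient_span_add_one (Localization.AtPrime p) hf'm hf'reg
  have hdim1 : ringKrullDim (Localization.AtPrime Q) =
      ringKrullDim (Localization.AtPrime p ⧸ Ideal.span {f'}) := ringKrullDim_eq_of_ringEquiv e
  have hdim2 : ringKrullDim (Localization.AtPrime p ⧸ Ideal.span {f'}) + 1 =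
      ringKrullDim (Localization.AtPrime p) :=
    ringKrullDim_quotient_span_singleton_succ_eq_ringKrullDim_of_mem_jacobson hf'reg
      (by rw [IsLocalRing.ringJacobson_eq_maximalIdeal]; exact hf'm)
  rw [← hdim1, IsLocalization.AtPrime.ringKrullDim_eq_height Q,
    IsLocalization.AtPrime.ringKrullDim_eq_height p] at hdim2
  have hht : Q.height + 1 = p.height := by
    have : ((Q.height + 1 : ℕ∞) : WithBot ℕ∞) = (p.height : WithBot ℕ∞) := by
      rw [WithBot.coe_add, WithBot.coe_one]; exact hdim2
    exact WithBot.coe_inj.mp this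
  exact ⟨hht, by rw [hd1]; exact hd2⟩

/-- `(S_{k+1})` for `A` gives `(S_k)` for `A/tA` when `t` is regular. -/
theorem hasSk_quotient_of_succ (k : ℕ) {t : A} (hreg : IsSMulRegular A t)
    (hS : LocCoh.HasSk (k + 1) A A) :
    LocCoh.HasSk k (A ⧸ Ideal.span {t}) (A ⧸ Ideal.span {t}) := by
  rw [hasSk_self_iff']
  intro Q hQ
  obtain ⟨hp, hht, hd⟩ := height_depth_comap_quotient hreg Q
  have h1 := (hasSk_self_iff' A (k + 1)).mp hS (Q.comap (Ideal.Quotient.mk (Ideal.span {t})))
  rw [← hht, ← hd] at h1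
  have h2 : ((k + 1 : ℕ) : ℕ∞) = (k : ℕ∞) + 1 := by push_cast; rfl
  rw [h2, min_add_add_right] at h1
  exact (ENat.add_le_add_iff_right ENat.one_ne_top).mp h1

end Quot

section Laurent

variable (A : Type u) [CommRing A] [IsNoetherianRing A]

/-- `(S_k)` for a Laurent polynomial ring. -/
theorem hasSk_laurent_iff [Nontrivial A] (k : ℕ) :
    LocCoh.HasSk k A[T;T⁻¹] A[T;T⁻¹] ↔ LocCoh.HasSk k A A := by
  constructor
  · intro h
    exact Groth.Agent.Lib.Helper49.Serre.hasSk_of_faithfullyFlat A A[T;T⁻¹] h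
  · intro h
    refine Groth.Agent.Lib.Helper49.FibreSk.hasSk_of_flat_of_fibres k h (fun p _ => ?_)
    have := isCM_fiber_laurent A p
    exact Groth.Agent.Lib.Helper49.GeomNormalExt.hasSk_of_isCM _ k

end Laurent

section Main

variable {A : Type u} [CommRing A] [IsNoetherianRing A] (𝓕 : FiltBl.IdealFiltration A)

theorem height_depth_of_ringEquiv {R₁ R₂ : Type u} [CommRing R₁] [CommRing R₂]
    [IsNoetherianRing R₁] [IsNoetherianRing R₂]
    (P₁ : Ideal R₁) [P₁.IsPrime] (P₂ : Ideal R₂) [P₂.IsPrime]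
    (e : Localization.AtPrime P₁ ≃+* Localization.AtPrime P₂) :
    P₁.height = P₂.height ∧
      LocCoh.depth (Localization.AtPrime P₁) (Localization.AtPrime P₁) =
        LocCoh.depth (Localization.AtPrime P₂) (Localization.AtPrime P₂) := by
  refine ⟨?_, depth_eq_of_ringEquiv e⟩
  have h := ringKrullDim_eq_of_ringEquiv e
  rw [IsLocalization.AtPrime.ringKrullDim_eq_height P₁,
    IsLocalization.AtPrime.ringKrullDim_eq_height P₂] at h
  exact WithBot.coe_inj.mp h

/-- `(S_2)` for the extended Rees algebra in terms of the associated graded ring and the base. -/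
theorem hasS2_extRees_iff [Nontrivial A] (hfg : Algebra.FiniteType A 𝓕.rees) :
    LocCoh.HasSk 2 𝓕.extRees 𝓕.extRees ↔ (LocCoh.HasSk 1 𝓕.Gr 𝓕.Gr ∧ LocCoh.HasSk 2 A A) := by
  have hnoe := isNoetherianRing_extRees 𝓕 hfg
  have hreg : IsSMulRegular 𝓕.extRees 𝓕.u :=
    Module.Flat.isSMulRegular_of_nonZeroDivisors (R := 𝓕.extRees) (M := 𝓕.extRees)
      (u_mem_nonZeroDivisors 𝓕)
  constructor
  · intro h
    refine ⟨hasSk_quotient_of_succ 1 hreg h, ?_⟩
    rw [← hasSk_laurent_iff A 2, hasSk_self_iff']
    intro P' hP'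
    obtain ⟨hP, ⟨e⟩⟩ := nonempty_ringEquiv_of_prime 𝓕 P'
    obtain ⟨h1, h2⟩ := height_depth_of_ringEquiv _ P' e
    have h3 := (hasSk_self_iff' _ 2).mp h (P'.comap (algebraMap 𝓕.extRees A[T;T⁻¹]))
    rw [h1, h2] at h3
    exact h3
  · rintro ⟨hG, hA⟩
    have hS : LocCoh.HasSk 2 A[T;T⁻¹] A[T;T⁻¹] := (hasSk_laurent_iff A 2).mpr hA
    rw [hasSk_self_iff']
    intro P hP
    by_cases huP : 𝓕.u ∈ P
    · have hker : RingHom.ker (Ideal.Quotient.mk (Ideal.span {𝓕.u})) ≤ P := by
        rw [Ideal.mk_ker, Ideal.span_singleton_le_iff_mem]; exact huP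
      have hQ : (P.map (Ideal.Quotient.mk (Ideal.span {𝓕.u}))).IsPrime :=
        Ideal.map_isPrime_of_surjective Ideal.Quotient.mk_surjective hker
      have hcomap : (P.map (Ideal.Quotient.mk (Ideal.span {𝓕.u}))).comap
          (Ideal.Quotient.mk (Ideal.span {𝓕.u})) = P := by
        rw [Ideal.comap_map_of_surjective' _ Ideal.Quotient.mk_surjective, sup_eq_left.mpr hker]
      have key : ∀ (q q' : Ideal 𝓕.extRees) [q.IsPrime] [q'.IsPrime], q' = q →
          min (((1 : ℕ) : ℕ∞) + 1) q'.height ≤
            LocCoh.depth (Localization.AtPrime q') (Localization.AtPrime q') →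
          min (((2 : ℕ) : ℕ∞)) q.height ≤
            LocCoh.depth (Localization.AtPrime q) (Localization.AtPrime q) := by
        intro q q' _ _ h
        subst h
        intro h
        have h2 : ((2 : ℕ) : ℕ∞) = ((1 : ℕ) : ℕ∞) + 1 := by norm_num
        rw [h2]
        exact h
      exact key P _ hcomap
        (min_succ_height_le_depth_comap 1 hreg hG (P.map (Ideal.Quotient.mk (Ideal.span {𝓕.u}))))
    · obtain ⟨P', hP', hcomap, ⟨e⟩⟩ := exists_ringEquiv_of_not_mem 𝓕 P huP
      obtain ⟨h1, h2⟩ := height_depth_of_ringEquiv P P' e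
      rw [h1, h2]
      exact (hasSk_self_iff' _ 2).mp hS P'

end Main

end Groth.Agent.Lib.Helper29.ExtRees
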