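import Groth.Agent.Lib.Helper29.ExtRees7

/-!
# Rings with a common localization; `(S_k)` for polynomial rings
-/

set_option autoImplicit false
set_option linter.unusedSectionVars false
set_option linter.style.haveILetI false
set_option linter.deprecated false
set_option linter.overlappingInstances false
universe u

namespace Groth.Agent.Lib.Helper29.ExtRees

open IsLocalRing TensorProduct
open Groth.Agent.Lib.Helper29

section LocIso

variable {R₁ R₂ : Type u} [CommRing R₁] [CommRing R₂]

/-- If `φ : R₁ → R₂` is injective and every element of `R₂` is carried into the image of `φ` by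
a power of `φ s`, then `R₂[1/φ s]` is the localization of `R₁` at the powers of `s`. -/
theorem isLocalization_powers_of_forall_exists (φ : R₁ →+* R₂) (hφ : Function.Injective φ)
    (s : R₁) (hs : ∀ y : R₂, ∃ (k : ℕ) (r : R₁), φ r = φ s ^ k * y) :
    letI : Algebra R₁ (Localization.Away (φ s)) :=
      ((algebraMap R₂ (Localization.Away (φ s))).comp φ).toAlgebra
    IsLocalization (Submonoid.powers s) (Localization.Away (φ s)) := by
  letI : Algebra R₁ (Localization.Away (φ s)) :=
    ((algebraMap R₂ (Localization.Away (φ s))).comp φ).toAlgebra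
  have halg : ∀ r : R₁, algebraMap R₁ (Localization.Away (φ s)) r =
      algebraMap R₂ (Localization.Away (φ s)) (φ r) := fun r => rfl
  rw [isLocalization_iff]
  refine ⟨?_, ?_, ?_⟩
  · rintro ⟨y, n, rfl⟩
    rw [halg, map_pow, map_pow]
    exact (IsLocalization.Away.algebraMap_isUnit (φ s)).pow n
  · intro z
    obtain ⟨⟨y, ⟨t, n, rfl⟩⟩, hz⟩ := IsLocalization.surj (Submonoid.powers (φ s)) z
    obtain ⟨k, r, hr⟩ := hs y
    refine ⟨⟨r, ⟨s ^ (n + k), n + k, rfl⟩⟩, ?_⟩
    simp only at hz ⊢
    rw [halg, halg, hr, map_pow, pow_add, map_mul, map_mul, ← hz, map_pow, map_pow]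
    ring
  · intro x y hxy
    rw [halg, halg] at hxy
    obtain ⟨⟨t, n, rfl⟩, hc⟩ := (IsLocalization.eq_iff_exists (Submonoid.powers (φ s)) _).mp hxy
    refine ⟨⟨s ^ n, n, rfl⟩, ?_⟩
    apply hφ
    simp only at hc ⊢
    rw [map_mul, map_mul, map_pow]
    exact hc

/-- Under the hypotheses of `isLocalization_powers_of_forall_exists`, the local rings of `R₁` at
primes not containing `s` are local rings of `R₂`. -/
theorem exists_ringEquiv_of_forall_exists (φ : R₁ →+* R₂) (hφ : Function.Injective φ)
    (s : R₁) (hs : ∀ y : R₂, ∃ (k : ℕ) (r : R₁), φ r = φ s ^ k * y)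
    (P : Ideal R₁) [P.IsPrime] (hsP : s ∉ P) :
    ∃ (P' : Ideal R₂) (_ : P'.IsPrime), P'.comap φ = P ∧
      Nonempty (Localization.AtPrime P ≃+* Localization.AtPrime P') := by
  letI : Algebra R₁ (Localization.Away (φ s)) :=
    ((algebraMap R₂ (Localization.Away (φ s))).comp φ).toAlgebra
  have hloc : IsLocalization (Submonoid.powers s) (Localization.Away (φ s)) :=
    isLocalization_powers_of_forall_exists φ hφ s hs
  have hdisj : Disjoint (Submonoid.powers s : Set R₁) (P : Set R₁) := by
    rw [Set.disjoint_left]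
    rintro x ⟨n, rfl⟩ hx
    exact hsP (Ideal.IsPrime.mem_of_pow_mem inferInstance n hx)
  set P'' : Ideal (Localization.Away (φ s)) :=
    P.map (algebraMap R₁ (Localization.Away (φ s))) with hP''
  have hprime : P''.IsPrime :=
    IsLocalization.isPrime_of_isPrime_disjoint (Submonoid.powers s) _ P inferInstance hdisj
  have hcomap : P''.comap (algebraMap R₁ (Localization.Away (φ s))) = P :=
    IsLocalization.comap_map_of_isPrime_disjoint (Submonoid.powers s) _ inferInstance hdisj
  obtain ⟨h1, ⟨e1⟩⟩ := nonempty_ringEquiv_localization_comap (Submonoid.powers s)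
    (Localization.Away (φ s)) P''
  obtain ⟨h2, ⟨e2⟩⟩ := nonempty_ringEquiv_localization_comap (Submonoid.powers (φ s))
    (Localization.Away (φ s)) P''
  refine ⟨P''.comap (algebraMap R₂ (Localization.Away (φ s))), h2, ?_, ?_⟩
  · rw [Ideal.comap_comap]
    exact hcomap
  · have key : ∀ (Q Q' : Ideal R₁) [Q.IsPrime] [Q'.IsPrime], Q = Q' →
        ∀ (B : Type u) [CommRing B], Nonempty (Localization.AtPrime Q ≃+* B) →
          Nonempty (Localization.AtPrime Q' ≃+* B) := by
      intro Q Q' _ _ h B _ hB
      subst h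
      exact hB
    exact key _ P hcomap _ ⟨e1.trans e2.symm⟩

end LocIso

section Poly

open Polynomial
open Groth.Agent.Lib.Helper49.FibreSk Groth.Agent.Lib.Helper49.CMFibre

variable (A : Type u) [CommRing A] [IsNoetherianRing A]

/-- The fibres of `A → A[X]` are Cohen–Macaulay. -/
theorem isCM_fiber_polynomial (p : Ideal A) [p.IsPrime] :
    LocCoh.IsCohenMacaulayRing (p.Fiber A[X]) := by
  have hreg : IsRegularRing (p.ResidueField[X]) := inferInstance
  have hcm : LocCoh.IsCohenMacaulayRing (p.ResidueField[X]) :=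
    Linkage.isCohenMacaulayRing_of_isRegularRing' _
  exact Groth.Agent.Lib.Helper28.CMRingAux.isCohenMacaulayRing_of_ringEquiv
    (polyEquivTensor' A p.ResidueField).symm.toRingEquiv hcm

/-- `(S_k)` ascends to polynomial rings. -/
theorem hasSk_polynomial (k : ℕ) (h : LocCoh.HasSk k A A) : LocCoh.HasSk k A[X] A[X] := by
  refine Groth.Agent.Lib.Helper49.FibreSk.hasSk_of_flat_of_fibres k h (fun p _ => ?_)
  have := isCM_fiber_polynomial A p
  exact Groth.Agent.Lib.Helper49.GeomNormalExt.hasSk_of_isCM _ k

end Poly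

end Groth.Agent.Lib.Helper29.ExtRees
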