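import Groth.Agent.Lib.Helper29.ExtRees8

/-!
# The extended Rees algebra: elements of the associated graded ring killed by `G₊`
-/

set_option autoImplicit false
set_option linter.unusedSectionVars false
set_option linter.style.haveILetI false
set_option linter.deprecated false
set_option linter.overlappingInstances false
universe u

namespace Groth.Agent.Lib.Helper29.ExtRees

open IsLocalRing LaurentPolynomial AssocGr
open Groth.Agent.Lib.Helper29

section Mono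

variable {A : Type u} [CommRing A] (𝓕 : FiltBl.IdealFiltration A)

/-- The monomial `b T^z` as an element of the extended Rees algebra. -/
noncomputable def monoE (z : ℤ) (b : A) (hb : b ∈ 𝓕.F z.toNat) : 𝓕.extRees :=
  ⟨AddMonoidAlgebra.single z b, fun w => by
    rw [AddMonoidAlgebra.coeff_single, Finsupp.single_apply]
    split_ifs with h
    · subst h; exact hb
    · exact Ideal.zero_mem _⟩

@[simp] theorem coe_monoE (z : ℤ) (b : A) (hb : b ∈ 𝓕.F z.toNat) :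
    (monoE 𝓕 z b hb : A[T;T⁻¹]) = AddMonoidAlgebra.single z b := rfl

theorem monoE_mul_monoE (z w : ℤ) (b c : A) (hb : b ∈ 𝓕.F z.toNat) (hc : c ∈ 𝓕.F w.toNat)
    (hbc : b * c ∈ 𝓕.F (z + w).toNat) :
    monoE 𝓕 z b hb * monoE 𝓕 w c hc = monoE 𝓕 (z + w) (b * c) hbc := by
  refine Subtype.ext ?_
  rw [Subalgebra.coe_mul, coe_monoE, coe_monoE, coe_monoE, AddMonoidAlgebra.single_mul_single]

theorem monoE_mem_span_u (z : ℤ) (b : A) (hb : b ∈ 𝓕.F z.toNat) (hb' : b ∈ 𝓕.F (z + 1).toNat) :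
    monoE 𝓕 z b hb ∈ Ideal.span {𝓕.u} := by
  rw [Ideal.mem_span_singleton']
  refine ⟨monoE 𝓕 (z + 1) b hb', Subtype.ext ?_⟩
  rw [Subalgebra.coe_mul, coe_monoE, coe_monoE, coe_u, LaurentPolynomial.T,
    AddMonoidAlgebra.single_mul_single, mul_one, add_neg_cancel_right]

theorem mem_of_monoE_mem_span_u (z : ℤ) (b : A) (hb : b ∈ 𝓕.F z.toNat)
    (h : monoE 𝓕 z b hb ∈ Ideal.span {𝓕.u}) : b ∈ 𝓕.F (z + 1).toNat := by
  rw [Ideal.mem_span_singleton'] at h
  obtain ⟨g, hg⟩ := h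
  have h1 : ((g : A[T;T⁻¹]) * T (-1)).coeff z = b := by
    have := congrArg (fun y : 𝓕.extRees => (y : A[T;T⁻¹]).coeff z) hg
    simp only [Subalgebra.coe_mul, coe_u, coe_monoE, AddMonoidAlgebra.coeff_single,
      Finsupp.single_eq_same] at this
    exact this
  rw [coeff_mul_T, sub_neg_eq_add] at h1
  rw [← h1]
  exact g.2 (z + 1)

theorem algebraMap_eq_monoE (b : A) :
    algebraMap A 𝓕.extRees b = monoE 𝓕 0 b (by simp [𝓕.zero_eq]) := by
  refine Subtype.ext ?_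
  rw [coe_monoE]
  rfl

theorem u_eq_monoE : 𝓕.u = monoE 𝓕 (-1) 1 (by simp [𝓕.zero_eq]) := by
  refine Subtype.ext ?_
  rw [coe_monoE, coe_u]
  rfl

theorem termL_eq_monoE (x : 𝓕.extRees) (z : ℤ) :
    termL 𝓕 x z = monoE 𝓕 z ((x : A[T;T⁻¹]).coeff z) (x.2 z) := rfl

/-- A regular element of `A` is a nonzerodivisor of the extended Rees algebra. -/
theorem algebraMap_mem_nonZeroDivisors {a : A} (ha : ∀ c : A, c * a = 0 → c = 0) :
    algebraMap A 𝓕.extRees a ∈ nonZeroDivisors 𝓕.extRees := by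
  rw [mem_nonZeroDivisors_iff_right]
  intro x hx
  refine Subtype.ext ?_
  refine LaurentPolynomial.ext fun z => ?_
  have h1 := congrArg (fun y : 𝓕.extRees => (y : A[T;T⁻¹]).coeff z) hx
  simp only [Subalgebra.coe_mul, algebraMap_eq_monoE, coe_monoE] at h1
  have h2 := AddMonoidAlgebra.coeff_mul_single_add (x : A[T;T⁻¹]) a 0 z
  rw [add_zero] at h2
  rw [h2] at h1
  exact ha _ h1

end Mono

section GPlus

variable {A : Type u} [CommRing A] [IsNoetherianRing A] (𝓕 : FiltBl.IdealFiltration A)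

/-- A prime of the extended Rees algebra containing `u`, all `b T^m` (`m ≥ 1`) and hence a regular
element of `F¹` has height at least two. -/
theorem two_le_height_of_mem (Q' : Ideal 𝓕.extRees) [Q'.IsPrime] (hu : 𝓕.u ∈ Q')
    (hpos : ∀ (m : ℕ) (_ : 1 ≤ m) (b : A) (hb : b ∈ 𝓕.F ((m : ℤ)).toNat), monoE 𝓕 m b hb ∈ Q')
    (a : A) (ha1 : a ∈ 𝓕.F 1) (hareg : ∀ c : A, c * a = 0 → c = 0) :
    2 ≤ Q'.height := by
  set q : Ideal A := Q'.comap (algebraMap A 𝓕.extRees) with hq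
  have hqprime : q.IsPrime := Ideal.comap_isPrime _ _
  set qs : Ideal 𝓕.extRees := (primeOver q).comap (algebraMap 𝓕.extRees A[T;T⁻¹]) with hqs
  have hqsprime : qs.IsPrime := Ideal.comap_isPrime _ _
  have haQ : algebraMap A 𝓕.extRees a ∈ Q' := by
    have h1 : algebraMap A 𝓕.extRees a = monoE 𝓕 ((1 : ℕ) : ℤ) a (by simpa using ha1) * 𝓕.u := by
      rw [u_eq_monoE, algebraMap_eq_monoE]
      rw [monoE_mul_monoE 𝓕 _ _ _ _ _ _ (by simp [𝓕.zero_eq])]
      refine Subtype.ext ?_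
      simp
    rw [h1]
    exact Q'.mul_mem_left _ hu
  have haq : a ∈ q := haQ
  have hle : qs ≤ Q' := by
    intro f hf
    rw [hqs, Ideal.mem_comap, mem_primeOver_iff] at hf
    rw [← sum_termL 𝓕 f]
    refine Q'.sum_mem fun z _ => ?_
    rcases lt_trichotomy z 0 with hz | hz | hz
    · exact (Ideal.span_singleton_le_iff_mem _).mpr hu (termL_mem_span_u 𝓕 f hz)
    · subst hz
      have h1 : termL 𝓕 f 0 = algebraMap A 𝓕.extRees ((f : A[T;T⁻¹]).coeff 0) := by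
        rw [algebraMap_eq_monoE]; rfl
      rw [h1]
      exact hf 0
    · rw [termL_eq_monoE]
      obtain ⟨m, rfl⟩ : ∃ m : ℕ, z = (m : ℤ) := ⟨z.toNat, (Int.toNat_of_nonneg hz.le).symm⟩
      exact hpos m (by omega) _ _
  have hne : qs ≠ Q' := by
    intro h
    have : 𝓕.u ∈ qs := h ▸ hu
    rw [hqs, Ideal.mem_comap, mem_primeOver_iff] at this
    have h1 := this (-1)
    rw [algebraMap_extRees, coe_u, LaurentPolynomial.T_apply, if_pos rfl] at h1
    exact hqprime.ne_top ((Ideal.eq_top_iff_one _).mpr h1)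
  have hlt : qs < Q' := lt_of_le_of_ne hle hne
  have h1 : qs.height + 1 ≤ Q'.height := Ideal.height_add_one_le_of_lt_of_isPrime hlt
  have h2 : 1 ≤ qs.height := by
    rw [Order.one_le_iff_ne_zero, Ne, Ideal.height_eq_zero_iff]
    intro hmin
    have hmem : algebraMap A 𝓕.extRees a ∈ qs := by
      rw [hqs, Ideal.mem_comap, mem_primeOver_iff]
      intro n
      rw [algebraMap_extRees, algebraMap_eq_monoE, coe_monoE, AddMonoidAlgebra.coeff_single,
        Finsupp.single_apply]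
      split_ifs
      · exact haq
      · exact q.zero_mem
    exact notMem_nonZeroDivisors_of_mem_mem_minimalPrimes hmem hmin
      (algebraMap_mem_nonZeroDivisors 𝓕 hareg)
  calc (2 : ℕ∞) = 1 + 1 := by norm_num
    _ ≤ qs.height + 1 := add_le_add_left h2 1
    _ ≤ Q'.height := h1

/-- If `G` satisfies `(S_1)` and `F¹` contains a regular element, then no nonzero element of `G`
is killed by `G₊`. -/
theorem mem_span_u_of_forall_monoE_mul_mem (hfg : Algebra.FiniteType A 𝓕.rees)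
    (hG : LocCoh.HasSk 1 𝓕.Gr 𝓕.Gr) (a : A) (ha1 : a ∈ 𝓕.F 1)
    (hareg : ∀ c : A, c * a = 0 → c = 0) (g : 𝓕.extRees)
    (hg : ∀ (m : ℕ) (_ : 1 ≤ m) (b : A) (hb : b ∈ 𝓕.F ((m : ℤ)).toNat),
      monoE 𝓕 m b hb * g ∈ Ideal.span {𝓕.u}) :
    g ∈ Ideal.span {𝓕.u} := by
  have hnoe := isNoetherianRing_extRees 𝓕 hfg
  by_contra hcon
  have hne : (Ideal.Quotient.mk (Ideal.span {𝓕.u}) g : 𝓕.Gr) ≠ 0 := by
    rw [Ne, Ideal.Quotient.eq_zero_iff_mem]
    exact hcon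
  obtain ⟨Q, hQass, hQle⟩ := exists_le_isAssociatedPrime_of_isNoetherianRing
    (R := 𝓕.Gr) (M := 𝓕.Gr) _ hne
  have hQprime : Q.IsPrime := hQass.isPrime
  have hmin : Q ∈ minimalPrimes 𝓕.Gr := by
    have h1 := (Groth.Agent.Lib.Helper49.Serre.hasSk_one_iff (R := 𝓕.Gr) (M := 𝓕.Gr)).mpr hG Q
      hQass
    have h2 : Module.annihilator 𝓕.Gr 𝓕.Gr = ⊥ := by
      rw [eq_bot_iff]
      intro x hx
      have := Module.mem_annihilator.mp hx 1
      rw [smul_eq_mul, mul_one] at this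
      exact this
    rw [h2] at h1
    exact h1
  set Q' : Ideal 𝓕.extRees := Q.comap (Ideal.Quotient.mk (Ideal.span {𝓕.u})) with hQ'
  have hQ'prime : Q'.IsPrime := Ideal.comap_isPrime _ _
  have hQ'min : Q' ∈ (Ideal.span {𝓕.u}).minimalPrimes := by
    have hmin' : Q ∈ (⊥ : Ideal 𝓕.Gr).minimalPrimes := hmin
    have h1 := Ideal.minimalPrimes_comap_of_surjective (R := 𝓕.extRees) (S := 𝓕.Gr)
      (f := Ideal.Quotient.mk (Ideal.span {𝓕.u})) Ideal.Quotient.mk_surjective (I := ⊥) (J := Q)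
      hmin'
    rw [← RingHom.ker_eq_comap_bot, Ideal.mk_ker] at h1
    exact h1
  have hle1 : Q'.height ≤ 1 :=
    Ideal.height_le_one_of_isPrincipal_of_mem_minimalPrimes (Ideal.span {𝓕.u}) Q' hQ'min
  have hu : 𝓕.u ∈ Q' := hQ'min.1.2 (Ideal.mem_span_singleton_self _)
  have hpos : ∀ (m : ℕ) (_ : 1 ≤ m) (b : A) (hb : b ∈ 𝓕.F ((m : ℤ)).toNat),
      monoE 𝓕 m b hb ∈ Q' := by
    intro m hm b hb
    rw [hQ', Ideal.mem_comap]
    apply hQle
    rw [Submodule.mem_colon_singleton, Submodule.mem_bot, smul_eq_mul, ← map_mul,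
      Ideal.Quotient.eq_zero_iff_mem]
    exact hg m hm b hb
  have h2 := two_le_height_of_mem 𝓕 Q' hu hpos a ha1 hareg
  have : (2 : ℕ∞) ≤ 1 := h2.trans hle1
  norm_num at this

/-- The key filtration statement: if `F^m c ⊆ F^{n+m}` for all `m ≥ 1` then `c ∈ F^n`. -/
theorem mem_F_of_forall_mul_mem (hfg : Algebra.FiniteType A 𝓕.rees)
    (hG : LocCoh.HasSk 1 𝓕.Gr 𝓕.Gr) (a : A) (ha1 : a ∈ 𝓕.F 1)
    (hareg : ∀ c : A, c * a = 0 → c = 0) (n : ℕ) (c : A)
    (h : ∀ (m : ℕ), 1 ≤ m → ∀ b ∈ 𝓕.F m, b * c ∈ 𝓕.F (n + m)) : c ∈ 𝓕.F n := by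
  have key : ∀ k : ℕ, k ≤ n → c ∈ 𝓕.F k := by
    intro k
    induction k with
    | zero => intro _; rw [𝓕.zero_eq]; trivial
    | succ k ih =>
      intro hk
      have hck : c ∈ 𝓕.F k := ih (by omega)
      have hck' : c ∈ 𝓕.F ((k : ℤ)).toNat := by simpa using hck
      have h1 : monoE 𝓕 k c hck' ∈ Ideal.span {𝓕.u} := by
        apply mem_span_u_of_forall_monoE_mul_mem 𝓕 hfg hG a ha1 hareg
        intro m hm b hb
        have hb' : b ∈ 𝓕.F m := by simpa using hb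
        have hbc : b * c ∈ 𝓕.F (n + m) := h m hm b hb'
        have hbc1 : b * c ∈ 𝓕.F (((m : ℤ) + (k : ℤ))).toNat :=
          𝓕.antitone (by omega) hbc
        rw [monoE_mul_monoE 𝓕 _ _ _ _ _ _ hbc1]
        apply monoE_mem_span_u
        exact 𝓕.antitone (by omega) hbc
      have h2 := mem_of_monoE_mem_span_u 𝓕 _ _ _ h1
      have h3 : ((k : ℤ) + 1).toNat = k + 1 := by omega
      rw [h3] at h2
      exact h2
  exact key n le_rfl

/-- Divisibility by a regular sequence `a, b₀ ∈ F¹` inside the filtration. -/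
theorem exists_mem_F_eq_mul (hfg : Algebra.FiniteType A 𝓕.rees)
    (hG : LocCoh.HasSk 1 𝓕.Gr 𝓕.Gr) (a b₀ : A) (ha1 : a ∈ 𝓕.F 1) (hb₀ : b₀ ∈ 𝓕.F 1)
    (hareg : ∀ c : A, c * a = 0 → c = 0)
    (hbreg : ∀ c d : A, b₀ * c = a * d → ∃ e, c = a * e) (n : ℕ) (c : A)
    (H1 : ∀ b ∈ 𝓕.F 1, ∃ d ∈ 𝓕.F n, b * c = a * d)
    (H2 : ∀ (m : ℕ), 1 ≤ m → ∀ b ∈ 𝓕.F m, ∃ d ∈ 𝓕.F (n + m), b * c = a * d) :
    ∃ d ∈ 𝓕.F n, c = a * d := by
  obtain ⟨d₀, -, hd₀⟩ := H1 b₀ hb₀
  obtain ⟨c', rfl⟩ := hbreg c d₀ hd₀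
  refine ⟨c', ?_, rfl⟩
  apply mem_F_of_forall_mul_mem 𝓕 hfg hG a ha1 hareg n c'
  intro m hm b hb
  obtain ⟨d, hd, hbd⟩ := H2 m hm b hb
  have h1 : (b * c' - d) * a = 0 := by
    have : b * (a * c') = a * d := hbd
    linear_combination this
  have h2 := hareg _ h1
  rw [sub_eq_zero] at h2
  rw [h2]
  exact hd

end GPlus

end Groth.Agent.Lib.Helper29.ExtRees
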