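import Groth.Agent.Lib.Helper29.FlatRegular
import Groth.Agent.Lib.Helper29.DimTheory
import Groth.Agent.Lib.Helper29.CMRing
import Groth.Agent.Lib.Helper2.LocalFlat
import Mathlib.LinearAlgebra.TensorProduct.RightExactness
import Mathlib.RingTheory.Flat.Equalizer

/-!
# Depth and dimension along flat local homomorphisms (EGA IV 6.1–6.3)
-/

set_option autoImplicit false
set_option linter.unusedSectionVars false
universe u

namespace Groth.Agent.Lib.Helper29.FlatLocal

open RingTheory.Sequence IsLocalRing TensorProduct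
open Groth.Agent.Lib.Helper29

section Quot

variable {B : Type u} [CommRing B] {P Q : Type u} [AddCommGroup P] [Module B P] [AddCommGroup Q]
  [Module B Q]

/-- A surjection with prescribed kernel induces an isomorphism from the quotient. -/
noncomputable def quotEquivOfSurjective (g : P →ₗ[B] Q) (hg : Function.Surjective g)
    (K : Submodule B P) (hK : ∀ p, g p = 0 ↔ p ∈ K) : (P ⧸ K) ≃ₗ[B] Q :=
  (Submodule.quotEquivOfEq K (LinearMap.ker g) (by
    ext p
    rw [LinearMap.mem_ker]
    exact (hK p).symm)).trans (g.quotKerEquivOfSurjective hg)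

end Quot

section Tensor

open Pointwise

variable (A B : Type u) [CommRing A] [CommRing B] [Algebra A B]
  (M : Type u) [AddCommGroup M] [Module A M]
  (N : Type u) [AddCommGroup N] [Module B N] [Module A N] [IsScalarTower A B N]

theorem algebraMap_smul_eq (a : A) (p : N ⊗[A] M) : (algebraMap A B a) • p = a • p :=
  algebraMap_smul B a p

theorem lTensor_lsmul_apply (x : A) (q : N ⊗[A] M) :
    (LinearMap.lTensor N (LinearMap.lsmul A M x)) q = x • q := by
  induction q with
  | zero => simp
  | add a b ha hb => rw [smul_add, map_add, ha, hb]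
  | tmul n m => rw [LinearMap.lTensor_tmul, LinearMap.lsmul_apply, TensorProduct.tmul_smul]

theorem rTensor_lsmul_apply (y : B) (q : N ⊗[A] M) :
    (LinearMap.rTensor M ((LinearMap.lsmul B N y).restrictScalars A)) q = y • q := by
  induction q with
  | zero => simp
  | add a b ha hb => rw [smul_add, map_add, ha, hb]
  | tmul n m =>
    rw [LinearMap.rTensor_tmul]
    rfl

/-- `(N ⊗ M)/x(N ⊗ M) ≅ N ⊗ (M/xM)` as `B`-modules, for `x ∈ A`. -/
noncomputable def quotSMulTopTensorEquivRight (x : A) :
    QuotSMulTop (algebraMap A B x) (N ⊗[A] M) ≃ₗ[B] N ⊗[A] QuotSMulTop x M := by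
  refine quotEquivOfSurjective
    (AlgebraTensorModule.lTensor B N (Submodule.mkQ (x • (⊤ : Submodule A M))))
    (LinearMap.lTensor_surjective N (Submodule.mkQ_surjective _)) _ ?_
  intro p
  have hex := lTensor_exact N (LinearMap.exact_lsmul_mkQ_smul_top M x)
    (Submodule.mkQ_surjective _)
  have h1 : (AlgebraTensorModule.lTensor B N (Submodule.mkQ (x • (⊤ : Submodule A M)))) p =
      (LinearMap.lTensor N (Submodule.mkQ (x • (⊤ : Submodule A M)))) p := rfl
  rw [h1, hex p, Submodule.mem_smul_pointwise_iff_exists]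
  constructor
  · rintro ⟨q, rfl⟩
    exact ⟨q, Submodule.mem_top, by rw [algebraMap_smul_eq, lTensor_lsmul_apply]⟩
  · rintro ⟨q, -, rfl⟩
    exact ⟨q, by rw [algebraMap_smul_eq, lTensor_lsmul_apply]⟩

/-- The `B`-linear map `N ⊗ M → (N/yN) ⊗ M`. -/
noncomputable def rTensorMkQ (y : B) : N ⊗[A] M →ₗ[B] (QuotSMulTop y N) ⊗[A] M :=
  AlgebraTensorModule.map (Submodule.mkQ (y • (⊤ : Submodule B N))) (LinearMap.id : M →ₗ[A] M)

theorem rTensorMkQ_tmul (y : B) (n : N) (m : M) :
    rTensorMkQ A B M N y (n ⊗ₜ[A] m) = (Submodule.mkQ (y • (⊤ : Submodule B N)) n) ⊗ₜ[A] m := by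
  unfold rTensorMkQ
  rw [AlgebraTensorModule.map_tmul]
  rfl

theorem rTensorMkQ_eq (y : B) (p : N ⊗[A] M) :
    rTensorMkQ A B M N y p =
      (LinearMap.rTensor M ((Submodule.mkQ (y • (⊤ : Submodule B N))).restrictScalars A)) p := by
  induction p with
  | zero => simp
  | add a b ha hb => rw [map_add, map_add, ha, hb]
  | tmul n m =>
    rw [rTensorMkQ_tmul, LinearMap.rTensor_tmul]
    rfl

theorem rTensorMkQ_surjective (y : B) : Function.Surjective (rTensorMkQ A B M N y) := by
  intro z
  have hs : Function.Surjective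
      ((Submodule.mkQ (y • (⊤ : Submodule B N))).restrictScalars A) := fun q => by
    obtain ⟨n, rfl⟩ := Submodule.mkQ_surjective _ q
    exact ⟨n, rfl⟩
  obtain ⟨p, hp⟩ := LinearMap.rTensor_surjective M hs z
  exact ⟨p, (rTensorMkQ_eq A B M N y p).trans hp⟩

theorem rTensorMkQ_eq_zero_iff (y : B) (p : N ⊗[A] M) :
    rTensorMkQ A B M N y p = 0 ↔ p ∈ y • (⊤ : Submodule B (N ⊗[A] M)) := by
  have hs : Function.Surjective
      ((Submodule.mkQ (y • (⊤ : Submodule B N))).restrictScalars A) := fun q => by
    obtain ⟨n, rfl⟩ := Submodule.mkQ_surjective _ q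
    exact ⟨n, rfl⟩
  have hfg : Function.Exact ((LinearMap.lsmul B N y).restrictScalars A)
      ((Submodule.mkQ (y • (⊤ : Submodule B N))).restrictScalars A) :=
    fun n => LinearMap.exact_lsmul_mkQ_smul_top N y n
  have hex := rTensor_exact M hfg hs
  rw [rTensorMkQ_eq, hex p, Submodule.mem_smul_pointwise_iff_exists]
  constructor
  · rintro ⟨q, rfl⟩
    exact ⟨q, Submodule.mem_top, (rTensor_lsmul_apply A B M N y q).symm⟩
  · rintro ⟨q, -, rfl⟩
    exact ⟨q, rTensor_lsmul_apply A B M N y q⟩

/-- `(N ⊗ M)/y(N ⊗ M) ≅ (N/yN) ⊗ M` as `B`-modules, for `y ∈ B`. -/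
noncomputable def quotSMulTopTensorEquivLeft (y : B) :
    QuotSMulTop y (N ⊗[A] M) ≃ₗ[B] (QuotSMulTop y N) ⊗[A] M :=
  quotEquivOfSurjective (rTensorMkQ A B M N y) (rTensorMkQ_surjective A B M N y) _
    (rTensorMkQ_eq_zero_iff A B M N y)

end Tensor

section Regular

open Pointwise

variable (A B : Type u) [CommRing A] [CommRing B] [Algebra A B]
  (M : Type u) [AddCommGroup M] [Module A M]
  (N : Type u) [AddCommGroup N] [Module B N] [Module A N] [IsScalarTower A B N]

/-- An `M`-regular element of `A` is `N ⊗ M`-regular when `N` is flat over `A`. -/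
theorem isSMulRegular_tensor_right [Module.Flat A N] {x : A} (hx : IsSMulRegular M x) :
    IsSMulRegular (N ⊗[A] M) (algebraMap A B x) := by
  have h1 : IsSMulRegular (N ⊗[A] M) x := IsSMulRegular.lTensor N hx
  intro p q hpq
  apply h1
  change x • p = x • q
  rw [← algebraMap_smul_eq A B M N, ← algebraMap_smul_eq A B M N]
  exact hpq

/-- An `N`-regular element `y` of `B` with `N/yN` flat over `A` is `N ⊗ M`-regular. -/
theorem isSMulRegular_tensor_left {y : B} (hy : IsSMulRegular N y)
    [Module.Flat A (QuotSMulTop y N)] : IsSMulRegular (N ⊗[A] M) y := by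
  have hs : Function.Surjective
      ((Submodule.mkQ (y • (⊤ : Submodule B N))).restrictScalars A) := fun q => by
    obtain ⟨n, rfl⟩ := Submodule.mkQ_surjective _ q
    exact ⟨n, rfl⟩
  have hfg : Function.Exact ((LinearMap.lsmul B N y).restrictScalars A)
      ((Submodule.mkQ (y • (⊤ : Submodule B N))).restrictScalars A) :=
    fun n => LinearMap.exact_lsmul_mkQ_smul_top N y n
  have hinj : Function.Injective ((LinearMap.lsmul B N y).restrictScalars A) := hy
  have h1 := LinearMap.lTensor_injective_of_exact_of_flat _ hs _ hinj hfg M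
  rw [LinearMap.lTensor_inj_iff_rTensor_inj] at h1
  intro p q hpq
  apply h1
  rw [rTensor_lsmul_apply, rTensor_lsmul_apply]
  exact hpq

end Regular


section Depth

variable (A B : Type u) [CommRing A] [CommRing B] [IsLocalRing A] [IsLocalRing B]
  [IsNoetherianRing A] [IsNoetherianRing B] [Algebra A B] [IsLocalHom (algebraMap A B)]

omit [IsNoetherianRing A] [IsNoetherianRing B] in
/-- The closed fibre of a nonzero finite `B`-module is nonzero. -/
theorem map_maximalIdeal_smul_top_ne_top (N : Type u) [AddCommGroup N] [Module B N]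
    [Module.Finite B N] [Nontrivial N] :
    (maximalIdeal A).map (algebraMap A B) • (⊤ : Submodule B N) ≠ ⊤ := by
  intro h
  have hle : (maximalIdeal A).map (algebraMap A B) • (⊤ : Submodule B N) ≤
      maximalIdeal B • (⊤ : Submodule B N) :=
    Submodule.smul_mono_left (FlatRegular.map_maximalIdeal_le A B)
  rw [h] at hle
  exact maximalIdeal_smul_top_ne_top B N (top_le_iff.1 hle)

omit [IsNoetherianRing A] [IsNoetherianRing B] in
theorem nontrivial_fibMod (N : Type u) [AddCommGroup N] [Module B N]
    [Module.Finite B N] [Nontrivial N] :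
    Nontrivial (N ⧸ ((maximalIdeal A).map (algebraMap A B) • (⊤ : Submodule B N))) := by
  have h := map_maximalIdeal_smul_top_ne_top A B N
  exact Submodule.Quotient.nontrivial_iff.2 h

omit [IsNoetherianRing A] [IsNoetherianRing B] in
/-- A nonzero finite `B`-module which is flat over `A` is faithfully flat over `A`. -/
theorem faithfullyFlat_of_flat (N : Type u) [AddCommGroup N] [Module B N] [Module A N]
    [IsScalarTower A B N] [Module.Finite B N] [Nontrivial N] [Module.Flat A N] :
    Module.FaithfullyFlat A N := by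
  refine ⟨fun m hm => ?_⟩
  have hm' : m = maximalIdeal A := IsLocalRing.eq_maximalIdeal hm
  subst hm'
  intro h
  apply map_maximalIdeal_smul_top_ne_top A B N
  rw [eq_top_iff]
  intro n _
  rw [FlatRegular.mem_smul_top_iff, h]
  exact Submodule.mem_top

omit [IsNoetherianRing A] [IsNoetherianRing B] in
theorem nontrivial_tensor (N : Type u) [AddCommGroup N] [Module B N] [Module A N]
    [IsScalarTower A B N] [Module.Finite B N] [Nontrivial N] [Module.Flat A N]
    (M : Type u) [AddCommGroup M] [Module A M] [Nontrivial M] :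
    Nontrivial (N ⊗[A] M) := by
  have := faithfullyFlat_of_flat A B N
  infer_instance

omit [IsLocalRing A] [IsLocalRing B] [IsNoetherianRing A] [IsNoetherianRing B]
  [IsLocalHom (algebraMap A B)] in
theorem finite_tensor (N : Type u) [AddCommGroup N] [Module B N] [Module A N]
    [IsScalarTower A B N] [Module.Finite B N]
    (M : Type u) [AddCommGroup M] [Module A M] [Module.Finite A M] :
    Module.Finite B (N ⊗[A] M) :=
  Groth.Agent.Lib.Helper2.finite_tensor_mixed'

variable (N : Type u) [AddCommGroup N] [Module B N] [Module A N] [IsScalarTower A B N]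
  [Module.Finite B N] (M : Type u) [AddCommGroup M] [Module A M]

/-- The `B`-linear map `N → N ⊗ M`, `n ↦ n ⊗ m₀`. -/
noncomputable def tmulRight (m₀ : M) : N →ₗ[B] N ⊗[A] M where
  toFun n := n ⊗ₜ[A] m₀
  map_add' n n' := TensorProduct.add_tmul n n' m₀
  map_smul' _ _ := rfl

omit [IsLocalRing B] [IsNoetherianRing A] [IsNoetherianRing B] [IsLocalHom (algebraMap A B)]
  [Module.Finite B N] in
theorem tmulRight_eq_zero_iff [Module.Flat A N] (ι : (A ⧸ maximalIdeal A) →ₗ[A] M)
    (hι : Function.Injective ι) (n : N) :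
    tmulRight A B N M (ι 1) n = 0 ↔
      n ∈ (maximalIdeal A).map (algebraMap A B) • (⊤ : Submodule B N) := by
  have hinj := Module.Flat.lTensor_preserves_injective_linearMap (M := N) ι hι
  have h1 : tmulRight A B N M (ι 1) n = LinearMap.lTensor N ι (n ⊗ₜ[A] (1 : A ⧸ maximalIdeal A)) := by
    rw [LinearMap.lTensor_tmul]
    rfl
  rw [h1, ← map_zero (LinearMap.lTensor N ι), hinj.eq_iff, FlatRegular.mem_smul_top_iff,
    ← (TensorProduct.tensorQuotEquivQuotSMul N (maximalIdeal A)).map_eq_zero_iff,
    ← map_one (Ideal.Quotient.mk (maximalIdeal A)), TensorProduct.tensorQuotEquivQuotSMul_tmul_mk,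
    one_smul, Submodule.Quotient.mk_eq_zero]

omit [IsNoetherianRing B] in
/-- If `depth M = 0`, the closed fibre `N/𝔪N` embeds `B`-linearly into `N ⊗ M`. -/
theorem exists_fibre_injection [Module.Flat A N] [Module.Finite A M]
    (h0 : LocCoh.depth A M = 0) :
    ∃ j : (N ⧸ ((maximalIdeal A).map (algebraMap A B) • (⊤ : Submodule B N))) →ₗ[B] N ⊗[A] M,
      Function.Injective j := by
  have hass := (depth_eq_zero_iff_maximalIdeal_mem_ass A M).1 h0
  rw [AssociatedPrimes.mem_iff, isAssociatedPrime_iff_exists_injective_linearMap] at hass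
  obtain ⟨-, ι, hι⟩ := hass
  have hle : (maximalIdeal A).map (algebraMap A B) • (⊤ : Submodule B N) ≤
      LinearMap.ker (tmulRight A B N M (ι 1)) := by
    intro n hn
    rw [LinearMap.mem_ker]
    exact (tmulRight_eq_zero_iff A B N M ι hι n).2 hn
  refine ⟨Submodule.liftQ _ (tmulRight A B N M (ι 1)) hle, ?_⟩
  rw [← LinearMap.ker_eq_bot]
  apply Submodule.ker_liftQ_eq_bot
  intro n hn
  rw [LinearMap.mem_ker] at hn
  exact (tmulRight_eq_zero_iff A B N M ι hι n).1 hn

/-- Base case of the depth formula. -/
theorem depth_tensor_eq_zero [Module.Flat A N] [Module.Finite A M] [Nontrivial N] [Nontrivial M]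
    (h0 : LocCoh.depth A M = 0)
    (h0' : LocCoh.depth B
      (N ⧸ ((maximalIdeal A).map (algebraMap A B) • (⊤ : Submodule B N))) = 0) :
    LocCoh.depth B (N ⊗[A] M) = 0 := by
  have hfin : Module.Finite B (N ⊗[A] M) := finite_tensor A B N M
  have hnt : Nontrivial (N ⊗[A] M) := nontrivial_tensor A B N M
  have hntF := nontrivial_fibMod A B N
  obtain ⟨j, hj⟩ := exists_fibre_injection A B N M h0
  rw [depth_eq_zero_iff_forall_not_isSMulRegular B _ (maximalIdeal_smul_top_ne_top B _)] at h0' ⊢
  intro y hy hreg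
  exact h0' y hy (hreg.of_injective j hj)

end Depth



section DepthFormula

variable (A B : Type u) [CommRing A] [CommRing B] [IsLocalRing A] [IsLocalRing B]
  [IsNoetherianRing A] [IsNoetherianRing B] [Algebra A B] [IsLocalHom (algebraMap A B)]

theorem enat_eq_of_add_one_eq {a : ℕ∞} {s : ℕ} (h : a + 1 = ((s + 1 : ℕ) : ℕ∞)) : a = (s : ℕ∞) := by
  induction a with
  | top =>
    exfalso
    rw [top_add] at h
    exact ENat.top_ne_natCast _ h
  | coe a =>
    have h' : a + 1 = s + 1 := by exact_mod_cast h
    have : a = s := by omega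
    exact_mod_cast this

/-- There is a regular element in the maximal ideal when the depth is positive. -/
theorem exists_regular_of_depth_ne_zero (M : Type u) [AddCommGroup M] [Module A M]
    [Module.Finite A M] [Nontrivial M] (h : LocCoh.depth A M ≠ 0) :
    ∃ x ∈ maximalIdeal A, IsSMulRegular M x := by
  by_contra hcon
  push Not at hcon
  exact h ((depth_eq_zero_iff_forall_not_isSMulRegular A M (maximalIdeal_smul_top_ne_top A M)).2 hcon)

/-- Depth formula when `depth M = 0`: induction on the depth of the closed fibre. -/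
theorem depth_tensor_of_depth_zero (M : Type u) [AddCommGroup M] [Module A M] [Module.Finite A M]
    [Nontrivial M] (h0 : LocCoh.depth A M = 0) (s : ℕ) :
    ∀ (N : Type u) [AddCommGroup N] [Module B N] [Module A N] [IsScalarTower A B N]
      [Module.Finite B N] [Module.Flat A N] [Nontrivial N],
      LocCoh.depth B (N ⧸ ((maximalIdeal A).map (algebraMap A B) • (⊤ : Submodule B N))) = s →
      LocCoh.depth B (N ⊗[A] M) = s := by
  induction s with
  | zero =>
    intro N _ _ _ _ _ _ _ hs
    exact depth_tensor_eq_zero A B N M h0 (by simpa using hs)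
  | succ s ih =>
    intro N _ _ _ _ _ _ _ hs
    have hntF := nontrivial_fibMod A B N
    have hne : LocCoh.depth B
        (N ⧸ ((maximalIdeal A).map (algebraMap A B) • (⊤ : Submodule B N))) ≠ 0 := by
      rw [hs]
      exact_mod_cast Nat.succ_ne_zero s
    obtain ⟨y, hy, hyF⟩ := exists_regular_of_depth_ne_zero B _ hne
    obtain ⟨hyN, hflat⟩ := FlatRegular.isSMulRegular_and_flat_of_fibre A B N y hyF
    have hntN' : Nontrivial (QuotSMulTop y N) := DepthLib.nontrivial_quotSMulTop B N hy
    have hdF : LocCoh.depth B (QuotSMulTop y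
        (N ⧸ ((maximalIdeal A).map (algebraMap A B) • (⊤ : Submodule B N)))) = s := by
      have h1 := DepthLib.depth_quotSMulTop_add_one B
        (N ⧸ ((maximalIdeal A).map (algebraMap A B) • (⊤ : Submodule B N))) hy hyF
      rw [hs] at h1
      exact enat_eq_of_add_one_eq h1
    have hdF' : LocCoh.depth B ((QuotSMulTop y N) ⧸
        ((maximalIdeal A).map (algebraMap A B) • (⊤ : Submodule B (QuotSMulTop y N)))) = s := by
      rw [← hdF]
      exact (CMLib.depth_congr
        (FlatRegular.quotSwapEquiv ((maximalIdeal A).map (algebraMap A B)) y N)).symm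
    have ih' := ih (QuotSMulTop y N) hdF'
    have hfin : Module.Finite B (N ⊗[A] M) := finite_tensor A B N M
    have hnt : Nontrivial (N ⊗[A] M) := nontrivial_tensor A B N M
    have hreg : IsSMulRegular (N ⊗[A] M) y := isSMulRegular_tensor_left A B M N hyN
    have h2 := DepthLib.depth_quotSMulTop_add_one B (N ⊗[A] M) hy hreg
    rw [CMLib.depth_congr (quotSMulTopTensorEquivLeft A B M N y), ih'] at h2
    rw [← h2]
    push_cast
    rfl


/-- Depth formula, nontrivial case: induction on `depth M`. -/
theorem depth_tensor_aux (N : Type u) [AddCommGroup N] [Module B N] [Module A N]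
    [IsScalarTower A B N] [Module.Finite B N] [Module.Flat A N] [Nontrivial N] (r : ℕ) :
    ∀ (M : Type u) [AddCommGroup M] [Module A M] [Module.Finite A M] [Nontrivial M],
      LocCoh.depth A M = r →
      LocCoh.depth B (N ⊗[A] M) = (r : ℕ∞) + LocCoh.depth B
        (N ⧸ ((maximalIdeal A).map (algebraMap A B) • (⊤ : Submodule B N))) := by
  have hntF := nontrivial_fibMod A B N
  obtain ⟨s, hs⟩ := ENat.ne_top_iff_exists.1 (DepthLib.depth_ne_top B
    (N ⧸ ((maximalIdeal A).map (algebraMap A B) • (⊤ : Submodule B N))))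
  induction r with
  | zero =>
    intro M _ _ _ _ hr
    rw [depth_tensor_of_depth_zero A B M (by simpa using hr) s N hs.symm, ← hs]
    simp
  | succ r ih =>
    intro M _ _ _ _ hr
    have hne : LocCoh.depth A M ≠ 0 := by
      rw [hr]
      exact_mod_cast Nat.succ_ne_zero r
    obtain ⟨x, hx, hxM⟩ := exists_regular_of_depth_ne_zero A M hne
    have hntM' : Nontrivial (QuotSMulTop x M) := DepthLib.nontrivial_quotSMulTop A M hx
    have hdM' : LocCoh.depth A (QuotSMulTop x M) = r := by
      have h1 := DepthLib.depth_quotSMulTop_add_one A M hx hxM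
      rw [hr] at h1
      exact enat_eq_of_add_one_eq h1
    have ih' := ih (QuotSMulTop x M) hdM'
    have hfin : Module.Finite B (N ⊗[A] M) := finite_tensor A B N M
    have hnt : Nontrivial (N ⊗[A] M) := nontrivial_tensor A B N M
    have hreg : IsSMulRegular (N ⊗[A] M) (algebraMap A B x) :=
      isSMulRegular_tensor_right A B M N hxM
    have hxB : algebraMap A B x ∈ maximalIdeal B := DepthFinite.algebraMap_mem_maximalIdeal A B hx
    have h2 := DepthLib.depth_quotSMulTop_add_one B (N ⊗[A] M) hxB hreg
    rw [CMLib.depth_congr (quotSMulTopTensorEquivRight A B M N x), ih'] at h2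
    rw [← h2]
    push_cast
    ring

theorem depth_eq_top_of_subsingleton (M : Type u) [AddCommGroup M] [Module A M]
    [Subsingleton M] : LocCoh.depth A M = ⊤ := by
  unfold LocCoh.depth LocCoh.idealDepth
  rw [if_pos (Subsingleton.elim _ _)]

/-- **Depth formula for flat local homomorphisms** (EGA IV 6.3.1). -/
theorem depth_tensor (M : Type u) [AddCommGroup M] [Module A M] [Module.Finite A M]
    (N : Type u) [AddCommGroup N] [Module B N] [Module A N]
    [IsScalarTower A B N] [Module.Finite B N] [Module.Flat A N] :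
    LocCoh.depth B (N ⊗[A] M) = LocCoh.depth A M + LocCoh.depth B
        (N ⧸ ((maximalIdeal A).map (algebraMap A B) • (⊤ : Submodule B N))) := by
  rcases subsingleton_or_nontrivial M with hM | hM
  · rw [depth_eq_top_of_subsingleton B (N ⊗[A] M), depth_eq_top_of_subsingleton A M, top_add]
  rcases subsingleton_or_nontrivial N with hN | hN
  · rw [depth_eq_top_of_subsingleton B (N ⊗[A] M), depth_eq_top_of_subsingleton B
      (N ⧸ ((maximalIdeal A).map (algebraMap A B) • (⊤ : Submodule B N))), add_top]
  obtain ⟨r, hr⟩ := ENat.ne_top_iff_exists.1 (DepthLib.depth_ne_top A M)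
  rw [depth_tensor_aux A B N r M hr.symm, hr]


end DepthFormula

end Groth.Agent.Lib.Helper29.FlatLocal
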