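import Mathlib
import Groth.Agent.Lib.Helper29.FlatLocal
import Groth.Agent.Lib.Helper29.DepthFinite
import Groth.Agent.Lib.Helper49.Serre3
import Groth.Agent.Lib.Helper49.Serre4

/-!
# Depth of a flat algebra over a local Artinian ring with normal closed fibre (helper29)
-/

set_option autoImplicit false
set_option linter.unusedSectionVars false
set_option linter.style.haveILetI false
universe u
open IsLocalRing TensorProduct

namespace Groth.Agent.Lib.Helper29.FlatHartogs

/-- Krull dimension is insensitive to nilpotents. -/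
theorem ringKrullDim_quotient_of_le_nilradical {R : Type*} [CommRing R] (I : Ideal R)
    (hI : I ≤ nilradical R) : ringKrullDim (R ⧸ I) = ringKrullDim R := by
  have hz : PrimeSpectrum.zeroLocus (I : Set R) = Set.univ := by
    rw [Set.eq_univ_iff_forall]
    intro p
    rw [PrimeSpectrum.mem_zeroLocus]
    exact fun x hx => nilradical_le_prime p.asIdeal (hI hx)
  unfold ringKrullDim
  rw [Order.krullDim_eq_of_orderIso I.primeSpectrumQuotientOrderIsoZeroLocus,
    Order.krullDim_eq_of_orderIso (OrderIso.setCongr _ _ hz),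
    Order.krullDim_eq_of_orderIso OrderIso.Set.univ]

theorem algebraMapSubmonoid_primeCompl {A : Type*} [CommRing A] (I 𝔭 : Ideal A) [𝔭.IsPrime]
    (hI : I ≤ 𝔭) [(𝔭.map (Ideal.Quotient.mk I)).IsPrime] :
    Algebra.algebraMapSubmonoid (A ⧸ I) 𝔭.primeCompl =
      (𝔭.map (Ideal.Quotient.mk I)).primeCompl := by
  ext y
  constructor
  · rintro ⟨a, ha, rfl⟩
    intro hmem
    apply ha
    have : (Ideal.Quotient.mk I) a ∈ 𝔭.map (Ideal.Quotient.mk I) := hmem
    rw [Ideal.mem_map_iff_of_surjective _ Ideal.Quotient.mk_surjective] at this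
    obtain ⟨b, hb, hab⟩ := this
    have h1 : a - b ∈ I := by
      rw [← Ideal.Quotient.eq]
      exact hab.symm
    have : a = (a - b) + b := by ring
    rw [this]
    exact 𝔭.add_mem (hI h1) hb
  · intro hy
    obtain ⟨a, rfl⟩ := Ideal.Quotient.mk_surjective y
    refine ⟨a, fun ha => hy (Ideal.mem_map_of_mem _ ha), rfl⟩

section Main

variable (C : Type u) [CommRing C] [IsLocalRing C] [IsArtinianRing C]
  (A : Type u) [CommRing A] [IsNoetherianRing A] [Algebra C A] [Module.Flat C A]
  (𝔭 : Ideal A) [𝔭.IsPrime]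

local notation "II" => Ideal.map (algebraMap C A) (maximalIdeal C)

theorem isNilpotent_map_maximalIdeal : IsNilpotent ((maximalIdeal C).map (algebraMap C A)) := by
  have h := IsArtinianRing.isNilpotent_jacobson_bot (R := C)
  rw [IsLocalRing.jacobson_eq_maximalIdeal ⊥ bot_ne_top] at h
  obtain ⟨n, hn⟩ := h
  refine ⟨n, ?_⟩
  rw [← Ideal.map_pow, hn]
  exact Ideal.map_bot

theorem le_of_isNilpotent {R : Type*} [CommRing R] (I : Ideal R) (hI : IsNilpotent I) :
    I ≤ nilradical R := by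
  obtain ⟨n, hn⟩ := hI
  intro x hx
  refine ⟨n, ?_⟩
  have : x ^ n ∈ I ^ n := Ideal.pow_mem_pow hx n
  rw [hn] at this
  exact this

theorem map_maximalIdeal_le : (maximalIdeal C).map (algebraMap C A) ≤ 𝔭 :=
  (le_of_isNilpotent _ (isNilpotent_map_maximalIdeal C A)).trans (nilradical_le_prime 𝔭)

/-- **Depth at primes of height `≥ 2`** of a Noetherian flat algebra over a local Artinian ring whose
closed fibre is normal at the prime. -/
theorem two_le_depth (h𝔭 : (2 : ℕ∞) ≤ 𝔭.height)
    (B : Type u) [CommRing B] [IsLocalRing B] [Algebra A B] [IsLocalization.AtPrime B 𝔭]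
    [(𝔭.map (Ideal.Quotient.mk ((maximalIdeal C).map (algebraMap C A)))).IsPrime]
    (F : Type u) [CommRing F] [Algebra (A ⧸ (maximalIdeal C).map (algebraMap C A)) F]
    [IsLocalization.AtPrime F
      (𝔭.map (Ideal.Quotient.mk ((maximalIdeal C).map (algebraMap C A))))]
    [IsDomain F] [IsIntegrallyClosed F] :
    (2 : ℕ∞) ≤ LocCoh.depth B B := by
  have hInil : IsNilpotent II := isNilpotent_map_maximalIdeal C A
  have hI𝔭 : II ≤ 𝔭 := map_maximalIdeal_le C A 𝔭
  letI algCB : Algebra C B := ((algebraMap A B).comp (algebraMap C A)).toAlgebra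
  haveI : IsScalarTower C A B := IsScalarTower.of_algebraMap_eq (fun _ => rfl)
  haveI : IsNoetherianRing B := IsLocalization.isNoetherianRing 𝔭.primeCompl B inferInstance
  haveI : Module.Flat A B := IsLocalization.flat B 𝔭.primeCompl
  haveI : Module.Flat C B := Module.Flat.trans C A B
  haveI : IsLocalHom (algebraMap C B) := by
    constructor
    intro c hc
    by_contra hcu
    have hcm : c ∈ maximalIdeal C := (IsLocalRing.mem_maximalIdeal c).mpr hcu
    have h1 : algebraMap C A c ∈ 𝔭 := hI𝔭 (Ideal.mem_map_of_mem _ hcm)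
    have h2 : algebraMap A B (algebraMap C A c) ∈ maximalIdeal B :=
      (IsLocalization.AtPrime.to_map_mem_maximal_iff B 𝔭 _).mpr h1
    exact (IsLocalRing.mem_maximalIdeal _).mp h2 hc
  set J := Ideal.map (algebraMap A B) II with hJdef
  have hJ : (maximalIdeal C).map (algebraMap C B) = J := by
    rw [hJdef, Ideal.map_map]
    rfl
  have hJnil : IsNilpotent J := by
    obtain ⟨n, hn⟩ := hInil
    refine ⟨n, ?_⟩
    rw [hJdef, ← Ideal.map_pow, hn]
    exact Ideal.map_bot
  -- the fibre ring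
  haveI hlocq : IsLocalization.AtPrime (B ⧸ J) (𝔭.map (Ideal.Quotient.mk II)) := by
    have h0 : IsLocalization (Algebra.algebraMapSubmonoid (A ⧸ II) 𝔭.primeCompl)
        (B ⧸ Ideal.map (algebraMap A B) II) := inferInstance
    rw [algebraMapSubmonoid_primeCompl II 𝔭 hI𝔭] at h0
    exact h0
  let e : (B ⧸ J) ≃ₐ[A ⧸ II] F :=
    IsLocalization.algEquiv (𝔭.map (Ideal.Quotient.mk II)).primeCompl (B ⧸ J) F
  haveI : IsDomain (B ⧸ J) := MulEquiv.isDomain F e.toRingEquiv.toMulEquiv
  haveI : IsIntegrallyClosed (B ⧸ J) := IsIntegrallyClosed.of_equiv e.symm.toRingEquiv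
  haveI : IsLocalRing (B ⧸ J) :=
    IsLocalRing.of_surjective' (Ideal.Quotient.mk J) Ideal.Quotient.mk_surjective
  haveI : IsLocalHom (algebraMap B (B ⧸ J)) :=
    IsLocalHom.of_surjective (Ideal.Quotient.mk J) Ideal.Quotient.mk_surjective
  have hdim : ringKrullDim (B ⧸ J) = ((𝔭.height : ℕ∞) : WithBot ℕ∞) := by
    rw [ringKrullDim_quotient_of_le_nilradical J (le_of_isNilpotent J hJnil)]
    exact IsLocalization.AtPrime.ringKrullDim_eq_height 𝔭 B
  have hnorm := Groth.Agent.Lib.Helper49.Serre.min_two_le_depth_of_isIntegrallyClosed (R := B ⧸ J)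
  have h2 : (2 : ℕ∞) ≤ LocCoh.depth (B ⧸ J) (B ⧸ J) := by
    rw [hdim] at hnorm
    have h3 : min (2 : WithBot ℕ∞) ((𝔭.height : ℕ∞) : WithBot ℕ∞) = ((2 : ℕ∞) : WithBot ℕ∞) := by
      apply min_eq_left
      exact WithBot.coe_le_coe.mpr h𝔭
    rw [h3] at hnorm
    exact WithBot.coe_le_coe.mp hnorm
  -- depth over `B`
  have h4 : LocCoh.depth B (B ⧸ J) = LocCoh.depth (B ⧸ J) (B ⧸ J) :=
    Groth.Agent.Lib.Helper29.DepthFinite.depth_eq_of_isLocalHom B (B ⧸ J) (B ⧸ J)
  -- the depth formula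
  have h5 := Groth.Agent.Lib.Helper29.FlatLocal.depth_tensor C B C B
  have e1 : (B ⊗[C] C) ≃ₗ[B] B := TensorProduct.AlgebraTensorModule.rid C B B
  rw [Groth.Agent.Lib.Helper29.CMLib.depth_congr e1] at h5
  have e2 : (B ⧸ ((maximalIdeal C).map (algebraMap C B) • (⊤ : Submodule B B))) ≃ₗ[B] (B ⧸ J) :=
    Submodule.quotEquivOfEq _ _ (by
      rw [hJ]
      exact Ideal.mul_top J)
  rw [Groth.Agent.Lib.Helper29.CMLib.depth_congr e2, h4] at h5
  rw [h5]
  exact le_trans h2 le_add_self

end Main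

end Groth.Agent.Lib.Helper29.FlatHartogs
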