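import Groth.Agent.Lib.Helper29.FlatRegular

/-!
# Flatness ascends along a regular element (EGA 0_IV 15.1.16, converse direction)

`A → B` a homomorphism of Noetherian rings with `B` local, `M` a finite `B`-module, `f ∈ 𝔪_B`
`M`-regular with `M/fM` flat over `A`: then `M` is flat over `A`.
-/

set_option autoImplicit false
set_option linter.unusedSectionVars false
universe u

namespace Groth.Agent.Lib.Helper29.FlatRegular

open RingTheory.Sequence IsLocalRing TensorProduct

section Step

variable (A B : Type u) [CommRing A] [CommRing B] [IsLocalRing B]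
  [IsNoetherianRing A] [IsNoetherianRing B] [Algebra A B]
  (M : Type u) [AddCommGroup M] [Module B M] [Module A M] [IsScalarTower A B M]
  [Module.Finite B M]

theorem rTensor_lsmul_apply' (I : Type u) [AddCommGroup I] [Module A I] (f : B)
    (u : M ⊗[A] I) :
    LinearMap.rTensor I ((LinearMap.lsmul B M f).restrictScalars A) u = f • u := by
  induction u using TensorProduct.induction_on with
  | zero => simp
  | tmul m i => simp [TensorProduct.smul_tmul']
  | add x y hx hy => rw [map_add, hx, hy, smul_add]

/-- If `f ∈ 𝔪_B` is `M`-regular and `M/fM` is `A`-flat then `M` is `A`-flat. -/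
theorem flat_of_flat_quotSMulTop (f : B) (hf : f ∈ maximalIdeal B) (hreg : IsSMulRegular M f)
    (hflat : Module.Flat A (QuotSMulTop f M)) : Module.Flat A M := by
  rw [Module.Flat.iff_lTensor_injective']
  intro I
  have hfinI : Module.Finite A I := Module.Finite.of_fg (IsNoetherian.noetherian I)
  have hfinT : Module.Finite B (M ⊗[A] I) := Groth.Agent.Lib.Helper2.finite_tensor_mixed'
  let g : M ⊗[A] I →ₗ[B] M ⊗[A] A := TensorProduct.AlgebraTensorModule.lTensor B M I.subtype
  let φ : M →ₗ[A] M := (LinearMap.lsmul B M f).restrictScalars A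
  let π : M →ₗ[A] QuotSMulTop f M := (Submodule.mkQ _ : M →ₗ[B] QuotSMulTop f M).restrictScalars A
  have hπ : Function.Surjective π := by
    intro q
    obtain ⟨m, rfl⟩ := Submodule.Quotient.mk_surjective _ q
    exact ⟨m, rfl⟩
  have hex : Function.Exact φ π := by
    intro m
    change (Submodule.Quotient.mk m : QuotSMulTop f M) = 0 ↔ _
    rw [Submodule.Quotient.mk_eq_zero, Submodule.mem_smul_pointwise_iff_exists]
    constructor
    · rintro ⟨m', -, rfl⟩
      exact ⟨m', rfl⟩
    · rintro ⟨m', rfl⟩
      exact ⟨m', Submodule.mem_top, rfl⟩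
  have hg : ∀ u, g u = LinearMap.lTensor M I.subtype u := fun u => rfl
  have hK : LinearMap.ker g = ⊥ := by
    apply Submodule.eq_bot_of_le_smul_of_le_jacobson_bot (Ideal.span {f}) (LinearMap.ker g)
      (IsNoetherian.noetherian _)
    · intro u hu
      rw [LinearMap.mem_ker] at hu
      have h1 : LinearMap.rTensor I π u = 0 := by
        have hinj : Function.Injective (LinearMap.lTensor (QuotSMulTop f M) I.subtype) :=
          Module.Flat.lTensor_preserves_injective_linearMap _ I.subtype_injective
        apply hinj
        rw [map_zero, ← LinearMap.comp_apply, LinearMap.lTensor_comp_rTensor,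
          ← LinearMap.rTensor_comp_lTensor, LinearMap.comp_apply, ← hg, hu, map_zero]
      obtain ⟨u', hu'⟩ := (rTensor_exact I hex hπ u).1 h1
      rw [rTensor_lsmul_apply' A B M I f u'] at hu'
      have hu'K : u' ∈ LinearMap.ker g := by
        rw [LinearMap.mem_ker]
        have h2 : f • g u' = 0 := by rw [← map_smul, hu', hu]
        have h3 : f • (TensorProduct.AlgebraTensorModule.rid A B M) (g u') = 0 := by
          rw [← map_smul, h2, map_zero]
        have h4 := hreg (by rw [h3, smul_zero] :
          f • (TensorProduct.AlgebraTensorModule.rid A B M) (g u') = f • 0)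
        exact (TensorProduct.AlgebraTensorModule.rid A B M).injective (by rw [h4, map_zero])
      rw [← hu']
      exact Submodule.smul_mem_smul (Ideal.mem_span_singleton_self f) hu'K
    · rw [IsLocalRing.jacobson_eq_maximalIdeal ⊥ bot_ne_top, Ideal.span_le]
      intro y hy
      rw [Set.mem_singleton_iff] at hy
      rw [hy]
      exact hf
  rw [injective_iff_map_eq_zero]
  intro u hu
  have : u ∈ LinearMap.ker g := by rw [LinearMap.mem_ker, hg, hu]
  rw [hK] at this
  exact this

end Step

section Main

variable (A B : Type u) [CommRing A] [CommRing B] [IsLocalRing B]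
  [IsNoetherianRing A] [IsNoetherianRing B] [Algebra A B]

/-- EGA 0_IV 15.1.16 (ii) ⇒ (i): if `fs ⊆ 𝔪_B` is `M`-regular and `M/(fs)M` is `A`-flat then all the
quotients `M/(f₁, …, fᵢ)M` are `A`-flat. -/
theorem flat_take_of_flat_last (fs : List B) :
    ∀ (M : Type u) [AddCommGroup M] [Module B M] [Module A M] [IsScalarTower A B M]
      [Module.Finite B M],
      (∀ f ∈ fs, f ∈ maximalIdeal B) → IsWeaklyRegular M fs →
      Module.Flat A (M ⧸ (Ideal.ofList fs • (⊤ : Submodule B M))) →
      ∀ i ≤ fs.length, Module.Flat A (M ⧸ (Ideal.ofList (fs.take i) • (⊤ : Submodule B M))) := by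
  induction fs with
  | nil =>
    intro M _ _ _ _ _ _ _ hflat i _
    rw [List.take_nil]
    exact hflat
  | cons f fs ih =>
    intro M _ _ _ _ _ hmem hreg hflat
    rw [isWeaklyRegular_cons_iff] at hreg
    have hfm : f ∈ maximalIdeal B := hmem f List.mem_cons_self
    have hmem' : ∀ g ∈ fs, g ∈ maximalIdeal B := fun g hg => hmem g (List.mem_cons_of_mem _ hg)
    have hflat' : Module.Flat A ((QuotSMulTop f M) ⧸
        (Ideal.ofList fs • (⊤ : Submodule B (QuotSMulTop f M)))) :=
      Module.Flat.of_linearEquiv
        ((Submodule.quotOfListConsSMulTopEquivQuotSMulTopInner M f fs).symm.restrictScalars A)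
    have h2 := ih (QuotSMulTop f M) hmem' hreg.2 hflat'
    have hQ : Module.Flat A (QuotSMulTop f M) := by
      have h0 := h2 0 (Nat.zero_le _)
      have e : ((QuotSMulTop f M) ⧸ (Ideal.ofList (fs.take 0) •
          (⊤ : Submodule B (QuotSMulTop f M)))) ≃ₗ[B] QuotSMulTop f M :=
        Submodule.quotEquivOfEqBot _ (by rw [List.take_zero, Ideal.ofList_nil, Submodule.bot_smul])
      exact Module.Flat.of_linearEquiv (e.symm.restrictScalars A)
    have hM : Module.Flat A M := flat_of_flat_quotSMulTop A B M f hfm hreg.1 hQ
    intro i hi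
    cases i with
    | zero =>
      have e : (M ⧸ (Ideal.ofList ((f :: fs).take 0) • (⊤ : Submodule B M))) ≃ₗ[B] M :=
        Submodule.quotEquivOfEqBot _ (by rw [List.take_zero, Ideal.ofList_nil, Submodule.bot_smul])
      exact Module.Flat.of_linearEquiv (e.restrictScalars A)
    | succ j =>
      have hj : j ≤ fs.length := by simpa using hi
      have := h2 j hj
      rw [List.take_succ_cons]
      exact Module.Flat.of_linearEquiv
        ((Submodule.quotOfListConsSMulTopEquivQuotSMulTopInner M f (fs.take j)).restrictScalars A)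

end Main

end Groth.Agent.Lib.Helper29.FlatRegular
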