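import Mathlib
import Groth.Agent.Lib.Helper29.HilbertBurch
import Groth.Agent.Lib.Helper54.FlatCoker
import Groth.Agent.Lib.Helper12.FlatExact

/-!
# Deforming Hilbert–Burch matrices along small extensions (helper29), part 1

Elementary ingredients: minimal generators of an ideal of a local ring, the "independence" consequence
of the equational criterion of flatness, exactness modulo an ideal in congruence form and its lifting
along a small extension.
-/

set_option autoImplicit false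
set_option linter.unusedSectionVars false
universe u
open IsLocalRing Matrix

namespace Groth.Agent.Lib.Helper29.HBDeform

open Groth.Agent.Lib.Helper15.HilbertBurch (D)

/-- Signed maximal minors of an `(r+1) × r` matrix. -/
noncomputable def sm {R : Type*} [CommRing R] {r : ℕ} (φ : Matrix (Fin (r + 1)) (Fin r) R)
    (i : Fin (r + 1)) : R :=
  (-1 : R) ^ (i : ℕ) * (φ.submatrix i.succAbove id).det

theorem sm_map {R S : Type*} [CommRing R] [CommRing S] (π : R →+* S) {r : ℕ}
    (φ : Matrix (Fin (r + 1)) (Fin r) R) (i : Fin (r + 1)) :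
    sm (φ.map π) i = π (sm φ i) := by
  unfold sm
  rw [map_mul, map_pow, map_neg, map_one, RingHom.map_det]
  rfl

/-- "Injective modulo `𝔨`". -/
def InjMod {R : Type*} [CommRing R] {n m : ℕ} (𝔨 : Ideal R) (φ : Matrix (Fin n) (Fin m) R) : Prop :=
  ∀ w : Fin m → R, (∀ i, φ.mulVec w i ∈ 𝔨) → ∀ j, w j ∈ 𝔨

/-- "Exact in the middle modulo `𝔨`". -/
def ExMod {R : Type*} [CommRing R] {n m : ℕ} (𝔨 : Ideal R) (φ : Matrix (Fin n) (Fin m) R)
    (c : Fin n → R) : Prop :=
  ∀ v : Fin n → R, ∑ i, v i * c i ∈ 𝔨 → ∃ w : Fin m → R, ∀ i, v i - φ.mulVec w i ∈ 𝔨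

section Cong

variable {R : Type*} [CommRing R] {n m : ℕ} (𝔨 : Ideal R) {φ φ' : Matrix (Fin n) (Fin m) R}
  {c c' : Fin n → R}

theorem mulVec_sub_mem (hφ : ∀ i j, φ' i j - φ i j ∈ 𝔨) (w : Fin m → R) (i : Fin n) :
    φ'.mulVec w i - φ.mulVec w i ∈ 𝔨 := by
  have : φ'.mulVec w i - φ.mulVec w i = ∑ j, (φ' i j - φ i j) * w j := by
    simp only [Matrix.mulVec, dotProduct, ← Finset.sum_sub_distrib, sub_mul]
  rw [this]
  exact Ideal.sum_mem _ fun j _ => Ideal.mul_mem_right _ _ (hφ i j)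

theorem InjMod.congr (h : InjMod 𝔨 φ) (hφ : ∀ i j, φ' i j - φ i j ∈ 𝔨) : InjMod 𝔨 φ' := by
  intro w hw
  refine h w fun i => ?_
  have := 𝔨.sub_mem (hw i) (mulVec_sub_mem 𝔨 hφ w i)
  rwa [sub_sub_cancel] at this

theorem ExMod.congr (h : ExMod 𝔨 φ c) (hφ : ∀ i j, φ' i j - φ i j ∈ 𝔨)
    (hc : ∀ i, c' i - c i ∈ 𝔨) : ExMod 𝔨 φ' c' := by
  intro v hv
  have h1 : ∑ i, v i * c i ∈ 𝔨 := by
    have h2 : ∑ i, v i * c' i - ∑ i, v i * c i ∈ 𝔨 := by
      rw [← Finset.sum_sub_distrib]
      refine Ideal.sum_mem _ fun i _ => ?_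
      rw [← mul_sub]
      exact Ideal.mul_mem_left _ _ (hc i)
    have := 𝔨.sub_mem hv h2
    rwa [sub_sub_cancel] at this
  obtain ⟨w, hw⟩ := h v h1
  refine ⟨w, fun i => ?_⟩
  have := 𝔨.sub_mem (hw i) (mulVec_sub_mem 𝔨 hφ w i)
  have e : v i - φ.mulVec w i - (φ'.mulVec w i - φ.mulVec w i) = v i - φ'.mulVec w i := by ring
  rwa [e] at this

theorem InjMod.mono_ideal_eq {𝔨 𝔨' : Ideal R} (h : InjMod 𝔨 φ) (e : 𝔨 = 𝔨') : InjMod 𝔨' φ := e ▸ h

theorem injMod_bot_iff : InjMod ⊥ φ ↔ ∀ w : Fin m → R, φ.mulVec w = 0 → w = 0 := by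
  constructor
  · intro h w hw
    funext j
    exact (Submodule.mem_bot R).mp (h w (fun i => by rw [hw]; exact Ideal.zero_mem _) j)
  · intro h w hw j
    have : φ.mulVec w = 0 := funext fun i => (Submodule.mem_bot R).mp (hw i)
    rw [h w this]
    exact Ideal.zero_mem _

theorem exMod_bot_iff : ExMod ⊥ φ c ↔
    ∀ v : Fin n → R, ∑ i, v i * c i = 0 → ∃ w : Fin m → R, φ.mulVec w = v := by
  constructor
  · intro h v hv
    obtain ⟨w, hw⟩ := h v (by rw [hv]; exact Ideal.zero_mem _)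
    exact ⟨w, funext fun i => (sub_eq_zero.mp ((Submodule.mem_bot R).mp (hw i))).symm⟩
  · intro h v hv
    obtain ⟨w, hw⟩ := h v ((Submodule.mem_bot R).mp hv)
    exact ⟨w, fun i => by rw [hw, sub_self]; exact Ideal.zero_mem _⟩

end Cong

section Map

variable {R S : Type*} [CommRing R] [CommRing S] (π : R →+* S) (hπ : Function.Surjective π)
  {n m : ℕ} (𝔨 : Ideal R) (hker : RingHom.ker π ≤ 𝔨) (φ : Matrix (Fin n) (Fin m) R) (c : Fin n → R)

include hπ hker in
theorem mem_iff_map_mem (x : R) : x ∈ 𝔨 ↔ π x ∈ 𝔨.map π := by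
  constructor
  · exact Ideal.mem_map_of_mem π
  · intro h
    obtain ⟨y, hy, hxy⟩ := (Ideal.mem_map_iff_of_surjective π hπ).mp h
    have : x - y ∈ RingHom.ker π := by rw [RingHom.mem_ker, map_sub, hxy, sub_self]
    have := 𝔨.add_mem (hker this) hy
    rwa [sub_add_cancel] at this

theorem map_mulVec_apply (w : Fin m → R) (i : Fin n) :
    (φ.map π).mulVec (fun j => π (w j)) i = π (φ.mulVec w i) := by
  simp only [Matrix.mulVec, dotProduct, Matrix.map_apply, map_sum, map_mul]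

include hπ in
theorem exists_lift_vec {k : ℕ} (w : Fin k → S) : ∃ w' : Fin k → R, (fun j => π (w' j)) = w := by
  choose w' hw' using fun j => hπ (w j)
  exact ⟨w', funext hw'⟩

include hπ hker in
theorem injMod_map_iff : InjMod (𝔨.map π) (φ.map π) ↔ InjMod 𝔨 φ := by
  constructor
  · intro h w hw j
    rw [mem_iff_map_mem π hπ 𝔨 hker]
    refine h (fun j => π (w j)) (fun i => ?_) j
    rw [map_mulVec_apply]
    exact Ideal.mem_map_of_mem π (hw i)
  · intro h w hw j
    obtain ⟨w', rfl⟩ := exists_lift_vec π hπ w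
    have h1 : ∀ i, φ.mulVec w' i ∈ 𝔨 := fun i => by
      rw [mem_iff_map_mem π hπ 𝔨 hker, ← map_mulVec_apply]
      exact hw i
    exact Ideal.mem_map_of_mem π (h w' h1 j)

include hπ hker in
theorem exMod_map_iff : ExMod (𝔨.map π) (φ.map π) (fun i => π (c i)) ↔ ExMod 𝔨 φ c := by
  constructor
  · intro h v hv
    have h1 : ∑ i, π (v i) * π (c i) ∈ 𝔨.map π := by
      have := Ideal.mem_map_of_mem π hv
      simpa only [map_sum, map_mul] using this
    obtain ⟨w, hw⟩ := h (fun i => π (v i)) h1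
    obtain ⟨w', rfl⟩ := exists_lift_vec π hπ w
    refine ⟨w', fun i => ?_⟩
    rw [mem_iff_map_mem π hπ 𝔨 hker, map_sub, ← map_mulVec_apply]
    exact hw i
  · intro h v hv
    obtain ⟨v', rfl⟩ := exists_lift_vec π hπ v
    have h1 : ∑ i, v' i * c i ∈ 𝔨 := by
      rw [mem_iff_map_mem π hπ 𝔨 hker]
      simpa only [map_sum, map_mul] using hv
    obtain ⟨w, hw⟩ := h v' h1
    refine ⟨fun j => π (w j), fun i => ?_⟩
    rw [map_mulVec_apply, ← map_sub]
    exact Ideal.mem_map_of_mem π (hw i)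

end Map

section MinGens

variable {C : Type*} [CommRing C] [IsLocalRing C]

/-- A minimal system of generators of a finitely generated ideal of a local ring: any relation has
all its coefficients in the maximal ideal. -/
theorem exists_min_gens (J : Ideal C) (hfg : J.FG) :
    ∃ (s : ℕ) (e : Fin s → C), Ideal.span (Set.range e) = J ∧
      ∀ c : Fin s → C, ∑ l, c l * e l = 0 → ∀ l, c l ∈ maximalIdeal C := by
  classical
  have hex : ∃ s : ℕ, ∃ e : Fin s → C, Ideal.span (Set.range e) = J :=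
    (Submodule.fg_iff_exists_fin_generating_family).mp hfg
  obtain ⟨s, e, hspan, hmin⟩ : ∃ (s : ℕ) (e : Fin s → C), Ideal.span (Set.range e) = J ∧
      ∀ s' < s, ¬ ∃ e' : Fin s' → C, Ideal.span (Set.range e') = J :=
    ⟨Nat.find hex, (Nat.find_spec hex).choose, (Nat.find_spec hex).choose_spec,
      fun s' hs' => Nat.find_min hex hs'⟩
  refine ⟨s, e, hspan, ?_⟩
  intro c hc l₀
  by_contra hl₀
  have hu : IsUnit (c l₀) := by
    by_contra h
    exact hl₀ ((mem_maximalIdeal _).mpr h)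
  cases s with
  | zero => exact l₀.elim0
  | succ s' =>
  apply hmin s' (Nat.lt_succ_self s')
  refine ⟨fun i => e (l₀.succAbove i), le_antisymm ?_ ?_⟩
  · rw [← hspan]
    apply Ideal.span_mono
    rintro _ ⟨i, rfl⟩
    exact ⟨_, rfl⟩
  · rw [← hspan, Ideal.span_le]
    rintro _ ⟨l, rfl⟩
    by_cases hl : l = l₀
    · subst hl
      rw [Fin.sum_univ_succAbove _ l] at hc
      obtain ⟨u, hu'⟩ := hu
      have h1 : e l = -(↑u⁻¹ : C) * ∑ i : Fin s', c (l.succAbove i) * e (l.succAbove i) := by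
        have h2 : c l * e l = -∑ i : Fin s', c (l.succAbove i) * e (l.succAbove i) :=
          eq_neg_of_add_eq_zero_left hc
        rw [neg_mul, ← mul_neg, ← h2, ← hu', ← mul_assoc, Units.inv_mul, one_mul]
      rw [h1]
      refine Ideal.mul_mem_left _ _ (Ideal.sum_mem _ fun i _ => Ideal.mul_mem_left _ _ ?_)
      exact Ideal.subset_span ⟨i, rfl⟩
    · obtain ⟨i, rfl⟩ := Fin.exists_succAbove_eq hl
      exact Ideal.subset_span ⟨i, rfl⟩

end MinGens

section Ind

variable {C A : Type*} [CommRing C] [IsLocalRing C] [CommRing A] [Algebra C A] [Module.Flat C A]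

/-- Consequence of the equational criterion of flatness. -/
theorem mem_map_of_sum_smul_eq_zero {s : ℕ} (e : Fin s → C)
    (hind : ∀ c : Fin s → C, ∑ l, c l * e l = 0 → ∀ l, c l ∈ maximalIdeal C)
    (a : Fin s → A) (h : ∑ l, e l • a l = 0) (l : Fin s) :
    a l ∈ (maximalIdeal C).map (algebraMap C A) := by
  obtain ⟨k, c, y, hy, hc⟩ :=
    Module.Flat.isTrivialRelation_of_sum_smul_eq_zero (R := C) (M := A) (f := e) (x := a) h
  rw [hy l]
  refine Ideal.sum_mem _ fun j _ => ?_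
  rw [Algebra.smul_def]
  refine Ideal.mul_mem_right _ _ (Ideal.mem_map_of_mem _ ?_)
  refine hind (fun l => c l j) ?_ l
  rw [← hc j]
  exact Finset.sum_congr rfl fun i _ => mul_comm _ _

end Ind

end Groth.Agent.Lib.Helper29.HBDeform
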