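import Groth.Agent.Lib.Helper29.HBDeform1

/-!
# Deforming Hilbert–Burch matrices along small extensions (helper29), part 2

Lifting exactness of `0 → A^r → A^{r+1} → A` along a small extension of the (local) base ring, for a
flat algebra.
-/

set_option autoImplicit false
set_option linter.unusedSectionVars false
universe u
open IsLocalRing Matrix

namespace Groth.Agent.Lib.Helper29.HBDeform

section Lift

variable {C A : Type*} [CommRing C] [IsLocalRing C] [CommRing A] [Algebra C A] [Module.Flat C A]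
  (J : Ideal C) (hJ : maximalIdeal C * J = ⊥)
  {s : ℕ} (e : Fin s → C) (hspan : Ideal.span (Set.range e) = J)
  (hind : ∀ c : Fin s → C, ∑ l, c l * e l = 0 → ∀ l, c l ∈ maximalIdeal C)

include hspan in
theorem e_mem (l : Fin s) : e l ∈ J := by
  rw [← hspan]
  exact Ideal.subset_span ⟨l, rfl⟩

include hspan in
/-- Elements of `J A` are combinations of the `e l`. -/
theorem exists_decomp (x : A) (hx : x ∈ J.map (algebraMap C A)) :
    ∃ a : Fin s → A, x = ∑ l, e l • a l := by
  rw [← hspan, Ideal.map_span, ← Set.range_comp] at hx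
  obtain ⟨a, ha⟩ := (Ideal.mem_span_range_iff_exists_fun).mp hx
  refine ⟨a, ?_⟩
  rw [← ha]
  refine Finset.sum_congr rfl fun l _ => ?_
  rw [Algebra.smul_def, Function.comp_apply, mul_comm]

include hspan in
theorem exists_decomp_vec {k : ℕ} (w : Fin k → A) (hw : ∀ j, w j ∈ J.map (algebraMap C A)) :
    ∃ W : Fin s → Fin k → A, w = ∑ l, e l • W l := by
  choose a ha using fun j => exists_decomp J e hspan (w j) (hw j)
  refine ⟨fun l j => a j l, ?_⟩
  funext j
  rw [ha j, Finset.sum_apply]
  rfl

include hJ hspan in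
theorem e_smul_eq_zero (l : Fin s) (x : A) (hx : x ∈ (maximalIdeal C).map (algebraMap C A)) :
    e l • x = 0 := by
  rw [Algebra.smul_def]
  have h1 : algebraMap C A (e l) * x ∈
      (J.map (algebraMap C A)) * ((maximalIdeal C).map (algebraMap C A)) :=
    Ideal.mul_mem_mul (Ideal.mem_map_of_mem _ (e_mem J e hspan l)) hx
  rw [← Ideal.map_mul, mul_comm, hJ, Ideal.map_bot] at h1
  exact (Submodule.mem_bot A).mp h1

include hJ hspan in
theorem e_smul_vec_eq {k : ℕ} (l : Fin s) (v v' : Fin k → A)
    (h : ∀ i, v i - v' i ∈ (maximalIdeal C).map (algebraMap C A)) : e l • v = e l • v' := by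
  funext i
  have := e_smul_eq_zero J hJ e hspan l _ (h i)
  rw [smul_sub, sub_eq_zero] at this
  exact this

variable {r n : ℕ} (φ : Matrix (Fin n) (Fin r) A) (c : Fin n → A)

include hJ hspan hind in
/-- Injectivity lifts along a small extension. -/
theorem inj_of_injMod (hIJ : InjMod (J.map (algebraMap C A)) φ)
    (hIM : InjMod ((maximalIdeal C).map (algebraMap C A)) φ) :
    ∀ w : Fin r → A, φ.mulVec w = 0 → w = 0 := by
  intro w hw
  have h1 : ∀ j, w j ∈ J.map (algebraMap C A) :=
    hIJ w fun i => by rw [hw]; exact Ideal.zero_mem _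
  obtain ⟨W, rfl⟩ := exists_decomp_vec J e hspan w h1
  have h2 : ∑ l, e l • φ.mulVec (W l) = 0 := by
    rw [← hw, Matrix.mulVec_sum]
    exact Finset.sum_congr rfl fun l _ => (Matrix.mulVec_smul _ _ _).symm
  have h3 : ∀ l i, φ.mulVec (W l) i ∈ (maximalIdeal C).map (algebraMap C A) := by
    intro l i
    refine mem_map_of_sum_smul_eq_zero e hind (fun l => φ.mulVec (W l) i) ?_ l
    have := congrFun h2 i
    simpa only [Finset.sum_apply, Pi.smul_apply, Pi.zero_apply] using this
  refine Finset.sum_eq_zero fun l _ => ?_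
  have h4 : ∀ j, W l j - (0 : Fin r → A) j ∈ (maximalIdeal C).map (algebraMap C A) := fun j => by
    rw [Pi.zero_apply, sub_zero]
    exact hIM (W l) (h3 l) j
  rw [e_smul_vec_eq J hJ e hspan l (W l) 0 h4, smul_zero]

include hJ hspan hind in
/-- Exactness in the middle lifts along a small extension. -/
theorem ex_of_exMod (hcx : ∀ w : Fin r → A, ∑ i, φ.mulVec w i * c i = 0)
    (hEJ : ExMod (J.map (algebraMap C A)) φ c)
    (hEM : ExMod ((maximalIdeal C).map (algebraMap C A)) φ c) :
    ∀ v : Fin n → A, ∑ i, v i * c i = 0 → ∃ w : Fin r → A, φ.mulVec w = v := by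
  intro v hv
  obtain ⟨w₀, hw₀⟩ := hEJ v (by rw [hv]; exact Ideal.zero_mem _)
  obtain ⟨V, hV⟩ := exists_decomp_vec J e hspan (fun i => v i - φ.mulVec w₀ i) hw₀
  have hV' : ∀ i, v i - φ.mulVec w₀ i = ∑ l, e l • V l i := fun i => by
    have := congrFun hV i
    simpa only [Finset.sum_apply, Pi.smul_apply] using this
  have h2 : ∑ l, e l • (∑ i, V l i * c i) = 0 := by
    have h3 : ∑ i, (v i - φ.mulVec w₀ i) * c i = 0 := by
      simp only [sub_mul, Finset.sum_sub_distrib, hv, hcx w₀, sub_zero]
    rw [← h3]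
    simp only [hV', Finset.sum_mul, Finset.smul_sum, smul_mul_assoc]
    exact Finset.sum_comm
  have h4 : ∀ l, ∑ i, V l i * c i ∈ (maximalIdeal C).map (algebraMap C A) :=
    fun l => mem_map_of_sum_smul_eq_zero e hind (fun l => ∑ i, V l i * c i) h2 l
  choose W hW using fun l => hEM (V l) (h4 l)
  refine ⟨w₀ + ∑ l, e l • W l, ?_⟩
  rw [Matrix.mulVec_add, Matrix.mulVec_sum]
  have h5 : ∀ l, φ.mulVec (e l • W l) = e l • V l := fun l => by
    rw [Matrix.mulVec_smul]
    exact (e_smul_vec_eq J hJ e hspan l (V l) (φ.mulVec (W l)) (hW l)).symm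
  simp only [h5]
  funext i
  rw [Pi.add_apply, Finset.sum_apply]
  simp only [Pi.smul_apply]
  rw [← hV' i]
  ring

end Lift

end Groth.Agent.Lib.Helper29.HBDeform
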