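import Groth.Agent.Lib.Helper29.HBDeform2

/-!
# Deforming Hilbert–Burch matrices along small extensions (helper29), part 3

The core lifting lemma: if `C` is a local ring, `J` a finitely generated ideal killed by the maximal
ideal, `A` a flat Noetherian `C`-algebra, `I ⊆ A` an ideal with `A/I` flat over `C`, and `φ` an
`(r+1) × r` matrix over `A` which modulo `J A` is a Hilbert–Burch matrix of `I`, then `φ` can be
modified modulo `J A` to a Hilbert–Burch matrix of `I` over `A`.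
-/

set_option autoImplicit false
set_option linter.unusedSectionVars false
universe u
open IsLocalRing Matrix

namespace Groth.Agent.Lib.Helper29.HBDeform

open Groth.Agent.Lib.Helper15.HilbertBurch (D)

theorem exists_coeffs_of_mem_mul_span {R : Type*} [CommRing R] {ι : Type*} [Fintype ι]
    (𝔨 : Ideal R) (f : ι → R) (x : R) (hx : x ∈ 𝔨 * Ideal.span (Set.range f)) :
    ∃ ε : ι → R, (∀ i, ε i ∈ 𝔨) ∧ x = ∑ i, ε i * f i := by
  rw [← smul_eq_mul] at hx
  obtain ⟨a, ha, hsum⟩ := (Submodule.mem_ideal_smul_span_iff_exists_sum 𝔨 f x).mp hx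
  refine ⟨a, ha, ?_⟩
  rw [← hsum]
  exact Finsupp.sum_fintype a _ (fun i => zero_smul _ _)

/-- A non-zero-divisor criterion in congruence form: under Hilbert–Burch exactness the ideal of
minors has zero annihilator. -/
theorem eq_zero_of_mul_sm_eq_zero {R : Type u} [CommRing R] [IsNoetherianRing R] {r : ℕ}
    (φ : Matrix (Fin (r + 1)) (Fin r) R)
    (hΨ : ∀ w : Fin r → R, φ.mulVec w = 0 → w = 0)
    (hex : ∀ v : Fin (r + 1) → R, ∑ i, v i * sm φ i = 0 → ∃ w, φ.mulVec w = v)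
    (b : R) (hb : ∀ i, b * sm φ i = 0) : b = 0 := by
  have hcx : ∀ w : Fin r → R, ∑ i, φ.mulVec w i * sm φ i = 0 := by
    intro w
    rw [← Groth.Agent.Lib.Helper15.HilbertBurch.sum_mulVec_eq_zero φ w]
    refine Finset.sum_congr rfl fun i _ => ?_
    unfold sm D
    ring
  have h2 := HilbertBurch.two_le_idealDepth φ (sm φ) hΨ hex hcx
  rw [Groth.Agent.Lib.Helper15.HilbertBurch.minorIdeal_eq] at h2
  obtain ⟨x, hx, -, -, hxreg, -⟩ := HilbertBurch.exists_regular_pair _ h2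
  apply hxreg
  obtain ⟨a, rfl⟩ := (Ideal.mem_span_range_iff_exists_fun).mp hx
  rw [Finset.sum_mul]
  refine Finset.sum_eq_zero fun i _ => ?_
  have hD : b * D φ i = 0 := by
    have h3 := hb i
    unfold sm at h3
    have h4 : b * D φ i = (-1 : R) ^ (i : ℕ) * (b * ((-1 : R) ^ (i : ℕ) *
        (φ.submatrix i.succAbove id).det)) := by
      have h5 : (-1 : R) ^ (i : ℕ) * (-1 : R) ^ (i : ℕ) = 1 := by
        rw [← pow_add, ← two_mul, pow_mul]; simp
      unfold D
      calc b * (φ.submatrix i.succAbove id).det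
          = ((-1 : R) ^ (i : ℕ) * (-1 : R) ^ (i : ℕ)) * (b * (φ.submatrix i.succAbove id).det) := by
            rw [h5, one_mul]
        _ = _ := by ring
    rw [h4, h3, mul_zero]
  rw [mul_assoc, mul_comm (D φ i) b, hD, mul_zero]

/-- **Core lifting lemma.** -/
theorem core {C : Type*} {A : Type u} [CommRing C] [IsLocalRing C] [CommRing A] [Algebra C A]
    [Module.Flat C A] [IsNoetherianRing A]
    (J : Ideal C) (hJfg : J.FG) (hJ : maximalIdeal C * J = ⊥) (hJne : J ≠ ⊤)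
    (I : Ideal A) [Module.Flat C (A ⧸ I)] {r : ℕ} (φ : Matrix (Fin (r + 1)) (Fin r) A)
    (ha : I ⊔ J.map (algebraMap C A) = Ideal.span (Set.range (sm φ)) ⊔ J.map (algebraMap C A))
    (hIJ : InjMod (J.map (algebraMap C A)) φ) (hEJ : ExMod (J.map (algebraMap C A)) φ (sm φ))
    (hIM : InjMod ((maximalIdeal C).map (algebraMap C A)) φ)
    (hEM : ExMod ((maximalIdeal C).map (algebraMap C A)) φ (sm φ))
    (hAnn : ∀ b : A, (∀ i, b * sm φ i ∈ J.map (algebraMap C A)) → b ∈ J.map (algebraMap C A)) :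
    ∃ φ' : Matrix (Fin (r + 1)) (Fin r) A, (∀ i j, φ' i j - φ i j ∈ J.map (algebraMap C A)) ∧
      I = Ideal.span (Set.range (sm φ')) ∧
      (∀ w : Fin r → A, φ'.mulVec w = 0 → w = 0) ∧
      (∀ v : Fin (r + 1) → A, ∑ i, v i * sm φ' i = 0 → ∃ w, φ'.mulVec w = v) := by
  classical
  set 𝔧 := J.map (algebraMap C A) with h𝔧
  set 𝔪 := (maximalIdeal C).map (algebraMap C A) with h𝔪
  have hJle : J ≤ maximalIdeal C := IsLocalRing.le_maximalIdeal hJne
  have h𝔧𝔪 : 𝔧 ≤ 𝔪 := Ideal.map_mono hJle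
  have hJJ : J * J = ⊥ := le_bot_iff.mp (hJ ▸ Ideal.mul_mono_left hJle)
  have h𝔧𝔧 : 𝔧 * 𝔧 = ⊥ := by rw [h𝔧, ← Ideal.map_mul, hJJ, Ideal.map_bot]
  obtain ⟨s, e, hspan, hind⟩ := exists_min_gens J hJfg
  -- step 1: lifts of the minors inside `I`
  have h1 : ∀ i, ∃ y ∈ I, y - sm φ i ∈ 𝔧 := by
    intro i
    have : sm φ i ∈ I ⊔ 𝔧 := by
      rw [ha]
      exact Ideal.mem_sup_left (Ideal.subset_span ⟨i, rfl⟩)
    obtain ⟨y, hy, z, hz, hyz⟩ := Submodule.mem_sup.mp this
    refine ⟨y, hy, ?_⟩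
    rw [← hyz, sub_add_cancel_left]
    exact 𝔧.neg_mem hz
  choose f' hf'I hf' using h1
  -- step 2: `I ∩ J A ⊆ J I` by flatness of `A / I`
  have hL1 : ∀ x ∈ I, x ∈ 𝔧 → x ∈ 𝔧 * I := by
    intro x hxI hx𝔧
    have hex : Function.Exact (Submodule.subtype I) ((Ideal.Quotient.mkₐ A I).toLinearMap) := by
      intro y
      rw [AlgHom.toLinearMap_apply, Ideal.Quotient.mkₐ_eq_mk, Ideal.Quotient.eq_zero_iff_mem]
      simp
    have h2 := Groth.Agent.Lib.Helper54.FlatCoker.mem_map_smul_top_of_flat_coker (R := C) (S := A)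
      (Submodule.subtype I) ((Ideal.Quotient.mkₐ A I).toLinearMap) (Submodule.subtype_injective I)
      hex (Ideal.Quotient.mkₐ_surjective A I) J ⟨x, hxI⟩
      (by rw [smul_eq_mul, Ideal.mul_top]; exact hx𝔧)
    have h3 : (Submodule.subtype I) ⟨x, hxI⟩ ∈
        (𝔧 • (⊤ : Submodule A I)).map (Submodule.subtype I) := Submodule.mem_map_of_mem h2
    rw [Submodule.map_smul'', Submodule.map_top, Submodule.range_subtype] at h3
    exact h3
  -- step 3: `I` is generated by the lifts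
  have hspanle : Ideal.span (Set.range f') ≤ I :=
    Ideal.span_le.mpr (by rintro _ ⟨i, rfl⟩; exact hf'I i)
  have h3 : I ≤ Ideal.span (Set.range f') ⊔ 𝔧 * I := by
    intro x hx
    have hx' : x ∈ Ideal.span (Set.range (sm φ)) ⊔ 𝔧 := by
      rw [← ha]
      exact Ideal.mem_sup_left hx
    obtain ⟨y, hy, z, hz, rfl⟩ := Submodule.mem_sup.mp hx'
    obtain ⟨a, rfl⟩ := (Ideal.mem_span_range_iff_exists_fun).mp hy
    have hy' : ∑ i, a i * f' i ∈ Ideal.span (Set.range f') :=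
      Ideal.sum_mem _ fun i _ => Ideal.mul_mem_left _ _ (Ideal.subset_span ⟨i, rfl⟩)
    have hd : (∑ i, a i * sm φ i + z) - ∑ i, a i * f' i ∈ 𝔧 := by
      have : (∑ i, a i * sm φ i + z) - ∑ i, a i * f' i = z - ∑ i, a i * (f' i - sm φ i) := by
        simp only [mul_sub, Finset.sum_sub_distrib]
        ring
      rw [this]
      exact 𝔧.sub_mem hz (Ideal.sum_mem _ fun i _ => Ideal.mul_mem_left _ _ (hf' i))
    have hdI : (∑ i, a i * sm φ i + z) - ∑ i, a i * f' i ∈ I := I.sub_mem hx (hspanle hy')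
    have h4 := hL1 _ hdI hd
    have h5 : ∑ i, a i * sm φ i + z =
        ∑ i, a i * f' i + ((∑ i, a i * sm φ i + z) - ∑ i, a i * f' i) := by ring
    rw [h5]
    exact Submodule.add_mem_sup hy' h4
  have hIspan : I = Ideal.span (Set.range f') := by
    refine le_antisymm ?_ hspanle
    have h4 : 𝔧 * I ≤ Ideal.span (Set.range f') := by
      calc 𝔧 * I ≤ 𝔧 * (Ideal.span (Set.range f') ⊔ 𝔧 * I) := Ideal.mul_mono_right h3
        _ = 𝔧 * Ideal.span (Set.range f') ⊔ 𝔧 * (𝔧 * I) := Ideal.mul_sup _ _ _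
        _ ≤ Ideal.span (Set.range f') := by
            rw [← mul_assoc, h𝔧𝔧, Ideal.bot_mul, sup_bot_eq]
            exact Ideal.mul_le.mpr fun a _ b hb => Ideal.mul_mem_left _ _ hb
    exact h3.trans (sup_le le_rfl h4)
  -- step 4: lifting the relations
  have hrel : ∀ j : Fin r, ∃ ε : Fin (r + 1) → A, (∀ i, ε i ∈ 𝔧) ∧
      ∑ i, f' i * φ i j = ∑ i, ε i * f' i := by
    intro j
    have hI : ∑ i, f' i * φ i j ∈ I :=
      Ideal.sum_mem _ fun i _ => Ideal.mul_mem_right _ _ (hf'I i)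
    have h𝔧' : ∑ i, f' i * φ i j ∈ 𝔧 := by
      have h0 : ∑ i, sm φ i * φ i j = 0 := by
        rw [← Groth.Agent.Lib.Helper15.HilbertBurch.sum_col_eq_zero φ j]
        refine Finset.sum_congr rfl fun i _ => ?_
        unfold sm D
        ring
      have : ∑ i, f' i * φ i j = ∑ i, (f' i - sm φ i) * φ i j := by
        simp only [sub_mul, Finset.sum_sub_distrib, h0, sub_zero]
      rw [this]
      exact Ideal.sum_mem _ fun i _ => Ideal.mul_mem_right _ _ (hf' i)
    have h5 : ∑ i, f' i * φ i j ∈ 𝔧 * Ideal.span (Set.range f') := by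
      have := hL1 _ hI h𝔧'
      rwa [hIspan] at this
    exact exists_coeffs_of_mem_mul_span 𝔧 f' _ h5
  choose ε hε hεsum using hrel
  let φ' : Matrix (Fin (r + 1)) (Fin r) A := Matrix.of fun i j => φ i j - ε j i
  have hφ' : ∀ i j, φ' i j - φ i j ∈ 𝔧 := fun i j => by
    have : φ' i j - φ i j = -ε j i := by simp [φ']
    rw [this]
    exact 𝔧.neg_mem (hε j i)
  have hcol : ∀ j, ∑ i, f' i * φ' i j = 0 := by
    intro j
    simp only [φ', Matrix.of_apply, mul_sub, Finset.sum_sub_distrib, hεsum j]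
    rw [sub_eq_zero]
    exact Finset.sum_congr rfl fun i _ => mul_comm _ _
  have hcx : ∀ w : Fin r → A, ∑ i, φ'.mulVec w i * f' i = 0 := by
    intro w
    simp only [Matrix.mulVec, dotProduct, Finset.sum_mul]
    rw [Finset.sum_comm]
    refine Finset.sum_eq_zero fun j _ => ?_
    calc ∑ i, φ' i j * w j * f' i = w j * ∑ i, f' i * φ' i j := by
          rw [Finset.mul_sum]
          exact Finset.sum_congr rfl fun i _ => by ring
      _ = 0 := by rw [hcol j, mul_zero]
  -- step 5: congruence transfer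
  have hIJ' : InjMod 𝔧 φ' := hIJ.congr 𝔧 hφ'
  have hEJ' : ExMod 𝔧 φ' f' := hEJ.congr 𝔧 hφ' hf'
  have hφ'M : ∀ i j, φ' i j - φ i j ∈ 𝔪 := fun i j => h𝔧𝔪 (hφ' i j)
  have hIM' : InjMod 𝔪 φ' := hIM.congr 𝔪 hφ'M
  have hEM' : ExMod 𝔪 φ' f' := hEM.congr 𝔪 hφ'M (fun i => h𝔧𝔪 (hf' i))
  -- step 6: exactness over `A`
  have hΨ := inj_of_injMod J hJ e hspan hind φ' hIJ' hIM'
  have hex := ex_of_exMod J hJ e hspan hind φ' f' hcx hEJ' hEM'
  -- step 7: Hilbert–Burch
  obtain ⟨a, -, hav⟩ := HilbertBurch.exists_nonZeroDivisor_mul φ' f' hΨ hex hcx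
  have hfa : ∀ i, f' i = a * sm φ' i := by
    intro i
    have h6 := hav (Pi.single i 1)
    rw [Finset.sum_eq_single i (fun k _ hk => by rw [Pi.single_eq_of_ne hk, zero_mul])
      (fun h => absurd (Finset.mem_univ i) h),
      Finset.sum_eq_single i (fun k _ hk => by rw [Pi.single_eq_of_ne hk, mul_zero, zero_mul])
      (fun h => absurd (Finset.mem_univ i) h), Pi.single_eq_same, one_mul, mul_one] at h6
    rw [h6]
    rfl
  -- step 8: `a ≡ 1`
  have hsm : ∀ i, sm φ' i - sm φ i ∈ 𝔧 := by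
    intro i
    rw [← Ideal.Quotient.mk_eq_mk_iff_sub_mem (I := 𝔧), ← sm_map, ← sm_map]
    congr 1
    ext i j
    simp only [Matrix.map_apply]
    exact (Ideal.Quotient.mk_eq_mk_iff_sub_mem (I := 𝔧) _ _).mpr (hφ' i j)
  have ha1 : a - 1 ∈ 𝔧 := by
    apply hAnn
    intro i
    have : (a - 1) * sm φ i = (f' i - sm φ i) - a * (sm φ' i - sm φ i) := by
      rw [hfa i]
      ring
    rw [this]
    exact 𝔧.sub_mem (hf' i) (Ideal.mul_mem_left _ _ (hsm i))
  have hnil : IsNilpotent (a - 1) := by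
    refine ⟨2, ?_⟩
    rw [pow_two]
    have := Ideal.mul_mem_mul ha1 ha1
    rw [h𝔧𝔧] at this
    exact (Submodule.mem_bot A).mp this
  have hau : IsUnit a := by
    have := hnil.isUnit_add_one
    rwa [sub_add_cancel] at this
  obtain ⟨u, rfl⟩ := hau
  refine ⟨φ', hφ', ?_, hΨ, ?_⟩
  · rw [hIspan]
    apply le_antisymm
    · rw [Ideal.span_le]
      rintro _ ⟨i, rfl⟩
      rw [hfa i]
      exact Ideal.mul_mem_left _ _ (Ideal.subset_span ⟨i, rfl⟩)
    · rw [Ideal.span_le]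
      rintro _ ⟨i, rfl⟩
      have : sm φ' i = (↑u⁻¹ : A) * f' i := by
        rw [hfa i, ← mul_assoc, Units.inv_mul, one_mul]
      rw [this]
      exact Ideal.mul_mem_left _ _ (Ideal.subset_span ⟨i, rfl⟩)
  · intro v hv
    apply hex
    have : ∑ i, v i * f' i = (u : A) * ∑ i, v i * sm φ' i := by
      rw [Finset.mul_sum]
      exact Finset.sum_congr rfl fun i _ => by rw [hfa i]; ring
    rw [this, hv, mul_zero]

end Groth.Agent.Lib.Helper29.HBDeform
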