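import Groth.Agent.Lib.Helper29.HBDeform3
import Groth.Agent.Lib.Helper31.FlatFS

/-!
# Deforming Hilbert–Burch matrices along small extensions (helper29), part 4

* `injMod_exMod_of_flat`: an exact complex `0 → A^m → A^n → A` of a flat `R`-algebra `A` with flat
  cokernel stays exact modulo `𝔞 A` for every ideal `𝔞 ⊆ R`.
* conversions between the `LinearMap` form of exactness and the elementwise form.
-/

set_option autoImplicit false
set_option linter.unusedSectionVars false
universe u
open IsLocalRing Matrix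

namespace Groth.Agent.Lib.Helper29.HBDeform

section Pi

variable {A : Type*} [CommRing A] {ι : Type*} [Fintype ι] [DecidableEq ι] (I : Ideal A)

theorem mem_smul_top_pi_of_forall (v : ι → A) (hv : ∀ i, v i ∈ I) :
    v ∈ (I • ⊤ : Submodule A (ι → A)) := by
  have : v = ∑ i, v i • (Pi.single i (1 : A) : ι → A) := by
    funext j
    rw [Finset.sum_apply]
    simp [Pi.single_apply]
  rw [this]
  exact Submodule.sum_mem _ fun i _ => Submodule.smul_mem_smul (hv i) trivial

theorem forall_mem_of_mem_smul_top_pi (v : ι → A) (hv : v ∈ (I • ⊤ : Submodule A (ι → A))) :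
    ∀ i, v i ∈ I := by
  intro i
  refine Submodule.smul_induction_on hv ?_ ?_
  · intro a ha y _
    rw [Pi.smul_apply, smul_eq_mul]
    exact Ideal.mul_mem_right _ _ ha
  · intro x y hx hy
    rw [Pi.add_apply]
    exact I.add_mem hx hy

end Pi

section G

variable {R : Type*} {A : Type u} [CommRing R] [CommRing A] [Algebra R A] [Module.Flat R A]
  {n m : ℕ} (φ : Matrix (Fin n) (Fin m) A) (c : Fin n → A)
  (hΨ : ∀ w : Fin m → A, φ.mulVec w = 0 → w = 0)
  (hex : ∀ v : Fin n → A, ∑ i, v i * c i = 0 → ∃ w, φ.mulVec w = v)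
  (hcx : ∀ w : Fin m → A, ∑ i, φ.mulVec w i * c i = 0)
  [hfl : Module.Flat R (A ⧸ Ideal.span (Set.range c))] (𝔞 : Ideal R)

include hex in
theorem exMod_of_flat : ExMod (𝔞.map (algebraMap R A)) φ c := by
  intro v hv
  set K : Ideal A := Ideal.span (Set.range c) with hK
  have hmemK : ∑ i, v i * c i ∈ K :=
    Ideal.sum_mem _ fun i _ => Ideal.mul_mem_left _ _ (Ideal.subset_span ⟨i, rfl⟩)
  have hexact : Function.Exact (Submodule.subtype K) ((Ideal.Quotient.mkₐ A K).toLinearMap) := by
    intro y
    rw [AlgHom.toLinearMap_apply, Ideal.Quotient.mkₐ_eq_mk, Ideal.Quotient.eq_zero_iff_mem]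
    simp
  have h2 := Groth.Agent.Lib.Helper54.FlatCoker.mem_map_smul_top_of_flat_coker (R := R) (S := A)
    (Submodule.subtype K) ((Ideal.Quotient.mkₐ A K).toLinearMap) (Submodule.subtype_injective K)
    hexact (Ideal.Quotient.mkₐ_surjective A K) 𝔞 ⟨_, hmemK⟩
    (by rw [smul_eq_mul, Ideal.mul_top]; exact hv)
  have h3 : (Submodule.subtype K) ⟨_, hmemK⟩ ∈
      ((𝔞.map (algebraMap R A)) • (⊤ : Submodule A K)).map (Submodule.subtype K) :=
    Submodule.mem_map_of_mem h2
  rw [Submodule.map_smul'', Submodule.map_top, Submodule.range_subtype] at h3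
  obtain ⟨ε, hε, hsum⟩ := exists_coeffs_of_mem_mul_span (𝔞.map (algebraMap R A)) c _ h3
  have h4 : ∑ i, (v i - ε i) * c i = 0 := by
    simp only [sub_mul, Finset.sum_sub_distrib]
    rw [sub_eq_zero]
    exact hsum
  obtain ⟨w, hw⟩ := hex _ h4
  refine ⟨w, fun i => ?_⟩
  rw [hw, sub_sub_cancel]
  exact hε i

include hΨ hex hcx in
theorem injMod_of_flat : InjMod (𝔞.map (algebraMap R A)) φ := by
  classical
  intro w hw
  set K : Ideal A := Ideal.span (Set.range c) with hK
  -- `K` is flat over `R`
  have hKflat : Module.Flat R K := by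
    refine Groth.Agent.Lib.Helper12.flat_of_exact_left (R := R)
      ((Submodule.subtype K).restrictScalars R)
      (((Ideal.Quotient.mkₐ A K).toLinearMap).restrictScalars R)
      (Submodule.subtype_injective K) (Ideal.Quotient.mkₐ_surjective A K) ?_
    intro y
    change (Ideal.Quotient.mkₐ A K) y = 0 ↔ y ∈ Set.range (Submodule.subtype K)
    rw [Ideal.Quotient.mkₐ_eq_mk, Ideal.Quotient.eq_zero_iff_mem]
    simp
  -- the map `A^n → K`
  let p : (Fin n → A) →ₗ[A] K :=
    (Fintype.linearCombination A c).codRestrict K (fun v => by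
      rw [Fintype.linearCombination_apply]
      exact Submodule.sum_mem _ fun i _ =>
        Submodule.smul_mem _ _ (Ideal.subset_span ⟨i, rfl⟩))
  have hp : ∀ v, (p v : A) = ∑ i, v i * c i := fun v => by
    change Fintype.linearCombination A c v = _
    rw [Fintype.linearCombination_apply]
    rfl
  have hpsurj : Function.Surjective p := by
    rintro ⟨x, hx⟩
    obtain ⟨a, ha⟩ := (Ideal.mem_span_range_iff_exists_fun).mp hx
    exact ⟨a, Subtype.ext (by rw [hp, ha])⟩
  have hpex : Function.Exact φ.mulVecLin p := by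
    intro v
    constructor
    · intro h
      have : ∑ i, v i * c i = 0 := by rw [← hp, h]; rfl
      obtain ⟨w, hw⟩ := hex v this
      exact ⟨w, by rw [Matrix.mulVecLin_apply, hw]⟩
    · rintro ⟨w, rfl⟩
      apply Subtype.ext
      rw [hp, Matrix.mulVecLin_apply, hcx w]
      rfl
  have hinj : Function.Injective φ.mulVecLin := by
    rw [injective_iff_map_eq_zero]
    intro w hw
    exact hΨ w (by rwa [Matrix.mulVecLin_apply] at hw)
  have h2 := Groth.Agent.Lib.Helper54.FlatCoker.mem_map_smul_top_of_flat_coker (R := R) (S := A)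
    φ.mulVecLin p hinj hpex hpsurj 𝔞 w
    (by rw [Matrix.mulVecLin_apply]; exact mem_smul_top_pi_of_forall _ _ hw)
  exact forall_mem_of_mem_smul_top_pi _ _ h2

end G

section Conv

variable {A : Type*} [CommRing A] {r : ℕ} (φ : Matrix (Fin (r + 1)) (Fin r) A)

theorem sm_eq_fun : sm φ = fun i : Fin (r + 1) =>
    (-1 : A) ^ (i : ℕ) * ((φ).submatrix i.succAbove id).det := rfl

/-- From the `LinearMap` form of exactness to the elementwise form. -/
theorem elementwise_of_linearMap
    (h : Function.Injective φ.mulVecLin ∧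
      LinearMap.range φ.mulVecLin = LinearMap.ker (Fintype.linearCombination A
        (fun i : Fin (r + 1) => (-1 : A) ^ (i : ℕ) * ((φ).submatrix i.succAbove id).det))) :
    (∀ w : Fin r → A, φ.mulVec w = 0 → w = 0) ∧
    (∀ v : Fin (r + 1) → A, ∑ i, v i * sm φ i = 0 → ∃ w, φ.mulVec w = v) ∧
    (∀ w : Fin r → A, ∑ i, φ.mulVec w i * sm φ i = 0) := by
  obtain ⟨h1, h2⟩ := h
  rw [← sm_eq_fun] at h2
  refine ⟨fun w hw => ?_, fun v hv => ?_, fun w => ?_⟩
  · apply h1
    rw [Matrix.mulVecLin_apply, hw, map_zero]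
  · have : v ∈ LinearMap.ker (Fintype.linearCombination A (sm φ)) := by
      rw [LinearMap.mem_ker, Fintype.linearCombination_apply]
      exact hv
    rw [← h2] at this
    obtain ⟨w, hw⟩ := this
    exact ⟨w, by rw [← hw, Matrix.mulVecLin_apply]⟩
  · have : φ.mulVecLin w ∈ LinearMap.ker (Fintype.linearCombination A (sm φ)) := by
      rw [← h2]
      exact ⟨w, rfl⟩
    rw [LinearMap.mem_ker, Fintype.linearCombination_apply, Matrix.mulVecLin_apply] at this
    exact this

/-- From the elementwise form of exactness to the `LinearMap` form. -/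
theorem linearMap_of_elementwise
    (h1 : ∀ w : Fin r → A, φ.mulVec w = 0 → w = 0)
    (h2 : ∀ v : Fin (r + 1) → A, ∑ i, v i * sm φ i = 0 → ∃ w, φ.mulVec w = v) :
    Function.Injective φ.mulVecLin ∧
      LinearMap.range φ.mulVecLin = LinearMap.ker (Fintype.linearCombination A
        (fun i : Fin (r + 1) => (-1 : A) ^ (i : ℕ) * ((φ).submatrix i.succAbove id).det)) := by
  rw [← sm_eq_fun]
  refine ⟨?_, le_antisymm ?_ ?_⟩
  · rw [injective_iff_map_eq_zero]
    intro w hw
    exact h1 w (by rwa [Matrix.mulVecLin_apply] at hw)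
  · rintro _ ⟨w, rfl⟩
    rw [LinearMap.mem_ker, Fintype.linearCombination_apply, Matrix.mulVecLin_apply]
    have := Groth.Agent.Lib.Helper15.HilbertBurch.sum_mulVec_eq_zero φ w
    rw [← this]
    refine Finset.sum_congr rfl fun i _ => ?_
    rw [smul_eq_mul]
    unfold sm Groth.Agent.Lib.Helper15.HilbertBurch.D
    ring
  · intro v hv
    rw [LinearMap.mem_ker, Fintype.linearCombination_apply] at hv
    obtain ⟨w, hw⟩ := h2 v hv
    exact ⟨w, by rw [Matrix.mulVecLin_apply, hw]⟩

end Conv

end Groth.Agent.Lib.Helper29.HBDeform
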