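import Groth.Agent.Lib.Helper29.HBDeform4

/-!
# Deforming Hilbert–Burch matrices along small extensions (helper29), part 5

The lifting step in quotient form: `C'` local, `J` a finitely generated ideal killed by the maximal
ideal, `A'` a flat Noetherian `C'`-algebra, `A = A'/JA'`; a Hilbert–Burch matrix `φ` over `A` for the
image of an ideal `I' ⊆ A'` with `A'/I'` flat over `C'` (and `A/(minors)` flat over `C'/J`) lifts to
a Hilbert–Burch matrix of `I'`.
-/

set_option autoImplicit false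
set_option linter.unusedSectionVars false
universe u
open IsLocalRing Matrix

namespace Groth.Agent.Lib.Helper29.HBDeform

theorem lift_step {C' : Type*} {A' : Type u} [CommRing C'] [IsLocalRing C'] [CommRing A']
    [Algebra C' A'] [Module.Flat C' A'] [IsNoetherianRing A']
    (J : Ideal C') (hJfg : J.FG) (hJ : maximalIdeal C' * J = ⊥) (hJne : J ≠ ⊤) {r : ℕ}
    (φ : Matrix (Fin (r + 1)) (Fin r) (A' ⧸ J.map (algebraMap C' A')))
    (hΨ : ∀ w : Fin r → (A' ⧸ J.map (algebraMap C' A')), φ.mulVec w = 0 → w = 0)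
    (hex : ∀ v : Fin (r + 1) → (A' ⧸ J.map (algebraMap C' A')),
      ∑ i, v i * sm φ i = 0 → ∃ w, φ.mulVec w = v)
    [hfl : Module.Flat (C' ⧸ J)
      ((A' ⧸ J.map (algebraMap C' A')) ⧸ Ideal.span (Set.range (sm φ)))]
    (I' : Ideal A') [Module.Flat C' (A' ⧸ I')]
    (hI' : I'.map (Ideal.Quotient.mk (J.map (algebraMap C' A'))) = Ideal.span (Set.range (sm φ))) :
    ∃ φ' : Matrix (Fin (r + 1)) (Fin r) A',
      φ'.map (Ideal.Quotient.mk (J.map (algebraMap C' A'))) = φ ∧
      I' = Ideal.span (Set.range (sm φ')) ∧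
      (∀ w : Fin r → A', φ'.mulVec w = 0 → w = 0) ∧
      (∀ v : Fin (r + 1) → A', ∑ i, v i * sm φ' i = 0 → ∃ w, φ'.mulVec w = v) := by
  classical
  set π : A' →+* A' ⧸ (J.map (algebraMap C' A')) := Ideal.Quotient.mk (J.map (algebraMap C' A')) with hπdef
  have hπ : Function.Surjective π := Ideal.Quotient.mk_surjective
  have hker : RingHom.ker π = (J.map (algebraMap C' A')) := Ideal.mk_ker
  have hcx : ∀ w : Fin r → (A' ⧸ (J.map (algebraMap C' A'))), ∑ i, φ.mulVec w i * sm φ i = 0 := by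
    intro w
    rw [← Groth.Agent.Lib.Helper15.HilbertBurch.sum_mulVec_eq_zero φ w]
    refine Finset.sum_congr rfl fun i _ => ?_
    unfold sm Groth.Agent.Lib.Helper15.HilbertBurch.D
    ring
  -- lift `φ`
  obtain ⟨φt, hφt⟩ : ∃ φt : Matrix (Fin (r + 1)) (Fin r) A', φt.map π = φ := by
    choose g hg using fun i j => hπ (φ i j)
    exact ⟨Matrix.of g, by ext i j; simp [hg]⟩
  have hsmφ : ∀ i, π (sm φt i) = sm φ i := fun i => by rw [← sm_map, hφt]
  have hmapJJ : (J.map (algebraMap C' A')).map π = ⊥ := Ideal.map_quotient_self (J.map (algebraMap C' A'))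
  have hIJ : InjMod (J.map (algebraMap C' A')) φt := by
    refine (injMod_map_iff π hπ (J.map (algebraMap C' A')) hker.le φt).mp ?_
    rw [hmapJJ, hφt]
    exact injMod_bot_iff.mpr hΨ
  have hEJ : ExMod (J.map (algebraMap C' A')) φt (sm φt) := by
    refine (exMod_map_iff π hπ (J.map (algebraMap C' A')) hker.le φt (sm φt)).mp ?_
    rw [hmapJJ, hφt]
    simp only [hsmφ]
    exact exMod_bot_iff.mpr hex
  -- modulo the maximal ideal
  set 𝔪 := (maximalIdeal C').map (algebraMap C' A') with h𝔪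
  have hJle : J ≤ maximalIdeal C' := IsLocalRing.le_maximalIdeal hJne
  have hJJM : (J.map (algebraMap C' A')) ≤ 𝔪 := Ideal.map_mono hJle
  have hmap𝔪 : 𝔪.map π = ((maximalIdeal C').map (Ideal.Quotient.mk J)).map
      (algebraMap (C' ⧸ J) (A' ⧸ (J.map (algebraMap C' A')))) := by
    rw [h𝔪, Ideal.map_map, Ideal.map_map]
    rfl
  have : Module.Flat (C' ⧸ J) (A' ⧸ (J.map (algebraMap C' A'))) := Groth.Agent.Lib.Helper31.FlatFS.flat_quotient J
  have hIMq := injMod_of_flat (R := C' ⧸ J) φ (sm φ) hΨ hex hcx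
    ((maximalIdeal C').map (Ideal.Quotient.mk J))
  have hEMq := exMod_of_flat (R := C' ⧸ J) φ (sm φ) hex
    ((maximalIdeal C').map (Ideal.Quotient.mk J))
  have hIM : InjMod 𝔪 φt := by
    refine (injMod_map_iff π hπ 𝔪 (hker.le.trans hJJM) φt).mp ?_
    rw [hmap𝔪, hφt]
    exact hIMq
  have hEM : ExMod 𝔪 φt (sm φt) := by
    refine (exMod_map_iff π hπ 𝔪 (hker.le.trans hJJM) φt (sm φt)).mp ?_
    rw [hmap𝔪, hφt]
    simp only [hsmφ]
    exact hEMq
  -- the ideal condition
  have ha : I' ⊔ (J.map (algebraMap C' A')) = Ideal.span (Set.range (sm φt)) ⊔ (J.map (algebraMap C' A')) := by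
    have h1 : (Ideal.span (Set.range (sm φt))).map π = Ideal.span (Set.range (sm φ)) := by
      rw [Ideal.map_span, ← Set.range_comp]
      congr 2
      funext i
      exact hsmφ i
    have h2 := congrArg (Ideal.comap π) (hI'.trans h1.symm)
    rw [Ideal.comap_map_of_surjective π hπ, Ideal.comap_map_of_surjective π hπ] at h2
    have h3 : Ideal.comap π ⊥ = (J.map (algebraMap C' A')) := by rw [← RingHom.ker_eq_comap_bot, hker]
    rwa [h3] at h2
  -- the annihilator condition
  have hAnn : ∀ b : A', (∀ i, b * sm φt i ∈ (J.map (algebraMap C' A'))) → b ∈ (J.map (algebraMap C' A')) := by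
    intro b hb
    rw [← Ideal.Quotient.eq_zero_iff_mem]
    apply eq_zero_of_mul_sm_eq_zero φ hΨ hex
    intro i
    rw [← hsmφ]
    change π b * π (sm φt i) = 0
    rw [← map_mul]
    exact Ideal.Quotient.eq_zero_iff_mem.mpr (hb i)
  obtain ⟨φ', hφ', hIeq, h1, h2⟩ := core J hJfg hJ hJne I' φt ha hIJ hEJ hIM hEM hAnn
  refine ⟨φ', ?_, hIeq, h1, h2⟩
  rw [← hφt]
  ext i j
  simp only [Matrix.map_apply]
  exact (Ideal.Quotient.mk_eq_mk_iff_sub_mem (I := (J.map (algebraMap C' A'))) _ _).mpr (hφ' i j)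

end Groth.Agent.Lib.Helper29.HBDeform
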