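import Groth.Agent.Lib.Helper29.HBDeform5

/-!
# Deforming Hilbert–Burch matrices (helper29), part 6: from the special fibre to an Artinian base

By induction on the nilpotency index of the maximal ideal of the local base `C`: a Hilbert–Burch matrix
for `I` modulo `𝔪_C A` lifts to a Hilbert–Burch matrix for `I` (`A` flat Noetherian over `C`, `A/I`
flat over `C`).
-/

set_option autoImplicit false
set_option linter.unusedSectionVars false
universe u
open IsLocalRing Matrix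

namespace Groth.Agent.Lib.Helper29.HBDeform

theorem sm_sub_mem {A : Type*} [CommRing A] (𝔨 : Ideal A) {r : ℕ}
    (φ φ' : Matrix (Fin (r + 1)) (Fin r) A) (h : ∀ i j, φ' i j - φ i j ∈ 𝔨) (i : Fin (r + 1)) :
    sm φ' i - sm φ i ∈ 𝔨 := by
  rw [← Ideal.Quotient.mk_eq_mk_iff_sub_mem (I := 𝔨), ← sm_map, ← sm_map]
  congr 1
  ext i j
  simp only [Matrix.map_apply]
  exact (Ideal.Quotient.mk_eq_mk_iff_sub_mem (I := 𝔨) _ _).mpr (h i j)

/-- From a Hilbert–Burch matrix over a quotient `A/𝔨` to congruence data over `A`. -/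
theorem congruence_of_quotient {A : Type u} [CommRing A] [IsNoetherianRing A] (𝔨 : Ideal A) {r : ℕ}
    (φ : Matrix (Fin (r + 1)) (Fin r) (A ⧸ 𝔨))
    (hΨ : ∀ w : Fin r → (A ⧸ 𝔨), φ.mulVec w = 0 → w = 0)
    (hex : ∀ v : Fin (r + 1) → (A ⧸ 𝔨), ∑ i, v i * sm φ i = 0 → ∃ w, φ.mulVec w = v)
    (I : Ideal A) (hI : I.map (Ideal.Quotient.mk 𝔨) = Ideal.span (Set.range (sm φ))) :
    ∃ φt : Matrix (Fin (r + 1)) (Fin r) A, φt.map (Ideal.Quotient.mk 𝔨) = φ ∧
      I ⊔ 𝔨 = Ideal.span (Set.range (sm φt)) ⊔ 𝔨 ∧ InjMod 𝔨 φt ∧ ExMod 𝔨 φt (sm φt) ∧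
      (∀ b : A, (∀ i, b * sm φt i ∈ 𝔨) → b ∈ 𝔨) := by
  classical
  set π : A →+* A ⧸ 𝔨 := Ideal.Quotient.mk 𝔨 with hπdef
  have hπ : Function.Surjective π := Ideal.Quotient.mk_surjective
  have hker : RingHom.ker π = 𝔨 := Ideal.mk_ker
  obtain ⟨φt, hφt⟩ : ∃ φt : Matrix (Fin (r + 1)) (Fin r) A, φt.map π = φ := by
    choose g hg using fun i j => hπ (φ i j)
    exact ⟨Matrix.of g, by ext i j; simp [hg]⟩
  have hsmφ : ∀ i, π (sm φt i) = sm φ i := fun i => by rw [← sm_map, hφt]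
  have hmap : 𝔨.map π = ⊥ := Ideal.map_quotient_self 𝔨
  refine ⟨φt, hφt, ?_, ?_, ?_, ?_⟩
  · have h1 : (Ideal.span (Set.range (sm φt))).map π = Ideal.span (Set.range (sm φ)) := by
      rw [Ideal.map_span, ← Set.range_comp]
      congr 2
      funext i
      exact hsmφ i
    have h2 := congrArg (Ideal.comap π) (hI.trans h1.symm)
    rw [Ideal.comap_map_of_surjective π hπ, Ideal.comap_map_of_surjective π hπ] at h2
    have h3 : Ideal.comap π ⊥ = 𝔨 := by rw [← RingHom.ker_eq_comap_bot, hker]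
    rwa [h3] at h2
  · refine (injMod_map_iff π hπ 𝔨 hker.le φt).mp ?_
    rw [hmap, hφt]
    exact injMod_bot_iff.mpr hΨ
  · refine (exMod_map_iff π hπ 𝔨 hker.le φt (sm φt)).mp ?_
    rw [hmap, hφt]
    simp only [hsmφ]
    exact exMod_bot_iff.mpr hex
  · intro b hb
    rw [← Ideal.Quotient.eq_zero_iff_mem]
    apply eq_zero_of_mul_sm_eq_zero φ hΨ hex
    intro i
    rw [← hsmφ]
    change π b * π (sm φt i) = 0
    rw [← map_mul]
    exact Ideal.Quotient.eq_zero_iff_mem.mpr (hb i)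

/-- Flatness of the double quotient. -/
theorem flat_quot_quot {C A : Type*} [CommRing C] [CommRing A] [Algebra C A] (J : Ideal C)
    (I : Ideal A) [Module.Flat C (A ⧸ I)] :
    Module.Flat (C ⧸ J) ((A ⧸ J.map (algebraMap C A)) ⧸
      I.map (Ideal.Quotient.mk (J.map (algebraMap C A)))) := by
  have h0 : Module.Flat (C ⧸ J) ((A ⧸ I) ⧸ J.map (algebraMap C (A ⧸ I))) :=
    Groth.Agent.Lib.Helper31.FlatFS.flat_quotient J
  have hJ : J.map (algebraMap C (A ⧸ I)) =
      (J.map (algebraMap C A)).map (Ideal.Quotient.mk I) := by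
    rw [Ideal.map_map]
    rfl
  let e₁ : ((A ⧸ I) ⧸ J.map (algebraMap C (A ⧸ I))) ≃+*
      ((A ⧸ J.map (algebraMap C A)) ⧸ I.map (Ideal.Quotient.mk (J.map (algebraMap C A)))) :=
    (Ideal.quotEquivOfEq hJ).trans (DoubleQuot.quotQuotEquivComm I (J.map (algebraMap C A)))
  have he₁ : ∀ c : C, e₁ (algebraMap (C ⧸ J) _ (Ideal.Quotient.mk J c)) =
      algebraMap (C ⧸ J) _ (Ideal.Quotient.mk J c) := fun c => rfl
  let e : ((A ⧸ I) ⧸ J.map (algebraMap C (A ⧸ I))) ≃ₗ[C ⧸ J]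
      ((A ⧸ J.map (algebraMap C A)) ⧸ I.map (Ideal.Quotient.mk (J.map (algebraMap C A)))) :=
    { e₁.toAddEquiv with
      map_smul' := fun s x => by
        obtain ⟨c, rfl⟩ := Ideal.Quotient.mk_surjective s
        simp only [RingHom.id_apply]
        change e₁ (_ • x) = _ • e₁ x
        rw [Algebra.smul_def, Algebra.smul_def, map_mul, he₁] }
  exact Module.Flat.of_linearEquiv e.symm

section Quot

variable {C : Type*} [CommRing C] [IsLocalRing C] (J : Ideal C) (hJne : J ≠ ⊤)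

include hJne in
theorem isLocalRing_quot : IsLocalRing (C ⧸ J) := by
  have : Nontrivial (C ⧸ J) := Ideal.Quotient.nontrivial_iff.mpr hJne
  exact IsLocalRing.of_surjective' (Ideal.Quotient.mk J) Ideal.Quotient.mk_surjective

include hJne in
theorem map_maximalIdeal_quot [IsLocalRing (C ⧸ J)] :
    (maximalIdeal C).map (Ideal.Quotient.mk J) = maximalIdeal (C ⧸ J) := by
  have := IsLocalHom.of_surjective (Ideal.Quotient.mk J) Ideal.Quotient.mk_surjective
  ext x
  obtain ⟨x, rfl⟩ := Ideal.Quotient.mk_surjective x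
  simp [sup_eq_left.mpr (le_maximalIdeal hJne)]

end Quot

/-- **Main induction.** -/
theorem exists_of_special_fibre (n : ℕ) : ∀ (C A : Type u) [CommRing C] [IsLocalRing C]
    [IsNoetherianRing C] [CommRing A] [Algebra C A] [Module.Flat C A] [IsNoetherianRing A]
    (_ : maximalIdeal C ^ n = ⊥) (I : Ideal A) [Module.Flat C (A ⧸ I)] (r : ℕ)
    (φ₀ : Matrix (Fin (r + 1)) (Fin r) A)
    (_ : I ⊔ (maximalIdeal C).map (algebraMap C A) =
      Ideal.span (Set.range (sm φ₀)) ⊔ (maximalIdeal C).map (algebraMap C A))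
    (_ : InjMod ((maximalIdeal C).map (algebraMap C A)) φ₀)
    (_ : ExMod ((maximalIdeal C).map (algebraMap C A)) φ₀ (sm φ₀)),
    ∃ φ : Matrix (Fin (r + 1)) (Fin r) A,
      (∀ i j, φ i j - φ₀ i j ∈ (maximalIdeal C).map (algebraMap C A)) ∧
      I = Ideal.span (Set.range (sm φ)) ∧
      (∀ w : Fin r → A, φ.mulVec w = 0 → w = 0) ∧
      (∀ v : Fin (r + 1) → A, ∑ i, v i * sm φ i = 0 → ∃ w, φ.mulVec w = v) := by
  induction n with
  | zero =>
    intro C A _ _ _ _ _ _ _ hn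
    exfalso
    rw [pow_zero, Ideal.one_eq_top] at hn
    exact top_ne_bot hn
  | succ n ih =>
    intro C A _ _ _ _ _ _ _ hn I _ r φ₀ ha₀ hI₀ hE₀
    by_cases hn0 : n = 0
    · -- the maximal ideal is zero
      subst hn0
      rw [zero_add, pow_one] at hn
      have h𝔪 : (maximalIdeal C).map (algebraMap C A) = ⊥ := by rw [hn, Ideal.map_bot]
      rw [h𝔪] at ha₀ hI₀ hE₀
      rw [sup_bot_eq, sup_bot_eq] at ha₀
      refine ⟨φ₀, fun i j => by rw [sub_self]; exact Ideal.zero_mem _, ha₀,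
        injMod_bot_iff.mp hI₀, exMod_bot_iff.mp hE₀⟩
    · -- the small extension `C → C / 𝔪^n`
      set J : Ideal C := maximalIdeal C ^ n with hJdef
      have hJ : maximalIdeal C * J = ⊥ := by rw [hJdef, ← pow_succ', hn]
      have hJle : J ≤ maximalIdeal C := Ideal.pow_le_self hn0
      have hJne : J ≠ ⊤ := fun h => by
        rw [h] at hJle
        exact (Ideal.IsPrime.ne_top (inferInstance : (maximalIdeal C).IsPrime)) (top_le_iff.mp hJle)
      have hJfg : J.FG := IsNoetherian.noetherian J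
      set 𝔪 := (maximalIdeal C).map (algebraMap C A) with h𝔪def
      have hJ𝔪 : J.map (algebraMap C A) ≤ 𝔪 := Ideal.map_mono hJle
      have : IsLocalRing (C ⧸ J) := isLocalRing_quot J hJne
      have hmax := map_maximalIdeal_quot J hJne
      have hnil : maximalIdeal (C ⧸ J) ^ n = ⊥ := by
        rw [← hmax, ← Ideal.map_pow]
        exact Ideal.map_quotient_self J
      have : Module.Flat (C ⧸ J) (A ⧸ J.map (algebraMap C A)) :=
        Groth.Agent.Lib.Helper31.FlatFS.flat_quotient J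
      have : Module.Flat (C ⧸ J) ((A ⧸ J.map (algebraMap C A)) ⧸
          I.map (Ideal.Quotient.mk (J.map (algebraMap C A)))) := flat_quot_quot J I
      set π : A →+* A ⧸ J.map (algebraMap C A) := Ideal.Quotient.mk (J.map (algebraMap C A))
        with hπdef
      have hπ : Function.Surjective π := Ideal.Quotient.mk_surjective
      have hker : RingHom.ker π = J.map (algebraMap C A) := Ideal.mk_ker
      have hker𝔪 : RingHom.ker π ≤ 𝔪 := hker.le.trans hJ𝔪
      have hmap𝔪 : 𝔪.map π = (maximalIdeal (C ⧸ J)).map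
          (algebraMap (C ⧸ J) (A ⧸ J.map (algebraMap C A))) := by
        rw [← hmax, h𝔪def, Ideal.map_map, Ideal.map_map]
        rfl
      have hsmπ : ∀ i, π (sm φ₀ i) = sm (φ₀.map π) i := fun i => (sm_map π φ₀ i).symm
      -- hypotheses for the quotient
      have ha₀' : I.map π ⊔ (maximalIdeal (C ⧸ J)).map
          (algebraMap (C ⧸ J) (A ⧸ J.map (algebraMap C A))) =
          Ideal.span (Set.range (sm (φ₀.map π))) ⊔ (maximalIdeal (C ⧸ J)).map
          (algebraMap (C ⧸ J) (A ⧸ J.map (algebraMap C A))) := by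
        rw [← hmap𝔪, ← Ideal.map_sup, ha₀, Ideal.map_sup, Ideal.map_span, ← Set.range_comp]
        congr 3
        funext i
        exact hsmπ i
      have hI₀' : InjMod ((maximalIdeal (C ⧸ J)).map
          (algebraMap (C ⧸ J) (A ⧸ J.map (algebraMap C A)))) (φ₀.map π) := by
        rw [← hmap𝔪]
        exact (injMod_map_iff π hπ 𝔪 hker𝔪 φ₀).mpr hI₀
      have hE₀' : ExMod ((maximalIdeal (C ⧸ J)).map
          (algebraMap (C ⧸ J) (A ⧸ J.map (algebraMap C A)))) (φ₀.map π) (sm (φ₀.map π)) := by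
        rw [← hmap𝔪]
        have := (exMod_map_iff π hπ 𝔪 hker𝔪 φ₀ (sm φ₀)).mpr hE₀
        simpa only [hsmπ] using this
      obtain ⟨φb, hφb, hIb, hΨb, hexb⟩ := ih (C ⧸ J) (A ⧸ J.map (algebraMap C A)) hnil (I.map π) r
        (φ₀.map π) ha₀' hI₀' hE₀'
      -- back to congruences over `A`
      obtain ⟨φt, hφt, hat, hIJ, hEJ, hAnn⟩ :=
        congruence_of_quotient (J.map (algebraMap C A)) φb hΨb hexb I hIb
      have hφt𝔪 : ∀ i j, φt i j - φ₀ i j ∈ 𝔪 := by
        intro i j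
        rw [mem_iff_map_mem π hπ 𝔪 hker𝔪, map_sub, hmap𝔪]
        have := hφb i j
        rw [← hφt] at this
        simpa only [Matrix.map_apply] using this
      have hIM : InjMod 𝔪 φt := hI₀.congr 𝔪 hφt𝔪
      have hEM : ExMod 𝔪 φt (sm φt) := hE₀.congr 𝔪 hφt𝔪 (sm_sub_mem 𝔪 φ₀ φt hφt𝔪)
      obtain ⟨φ', hφ', hIeq, h1, h2⟩ := core J hJfg hJ hJne I φt hat hIJ hEJ hIM hEM hAnn
      refine ⟨φ', fun i j => ?_, hIeq, h1, h2⟩
      have := 𝔪.add_mem (hJ𝔪 (hφ' i j)) (hφt𝔪 i j)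
      rwa [sub_add_sub_cancel] at this

end Groth.Agent.Lib.Helper29.HBDeform
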