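import Mathlib
import Groth.Agent.Lib.Helper29.HBDeform4

/-!
# Spreading out a Hilbert–Burch presentation from a local ring to a basic open (helper29), part 1

Elementwise tools: clearing denominators of vectors, spreading injectivity / exactness of matrices
from a localization to a single denominator, and descending them to any localization in which that
denominator is invertible.
-/

set_option autoImplicit false
set_option linter.unusedSectionVars false
universe u
open Matrix

namespace Groth.Agent.Lib.Helper29.HBSpread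

open Groth.Agent.Lib.Helper29.HBDeform (sm sm_map)

section Tools

variable {R : Type*} [CommRing R] (T : Submonoid R) (A : Type*) [CommRing A] [Algebra R A]
  [IsLocalization T A]

/-- clearing denominators of a vector -/
theorem exists_clear {n : ℕ} (w : Fin n → A) :
    ∃ t : R, t ∈ T ∧ ∃ w' : Fin n → R, ∀ j, algebraMap R A (w' j) = algebraMap R A t * w j := by
  obtain ⟨b, hb⟩ := IsLocalization.exist_integer_multiples_of_finite T w
  choose w' hw' using hb
  exact ⟨b, b.2, w', fun j => by rw [hw', Algebra.smul_def]⟩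

/-- a vector dying in the localization is killed by one denominator -/
theorem exists_kill {n : ℕ} (v : Fin n → R) (hv : ∀ j, algebraMap R A (v j) = 0) :
    ∃ t : R, t ∈ T ∧ ∀ j, t * v j = 0 := by
  have h : ∀ j, ∃ m : T, (m : R) * v j = 0 := fun j =>
    (IsLocalization.map_eq_zero_iff T A (v j)).mp (hv j)
  choose m hm using h
  refine ⟨∏ j, (m j : R), ?_, fun j => ?_⟩
  · exact Submonoid.prod_mem _ fun j _ => (m j).2
  · rw [← Finset.prod_erase_mul _ _ (Finset.mem_univ j), mul_assoc, hm, mul_zero]

end Tools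

section FG

variable {R : Type*} [CommRing R] (T : Submonoid R) {E : Type*} [AddCommGroup E] [Module R E]

/-- pointwise multipliers on a finitely generated submodule can be chosen uniformly -/
theorem exists_uniform (P N : Submodule R E) (hP : P.FG)
    (h : ∀ x ∈ P, ∃ t ∈ T, t • x ∈ N) : ∃ g ∈ T, ∀ x ∈ P, g • x ∈ N := by
  classical
  obtain ⟨G, rfl⟩ := hP
  have h' : ∀ x : E, ∃ t ∈ T, x ∈ G → t • x ∈ N := by
    intro x
    by_cases hx : x ∈ G
    · obtain ⟨t, ht, htx⟩ := h x (Submodule.subset_span hx)
      exact ⟨t, ht, fun _ => htx⟩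
    · exact ⟨1, T.one_mem, fun hx' => absurd hx' hx⟩
  choose t ht htx using h'
  refine ⟨∏ x ∈ G, t x, Submonoid.prod_mem _ fun x _ => ht x, fun x hx => ?_⟩
  induction hx using Submodule.span_induction with
  | mem x hx =>
    rw [← Finset.prod_erase_mul _ _ hx, mul_smul]
    exact N.smul_mem _ (htx x hx)
  | zero => rw [smul_zero]; exact N.zero_mem
  | add x y _ _ hx hy => rw [smul_add]; exact N.add_mem hx hy
  | smul a x _ hx => rw [smul_comm]; exact N.smul_mem _ hx

end FG

section MapMulVec

variable {R : Type*} [CommRing R] (A : Type*) [CommRing A] [Algebra R A]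
  {n m : ℕ} (φ : Matrix (Fin n) (Fin m) R)

theorem map_mulVec_comp (w : Fin m → R) (i : Fin n) :
    (φ.map (algebraMap R A)).mulVec (fun j => algebraMap R A (w j)) i =
      algebraMap R A (φ.mulVec w i) := by
  simp only [Matrix.mulVec, dotProduct, Matrix.map_apply, map_sum, map_mul]

end MapMulVec

section Spread

variable {R : Type*} [CommRing R] [IsNoetherianRing R] (T : Submonoid R)
  (A : Type*) [CommRing A] [Algebra R A] [IsLocalization T A]
  {n m : ℕ} (φ : Matrix (Fin n) (Fin m) R) (c : Fin n → R)

theorem spread_inj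
    (h : ∀ w : Fin m → A, (φ.map (algebraMap R A)).mulVec w = 0 → w = 0) :
    ∃ g ∈ T, ∀ w : Fin m → R, φ.mulVec w = 0 → g • w = 0 := by
  have key := exists_uniform T (LinearMap.ker φ.mulVecLin) ⊥
    (IsNoetherian.noetherian _) (fun w hw => by
      rw [LinearMap.mem_ker, Matrix.mulVecLin_apply] at hw
      have h0 : (fun j => algebraMap R A (w j)) = 0 := by
        apply h
        funext i
        rw [map_mulVec_comp, hw]
        simp
      obtain ⟨t, ht, htw⟩ := exists_kill T A w (fun j => congrFun h0 j)
      refine ⟨t, ht, ?_⟩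
      rw [Submodule.mem_bot]
      funext j
      simpa using htw j)
  obtain ⟨g, hg, hgP⟩ := key
  refine ⟨g, hg, fun w hw => ?_⟩
  have := hgP w (by rw [LinearMap.mem_ker, Matrix.mulVecLin_apply, hw])
  rwa [Submodule.mem_bot] at this

theorem spread_ex
    (h : ∀ v : Fin n → A, ∑ i, v i * algebraMap R A (c i) = 0 →
      ∃ w, (φ.map (algebraMap R A)).mulVec w = v) :
    ∃ g ∈ T, ∀ v : Fin n → R, ∑ i, v i * c i = 0 → ∃ w, φ.mulVec w = g • v := by
  have key := exists_uniform T (LinearMap.ker (Fintype.linearCombination R c))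
    (LinearMap.range φ.mulVecLin)
    (IsNoetherian.noetherian _) (fun v hv => by
      rw [LinearMap.mem_ker, Fintype.linearCombination_apply] at hv
      have h0 : ∑ i, algebraMap R A (v i) * algebraMap R A (c i) = 0 := by
        rw [← map_zero (algebraMap R A), ← hv]
        simp only [map_sum, smul_eq_mul, map_mul]
      obtain ⟨w, hw⟩ := h (fun i => algebraMap R A (v i)) h0
      obtain ⟨t, ht, w', hw'⟩ := exists_clear T A w
      have h1 : ∀ i, algebraMap R A (φ.mulVec w' i - t * v i) = 0 := by
        intro i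
        rw [map_sub, ← map_mulVec_comp, map_mul]
        have : (fun j => algebraMap R A (w' j)) = algebraMap R A t • w := by
          funext j
          rw [hw' j]
          rfl
        rw [this, Matrix.mulVec_smul, hw]
        simp
      obtain ⟨t', ht', hk⟩ := exists_kill T A _ h1
      refine ⟨t' * t, T.mul_mem ht' ht, ⟨t' • w', ?_⟩⟩
      rw [Matrix.mulVecLin_apply, Matrix.mulVec_smul]
      funext i
      have := hk i
      rw [mul_sub, sub_eq_zero] at this
      simp only [Pi.smul_apply, smul_eq_mul]
      rw [this, mul_assoc])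
  obtain ⟨g, hg, hgP⟩ := key
  refine ⟨g, hg, fun v hv => ?_⟩
  have := hgP v (by
    rw [LinearMap.mem_ker, Fintype.linearCombination_apply]
    simpa using hv)
  obtain ⟨w, hw⟩ := this
  exact ⟨w, by rw [← hw, Matrix.mulVecLin_apply]⟩

theorem spread_ideal (J K : Ideal R)
    (h : J.map (algebraMap R A) ≤ K.map (algebraMap R A)) :
    ∃ g ∈ T, ∀ x ∈ J, g * x ∈ K := by
  have key := exists_uniform T (E := R) J K (IsNoetherian.noetherian _) (fun x hx => by
    have hx' : algebraMap R A x ∈ K.map (algebraMap R A) := h (Ideal.mem_map_of_mem _ hx)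
    rw [IsLocalization.mem_map_algebraMap_iff T A] at hx'
    obtain ⟨⟨⟨k, hk⟩, ⟨t, ht⟩⟩, hkt⟩ := hx'
    simp only at hkt
    rw [← map_mul] at hkt
    obtain ⟨⟨t', ht'⟩, hk'⟩ := (IsLocalization.eq_iff_exists T A).mp hkt
    simp only at hk'
    refine ⟨t' * t, T.mul_mem ht' ht, ?_⟩
    rw [smul_eq_mul]
    have : t' * t * x = t' * k := by rw [← hk']; ring
    rw [this]
    exact K.mul_mem_left _ hk)
  obtain ⟨g, hg, hgP⟩ := key
  exact ⟨g, hg, fun x hx => by simpa using hgP x hx⟩

end Spread

section Desc

variable {R : Type*} [CommRing R]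
  (A : Type*) [CommRing A] [Algebra R A]
  {n m : ℕ} (φ : Matrix (Fin n) (Fin m) R) (c : Fin n → R) (g : R)
  (hg : IsUnit (algebraMap R A g))

include hg in
theorem desc_inj (T : Submonoid R) [IsLocalization T A] (h : ∀ w : Fin m → R, φ.mulVec w = 0 → g • w = 0)
    (w : Fin m → A) (hw : (φ.map (algebraMap R A)).mulVec w = 0) : w = 0 := by
  obtain ⟨t, ht, w', hw'⟩ := exists_clear T A w
  have e1 : (fun j => algebraMap R A (w' j)) = algebraMap R A t • w := by
    funext j
    rw [hw' j]
    rfl
  have h1 : ∀ i, algebraMap R A (φ.mulVec w' i) = 0 := by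
    intro i
    rw [← map_mulVec_comp, e1, Matrix.mulVec_smul, hw]
    simp
  obtain ⟨t', ht', hk⟩ := exists_kill T A _ h1
  have h2 : φ.mulVec (t' • w') = 0 := by
    rw [Matrix.mulVec_smul]
    funext i
    simpa using hk i
  have h3 := h _ h2
  have hut : IsUnit (algebraMap R A t) := IsLocalization.map_units A ⟨t, ht⟩
  have hut' : IsUnit (algebraMap R A t') := IsLocalization.map_units A ⟨t', ht'⟩
  funext j
  have h4 : algebraMap R A (g * (t' * w' j)) = 0 := by
    have := congrFun h3 j
    simp only [Pi.smul_apply, smul_eq_mul, Pi.zero_apply] at this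
    rw [this, map_zero]
  rw [map_mul, map_mul, hw' j] at h4
  have h5 := (hg.mul_right_eq_zero).mp h4
  have h6 := (hut'.mul_right_eq_zero).mp h5
  exact (hut.mul_right_eq_zero).mp h6

include hg in
theorem desc_ex (T : Submonoid R) [IsLocalization T A] (h : ∀ v : Fin n → R, ∑ i, v i * c i = 0 → ∃ w, φ.mulVec w = g • v)
    (v : Fin n → A) (hv : ∑ i, v i * algebraMap R A (c i) = 0) :
    ∃ w, (φ.map (algebraMap R A)).mulVec w = v := by
  obtain ⟨t, ht, v', hv'⟩ := exists_clear T A v
  have h1 : algebraMap R A (∑ i, v' i * c i) = 0 := by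
    simp only [map_sum, map_mul, hv']
    have : ∑ i, algebraMap R A t * v i * algebraMap R A (c i) =
        algebraMap R A t * ∑ i, v i * algebraMap R A (c i) := by
      rw [Finset.mul_sum]
      exact Finset.sum_congr rfl fun i _ => by ring
    rw [this, hv, mul_zero]
  obtain ⟨⟨t', ht'⟩, hk⟩ := (IsLocalization.map_eq_zero_iff T A _).mp h1
  simp only at hk
  have h2 : ∑ i, (t' • v') i * c i = 0 := by
    rw [← hk, Finset.mul_sum]
    exact Finset.sum_congr rfl fun i _ => by simp [mul_assoc]
  obtain ⟨w, hw⟩ := h _ h2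
  have hut : IsUnit (algebraMap R A t) := IsLocalization.map_units A ⟨t, ht⟩
  have hut' : IsUnit (algebraMap R A t') := IsLocalization.map_units A ⟨t', ht'⟩
  have hu : IsUnit (algebraMap R A g * algebraMap R A t' * algebraMap R A t) :=
    (hg.mul hut').mul hut
  obtain ⟨u, hu⟩ := hu
  refine ⟨(↑u⁻¹ : A) • (fun j => algebraMap R A (w j)), ?_⟩
  rw [Matrix.mulVec_smul]
  funext i
  rw [Pi.smul_apply, map_mulVec_comp, hw]
  simp only [Pi.smul_apply, smul_eq_mul, map_mul, hv']
  rw [show (↑u⁻¹ : A) * (algebraMap R A g * (algebraMap R A t' * (algebraMap R A t * v i))) =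
    ↑u⁻¹ * (algebraMap R A g * algebraMap R A t' * algebraMap R A t) * v i by ring, ← hu,
    Units.inv_mul, one_mul]

include hg in
theorem desc_ideal (J K : Ideal R) (h : ∀ x ∈ J, g * x ∈ K) :
    J.map (algebraMap R A) ≤ K.map (algebraMap R A) := by
  rw [Ideal.map_le_iff_le_comap]
  intro x hx
  rw [Ideal.mem_comap]
  have h1 : algebraMap R A (g * x) ∈ K.map (algebraMap R A) := Ideal.mem_map_of_mem _ (h x hx)
  rw [map_mul] at h1
  obtain ⟨u, hu⟩ := hg
  rw [← hu] at h1
  have := Ideal.mul_mem_left _ (↑u⁻¹ : A) h1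
  rwa [← mul_assoc, Units.inv_mul, one_mul] at this

end Desc

end Groth.Agent.Lib.Helper29.HBSpread
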