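import Mathlib
import Groth.Agent.Lib.Helper29.HBSpread1

/-!
# Spreading out a Hilbert–Burch presentation from a local ring to a basic open (helper29), part 2

The algebraic spreading-out theorem.
-/

set_option autoImplicit false
set_option linter.unusedSectionVars false
universe u
open Matrix

namespace Groth.Agent.Lib.Helper29.HBSpread

open Groth.Agent.Lib.Helper29.HBDeform (sm sm_map)

theorem sm_smul {A : Type*} [CommRing A] {r : ℕ} (u : A) (φ : Matrix (Fin (r + 1)) (Fin r) A)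
    (i : Fin (r + 1)) : sm (u • φ) i = u ^ r * sm φ i := by
  unfold sm
  have : (u • φ).submatrix i.succAbove id = u • φ.submatrix i.succAbove id := by
    ext a b
    simp
  rw [this, Matrix.det_smul, Fintype.card_fin]
  ring

theorem span_range_unit_mul {A : Type*} [CommRing A] {ι : Type*} (u : A) (hu : IsUnit u)
    (f : ι → A) : Ideal.span (Set.range fun i => u * f i) = Ideal.span (Set.range f) := by
  apply le_antisymm
  · rw [Ideal.span_le]
    rintro _ ⟨i, rfl⟩
    exact Ideal.mul_mem_left _ _ (Ideal.subset_span ⟨i, rfl⟩)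
  · rw [Ideal.span_le]
    rintro _ ⟨i, rfl⟩
    obtain ⟨v, rfl⟩ := hu
    have : f i = (↑v⁻¹ : A) * (↑v * f i) := by rw [← mul_assoc, Units.inv_mul, one_mul]
    rw [this]
    exact Ideal.mul_mem_left _ _ (Ideal.subset_span ⟨i, rfl⟩)

theorem span_range_sm_map {R S : Type*} [CommRing R] [CommRing S] (π : R →+* S) {r : ℕ}
    (M : Matrix (Fin (r + 1)) (Fin r) R) :
    Ideal.span (Set.range (sm (M.map π))) = (Ideal.span (Set.range (sm M))).map π := by
  rw [Ideal.map_span, ← Set.range_comp]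
  congr 2
  funext i
  exact sm_map π M i

/-- Scaling a Hilbert–Burch matrix by a unit keeps all the properties. -/
theorem scale {A : Type*} [CommRing A] {r : ℕ} (u : A) (hu : IsUnit u)
    (φ : Matrix (Fin (r + 1)) (Fin r) A)
    (h2 : ∀ w : Fin r → A, φ.mulVec w = 0 → w = 0)
    (h3 : ∀ v : Fin (r + 1) → A, ∑ i, v i * sm φ i = 0 → ∃ w, φ.mulVec w = v) :
    Ideal.span (Set.range (sm (u • φ))) = Ideal.span (Set.range (sm φ)) ∧
    (∀ w : Fin r → A, (u • φ).mulVec w = 0 → w = 0) ∧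
    (∀ v : Fin (r + 1) → A, ∑ i, v i * sm (u • φ) i = 0 → ∃ w, (u • φ).mulVec w = v) := by
  refine ⟨?_, fun w hw => ?_, fun v hv => ?_⟩
  · have : sm (u • φ) = fun i => u ^ r * sm φ i := funext fun i => sm_smul u φ i
    rw [this]
    exact span_range_unit_mul _ (hu.pow r) _
  · apply h2
    rw [Matrix.smul_mulVec] at hw
    funext i
    have := congrFun hw i
    simp only [Pi.smul_apply, smul_eq_mul, Pi.zero_apply] at this
    exact (hu.mul_right_eq_zero).mp this
  · have h0 : u ^ r * ∑ i, v i * sm φ i = 0 := by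
      rw [← hv, Finset.mul_sum]
      exact Finset.sum_congr rfl fun i _ => by rw [sm_smul]; ring
    obtain ⟨w, hw⟩ := h3 v (((hu.pow r).mul_right_eq_zero).mp h0)
    obtain ⟨u', rfl⟩ := hu
    refine ⟨(↑u'⁻¹ : A) • w, ?_⟩
    rw [Matrix.smul_mulVec, Matrix.mulVec_smul, hw, smul_smul, Units.mul_inv, one_smul]

/-- **Spreading out a Hilbert–Burch presentation** from the local ring at a prime of a Noetherian
ring to a principal localization. -/
theorem exists_spread {R : Type u} [CommRing R] [IsNoetherianRing R] (𝔭 : Ideal R) [𝔭.IsPrime]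
    (A : Type u) [CommRing A] [Algebra R A] [IsLocalization.AtPrime A 𝔭] (I : Ideal R)
    {r : ℕ} (φ : Matrix (Fin (r + 1)) (Fin r) A)
    (h1 : Ideal.span (Set.range (sm φ)) = I.map (algebraMap R A))
    (h2 : ∀ w : Fin r → A, φ.mulVec w = 0 → w = 0)
    (h3 : ∀ v : Fin (r + 1) → A, ∑ i, v i * sm φ i = 0 → ∃ w, φ.mulVec w = v) :
    ∃ g : R, g ∉ 𝔭 ∧ ∃ M : Matrix (Fin (r + 1)) (Fin r) R,
      ∀ (S : Type u) [CommRing S] [Algebra R S] [IsLocalization.Away g S],
        Ideal.span (Set.range (sm (M.map (algebraMap R S)))) = I.map (algebraMap R S) ∧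
        (∀ w : Fin r → S, (M.map (algebraMap R S)).mulVec w = 0 → w = 0) ∧
        (∀ v : Fin (r + 1) → S, ∑ i, v i * sm (M.map (algebraMap R S)) i = 0 →
          ∃ w, (M.map (algebraMap R S)).mulVec w = v) := by
  -- Step 1: clear denominators of `φ`
  obtain ⟨s, hs⟩ := IsLocalization.exist_integer_multiples_of_finite 𝔭.primeCompl
    (fun p : Fin (r + 1) × Fin r => φ p.1 p.2)
  choose M0 hM0 using hs
  let M : Matrix (Fin (r + 1)) (Fin r) R := Matrix.of fun i j => M0 (i, j)
  have hu : IsUnit (algebraMap R A s) := IsLocalization.map_units A s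
  have hM : M.map (algebraMap R A) = algebraMap R A s • φ := by
    ext i j
    simp only [Matrix.map_apply, Matrix.smul_apply, smul_eq_mul]
    show algebraMap R A (M0 (i, j)) = _
    rw [hM0 (i, j), Algebra.smul_def]
  obtain ⟨k1, k2, k3⟩ := scale _ hu φ h2 h3
  rw [← hM] at k1 k2 k3
  rw [h1] at k1
  -- Step 2: spread
  set f := sm M with hf
  have hfa : ∀ i, sm (M.map (algebraMap R A)) i = algebraMap R A (f i) := fun i =>
    sm_map (algebraMap R A) M i
  set J := Ideal.span (Set.range f) with hJ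
  have hJa : J.map (algebraMap R A) = I.map (algebraMap R A) := by
    rw [hJ, hf, ← span_range_sm_map, k1]
  obtain ⟨g₁, hg₁, hg₁'⟩ := spread_ideal 𝔭.primeCompl A J I hJa.le
  obtain ⟨g₂, hg₂, hg₂'⟩ := spread_ideal 𝔭.primeCompl A I J hJa.ge
  obtain ⟨g₃, hg₃, hg₃'⟩ := spread_inj 𝔭.primeCompl A M k2
  obtain ⟨g₄, hg₄, hg₄'⟩ := spread_ex 𝔭.primeCompl A M f (fun v hv => by
    apply k3
    rw [← hv]
    exact Finset.sum_congr rfl fun i _ => by rw [hfa])
  refine ⟨g₁ * g₂ * g₃ * g₄, ?_, M, ?_⟩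
  · exact (𝔭.primeCompl.mul_mem (𝔭.primeCompl.mul_mem (𝔭.primeCompl.mul_mem hg₁ hg₂) hg₃) hg₄)
  intro S _ _ _
  have hgu : IsUnit (algebraMap R S (g₁ * g₂ * g₃ * g₄)) :=
    IsLocalization.Away.algebraMap_isUnit _
  rw [map_mul, map_mul, map_mul] at hgu
  have u4 : IsUnit (algebraMap R S g₄) := isUnit_of_mul_isUnit_right hgu
  have u123 := isUnit_of_mul_isUnit_left hgu
  have u3 : IsUnit (algebraMap R S g₃) := isUnit_of_mul_isUnit_right u123
  have u12 := isUnit_of_mul_isUnit_left u123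
  have u2 : IsUnit (algebraMap R S g₂) := isUnit_of_mul_isUnit_right u12
  have u1 : IsUnit (algebraMap R S g₁) := isUnit_of_mul_isUnit_left u12
  have hfs : ∀ i, sm (M.map (algebraMap R S)) i = algebraMap R S (f i) := fun i =>
    sm_map (algebraMap R S) M i
  refine ⟨?_, ?_, ?_⟩
  · rw [span_range_sm_map]
    exact le_antisymm (desc_ideal S g₁ u1 J I hg₁') (desc_ideal S g₂ u2 I J hg₂')
  · exact desc_inj S M g₃ u3 (Submonoid.powers (g₁ * g₂ * g₃ * g₄)) hg₃'
  · intro v hv
    refine desc_ex S M f g₄ u4 (Submonoid.powers (g₁ * g₂ * g₃ * g₄)) hg₄' v ?_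
    rw [← hv]
    exact Finset.sum_congr rfl fun i _ => by rw [hfs]

end Groth.Agent.Lib.Helper29.HBSpread
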