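import Mathlib
import Groth.Agent.S11449
import Groth.Agent.Lib.Helper29.HBSpread2
import Groth.Agent.Lib.Helper29.HBDeform4
import Groth.Agent.Lib.Helper62.SmoothStalk
import Groth.Agent.Lib.Helper91.ClosedImmStalk
import Groth.Agent.Lib.Helper49.StalkLoc

/-!
# Spreading out a Hilbert–Burch presentation (helper29), part 3: the scheme statement
-/

set_option autoImplicit false
set_option linter.unusedSectionVars false
set_option linter.style.haveILetI false
universe u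
open Matrix CategoryTheory AlgebraicGeometry

namespace Groth.Agent.Lib.Helper29.HBSpread

open Groth.Agent.Lib.Helper29.HBDeform (sm sm_map)

theorem scheme_hilbertBurch (k : Type u) [Field k]
    (X Y : Scheme.{u}) (f : X ⟶ Spec (CommRingCat.of k)) [Smooth f] (ι : Y ⟶ X)
    [IsClosedImmersion ι]
    (hCM : ∀ y : Y, LocCoh.IsCohenMacaulayLocalRing (Y.presheaf.stalk y))
    (hcodim : ∀ y : Y, ringKrullDim (Y.presheaf.stalk y) + 2 =
      ringKrullDim (X.presheaf.stalk (ι.base y)))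
    (y : Y) :
    ∃ U : X.affineOpens, ι.base y ∈ (U : X.Opens) ∧
      ∃ (r : ℕ) (φ : Matrix (Fin (r + 1)) (Fin r) Γ(X, U)),
        Ideal.span (Set.range (sm φ)) = ι.ker.ideal U ∧
        (∀ w : Fin r → Γ(X, U), φ.mulVec w = 0 → w = 0) ∧
        (∀ v : Fin (r + 1) → Γ(X, U), ∑ i, v i * sm φ i = 0 → ∃ w, φ.mulVec w = v) := by
  obtain ⟨_, ⟨V, hV, rfl⟩, hxV, -⟩ :=
    X.isBasis_affineOpens.exists_subset_of_mem_open (Set.mem_univ (ι.base y)) isOpen_univ
  let Vo : X.affineOpens := ⟨V, hV⟩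
  letI : Algebra k Γ(X, V) := (Groth.Agent.Lib.Helper62.BCStalk.toSection f V).toAlgebra
  haveI : Algebra.Smooth k Γ(X, V) := Groth.Agent.Lib.Helper62.SmoothStalk.smooth_sections f hV
  haveI : IsNoetherianRing Γ(X, V) := Algebra.FiniteType.isNoetherianRing k _
  letI : Algebra Γ(X, V) (X.presheaf.stalk (ι.base y)) :=
    X.presheaf.algebra_section_stalk ⟨ι.base y, hxV⟩
  haveI hloc := hV.isLocalization_stalk ⟨ι.base y, hxV⟩
  haveI : IsRegularLocalRing (X.presheaf.stalk (ι.base y)) :=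
    Groth.Agent.Lib.Helper62.SmoothStalk.isRegularLocalRing_stalk f (ι.base y)
  let e : (X.presheaf.stalk (ι.base y) ⧸
      (ι.ker.ideal Vo).map (algebraMap Γ(X, V) (X.presheaf.stalk (ι.base y)))) ≃+*
      Y.presheaf.stalk y := Groth.Agent.Lib.Helper91.ClosedImmStalk.stalkEquiv ι Vo y hxV
  have halg : (X.presheaf.germ Vo.1 (ι.base y) hxV).hom =
      algebraMap Γ(X, V) (X.presheaf.stalk (ι.base y)) := rfl
  haveI : LocCoh.IsCohenMacaulayLocalRing (X.presheaf.stalk (ι.base y) ⧸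
      (ι.ker.ideal Vo).map (algebraMap Γ(X, V) (X.presheaf.stalk (ι.base y)))) :=
    Groth.Agent.Lib.Helper49.StalkLoc.isCohenMacaulayLocalRing_of_ringEquiv e.symm (hCM y)
  have hdim : ringKrullDim (X.presheaf.stalk (ι.base y) ⧸
      (ι.ker.ideal Vo).map (algebraMap Γ(X, V) (X.presheaf.stalk (ι.base y)))) + 2 =
      ringKrullDim (X.presheaf.stalk (ι.base y)) := by
    rw [ringKrullDim_eq_of_ringEquiv e]
    exact hcodim y
  obtain ⟨r, φ, h1, -, h2, h3⟩ := Groth.Agent.S11449.result (X.presheaf.stalk (ι.base y))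
    ((ι.ker.ideal Vo).map (algebraMap Γ(X, V) (X.presheaf.stalk (ι.base y)))) hdim
  obtain ⟨h2', h3', -⟩ := Groth.Agent.Lib.Helper29.HBDeform.elementwise_of_linearMap φ ⟨h2, h3⟩
  obtain ⟨g, hg, M, hM⟩ := exists_spread (hV.primeIdealOf ⟨ι.base y, hxV⟩).asIdeal
    (X.presheaf.stalk (ι.base y)) (ι.ker.ideal Vo) φ h1 h2' h3'
  refine ⟨X.affineBasicOpen (U := Vo) g, ?_, r,
    M.map (algebraMap Γ(X, V) Γ(X, X.basicOpen g)), ?_⟩
  · show ι.base y ∈ X.basicOpen g
    rw [Scheme.mem_basicOpen _ _ _ hxV]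
    exact (IsLocalization.AtPrime.isUnit_to_map_iff (X.presheaf.stalk (ι.base y))
      (hV.primeIdealOf ⟨ι.base y, hxV⟩).asIdeal g).mpr hg
  · haveI := hV.isLocalization_basicOpen g
    obtain ⟨k1, k2, k3⟩ := hM Γ(X, X.basicOpen g)
    refine ⟨?_, k2, k3⟩
    rw [← (ι.ker).map_ideal_basicOpen Vo g]
    exact k1

end Groth.Agent.Lib.Helper29.HBSpread
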