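import Groth.Prelude
import Groth.Agent.Lib.Helper29.GorCM2
import Groth.Agent.Lib.Helper29.Ischebeck
import Groth.Agent.Lib.Helper29.FlatLocal
import Groth.Agent.Lib.Helper29.InjDim
import Groth.Agent.Lib.Helper29.DepthFinite

/-!
# Linkage over Gorenstein local rings (Peskine–Szpiro)

* `subsingleton_ext_of_depth`: over a Gorenstein local ring of dimension `n`,
  `Ext^i(N, A) = 0` for `i > n - depth N`.
* extension of maps `I → N'` when `Ext¹(A/I, N') = 0`.
* `(𝔯A : I) = (0 : I) + 𝔯A` and `(0 : I) ∩ 𝔯A = 𝔯 (0 : I)` for `𝔯` generated by a regular sequence,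
  when `A/I` is a maximal Cohen–Macaulay module.
-/

set_option autoImplicit false
universe u

namespace Groth.Agent.Lib.Helper29.Linkage

open CategoryTheory Abelian RingTheory.Sequence Pointwise IsLocalRing
open Groth.Agent.Lib.Helper29

variable {A : Type u} [CommRing A]

/-- Over a Gorenstein local ring of dimension `n`, `Ext^i(N, A) = 0` for `i + depth N > n`. -/
theorem subsingleton_ext_of_depth [IsLocalRing A] [IsNoetherianRing A]
    (n₀ : ℕ) (h : HasInjectiveDimensionLT (ModuleCat.of A A) n₀) (n : ℕ)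
    (hn : ringKrullDim A = (n : WithBot ℕ∞)) (d : ℕ) :
    ∀ (N : Type u) [AddCommGroup N] [Module A N] [Module.Finite A N] [Nontrivial N],
      (d : ℕ∞) ≤ LocCoh.depth A N → ∀ i, n < i + d →
      Subsingleton (Ext (ModuleCat.of A N) (ModuleCat.of A A) i) := by
  induction d with
  | zero =>
    intro N _ _ _ _ _ i hi
    obtain ⟨r, hr, -, hdim, -⟩ := GorCM.exists_top_ext n₀ h
    have hrn : r = n := by
      have : (r : WithBot ℕ∞) = (n : WithBot ℕ∞) := hdim.symm.trans hn
      exact_mod_cast this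
    subst hrn
    exact Bass.subsingleton_ext_of_residueField A (r + 1) (fun j hj => hr j (by omega)) N i
      (by omega)
  | succ d ih =>
    intro N _ _ _ _ hd i hi
    have hne : LocCoh.depth A N ≠ 0 := by
      intro h0
      rw [h0] at hd
      have : ((d + 1 : ℕ) : ℕ∞) ≤ 0 := hd
      simp at this
    obtain ⟨x, hxm, hx⟩ := FlatLocal.exists_regular_of_depth_ne_zero A N hne
    have hnt : Nontrivial (QuotSMulTop x N) := DepthLib.nontrivial_quotSMulTop A N hxm
    have hdq := DepthLib.depth_quotSMulTop_add_one A N hxm hx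
    have hd' : (d : ℕ∞) ≤ LocCoh.depth A (QuotSMulTop x N) := by
      rw [← hdq] at hd
      have h1 : ((d : ℕ∞) + 1) ≤ LocCoh.depth A (QuotSMulTop x N) + 1 := by
        have : ((d + 1 : ℕ) : ℕ∞) = (d : ℕ∞) + 1 := by push_cast; rfl
        rw [← this]; exact hd
      exact (ENat.add_le_add_iff_right ENat.one_ne_top).1 h1
    have := ih (QuotSMulTop x N) hd' (i + 1) (by omega)
    exact Ischebeck.subsingleton_ext_of_regular A N hxm hx i this

/-- The submodule of elements killed by `I`. -/
def annSub (I : Ideal A) (N : Type u) [AddCommGroup N] [Module A N] : Submodule A N where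
  carrier := {n | ∀ i ∈ I, i • n = 0}
  add_mem' := by
    intro a b ha hb i hi
    rw [smul_add, ha i hi, hb i hi, add_zero]
  zero_mem' := by
    intro i _
    exact smul_zero i
  smul_mem' := by
    intro c a ha i hi
    rw [smul_comm, ha i hi, smul_zero]

theorem mem_annSub {I : Ideal A} {N : Type u} [AddCommGroup N] [Module A N] {n : N} :
    n ∈ annSub I N ↔ ∀ i ∈ I, i • n = 0 := Iff.rfl

/-- Lifting elements killed by `I` along `N → N/xN` when `Ext¹(A/I, N) = 0`. -/
theorem exists_lift_of_ext_one (I : Ideal A) (N : Type u) [AddCommGroup N] [Module A N] {x : A}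
    (hreg : IsSMulRegular N x)
    (h1 : Subsingleton (Ext (ModuleCat.of A (A ⧸ I)) (ModuleCat.of A N) 1))
    (nbar : QuotSMulTop x N) (hn : nbar ∈ annSub I (QuotSMulTop x N)) :
    ∃ n : N, n ∈ annSub I N ∧ (Submodule.Quotient.mk n : QuotSMulTop x N) = nbar := by
  have hS : (ModuleCat.smulShortComplex (ModuleCat.of A N) x).ShortExact :=
    IsSMulRegular.smulShortComplex_shortExact (M := ModuleCat.of A N) hreg
  let ψ : (A ⧸ I) →ₗ[A] QuotSMulTop x N :=
    Submodule.liftQ I (LinearMap.toSpanSingleton A _ nbar) (by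
      intro i hi
      simp only [LinearMap.mem_ker, LinearMap.toSpanSingleton_apply]
      exact hn i hi)
  let e₃ : Ext (ModuleCat.of A (A ⧸ I)) (ModuleCat.smulShortComplex (ModuleCat.of A N) x).X₃ 0 :=
    Ext.mk₀ (ModuleCat.ofHom ψ)
  obtain ⟨e₂, he₂⟩ := Ext.covariant_sequence_exact₃ (ModuleCat.of A (A ⧸ I)) hS e₃
    (rfl : 0 + 1 = 1) (h1.elim _ _)
  obtain ⟨φ, rfl⟩ := (Ext.mk₀_bijective _ _).2 e₂
  rw [Ext.mk₀_comp_mk₀] at he₂
  have hφ := (Ext.mk₀_bijective _ _).1 he₂
  let f : (A ⧸ I) →ₗ[A] N := φ.hom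
  refine ⟨f (Submodule.Quotient.mk 1), ?_, ?_⟩
  · intro i hi
    rw [← map_smul]
    have : i • (Submodule.Quotient.mk 1 : A ⧸ I) = 0 := by
      rw [← Submodule.Quotient.mk_smul, smul_eq_mul, mul_one]
      exact (Submodule.Quotient.mk_eq_zero _).2 hi
    rw [this, map_zero]
  · have h2 := congrArg (fun f => f.hom (Submodule.Quotient.mk 1 : A ⧸ I)) hφ
    simp only [ModuleCat.hom_comp, LinearMap.comp_apply] at h2
    refine Eq.trans ?_ (h2.trans ?_)
    · rfl
    · change ψ (Submodule.Quotient.mk 1) = nbar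
      simp only [ψ, Submodule.liftQ_apply, LinearMap.toSpanSingleton_apply, one_smul]

/-- `Ext^i(K, N/xN) = 0` if `Ext^i(K, N) = 0 = Ext^{i+1}(K, N)`. -/
theorem subsingleton_ext_quotSMulTop (K : ModuleCat.{u} A) (N : Type u) [AddCommGroup N]
    [Module A N] {x : A} (hreg : IsSMulRegular N x) (i : ℕ)
    (h2 : Subsingleton (Ext K (ModuleCat.of A N) i))
    (h1 : Subsingleton (Ext K (ModuleCat.of A N) (i + 1))) :
    Subsingleton (Ext K (ModuleCat.of A (QuotSMulTop x N)) i) := by
  have hS : (ModuleCat.smulShortComplex (ModuleCat.of A N) x).ShortExact :=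
    IsSMulRegular.smulShortComplex_shortExact (M := ModuleCat.of A N) hreg
  have h : ∀ e : Ext K (ModuleCat.of A (QuotSMulTop x N)) i, e = 0 := by
    intro e
    obtain ⟨e₂, he₂⟩ := Ext.covariant_sequence_exact₃ K hS e rfl (h1.elim _ _)
    have he0 : e₂ = 0 := h2.elim (α := Ext K (ModuleCat.of A N) i) e₂ 0
    rw [← he₂, he0]
    exact Ext.zero_comp (X := K) (n := i)
      (Ext.mk₀ (ModuleCat.smulShortComplex (ModuleCat.of A N) x).g) _ _
  exact ⟨fun a b => by rw [h a, h b]⟩

theorem ofList_smul_top_quotSMulTop (x : A) (rs : List A) (N : Type u) [AddCommGroup N]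
    [Module A N] (P : Submodule A N) :
    (Ideal.ofList rs • P.map (Submodule.mkQ (x • (⊤ : Submodule A N))) :
        Submodule A (QuotSMulTop x N)) =
      (Ideal.ofList rs • P).map (Submodule.mkQ (x • (⊤ : Submodule A N))) := by
  rw [Submodule.map_smul'']

theorem mk_mem_map_mkQ_iff (x : A) (N : Type u) [AddCommGroup N] [Module A N]
    (P : Submodule A N) (n : N) :
    (Submodule.Quotient.mk n : QuotSMulTop x N) ∈ P.map (Submodule.mkQ (x • (⊤ : Submodule A N))) ↔
      ∃ m ∈ P, ∃ c : N, n = m + x • c := by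
  constructor
  · rintro ⟨m, hm, hmn⟩
    refine ⟨m, hm, ?_⟩
    have h : (Submodule.Quotient.mk (n - m) : QuotSMulTop x N) = 0 := by
      rw [Submodule.Quotient.mk_sub]
      change _ - Submodule.mkQ _ m = 0
      rw [hmn]
      exact sub_self _
    rw [Submodule.Quotient.mk_eq_zero, Submodule.mem_smul_pointwise_iff_exists] at h
    obtain ⟨c, -, hc⟩ := h
    exact ⟨c, by rw [hc]; abel⟩
  · rintro ⟨m, hm, c, rfl⟩
    refine ⟨m, hm, ?_⟩
    change (Submodule.Quotient.mk m : QuotSMulTop x N) = Submodule.Quotient.mk (m + x • c)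
    rw [Submodule.Quotient.mk_add]
    have : (Submodule.Quotient.mk (x • c) : QuotSMulTop x N) = 0 :=
      (Submodule.Quotient.mk_eq_zero _).2
        (Submodule.smul_mem_pointwise_smul _ _ _ Submodule.mem_top)
    rw [this, add_zero]

/-- Main inductive statement (Peskine–Szpiro). -/
theorem linkage_aux (I : Ideal A) (rs : List A) :
    ∀ (N : Type u) [AddCommGroup N] [Module A N],
      (∀ i, 1 ≤ i → Subsingleton (Ext (ModuleCat.of A (A ⧸ I)) (ModuleCat.of A N) i)) →
      IsWeaklyRegular N rs →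
      (∀ n : N, (∀ i ∈ I, i • n ∈ (Ideal.ofList rs • ⊤ : Submodule A N)) →
        ∃ n' ∈ annSub I N, n - n' ∈ (Ideal.ofList rs • ⊤ : Submodule A N)) ∧
      annSub I N ⊓ (Ideal.ofList rs • ⊤ : Submodule A N) ≤ Ideal.ofList rs • annSub I N := by
  induction rs with
  | nil =>
    intro N _ _ _ _
    rw [Ideal.ofList_nil]
    refine ⟨fun n hn => ⟨n, ?_, by simp⟩, ?_⟩
    · intro i hi
      have := hn i hi
      rw [Submodule.bot_smul, Submodule.mem_bot] at this
      exact this
    · rw [Submodule.bot_smul, Submodule.bot_smul]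
      exact inf_le_right
  | cons x rs ih =>
    intro N _ _ hExt hreg
    rw [isWeaklyRegular_cons_iff] at hreg
    obtain ⟨hx, hrs⟩ := hreg
    have hExt' : ∀ i, 1 ≤ i →
        Subsingleton (Ext (ModuleCat.of A (A ⧸ I)) (ModuleCat.of A (QuotSMulTop x N)) i) :=
      fun i hi => subsingleton_ext_quotSMulTop _ N hx i (hExt i hi) (hExt (i + 1) (by omega))
    obtain ⟨ih1, ih2⟩ := ih (QuotSMulTop x N) hExt' hrs
    have htop : (Ideal.ofList rs • ⊤ : Submodule A (QuotSMulTop x N)) =
        (Ideal.ofList rs • (⊤ : Submodule A N)).map (Submodule.mkQ (x • (⊤ : Submodule A N))) := by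
      rw [Submodule.map_smul'', Submodule.map_top, Submodule.range_mkQ]
    have hlift : ∀ nbar ∈ annSub I (QuotSMulTop x N), ∃ n : N, n ∈ annSub I N ∧
        (Submodule.Quotient.mk n : QuotSMulTop x N) = nbar :=
      fun nbar hn => exists_lift_of_ext_one I N hx (hExt 1 le_rfl) nbar hn
    have hcons : ∀ n : N, n ∈ (Ideal.ofList (x :: rs) • ⊤ : Submodule A N) →
        (Submodule.Quotient.mk n : QuotSMulTop x N) ∈
          (Ideal.ofList rs • ⊤ : Submodule A (QuotSMulTop x N)) := by
      intro n hn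
      rw [Ideal.ofList_cons_smul, Submodule.mem_sup] at hn
      obtain ⟨a, ha, b, hb, rfl⟩ := hn
      rw [Submodule.mem_smul_pointwise_iff_exists] at ha
      obtain ⟨c, -, rfl⟩ := ha
      rw [htop, mk_mem_map_mkQ_iff]
      exact ⟨b, hb, c, add_comm _ _⟩
    have hcons' : ∀ n : N, ∀ P : Submodule A N, (∃ m ∈ Ideal.ofList rs • P, ∃ c ∈ P, n = m + x • c) →
        n ∈ Ideal.ofList (x :: rs) • P := by
      rintro n P ⟨m, hm, c, hc, rfl⟩
      rw [Ideal.ofList_cons_smul, add_comm]
      exact Submodule.add_mem_sup (Submodule.smul_mem_pointwise_smul _ _ _ hc) hm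
    refine ⟨?_, ?_⟩
    · intro n hn
      have h1 : ∀ i ∈ I, i • (Submodule.Quotient.mk n : QuotSMulTop x N) ∈
          (Ideal.ofList rs • ⊤ : Submodule A (QuotSMulTop x N)) := by
        intro i hi
        rw [← Submodule.Quotient.mk_smul]
        exact hcons _ (hn i hi)
      obtain ⟨nbar', hnbar', hsub⟩ := ih1 _ h1
      obtain ⟨n'', hn'', rfl⟩ := hlift nbar' hnbar'
      refine ⟨n'', hn'', ?_⟩
      rw [← Submodule.Quotient.mk_sub, htop, mk_mem_map_mkQ_iff] at hsub
      obtain ⟨m, hm, c, hc⟩ := hsub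
      exact hcons' _ ⊤ ⟨m, hm, c, Submodule.mem_top, hc⟩
    · rintro n ⟨hnI, hnr⟩
      have h1 : (Submodule.Quotient.mk n : QuotSMulTop x N) ∈ annSub I (QuotSMulTop x N) := by
        intro i hi
        rw [← Submodule.Quotient.mk_smul, hnI i hi]
        rfl
      have h2 := ih2 ⟨h1, hcons n hnr⟩
      have hle : annSub I (QuotSMulTop x N) ≤
          (annSub I N).map (Submodule.mkQ (x • (⊤ : Submodule A N))) := by
        intro nbar hnbar
        obtain ⟨n', hn', rfl⟩ := hlift nbar hnbar
        exact ⟨n', hn', rfl⟩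
      have h3 := Submodule.smul_mono (le_refl (Ideal.ofList rs)) hle h2
      rw [ofList_smul_top_quotSMulTop, mk_mem_map_mkQ_iff] at h3
      obtain ⟨m, hm, c, hc⟩ := h3
      have hmI : m ∈ annSub I N := Submodule.smul_le_right hm
      refine hcons' _ _ ⟨m, hm, c, ?_, hc⟩
      intro i hi
      have h4 : i • (x • c) = 0 := by
        have : x • c = n - m := by rw [hc]; abel
        rw [this, smul_sub, hnI i hi, hmI i hi, sub_zero]
      rw [smul_comm] at h4
      exact hx (by change x • i • c = x • (0 : N); rw [h4, smul_zero])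


/-- Over a Gorenstein local ring, `Ext^i(A/I, A) = 0` for `i ≥ 1` when `A/I` is Cohen–Macaulay of
the same dimension as `A`. -/
theorem subsingleton_ext_quotient_self [LocCoh.IsGorensteinLocalRing A] (I : Ideal A)
    (hI : ringKrullDim (A ⧸ I) = ringKrullDim A) [LocCoh.IsCohenMacaulayLocalRing (A ⧸ I)]
    (i : ℕ) (hi : 1 ≤ i) :
    Subsingleton (Ext (ModuleCat.of A (A ⧸ I)) (ModuleCat.of A A) i) := by
  obtain ⟨n₀, h⟩ := LocCoh.IsGorensteinLocalRing.exists_hasInjectiveDimensionLT (A := A)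
  obtain ⟨r, -, -, hdim, -⟩ := GorCM.exists_top_ext n₀ h
  have hsurj : Function.Surjective (algebraMap A (A ⧸ I)) := Ideal.Quotient.mk_surjective
  have hloc : IsLocalHom (algebraMap A (A ⧸ I)) := IsLocalHom.of_surjective _ hsurj
  have hdep := DepthFinite.depth_eq_of_isLocalHom A (A ⧸ I) (A ⧸ I)
  have hcm := LocCoh.IsCohenMacaulayLocalRing.supportDim_eq_depth (R := A ⧸ I)
  rw [Module.supportDim_self_eq_ringKrullDim, hI, hdim, ← hdep] at hcm
  have hd : (r : ℕ∞) ≤ LocCoh.depth A (A ⧸ I) := by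
    have : ((r : ℕ∞) : WithBot ℕ∞) = ((LocCoh.depth A (A ⧸ I) : ℕ∞) : WithBot ℕ∞) := hcm
    exact (WithBot.coe_injective this).le
  exact subsingleton_ext_of_depth n₀ h r hdim r (A ⧸ I) hd i (by omega)

theorem annSub_self (I : Ideal A) : annSub I A = Submodule.annihilator I := by
  ext a
  rw [mem_annSub, Submodule.mem_annihilator]
  constructor
  · intro h i hi
    rw [smul_eq_mul, mul_comm]
    exact h i hi
  · intro h i hi
    rw [smul_eq_mul, mul_comm]
    exact h i hi

/-- Peskine–Szpiro: for `A` Gorenstein local, `A/I` Cohen–Macaulay with `dim A/I = dim A`,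
`J = (0 : I)` and `rs` an `A`-regular sequence: `J + (rs) = ((rs) : I)` and
`J ∩ (rs) = (rs) J`. -/
theorem annihilator_sup_ofList [LocCoh.IsGorensteinLocalRing A] (I : Ideal A)
    (hI : ringKrullDim (A ⧸ I) = ringKrullDim A) [LocCoh.IsCohenMacaulayLocalRing (A ⧸ I)]
    (rs : List A) (hrs : IsWeaklyRegular A rs) :
    Submodule.annihilator I ⊔ Ideal.ofList rs = Submodule.colon (Ideal.ofList rs) (I : Set A) ∧
      Submodule.annihilator I ⊓ Ideal.ofList rs = Ideal.ofList rs * Submodule.annihilator I := by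
  obtain ⟨h1, h2⟩ := linkage_aux I rs A (subsingleton_ext_quotient_self I hI) hrs
  have htop : (Ideal.ofList rs • ⊤ : Submodule A A) = Ideal.ofList rs := by
    rw [smul_eq_mul, Ideal.mul_top]
  rw [htop, annSub_self] at h2
  refine ⟨le_antisymm ?_ ?_, le_antisymm ?_ ?_⟩
  · refine sup_le ?_ ?_
    · intro a ha
      rw [Submodule.mem_colon]
      intro i hi
      rw [Submodule.mem_annihilator] at ha
      rw [ha i hi]
      exact Submodule.zero_mem _
    · intro a ha
      rw [Submodule.mem_colon]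
      intro i _
      rw [smul_eq_mul]
      exact Ideal.mul_mem_right _ _ ha
  · intro a ha
    rw [Submodule.mem_colon] at ha
    obtain ⟨a', ha', hsub⟩ := h1 a (by
      intro i hi
      rw [htop, smul_eq_mul, mul_comm]
      exact ha i hi)
    rw [htop] at hsub
    rw [annSub_self] at ha'
    have : a = a' + (a - a') := by ring
    rw [this]
    exact Submodule.add_mem_sup ha' hsub
  · exact h2
  · rw [Ideal.mul_comm]
    exact Ideal.mul_le_inf


end Groth.Agent.Lib.Helper29.Linkage
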