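import Groth.Agent.Lib.Helper29.Linkage
import Groth.Agent.Lib.Helper29.RegHom

/-!
# Flatness of linked quotients over a regular base (Peskine–Szpiro)

`R` regular local, `A` Gorenstein local and flat over `R` through a local homomorphism, `A/I`
Cohen–Macaulay with `dim A/I = dim A`, `J = (0 : I)`: then `A/I` and `A/J` are flat over `R`.
-/

set_option autoImplicit false
universe u

namespace Groth.Agent.Lib.Helper29.Linkage

open CategoryTheory Abelian RingTheory.Sequence Pointwise IsLocalRing
open Groth.Agent.Lib.Helper29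

variable (R A : Type u) [CommRing R] [IsRegularLocalRing R] [CommRing A] [Algebra R A]
  [LocCoh.IsGorensteinLocalRing A] [IsLocalHom (algebraMap R A)] [Module.Flat R A] (I : Ideal A)
  (hI : ringKrullDim (A ⧸ I) = ringKrullDim A) [LocCoh.IsCohenMacaulayLocalRing (A ⧸ I)]

include hI

theorem flat_quotient : Module.Flat R (A ⧸ I) := by
  have hloc : IsLocalHom (algebraMap R (A ⧸ I)) := by
    have h1 : IsLocalHom (Ideal.Quotient.mk I) :=
      IsLocalHom.of_surjective _ Ideal.Quotient.mk_surjective
    have : algebraMap R (A ⧸ I) = (Ideal.Quotient.mk I).comp (algebraMap R A) := rfl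
    rw [this]
    exact RingHom.isLocalHom_comp _ _
  have hcm : LocCoh.IsCohenMacaulayModule (A ⧸ I) (A ⧸ I) :=
    LocCoh.IsCohenMacaulayLocalRing.supportDim_eq_depth (R := A ⧸ I)
  refine RegHom.flat_of_regular_of_isCM R (A ⧸ I) hcm (le_antisymm ?_ ?_)
  · exact RegHom.ringKrullDim_le_add R (A ⧸ I)
  · rw [hI, RegHom.ringKrullDim_eq_add R A]
    refine add_le_add_right ?_ _
    have hle : (maximalIdeal R).map (algebraMap R A) ≤
        ((maximalIdeal R).map (algebraMap R (A ⧸ I))).comap (Ideal.Quotient.mk I) := by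
      rw [← Ideal.map_le_iff_le_comap, Ideal.map_map]
      exact le_rfl
    exact ringKrullDim_le_of_surjective
      (Ideal.quotientMap ((maximalIdeal R).map (algebraMap R (A ⧸ I))) (Ideal.Quotient.mk I) hle)
      (Ideal.quotientMap_surjective Ideal.Quotient.mk_surjective)

omit [IsRegularLocalRing R] [LocCoh.IsGorensteinLocalRing A] [IsLocalHom (algebraMap R A)]
  [Module.Flat R A] [LocCoh.IsCohenMacaulayLocalRing (A ⧸ I)] hI in
theorem mk_mem_smul_top_iff (J : Ideal A) (K : Ideal R) (a : A) :
    (Ideal.Quotient.mk J a) ∈ (K • ⊤ : Submodule R (A ⧸ J)) ↔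
      a ∈ J ⊔ K.map (algebraMap R A) := by
  rw [Ideal.smul_top_eq_map, Submodule.restrictScalars_mem]
  have : K.map (algebraMap R (A ⧸ J)) = (K.map (algebraMap R A)).map (Ideal.Quotient.mk J) := by
    rw [Ideal.map_map]
    rfl
  rw [this, Ideal.mem_quotient_iff_mem_sup, sup_comm]

omit [IsRegularLocalRing R] [IsLocalHom (algebraMap R A)] in
theorem isWeaklyRegular_quotient_annihilator (ys : List R) (hys : IsWeaklyRegular R ys) :
    IsWeaklyRegular (A ⧸ Submodule.annihilator I) ys := by
  have hA : IsWeaklyRegular A ys := RegFlat.isWeaklyRegular_of_flat_self R A ys hys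
  refine ⟨fun k hk => ?_⟩
  rw [isSMulRegular_quotient_iff_mem_of_smul_mem]
  intro m hm
  obtain ⟨a, rfl⟩ := Ideal.Quotient.mk_surjective m
  have hAk := (isSMulRegular_quotient_iff_mem_of_smul_mem _ _).1 (hA.regular_mod_prev k hk)
  have hwk : IsWeaklyRegular R (ys.take k) := by
    have := (isWeaklyRegular_append_iff R (ys.take k) (ys.drop k)).1
      (by rw [List.take_append_drop]; exact hys)
    exact this.1
  have hwkA : IsWeaklyRegular A ((ys.take k).map (algebraMap R A)) :=
    (isWeaklyRegular_map_algebraMap_iff A A (ys.take k)).2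
      (RegFlat.isWeaklyRegular_of_flat_self R A (ys.take k) hwk)
  have hlink := (annihilator_sup_ofList I hI _ hwkA).1
  rw [← Ideal.map_ofList] at hlink
  have hsm : ys[k] • (Ideal.Quotient.mk (Submodule.annihilator I) a) =
      Ideal.Quotient.mk (Submodule.annihilator I) (ys[k] • a) := rfl
  rw [hsm, mk_mem_smul_top_iff, hlink, Submodule.mem_colon] at hm
  rw [mk_mem_smul_top_iff, hlink, Submodule.mem_colon]
  intro i hi
  have h1 := hm i hi
  have h2 : ys[k] • (a • i) ∈ (Ideal.ofList (ys.take k) • ⊤ : Submodule R A) := by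
    rw [Ideal.smul_top_eq_map, Submodule.restrictScalars_mem]
    rw [← smul_assoc]
    exact h1
  have h3 := hAk _ h2
  rw [Ideal.smul_top_eq_map, Submodule.restrictScalars_mem] at h3
  exact h3

theorem flat_quotient_annihilator : Module.Flat R (A ⧸ Submodule.annihilator I) := by
  have hAcm : LocCoh.IsCohenMacaulayModule R R := Groth.Agent.S5671.isCM_of_regular _
  have hdimF : ringKrullDim (R ⧸ maximalIdeal R) = 0 := by
    change ringKrullDim (ResidueField R) = 0
    exact ringKrullDim_eq_zero_of_field _
  obtain ⟨ys, hys, hreg⟩ := (RegIdeal.exists_isRegular_iff_of_isCM hAcm (maximalIdeal R)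
    (Ideal.IsPrime.ne_top inferInstance)).2 (by
      rw [hdimF, add_zero]
      exact IsRegularLocalRing.spanFinrank_maximalIdeal.le)
  have hmem : ∀ y ∈ ys, y ∈ maximalIdeal R := by
    intro y hy
    rw [← hys]
    exact Ideal.subset_span hy
  have key : ∀ (J : Ideal R), J = maximalIdeal R →
      Module.Flat (R ⧸ J) ((A ⧸ Submodule.annihilator I) ⧸
        (J • (⊤ : Submodule R (A ⧸ Submodule.annihilator I)))) := by
    rintro J rfl
    let _ : Field (R ⧸ maximalIdeal R) := Ideal.Quotient.field (maximalIdeal R)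
    infer_instance
  exact RegFlat.flat_of_flat_quotient_of_isWeaklyRegular R A (A ⧸ Submodule.annihilator I) ys hmem
    hreg.toIsWeaklyRegular
    (isWeaklyRegular_quotient_annihilator R A I hI ys hreg.toIsWeaklyRegular) (key _ hys)

end Groth.Agent.Lib.Helper29.Linkage
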