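import Groth.Agent.Lib.Helper29.Linkage2
import Groth.Agent.Lib.Helper28.CMLocP
import Groth.Agent.Lib.Helper28.CMRingAux
import Groth.Agent.Lib.Helper49.StalkLoc
import Groth.Agent.S0341

/-!
# Linkage: Cohen–Macaulayness is preserved (Peskine–Szpiro)

* local: `A` Gorenstein local, `A/I` Cohen–Macaulay of full dimension ⇒ `A/(0 : I)` Cohen–Macaulay;
* global: `B` Gorenstein, `I = (0 : J)`, `J = (0 : I)`, `B/I` Cohen–Macaulay ⇒ `B/J` Cohen–Macaulay.
-/

set_option autoImplicit false
universe u

namespace Groth.Agent.Lib.Helper29.Linkage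

open RingTheory.Sequence Pointwise IsLocalRing
open Groth.Agent.Lib.Helper29

section Local

variable (A : Type u) [CommRing A] [LocCoh.IsGorensteinLocalRing A]

/-- `dim A/(0 : J) = dim A` when `(0 : J) ≠ A`. -/
theorem ringKrullDim_quotient_annihilator_eq (J : Ideal A) (hne : Submodule.annihilator J ≠ ⊤) :
    ringKrullDim (A ⧸ Submodule.annihilator J) = ringKrullDim A := by
  have hJ : J ≠ ⊥ := by
    rintro rfl
    exact hne Submodule.annihilator_bot
  obtain ⟨j, hjJ, hj0⟩ := Submodule.exists_mem_ne_zero_of_ne_bot hJ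
  obtain ⟨p, hp, hle⟩ := exists_le_isAssociatedPrime_of_isNoetherianRing A j hj0
  have hle' : Submodule.annihilator J ≤ p := by
    refine le_trans ?_ hle
    intro a ha
    rw [Submodule.mem_colon_singleton, Submodule.mem_bot]
    exact (Submodule.mem_annihilator.1 ha) j hjJ
  have hcm : LocCoh.IsCohenMacaulayModule A A :=
    (Groth.Agent.S0341.result A).supportDim_eq_depth
  have h1 := CMLib.ringKrullDim_quotient_eq_of_isCM A A hcm (p := p) hp
  rw [Module.supportDim_self_eq_ringKrullDim] at h1
  refine le_antisymm (ringKrullDim_quotient_le _) ?_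
  rw [← h1]
  exact ringKrullDim_le_of_surjective (Ideal.Quotient.factor hle')
    (Ideal.Quotient.factor_surjective hle')

/-- If `A/I` is Cohen–Macaulay of full dimension, so is `A/(0 : I)` (when nonzero). -/
theorem isCM_quotient_annihilator (I : Ideal A) (hI : ringKrullDim (A ⧸ I) = ringKrullDim A)
    [LocCoh.IsCohenMacaulayLocalRing (A ⧸ I)] (hJ : Submodule.annihilator I ≠ ⊤) :
    LocCoh.IsCohenMacaulayLocalRing (A ⧸ Submodule.annihilator I) := by
  obtain ⟨n₀, h⟩ := LocCoh.IsGorensteinLocalRing.exists_hasInjectiveDimensionLT (A := A)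
  obtain ⟨r, -, -, hdim, hdepth⟩ := GorCM.exists_top_ext n₀ h
  obtain ⟨ys, hreg, hmem, -, hlen⟩ := DepthLib.exists_maximal_regular (maximalIdeal A) A
    (maximalIdeal_smul_top_ne_top A A)
  have hlen' : (ys.length : ℕ∞) = r := hlen.trans hdepth
  have hregJ : IsWeaklyRegular (A ⧸ Submodule.annihilator I) ys :=
    isWeaklyRegular_quotient_annihilator A A I hI ys hreg
  have hnt : Nontrivial (A ⧸ Submodule.annihilator I) := Ideal.Quotient.nontrivial_iff.2 hJ
  have hloc : IsLocalRing (A ⧸ Submodule.annihilator I) :=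
    IsLocalRing.of_surjective' _ Ideal.Quotient.mk_surjective
  have hlh : IsLocalHom (algebraMap A (A ⧸ Submodule.annihilator I)) :=
    IsLocalHom.of_surjective _ Ideal.Quotient.mk_surjective
  have h1 : (r : ℕ∞) ≤ LocCoh.depth A (A ⧸ Submodule.annihilator I) := by
    rw [← hlen']
    exact DepthLib.length_le_idealDepth _ _ hregJ hmem
  rw [DepthFinite.depth_eq_of_isLocalHom A (A ⧸ Submodule.annihilator I)
    (A ⧸ Submodule.annihilator I)] at h1
  refine { supportDim_eq_depth := le_antisymm ?_ ?_ }
  · rw [Module.supportDim_self_eq_ringKrullDim]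
    refine (ringKrullDim_quotient_le _).trans ?_
    rw [hdim]
    exact_mod_cast h1
  · exact DepthLib.depth_le_supportDim _ _

end Local

section Loc

/-- Annihilators of finitely generated ideals commute with localization. -/
theorem annihilator_map_localization {B : Type u} [CommRing B] (S : Submonoid B) (A : Type u)
    [CommRing A] [Algebra B A] [IsLocalization S A] (I : Ideal B) (hfg : I.FG) :
    Submodule.annihilator (I.map (algebraMap B A)) =
      (Submodule.annihilator I).map (algebraMap B A) := by
  classical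
  apply le_antisymm
  · intro x hx
    obtain ⟨T, hT⟩ := hfg
    obtain ⟨⟨b, s⟩, hbs⟩ := IsLocalization.surj S x
    have hex : ∀ t : B, t ∈ T → ∃ c : S, (c : B) * (b * t) = 0 := by
      intro t ht
      have htI : t ∈ I := by rw [← hT]; exact Submodule.subset_span ht
      have h0 : algebraMap B A (b * t) = 0 := by
        rw [map_mul, ← hbs, mul_assoc, mul_comm (algebraMap B A s), ← mul_assoc]
        have := (Submodule.mem_annihilator.1 hx) _ (Ideal.mem_map_of_mem (algebraMap B A) htI)
        rw [smul_eq_mul] at this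
        rw [this, zero_mul]
      obtain ⟨c, hc⟩ := (IsLocalization.map_eq_zero_iff S A _).1 h0
      exact ⟨c, hc⟩
    choose! c hc using hex
    let d : S := ∏ t ∈ T, c t
    have hd : (d : B) * b ∈ Submodule.annihilator I := by
      rw [Submodule.mem_annihilator]
      intro m hm
      rw [← hT] at hm
      induction hm using Submodule.span_induction with
      | mem t ht =>
        have ht' : t ∈ T := ht
        have hdx : (d : B) = (∏ u ∈ T.erase t, (c u : B)) * (c t : B) := by
          simp only [d, Submonoid.coe_finsetProd]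
          rw [Finset.prod_erase_mul T (fun u => (c u : B)) ht']
        rw [smul_eq_mul, hdx, mul_assoc, mul_assoc, hc t ht', mul_zero]
      | zero => rw [smul_zero]
      | add x y _ _ hx hy => rw [smul_add, hx, hy, add_zero]
      | smul a x _ hx => rw [smul_comm, hx, smul_zero]
    rw [IsLocalization.mem_map_algebraMap_iff S]
    refine ⟨(⟨(d : B) * b, hd⟩, d * s), ?_⟩
    change x * algebraMap B A ((d : B) * (s : B)) = algebraMap B A ((d : B) * b)
    rw [map_mul, map_mul, ← hbs]
    ring
  · rw [Ideal.map_le_iff_le_comap]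
    intro a ha
    rw [Ideal.mem_comap, Submodule.mem_annihilator]
    intro y hy
    rw [Ideal.map] at hy
    induction hy using Submodule.span_induction with
    | mem t ht =>
      obtain ⟨i, hi, rfl⟩ := ht
      have := (Submodule.mem_annihilator.1 ha) i hi
      rw [smul_eq_mul] at this
      rw [smul_eq_mul, ← map_mul, this, map_zero]
    | zero => rw [smul_zero]
    | add x y _ _ hx hy => rw [smul_add, hx, hy, add_zero]
    | smul a x _ hx => rw [smul_comm, hx, smul_zero]

end Loc

section Global

open Groth.Agent.Lib.Helper28.CMAux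

/-- Linkage preserves Cohen–Macaulayness over a Gorenstein ring. -/
theorem isCohenMacaulayRing_quotient_of_linked (B : Type u) [CommRing B]
    [hB : LocCoh.IsGorensteinRing B] (I J : Ideal B) (hJ : Submodule.annihilator I = J)
    (hI : Submodule.annihilator J = I) [hcm : LocCoh.IsCohenMacaulayRing (B ⧸ I)] :
    LocCoh.IsCohenMacaulayRing (B ⧸ J) := by
  refine { isCohenMacaulayLocalRing_localization := fun q _ => ?_ }
  set P : Ideal B := q.comap (Ideal.Quotient.mk J) with hP
  have hJP : J ≤ P := by
    intro j hj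
    rw [hP, Ideal.mem_comap, Ideal.Quotient.eq_zero_iff_mem.2 hj]
    exact Submodule.zero_mem _
  have hgor : LocCoh.IsGorensteinLocalRing (Localization.AtPrime P) :=
    hB.isGorensteinLocalRing_localization P
  let e := Groth.Agent.Lib.Helper49.CMQuot.localizationQuotientEquiv J q
  refine Groth.Agent.Lib.Helper49.StalkLoc.isCohenMacaulayLocalRing_of_ringEquiv e.symm ?_
  have hIfg : I.FG := IsNoetherian.noetherian I
  have hJfg : J.FG := IsNoetherian.noetherian J
  have hJA : Submodule.annihilator (I.map (algebraMap B (Localization.AtPrime P))) =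
      J.map (algebraMap B (Localization.AtPrime P)) := by
    rw [annihilator_map_localization P.primeCompl _ I hIfg, hJ]
  have hIA : Submodule.annihilator (J.map (algebraMap B (Localization.AtPrime P))) =
      I.map (algebraMap B (Localization.AtPrime P)) := by
    rw [annihilator_map_localization P.primeCompl _ J hJfg, hI]
  have hJne : J.map (algebraMap B (Localization.AtPrime P)) ≠ ⊤ := map_ne_top_of_le P J hJP
  by_cases hIP : I ≤ P
  · have hIne : I.map (algebraMap B (Localization.AtPrime P)) ≠ ⊤ := map_ne_top_of_le P I hIP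
    have hprime : (P.map (Ideal.Quotient.mk I)).IsPrime := isPrime_map_mk P I hIP
    have hcmI : LocCoh.IsCohenMacaulayLocalRing
        (Localization.AtPrime P ⧸ I.map (algebraMap B (Localization.AtPrime P))) :=
      Groth.Agent.Lib.Helper49.StalkLoc.isCohenMacaulayLocalRing_of_ringEquiv
        (locEquivQP P I hIP) (hcm.isCohenMacaulayLocalRing_localization _)
    have hdim : ringKrullDim
        (Localization.AtPrime P ⧸ I.map (algebraMap B (Localization.AtPrime P))) =
        ringKrullDim (Localization.AtPrime P) := by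
      have := ringKrullDim_quotient_annihilator_eq (Localization.AtPrime P)
        (J.map (algebraMap B (Localization.AtPrime P))) (by rw [hIA]; exact hIne)
      rw [hIA] at this
      exact this
    have := isCM_quotient_annihilator (Localization.AtPrime P)
      (I.map (algebraMap B (Localization.AtPrime P))) hdim (by rw [hJA]; exact hJne)
    exact Groth.Agent.Lib.Helper49.StalkLoc.isCohenMacaulayLocalRing_of_ringEquiv
      (Ideal.quotEquivOfEq hJA) this
  · have hItop : I.map (algebraMap B (Localization.AtPrime P)) = ⊤ := map_eq_top_of_not_le P I hIP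
    have hJbot : J.map (algebraMap B (Localization.AtPrime P)) = ⊥ := by
      rw [← hJA, hItop, eq_bot_iff]
      intro a ha
      have := (Submodule.mem_annihilator.1 ha) 1 Submodule.mem_top
      rw [smul_eq_mul, mul_one] at this
      rw [this]
      exact Submodule.zero_mem _
    have hA : LocCoh.IsCohenMacaulayLocalRing (Localization.AtPrime P) :=
      Groth.Agent.S0341.result _
    exact Groth.Agent.Lib.Helper49.StalkLoc.isCohenMacaulayLocalRing_of_ringEquiv
      ((RingEquiv.quotientBot _).symm.trans (Ideal.quotEquivOfEq hJbot.symm)) hA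

end Global

section Colon

theorem annihilator_map_mk_eq {R : Type u} [CommRing R] (𝔠 I J : Ideal R)
    (hIJ : 𝔠.colon (I : Set R) = J) (h𝔠J : 𝔠 ≤ J) :
    Submodule.annihilator (I.map (Ideal.Quotient.mk 𝔠)) = J.map (Ideal.Quotient.mk 𝔠) := by
  ext x
  obtain ⟨a, rfl⟩ := Ideal.Quotient.mk_surjective x
  rw [Ideal.mem_quotient_iff_mem h𝔠J, ← hIJ, Submodule.mem_colon, Submodule.mem_annihilator]
  constructor
  · intro h i hi
    have := h _ (Ideal.mem_map_of_mem (Ideal.Quotient.mk 𝔠) hi)
    rw [smul_eq_mul, ← map_mul, Ideal.Quotient.eq_zero_iff_mem] at this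
    exact this
  · intro h y hy
    obtain ⟨i, hi, rfl⟩ := (Ideal.mem_map_iff_of_surjective _ Ideal.Quotient.mk_surjective).1 hy
    rw [smul_eq_mul, ← map_mul, Ideal.Quotient.eq_zero_iff_mem]
    exact h i hi

theorem le_colon_self {R : Type u} [CommRing R] (𝔠 I : Ideal R) : 𝔠 ≤ 𝔠.colon (I : Set R) := by
  intro a ha
  rw [Submodule.mem_colon]
  intro i _
  exact Ideal.mul_mem_right _ _ ha

/-- Direct linkage by a Gorenstein ideal preserves Cohen–Macaulayness. -/
theorem isCohenMacaulayRing_quotient_of_colon (R : Type u) [CommRing R] (𝔠 I J : Ideal R)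
    [LocCoh.IsGorensteinRing (R ⧸ 𝔠)] (hIJ : 𝔠.colon (I : Set R) = J)
    (hJI : 𝔠.colon (J : Set R) = I) (h : LocCoh.IsCohenMacaulayRing (R ⧸ I)) :
    LocCoh.IsCohenMacaulayRing (R ⧸ J) := by
  have h𝔠J : 𝔠 ≤ J := hIJ ▸ le_colon_self 𝔠 I
  have h𝔠I : 𝔠 ≤ I := hJI ▸ le_colon_self 𝔠 J
  have h1 := annihilator_map_mk_eq 𝔠 I J hIJ h𝔠J
  have h2 := annihilator_map_mk_eq 𝔠 J I hJI h𝔠I
  have hcm : LocCoh.IsCohenMacaulayRing ((R ⧸ 𝔠) ⧸ I.map (Ideal.Quotient.mk 𝔠)) :=
    Groth.Agent.Lib.Helper28.CMRingAux.isCohenMacaulayRing_of_ringEquiv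
      (DoubleQuot.quotQuotEquivQuotOfLE h𝔠I) h
  have := isCohenMacaulayRing_quotient_of_linked (R ⧸ 𝔠) (I.map (Ideal.Quotient.mk 𝔠))
    (J.map (Ideal.Quotient.mk 𝔠)) h1 h2
  exact Groth.Agent.Lib.Helper28.CMRingAux.isCohenMacaulayRing_of_ringEquiv
    (DoubleQuot.quotQuotEquivQuotOfLE h𝔠J).symm this

end Colon


end Groth.Agent.Lib.Helper29.Linkage
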