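import Groth.Agent.Lib.Helper29.Linkage4
import Groth.Agent.Lib.Helper29.CodepthOpen
import Groth.Agent.Lib.Helper93.NormFlatDepth

/-!
# Geometric linkage: the sum of two geometrically linked ideals is Gorenstein

Local statement: `A` Noetherian local, `I ∩ J = 𝔯` with `A/𝔯` Gorenstein and `A/I`, `A/J`,
`A/𝔯` of the same depth `k`, `dim A/(I+J) + 1 ≤ k`: then `A/(I+J)` is Gorenstein of dimension
`k - 1`.
-/

set_option autoImplicit false
set_option linter.unusedSectionVars false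
universe u

namespace Groth.Agent.Lib.Helper29.Linkage

open RingTheory.Sequence Pointwise IsLocalRing
open Groth.Agent.Lib.Helper29
open Groth.Agent.Lib.Helper33.FlatSocle Groth.Agent.Lib.Helper33.GorSocle
  Groth.Agent.Lib.Helper33.GorTransfer

section Ideals

variable {A : Type u} [CommRing A]

/-- Cutting two ideals with intersection `𝔯` by an element regular modulo their sum. -/
theorem sup_span_inf_sup_span (I J 𝔯 : Ideal A) (h : I ⊓ J = 𝔯) (y : A)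
    (hy : ∀ a, y * a ∈ I ⊔ J → a ∈ I ⊔ J) :
    (I ⊔ Ideal.span {y}) ⊓ (J ⊔ Ideal.span {y}) = 𝔯 ⊔ Ideal.span {y} := by
  have h𝔯I : 𝔯 ≤ I := h ▸ inf_le_left
  have h𝔯J : 𝔯 ≤ J := h ▸ inf_le_right
  apply le_antisymm
  · rintro t ⟨ht1, ht2⟩
    obtain ⟨a, ha, s, hs, rfl⟩ := Submodule.mem_sup.mp ht1
    obtain ⟨u, rfl⟩ := Ideal.mem_span_singleton'.mp hs
    obtain ⟨b, hb, s', hs', hab⟩ := Submodule.mem_sup.mp ht2
    obtain ⟨v, rfl⟩ := Ideal.mem_span_singleton'.mp hs'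
    have h1 : y * (v - u) ∈ I ⊔ J := by
      have : y * (v - u) = a - b := by linear_combination hab
      rw [this]
      exact Submodule.sub_mem _ (Ideal.mem_sup_left ha) (Ideal.mem_sup_right hb)
    obtain ⟨a', ha', b', hb', hab'⟩ := Submodule.mem_sup.mp (hy _ h1)
    have h2 : a - y * a' ∈ 𝔯 := by
      rw [← h]
      refine ⟨I.sub_mem ha (I.mul_mem_left _ ha'), ?_⟩
      have : a - y * a' = b + y * b' := by linear_combination (-1 : A) * hab - y * hab'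
      rw [this]
      exact J.add_mem hb (J.mul_mem_left _ hb')
    have h3 : a + u * y = (a - y * a') + (a' + u) * y := by ring
    rw [h3]
    exact Submodule.add_mem _ (Ideal.mem_sup_left h2)
      (Ideal.mem_sup_right (Ideal.mem_span_singleton'.mpr ⟨_, rfl⟩))
  · exact le_inf (sup_le_sup_right h𝔯I _) (sup_le_sup_right h𝔯J _)

end Ideals

section Socle

variable {A : Type u} [CommRing A] [IsLocalRing A]

theorem mk_mem_maximalIdeal_iff {K : Ideal A} [IsLocalRing (A ⧸ K)] (r : A) :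
    Ideal.Quotient.mk K r ∈ maximalIdeal (A ⧸ K) ↔ r ∈ maximalIdeal A := by
  rw [← map_maximalIdeal_of_surjective (Ideal.Quotient.mk K) Ideal.Quotient.mk_surjective]
  constructor
  · intro h
    rw [Ideal.mem_map_iff_of_surjective _ Ideal.Quotient.mk_surjective] at h
    obtain ⟨r', hr', hrr'⟩ := h
    by_contra hr
    have hu : IsUnit r := by
      by_contra hnu
      exact hr hnu
    have hK : K ≤ maximalIdeal A := by
      apply le_maximalIdeal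
      intro htop
      have : Subsingleton (A ⧸ K) := Ideal.Quotient.subsingleton_iff.mpr htop
      exact not_subsingleton (A ⧸ K) this
    have h1 : r' - r ∈ K := Ideal.Quotient.eq.mp hrr'
    have h2 : r ∈ maximalIdeal A := by
      have : r = r' - (r' - r) := by ring
      rw [this]
      exact Ideal.sub_mem _ hr' (hK h1)
    exact hr h2
  · intro h
    exact Ideal.mem_map_of_mem _ h

/-- The socle of `A/(I+J)` is generated by any nonzero element, when the socle of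
`A/(𝔯 + x)` is simple. -/
theorem socle_transfer (I J 𝔯 : Ideal A) (h : I ⊓ J = 𝔯) (x : A) (hxm : x ∈ maximalIdeal A)
    (hxI : ∀ a, x * a ∈ I → a ∈ I) (hxJ : ∀ a, x * a ∈ J → a ∈ J)
    [IsLocalRing (A ⧸ (𝔯 ⊔ Ideal.span {x}))]
    (hK : SocSimple (A ⧸ (𝔯 ⊔ Ideal.span {x})))
    (z w : A) (hz : ∀ r ∈ maximalIdeal A, r * z ∈ I ⊔ J)
    (hw : ∀ r ∈ maximalIdeal A, r * w ∈ I ⊔ J) (hz0 : z ∉ I ⊔ J) :
    ∃ e : A, w - e * z ∈ I ⊔ J := by
  have h𝔯I : 𝔯 ≤ I := h ▸ inf_le_left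
  have h𝔯J : 𝔯 ≤ J := h ▸ inf_le_right
  -- socle property of the `J`-component
  have claim1 : ∀ (z a b : A), (∀ r ∈ maximalIdeal A, r * z ∈ I ⊔ J) → a ∈ I → b ∈ J →
      x * z = a + b → ∀ r ∈ maximalIdeal A, r * b ∈ 𝔯 ⊔ Ideal.span {x} := by
    intro z a b hz ha hb hzab r hr
    obtain ⟨a₁, ha₁, b₁, hb₁, hab₁⟩ := Submodule.mem_sup.mp (hz r hr)
    have h1 : x * b₁ - r * b ∈ 𝔯 := by
      rw [← h]
      refine ⟨?_, J.sub_mem (J.mul_mem_left _ hb₁) (J.mul_mem_left _ hb)⟩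
      have : x * b₁ - r * b = r * a - x * a₁ := by
        linear_combination x * hab₁ + r * hzab
      rw [this]
      exact I.sub_mem (I.mul_mem_left _ ha) (I.mul_mem_left _ ha₁)
    have h2 : r * b = b₁ * x - (x * b₁ - r * b) := by ring
    rw [h2]
    exact Submodule.sub_mem _ (Ideal.mem_sup_right (Ideal.mem_span_singleton'.mpr ⟨_, rfl⟩))
      (Ideal.mem_sup_left h1)
  -- injectivity
  have claim2 : ∀ (z a b : A), a ∈ I → b ∈ J → x * z = a + b →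
      b ∈ 𝔯 ⊔ Ideal.span {x} → z ∈ I ⊔ J := by
    intro z a b ha hb hzab hbK
    obtain ⟨ρ, hρ, s, hs, hρs⟩ := Submodule.mem_sup.mp hbK
    obtain ⟨u, rfl⟩ := Ideal.mem_span_singleton'.mp hs
    have hu : u ∈ J := by
      apply hxJ
      have : x * u = b - ρ := by linear_combination hρs
      rw [this]
      exact J.sub_mem hb (h𝔯J hρ)
    have hzu : z - u ∈ I := by
      apply hxI
      have : x * (z - u) = a + ρ := by linear_combination hzab - hρs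
      rw [this]
      exact I.add_mem ha (h𝔯I hρ)
    have : z = (z - u) + u := by ring
    rw [this]
    exact Submodule.add_mem _ (Ideal.mem_sup_left hzu) (Ideal.mem_sup_right hu)
  obtain ⟨a, ha, b, hb, hab⟩ := Submodule.mem_sup.mp (hz x hxm)
  obtain ⟨a₂, ha₂, b₂, hb₂, hab₂⟩ := Submodule.mem_sup.mp (hw x hxm)
  set K := 𝔯 ⊔ Ideal.span {x} with hKdef
  have hbsoc : IsSoc (A ⧸ K) (Ideal.Quotient.mk K b) := by
    intro rb hrb
    obtain ⟨r, rfl⟩ := Ideal.Quotient.mk_surjective rb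
    rw [mk_mem_maximalIdeal_iff] at hrb
    rw [← map_mul, Ideal.Quotient.eq_zero_iff_mem]
    exact claim1 z a b hz ha hb hab.symm r hrb
  have hb₂soc : IsSoc (A ⧸ K) (Ideal.Quotient.mk K b₂) := by
    intro rb hrb
    obtain ⟨r, rfl⟩ := Ideal.Quotient.mk_surjective rb
    rw [mk_mem_maximalIdeal_iff] at hrb
    rw [← map_mul, Ideal.Quotient.eq_zero_iff_mem]
    exact claim1 w a₂ b₂ hw ha₂ hb₂ hab₂.symm r hrb
  have hbne : Ideal.Quotient.mk K b ≠ 0 := by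
    intro h0
    rw [Ideal.Quotient.eq_zero_iff_mem] at h0
    exact hz0 (claim2 z a b ha hb hab.symm h0)
  obtain ⟨cb, hcb⟩ := hK.gen _ hbsoc hbne _ hb₂soc
  obtain ⟨c, rfl⟩ := Ideal.Quotient.mk_surjective cb
  refine ⟨c, ?_⟩
  apply claim2 (w - c * z) (a₂ - c * a) (b₂ - c * b) (I.sub_mem ha₂ (I.mul_mem_left _ ha))
    (J.sub_mem hb₂ (J.mul_mem_left _ hb))
  · linear_combination (-1 : A) * hab₂ + c * hab
  · rw [← Ideal.Quotient.eq_zero_iff_mem, map_sub, map_mul, hcb, sub_self]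

end Socle

section DimOne

variable {A : Type u} [CommRing A] [IsLocalRing A] [IsNoetherianRing A]

theorem exists_socle_of_nilpotent (K : Ideal A) (hK : K ≠ ⊤)
    (hnil : ∃ N, maximalIdeal A ^ N ≤ K) :
    ∃ z, z ∉ K ∧ ∀ r ∈ maximalIdeal A, r * z ∈ K := by
  classical
  have hN₀ := Nat.find_spec hnil
  have hpos : Nat.find hnil ≠ 0 := by
    intro h0
    rw [h0, pow_zero, Ideal.one_eq_top] at hN₀
    exact hK (top_le_iff.mp hN₀)
  have hmin : ¬ maximalIdeal A ^ (Nat.find hnil - 1) ≤ K := Nat.find_min hnil (by omega)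
  obtain ⟨z, hz, hzK⟩ := SetLike.not_le_iff_exists.mp hmin
  refine ⟨z, hzK, fun r hr => hN₀ ?_⟩
  have h1 : Nat.find hnil = (Nat.find hnil - 1) + 1 := by omega
  rw [h1, pow_succ']
  exact Ideal.mul_mem_mul hr hz

theorem socSimple_quotient_sup (I J 𝔯 : Ideal A) (h : I ⊓ J = 𝔯) (x : A)
    (hxm : x ∈ maximalIdeal A)
    (hxI : ∀ a, x * a ∈ I → a ∈ I) (hxJ : ∀ a, x * a ∈ J → a ∈ J)
    [IsLocalRing (A ⧸ (𝔯 ⊔ Ideal.span {x}))]
    (hK : SocSimple (A ⧸ (𝔯 ⊔ Ideal.span {x})))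
    [IsLocalRing (A ⧸ (I ⊔ J))] (hne : I ⊔ J ≠ ⊤)
    (hnil : ∃ N, maximalIdeal A ^ N ≤ I ⊔ J) :
    SocSimple (A ⧸ (I ⊔ J)) := by
  obtain ⟨z, hz0, hz⟩ := exists_socle_of_nilpotent (I ⊔ J) hne hnil
  refine ⟨Ideal.Quotient.mk _ z, ?_, ?_, ?_⟩
  · rwa [Ne, Ideal.Quotient.eq_zero_iff_mem]
  · intro rb hrb
    obtain ⟨r, rfl⟩ := Ideal.Quotient.mk_surjective rb
    rw [mk_mem_maximalIdeal_iff] at hrb
    rw [← map_mul, Ideal.Quotient.eq_zero_iff_mem]
    exact hz r hrb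
  · intro ub hub
    obtain ⟨w, rfl⟩ := Ideal.Quotient.mk_surjective ub
    have hw : ∀ r ∈ maximalIdeal A, r * w ∈ I ⊔ J := by
      intro r hr
      have h1 := hub (Ideal.Quotient.mk _ r) ((mk_mem_maximalIdeal_iff r).mpr hr)
      rwa [← map_mul, Ideal.Quotient.eq_zero_iff_mem] at h1
    obtain ⟨e, he⟩ := socle_transfer I J 𝔯 h x hxm hxI hxJ hK z w hz hw hz0
    refine ⟨Ideal.Quotient.mk _ e, ?_⟩
    rw [← map_mul, ← sub_eq_zero, ← map_sub, Ideal.Quotient.eq_zero_iff_mem]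
    exact he

/-- The one-dimensional case. -/
theorem gorenstein_quotient_sup_dim_one (I J 𝔯 : Ideal A) (h : I ⊓ J = 𝔯)
    (hgor : LocCoh.IsGorensteinLocalRing (A ⧸ 𝔯)) (hdim : ringKrullDim (A ⧸ 𝔯) = 1)
    (x : A) (hxm : x ∈ maximalIdeal A)
    (hxI : ∀ a, x * a ∈ I → a ∈ I) (hxJ : ∀ a, x * a ∈ J → a ∈ J)
    (hIJ : I ⊔ J ≤ maximalIdeal A) (hnil : ∃ N, maximalIdeal A ^ N ≤ I ⊔ J) :
    LocCoh.IsGorensteinLocalRing (A ⧸ (I ⊔ J)) := by
  have h𝔯I : 𝔯 ≤ I := h ▸ inf_le_left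
  have h𝔯J : 𝔯 ≤ J := h ▸ inf_le_right
  have hloc𝔯 : IsLocalRing (A ⧸ 𝔯) := hgor.toIsLocalRing
  have hxreg : IsSMulRegular (A ⧸ 𝔯) (Ideal.Quotient.mk 𝔯 x) := by
    rw [isSMulRegular_iff_right_eq_zero_of_smul]
    intro ab hab
    obtain ⟨a, rfl⟩ := Ideal.Quotient.mk_surjective ab
    rw [smul_eq_mul, ← map_mul, Ideal.Quotient.eq_zero_iff_mem] at hab
    rw [Ideal.Quotient.eq_zero_iff_mem, ← h]
    exact ⟨hxI a (h𝔯I hab), hxJ a (h𝔯J hab)⟩
  have hxmem : Ideal.Quotient.mk 𝔯 x ∈ maximalIdeal (A ⧸ 𝔯) :=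
    (mk_mem_maximalIdeal_iff x).mpr hxm
  have hgor1 := (Groth.Agent.S0343.result (A ⧸ 𝔯) _ hxmem hxreg).mp hgor
  have hdim1 := ringKrullDim_quotient_span_singleton_succ_eq_ringKrullDim hxreg hxmem
  rw [hdim] at hdim1
  have hdim0 : ringKrullDim ((A ⧸ 𝔯) ⧸ Ideal.span {Ideal.Quotient.mk 𝔯 x}) = 0 := by
    apply withBot_add_natCast_cancel 1
    rw [Nat.cast_one, hdim1, zero_add]
  let e : ((A ⧸ 𝔯) ⧸ Ideal.span {Ideal.Quotient.mk 𝔯 x}) ≃+* A ⧸ (𝔯 ⊔ Ideal.span {x}) :=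
    (Ideal.quotEquivOfEq (by rw [Ideal.map_span, Set.image_singleton])).trans
      (DoubleQuot.quotQuotEquivQuotSup 𝔯 (Ideal.span {x}))
  have hgor2 : LocCoh.IsGorensteinLocalRing (A ⧸ (𝔯 ⊔ Ideal.span {x})) :=
    gorenstein_of_ringEquiv e hgor1
  have hdim2 : ringKrullDim (A ⧸ (𝔯 ⊔ Ideal.span {x})) = 0 := by
    rw [← ringKrullDim_eq_of_ringEquiv e, hdim0]
  have hlocK : IsLocalRing (A ⧸ (𝔯 ⊔ Ideal.span {x})) := hgor2.toIsLocalRing
  have hK := socSimple_of_gorenstein (A ⧸ (𝔯 ⊔ Ideal.span {x})) hdim2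
  have hlocC : IsLocalRing (A ⧸ (I ⊔ J)) := isLocalRing_quotient_of_le hIJ
  have hne : I ⊔ J ≠ ⊤ := fun htop =>
    (maximalIdeal.isMaximal A).ne_top (eq_top_iff.2 (htop ▸ hIJ))
  have hsoc := socSimple_quotient_sup I J 𝔯 h x hxm hxI hxJ hK hne hnil
  refine gorenstein_of_socSimple (A ⧸ (I ⊔ J)) ?_ hsoc
  obtain ⟨N, hN⟩ := hnil
  refine ⟨N, ?_⟩
  rw [← map_maximalIdeal_of_surjective (Ideal.Quotient.mk (I ⊔ J)) Ideal.Quotient.mk_surjective,
    ← Ideal.map_pow, eq_bot_iff, Ideal.map_le_iff_le_comap]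
  intro t ht
  rw [Ideal.mem_comap, Submodule.mem_bot, Ideal.Quotient.eq_zero_iff_mem]
  exact hN ht

end DimOne

end Groth.Agent.Lib.Helper29.Linkage
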