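import Groth.Agent.Lib.Helper29.Linkage5
import Groth.Agent.Lib.Helper29.DepthSES
import Groth.Agent.Lib.Helper29.DepthZero
import Groth.Agent.Lib.Helper29.DepthFinite
import Groth.Agent.S0341
import Groth.Agent.S0343

/-!
# Geometric linkage, local form

`gorenstein_quotient_sup_aux`: in a Noetherian local ring `A`, if `I ∩ J = 𝔯`, `A/𝔯` is Gorenstein,
`A/I`, `A/J`, `A/𝔯` all have depth `k` and `dim A/(I+J) + 1 ≤ k`, then `A/(I+J)` is Gorenstein of
dimension `k - 1`.
-/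

set_option autoImplicit false
set_option linter.unusedSectionVars false
universe u

namespace Groth.Agent.Lib.Helper29.Linkage

open RingTheory.Sequence Pointwise IsLocalRing
open Groth.Agent.Lib.Helper29

section Local

variable {A : Type u} [CommRing A]

/-- `(A/K)/y(A/K) ≃ A/(K + y)`. -/
noncomputable def quotSMulTopQuotientEquiv (K : Ideal A) (y : A) :
    QuotSMulTop y (A ⧸ K) ≃ₗ[A] (A ⧸ (K ⊔ Ideal.span {y})) :=
  (Submodule.quotEquivOfEq (y • (⊤ : Submodule A (A ⧸ K)))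
    (Submodule.map (Submodule.mkQ K) (Ideal.span {y} : Submodule A A)) (by
    ext z
    constructor
    · intro hz
      obtain ⟨m, -, rfl⟩ := (Submodule.mem_smul_pointwise_iff_exists _ _ _).1 hz
      obtain ⟨a, rfl⟩ := Submodule.mkQ_surjective K m
      refine ⟨y * a, Ideal.mul_mem_right _ _ (Ideal.mem_span_singleton_self y), ?_⟩
      rw [← smul_eq_mul, map_smul]
    · rintro ⟨t, ht, rfl⟩
      obtain ⟨b, rfl⟩ := Ideal.mem_span_singleton'.mp ht
      rw [mul_comm, ← smul_eq_mul, map_smul]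
      exact Submodule.smul_mem_pointwise_smul _ y ⊤ Submodule.mem_top)).trans
    (Submodule.quotientQuotientEquivQuotientSup K (Ideal.span {y}))

theorem isSMulRegular_quotient_iff (K : Ideal A) (y : A) :
    IsSMulRegular (A ⧸ K) y ↔ ∀ a, y * a ∈ K → a ∈ K := by
  rw [isSMulRegular_iff_right_eq_zero_of_smul]
  constructor
  · intro h a ha
    have h1 : y • (Ideal.Quotient.mk K a) = 0 := by
      have : y • (Ideal.Quotient.mk K a) = Ideal.Quotient.mk K (y * a) := rfl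
      rw [this, Ideal.Quotient.eq_zero_iff_mem]
      exact ha
    exact Ideal.Quotient.eq_zero_iff_mem.mp (h _ h1)
  · intro h ab hab
    obtain ⟨a, rfl⟩ := Ideal.Quotient.mk_surjective ab
    have : y • (Ideal.Quotient.mk K a) = Ideal.Quotient.mk K (y * a) := rfl
    rw [this, Ideal.Quotient.eq_zero_iff_mem] at hab
    exact Ideal.Quotient.eq_zero_iff_mem.mpr (h a hab)

variable [IsLocalRing A] [IsNoetherianRing A]

theorem depth_quotient_sup_span_add_one (K : Ideal A) (hK : K ≠ ⊤) (y : A)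
    (hym : y ∈ maximalIdeal A) (hy : ∀ a, y * a ∈ K → a ∈ K) :
    LocCoh.depth A (A ⧸ (K ⊔ Ideal.span {y})) + 1 = LocCoh.depth A (A ⧸ K) := by
  have : Nontrivial (A ⧸ K) := Ideal.Quotient.nontrivial_iff.2 hK
  rw [← DepthLib.depth_quotSMulTop_add_one A (A ⧸ K) hym ((isSMulRegular_quotient_iff K y).2 hy)]
  congr 1
  exact (CMLib.depth_congr (quotSMulTopQuotientEquiv K y)).symm

theorem min_le_depth_prod (M N : Type u) [AddCommGroup M] [Module A M] [Module.Finite A M]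
    [AddCommGroup N] [Module A N] [Module.Finite A N] :
    min (LocCoh.depth A M) (LocCoh.depth A N) ≤ LocCoh.depth A (M × N) := by
  refine DepthSES.min_le_idealDepth_mid (maximalIdeal A) M (M × N) N (LinearMap.inl A M N)
    (LinearMap.snd A M N) LinearMap.inl_injective LinearMap.snd_surjective ?_
  intro x
  constructor
  · intro hx
    refine ⟨x.1, ?_⟩
    ext
    · rfl
    · exact hx.symm
  · rintro ⟨y, rfl⟩
    rfl

theorem isSMulRegular_of_prod_left {M N : Type u} [AddCommGroup M] [Module A M]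
    [AddCommGroup N] [Module A N] {y : A} (h : IsSMulRegular (M × N) y) : IsSMulRegular M y := by
  intro a b hab
  have : y • ((a, 0) : M × N) = y • ((b, 0) : M × N) := by
    ext
    · exact hab
    · simp
  exact congrArg Prod.fst (h this)

theorem isSMulRegular_of_prod_right {M N : Type u} [AddCommGroup M] [Module A M]
    [AddCommGroup N] [Module A N] {y : A} (h : IsSMulRegular (M × N) y) : IsSMulRegular N y := by
  intro a b hab
  have : y • ((0, a) : M × N) = y • ((0, b) : M × N) := by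
    ext
    · simp
    · exact hab
  exact congrArg Prod.snd (h this)

/-- The depth lemma for `0 → A/(I ∩ J) → A/I × A/J → A/(I+J) → 0`. -/
theorem min_le_depth_quotient_sup (I J 𝔯 : Ideal A) (h : I ⊓ J = 𝔯) :
    min (LocCoh.depth A ((A ⧸ I) × (A ⧸ J))) (LocCoh.depth A (A ⧸ 𝔯) - 1) ≤
      LocCoh.depth A (A ⧸ (I ⊔ J)) := by
  have h𝔯I : 𝔯 ≤ I := h ▸ inf_le_left
  have h𝔯J : 𝔯 ≤ J := h ▸ inf_le_right
  let f : (A ⧸ 𝔯) →ₗ[A] (A ⧸ I) × (A ⧸ J) :=
    LinearMap.prod (Submodule.factor h𝔯I) (Submodule.factor h𝔯J)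
  let g : (A ⧸ I) × (A ⧸ J) →ₗ[A] (A ⧸ (I ⊔ J)) :=
    LinearMap.coprod (Submodule.factor (le_sup_left : I ≤ I ⊔ J))
      (-(Submodule.factor (le_sup_right : J ≤ I ⊔ J)))
  refine DepthSES.min_le_idealDepth_right (maximalIdeal A) (A ⧸ 𝔯) ((A ⧸ I) × (A ⧸ J))
    (A ⧸ (I ⊔ J)) f g ?_ ?_ ?_
  · rw [injective_iff_map_eq_zero]
    intro ab hab
    obtain ⟨a, rfl⟩ := Ideal.Quotient.mk_surjective ab
    have h1 : Ideal.Quotient.mk I a = 0 := congrArg Prod.fst hab
    have h2 : Ideal.Quotient.mk J a = 0 := congrArg Prod.snd hab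
    rw [Ideal.Quotient.eq_zero_iff_mem] at h1 h2 ⊢
    rw [← h]
    exact ⟨h1, h2⟩
  · intro cb
    obtain ⟨c, rfl⟩ := Ideal.Quotient.mk_surjective cb
    refine ⟨(Ideal.Quotient.mk I c, 0), ?_⟩
    simp only [g, LinearMap.coprod_apply, map_zero, add_zero]
    rfl
  · intro x
    obtain ⟨ab, bb⟩ := x
    obtain ⟨a, rfl⟩ := Ideal.Quotient.mk_surjective ab
    obtain ⟨b, rfl⟩ := Ideal.Quotient.mk_surjective bb
    constructor
    · intro hx
      have h1 : Ideal.Quotient.mk (I ⊔ J) (a - b) = 0 := by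
        rw [map_sub]
        simpa [g, sub_eq_add_neg] using hx
      rw [Ideal.Quotient.eq_zero_iff_mem] at h1
      obtain ⟨i, hi, j, hj, hij⟩ := Submodule.mem_sup.mp h1
      refine ⟨Ideal.Quotient.mk 𝔯 (a - i), ?_⟩
      ext
      · change Ideal.Quotient.mk I (a - i) = Ideal.Quotient.mk I a
        rw [Ideal.Quotient.eq]
        have : a - i - a = -i := by ring
        rw [this]
        exact I.neg_mem hi
      · change Ideal.Quotient.mk J (a - i) = Ideal.Quotient.mk J b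
        rw [Ideal.Quotient.eq]
        have : a - i - b = j := by linear_combination (-1 : A) * hij
        rw [this]
        exact hj
    · rintro ⟨cb, hc⟩
      obtain ⟨c, rfl⟩ := Ideal.Quotient.mk_surjective cb
      rw [← hc]
      change Ideal.Quotient.mk (I ⊔ J) c + -(Ideal.Quotient.mk (I ⊔ J) c) = 0
      rw [add_neg_cancel]


theorem exists_nat_ringKrullDim (T : Type u) [CommRing T] [IsNoetherianRing T] [IsLocalRing T] :
    ∃ n : ℕ, ringKrullDim T = (n : WithBot ℕ∞) := by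
  have h1 := ringKrullDim_ne_bot (R := T)
  have h2 := ringKrullDim_ne_top (R := T)
  obtain ⟨a, ha⟩ := WithBot.ne_bot_iff_exists.mp h1
  rw [← ha] at h2 ⊢
  have h3 : a ≠ ⊤ := fun h => h2 (by rw [h]; rfl)
  obtain ⟨n, hn⟩ := ENat.ne_top_iff_exists.mp h3
  exact ⟨n, by rw [← hn]; rfl⟩

/-- `(A/K)/(ȳ) ≃ A/(K + y)` as rings. -/
noncomputable def quotQuotSpanEquiv (K : Ideal A) (y : A) :
    ((A ⧸ K) ⧸ Ideal.span {Ideal.Quotient.mk K y}) ≃+* A ⧸ (K ⊔ Ideal.span {y}) :=
  (Ideal.quotEquivOfEq (by rw [Ideal.map_span, Set.image_singleton])).trans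
    (DoubleQuot.quotQuotEquivQuotSup K (Ideal.span {y}))

theorem isSMulRegular_mk_of_forall (K : Ideal A) (y : A) (hy : ∀ a, y * a ∈ K → a ∈ K) :
    IsSMulRegular (A ⧸ K) (Ideal.Quotient.mk K y) := by
  rw [isSMulRegular_iff_right_eq_zero_of_smul]
  intro ab hab
  obtain ⟨a, rfl⟩ := Ideal.Quotient.mk_surjective ab
  rw [smul_eq_mul, ← map_mul, Ideal.Quotient.eq_zero_iff_mem] at hab
  rw [Ideal.Quotient.eq_zero_iff_mem]
  exact hy a hab

theorem gorenstein_quotient_sup_span_iff (K : Ideal A) (hK : K ≤ maximalIdeal A) (y : A)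
    (hym : y ∈ maximalIdeal A) (hy : ∀ a, y * a ∈ K → a ∈ K) :
    LocCoh.IsGorensteinLocalRing (A ⧸ K) ↔
      LocCoh.IsGorensteinLocalRing (A ⧸ (K ⊔ Ideal.span {y})) := by
  have hloc : IsLocalRing (A ⧸ K) := isLocalRing_quotient_of_le hK
  rw [Groth.Agent.S0343.result (A ⧸ K) (Ideal.Quotient.mk K y)
    ((mk_mem_maximalIdeal_iff y).mpr hym) (isSMulRegular_mk_of_forall K y hy)]
  exact Groth.Agent.Lib.Helper33.GorTransfer.gorenstein_ringEquiv_iff (quotQuotSpanEquiv K y)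

theorem ringKrullDim_quotient_sup_span_add_one (K : Ideal A) (hK : K ≤ maximalIdeal A) (y : A)
    (hym : y ∈ maximalIdeal A) (hy : ∀ a, y * a ∈ K → a ∈ K) :
    ringKrullDim (A ⧸ (K ⊔ Ideal.span {y})) + 1 = ringKrullDim (A ⧸ K) := by
  have hloc : IsLocalRing (A ⧸ K) := isLocalRing_quotient_of_le hK
  rw [← ringKrullDim_quotient_span_singleton_succ_eq_ringKrullDim
    (isSMulRegular_mk_of_forall K y hy) ((mk_mem_maximalIdeal_iff y).mpr hym),
    ringKrullDim_eq_of_ringEquiv (quotQuotSpanEquiv K y)]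

/-- Local form of: the sum of two geometrically linked ideals is Gorenstein. -/
theorem gorenstein_quotient_sup_aux (k : ℕ) : ∀ (I J 𝔯 : Ideal A), I ⊓ J = 𝔯 →
    LocCoh.IsGorensteinLocalRing (A ⧸ 𝔯) →
    LocCoh.depth A (A ⧸ I) = k → LocCoh.depth A (A ⧸ J) = k → LocCoh.depth A (A ⧸ 𝔯) = k →
    I ⊔ J ≤ maximalIdeal A → ringKrullDim (A ⧸ (I ⊔ J)) + 1 ≤ (k : WithBot ℕ∞) →
    LocCoh.IsGorensteinLocalRing (A ⧸ (I ⊔ J)) ∧
      ringKrullDim (A ⧸ (I ⊔ J)) + 1 = (k : WithBot ℕ∞) := by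
  induction k with
  | zero =>
    intro I J 𝔯 h hgor hdI hdJ hd𝔯 hIJ hdim
    exfalso
    have hloc := isLocalRing_quotient_of_le hIJ
    obtain ⟨d, hd⟩ := exists_nat_ringKrullDim (A ⧸ (I ⊔ J))
    rw [hd] at hdim
    have : d + 1 ≤ 0 := by exact_mod_cast hdim
    omega
  | succ k ih =>
    intro I J 𝔯 h hgor hdI hdJ hd𝔯 hIJ hdim
    have h𝔯I : 𝔯 ≤ I := h ▸ inf_le_left
    have h𝔯J : 𝔯 ≤ J := h ▸ inf_le_right
    have hloc := isLocalRing_quotient_of_le hIJ
    have hneC : I ⊔ J ≠ ⊤ := fun htop =>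
      (maximalIdeal.isMaximal A).ne_top (eq_top_iff.2 (htop ▸ hIJ))
    have hneI : I ≠ ⊤ := fun htop => hneC (by rw [htop, top_sup_eq])
    have hneJ : J ≠ ⊤ := fun htop => hneC (by rw [htop, sup_top_eq])
    have hne𝔯 : 𝔯 ≠ ⊤ := fun htop => hneI (eq_top_iff.2 (htop ▸ h𝔯I))
    have hIm : I ≤ maximalIdeal A := le_trans le_sup_left hIJ
    have hJm : J ≤ maximalIdeal A := le_trans le_sup_right hIJ
    have h𝔯m : 𝔯 ≤ maximalIdeal A := le_trans h𝔯I hIm
    have hntC : Nontrivial (A ⧸ (I ⊔ J)) := Ideal.Quotient.nontrivial_iff.2 hneC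
    have hntI : Nontrivial (A ⧸ I) := Ideal.Quotient.nontrivial_iff.2 hneI
    obtain ⟨d, hd⟩ := exists_nat_ringKrullDim (A ⧸ (I ⊔ J))
    have hprod : ((k + 1 : ℕ) : ℕ∞) ≤ LocCoh.depth A ((A ⧸ I) × (A ⧸ J)) := by
      have := min_le_depth_prod (A := A) (A ⧸ I) (A ⧸ J)
      rwa [hdI, hdJ, min_self] at this
    have hdepC : (k : ℕ∞) ≤ LocCoh.depth A (A ⧸ (I ⊔ J)) := by
      refine le_trans ?_ (min_le_depth_quotient_sup I J 𝔯 h)
      rw [hd𝔯]
      refine le_min (le_trans (by exact_mod_cast Nat.le_succ k) hprod) ?_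
      have : ((k + 1 : ℕ) : ℕ∞) - 1 = (k : ℕ∞) := by
        have h1 : ((k + 1 - 1 : ℕ) : ℕ∞) = ((k + 1 : ℕ) : ℕ∞) - ((1 : ℕ) : ℕ∞) :=
          ENat.natCast_sub (k + 1) 1
        rw [Nat.add_sub_cancel] at h1
        rw [h1, Nat.cast_one]
      rw [this]
    have hle : ((LocCoh.depth A (A ⧸ (I ⊔ J)) : ℕ∞) : WithBot ℕ∞) ≤ (d : WithBot ℕ∞) := by
      rw [← hd, ← Module.supportDim_quotient_eq_ringKrullDim]
      exact DepthLib.depth_le_supportDim A (A ⧸ (I ⊔ J))
    have hkd : k ≤ d := by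
      have h1 : ((k : ℕ∞) : WithBot ℕ∞) ≤ (d : WithBot ℕ∞) :=
        le_trans (WithBot.coe_le_coe.mpr hdepC) hle
      exact_mod_cast h1
    have hdk : d = k := by
      rw [hd] at hdim
      have : d + 1 ≤ k + 1 := by exact_mod_cast hdim
      omega
    subst hdk
    refine ⟨?_, by rw [hd]; push_cast; rfl⟩
    rcases Nat.eq_zero_or_pos d with hd0 | hdpos
    · subst hd0
      have hMne : maximalIdeal A • (⊤ : Submodule A ((A ⧸ I) × (A ⧸ J))) ≠ ⊤ :=
        maximalIdeal_smul_top_ne_top A _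
      have hx : ∃ x ∈ maximalIdeal A, IsSMulRegular ((A ⧸ I) × (A ⧸ J)) x := by
        by_contra hcon
        push Not at hcon
        have h0 := (depth_eq_zero_iff_forall_not_isSMulRegular A _ hMne).2 hcon
        rw [h0] at hprod
        simp at hprod
      obtain ⟨x, hxm, hxreg⟩ := hx
      have hxI := (isSMulRegular_quotient_iff I x).1 (isSMulRegular_of_prod_left hxreg)
      have hxJ := (isSMulRegular_quotient_iff J x).1 (isSMulRegular_of_prod_right hxreg)
      have hdim𝔯 : ringKrullDim (A ⧸ 𝔯) = 1 := by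
        have hcm := Groth.Agent.S0341.result (A ⧸ 𝔯)
        have h1 := hcm.supportDim_eq_depth
        have hloc𝔯 : IsLocalRing (A ⧸ 𝔯) := hgor.toIsLocalRing
        have hlh : IsLocalHom (algebraMap A (A ⧸ 𝔯)) :=
          IsLocalHom.of_surjective _ Ideal.Quotient.mk_surjective
        rw [Module.supportDim_self_eq_ringKrullDim,
          ← DepthFinite.depth_eq_of_isLocalHom A (A ⧸ 𝔯) (A ⧸ 𝔯), hd𝔯] at h1
        rw [h1]
        rfl
      have hnil : ∃ N, maximalIdeal A ^ N ≤ I ⊔ J := by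
        have hart : IsArtinianRing (A ⧸ (I ⊔ J)) := by
          rw [isArtinianRing_iff_krullDimLE_zero, Ring.krullDimLE_iff, hd]
        obtain ⟨N, hN⟩ := (isArtinianRing_iff_isNilpotent_maximalIdeal _).mp hart
        refine ⟨N, ?_⟩
        rw [← map_maximalIdeal_of_surjective (Ideal.Quotient.mk (I ⊔ J))
          Ideal.Quotient.mk_surjective, ← Ideal.map_pow] at hN
        intro t ht
        have h1 : Ideal.Quotient.mk (I ⊔ J) t ∈
            Ideal.map (Ideal.Quotient.mk (I ⊔ J)) (maximalIdeal A ^ N) :=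
          Ideal.mem_map_of_mem _ ht
        rw [hN] at h1
        exact Ideal.Quotient.eq_zero_iff_mem.mp h1
      exact gorenstein_quotient_sup_dim_one I J 𝔯 h hgor hdim𝔯 x hxm hxI hxJ hIJ hnil
    · obtain ⟨e, rfl⟩ : ∃ e, d = e + 1 := ⟨d - 1, by omega⟩
      have hMne : maximalIdeal A •
          (⊤ : Submodule A (((A ⧸ I) × (A ⧸ J)) × (A ⧸ (I ⊔ J)))) ≠ ⊤ :=
        maximalIdeal_smul_top_ne_top A _
      have hMdep : (1 : ℕ∞) ≤ LocCoh.depth A (((A ⧸ I) × (A ⧸ J)) × (A ⧸ (I ⊔ J))) := by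
        refine le_trans ?_ (min_le_depth_prod (A := A) ((A ⧸ I) × (A ⧸ J)) (A ⧸ (I ⊔ J)))
        refine le_min (le_trans ?_ hprod) (le_trans ?_ hdepC)
        · exact_mod_cast (by omega : 1 ≤ e + 1 + 1)
        · exact_mod_cast (by omega : 1 ≤ e + 1)
      have hy : ∃ y ∈ maximalIdeal A,
          IsSMulRegular (((A ⧸ I) × (A ⧸ J)) × (A ⧸ (I ⊔ J))) y := by
        by_contra hcon
        push Not at hcon
        have h0 := (depth_eq_zero_iff_forall_not_isSMulRegular A _ hMne).2 hcon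
        rw [h0] at hMdep
        simp at hMdep
      obtain ⟨y, hym, hyreg⟩ := hy
      have hyIJ := isSMulRegular_of_prod_left hyreg
      have hyI := (isSMulRegular_quotient_iff I y).1 (isSMulRegular_of_prod_left hyIJ)
      have hyJ := (isSMulRegular_quotient_iff J y).1 (isSMulRegular_of_prod_right hyIJ)
      have hyC := (isSMulRegular_quotient_iff (I ⊔ J) y).1 (isSMulRegular_of_prod_right hyreg)
      have hy𝔯 : ∀ a, y * a ∈ 𝔯 → a ∈ 𝔯 := by
        intro a ha
        rw [← h]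
        exact ⟨hyI a (h𝔯I ha), hyJ a (h𝔯J ha)⟩
      have hsup : (I ⊔ Ideal.span {y}) ⊔ (J ⊔ Ideal.span {y}) = (I ⊔ J) ⊔ Ideal.span {y} := by
        rw [sup_sup_sup_comm, sup_idem]
      have hcancel : ∀ (K : Ideal A), K ≠ ⊤ → (∀ a, y * a ∈ K → a ∈ K) →
          LocCoh.depth A (A ⧸ K) = ((e + 1 + 1 : ℕ) : ℕ∞) →
          LocCoh.depth A (A ⧸ (K ⊔ Ideal.span {y})) = ((e + 1 : ℕ) : ℕ∞) := by
        intro K hK hyK hdK
        have h1 := depth_quotient_sup_span_add_one K hK y hym hyK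
        rw [hdK] at h1
        have h2 : LocCoh.depth A (A ⧸ (K ⊔ Ideal.span {y})) + 1 = ((e + 1 : ℕ) : ℕ∞) + 1 := by
          rw [h1]; push_cast; rfl
        exact ENat.add_left_injective_of_ne_top ENat.one_ne_top h2
      have hspan : Ideal.span {y} ≤ maximalIdeal A := by
        rw [Ideal.span_le, Set.singleton_subset_iff]
        exact hym
      have key := ih (I ⊔ Ideal.span {y}) (J ⊔ Ideal.span {y}) (𝔯 ⊔ Ideal.span {y})
        (sup_span_inf_sup_span I J 𝔯 h y hyC)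
        ((gorenstein_quotient_sup_span_iff 𝔯 h𝔯m y hym hy𝔯).mp hgor)
        (hcancel I hneI hyI hdI) (hcancel J hneJ hyJ hdJ) (hcancel 𝔯 hne𝔯 hy𝔯 hd𝔯)
        (by rw [hsup]; exact sup_le hIJ hspan)
        (by
          rw [hsup, ringKrullDim_quotient_sup_span_add_one (I ⊔ J) hIJ y hym hyC, hd])
      rw [hsup] at key
      exact (gorenstein_quotient_sup_span_iff (I ⊔ J) hIJ y hym hyC).mpr key.1

end Local

end Groth.Agent.Lib.Helper29.Linkage
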