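import Groth.Agent.Lib.Helper29.Linkage6
import Groth.Agent.Lib.Helper49.CMQuot
import Groth.Agent.Lib.Helper49.StalkLoc

/-!
# Geometric linkage, global glue

For a Cohen–Macaulay ring `R` and ideals `I₁`, `I₂` all of whose minimal primes have height `c`,
with `R/I₁`, `R/I₂` Cohen–Macaulay, `R/(I₁ ∩ I₂)` Gorenstein and no common minimal prime:
at every prime `P ⊇ I₁ + I₂`, `R_P/(I₁+I₂)R_P` is Gorenstein and `(I₁+I₂)R_P` has height `c + 1`.
-/

set_option autoImplicit false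
set_option linter.unusedSectionVars false
universe u

namespace Groth.Agent.Lib.Helper29.Linkage

open RingTheory.Sequence Pointwise IsLocalRing
open Groth.Agent.Lib.Helper29
open Groth.Agent.Lib.Helper33.GorTransfer

section Global

variable {R : Type u} [CommRing R]

theorem gorenstein_transport (L : Ideal R) (P P' : Ideal R) [P.IsPrime] [P'.IsPrime] (h : P = P')
    (hg : LocCoh.IsGorensteinLocalRing
      (Localization.AtPrime P ⧸ L.map (algebraMap R (Localization.AtPrime P)))) :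
    LocCoh.IsGorensteinLocalRing
      (Localization.AtPrime P' ⧸ L.map (algebraMap R (Localization.AtPrime P'))) := by
  subst h
  exact hg

theorem cm_transport (L : Ideal R) (P P' : Ideal R) [P.IsPrime] [P'.IsPrime] (h : P = P')
    (hg : LocCoh.IsCohenMacaulayLocalRing
      (Localization.AtPrime P ⧸ L.map (algebraMap R (Localization.AtPrime P)))) :
    LocCoh.IsCohenMacaulayLocalRing
      (Localization.AtPrime P' ⧸ L.map (algebraMap R (Localization.AtPrime P'))) := by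
  subst h
  exact hg

theorem comap_map_mk_of_le (L P : Ideal R) (hLP : L ≤ P) :
    (P.map (Ideal.Quotient.mk L)).comap (Ideal.Quotient.mk L) = P := by
  rw [Ideal.comap_map_of_surjective' _ Ideal.Quotient.mk_surjective, Ideal.mk_ker,
    sup_eq_left.2 hLP]

theorem gorenstein_localization_quotient (L : Ideal R) [LocCoh.IsGorensteinRing (R ⧸ L)]
    (P : Ideal R) [P.IsPrime] (hLP : L ≤ P) :
    LocCoh.IsGorensteinLocalRing
      (Localization.AtPrime P ⧸ L.map (algebraMap R (Localization.AtPrime P))) := by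
  have hq : (P.map (Ideal.Quotient.mk L)).IsPrime :=
    Ideal.map_isPrime_of_surjective Ideal.Quotient.mk_surjective (by rw [Ideal.mk_ker]; exact hLP)
  have hcomap := comap_map_mk_of_le L P hLP
  have hg := LocCoh.IsGorensteinRing.isGorensteinLocalRing_localization (A := R ⧸ L)
    (P.map (Ideal.Quotient.mk L))
  have e := Groth.Agent.Lib.Helper49.CMQuot.localizationQuotientEquiv L
    (P.map (Ideal.Quotient.mk L))
  exact gorenstein_transport L _ P hcomap (gorenstein_of_ringEquiv e hg)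

theorem cm_localization_quotient (L : Ideal R) [LocCoh.IsCohenMacaulayRing (R ⧸ L)]
    (P : Ideal R) [P.IsPrime] (hLP : L ≤ P) :
    LocCoh.IsCohenMacaulayLocalRing
      (Localization.AtPrime P ⧸ L.map (algebraMap R (Localization.AtPrime P))) := by
  have hq : (P.map (Ideal.Quotient.mk L)).IsPrime :=
    Ideal.map_isPrime_of_surjective Ideal.Quotient.mk_surjective (by rw [Ideal.mk_ker]; exact hLP)
  have hcomap := comap_map_mk_of_le L P hLP
  have hg := LocCoh.IsCohenMacaulayRing.isCohenMacaulayLocalRing_localization (R := R ⧸ L)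
    (P.map (Ideal.Quotient.mk L))
  have e := Groth.Agent.Lib.Helper49.CMQuot.localizationQuotientEquiv L
    (P.map (Ideal.Quotient.mk L))
  exact cm_transport L _ P hcomap
    (Groth.Agent.Lib.Helper49.StalkLoc.isCohenMacaulayLocalRing_of_ringEquiv e hg)

/-- Height of the extension of an unmixed ideal to a localization at a prime containing it. -/
theorem height_map_eq_of_forall (I P : Ideal R) [P.IsPrime] (hIP : I ≤ P) (c : ℕ)
    (hmin : ∀ 𝔮 ∈ I.minimalPrimes, 𝔮.height = c) :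
    (I.map (algebraMap R (Localization.AtPrime P))).height = c := by
  apply le_antisymm
  · obtain ⟨𝔮, h𝔮, h𝔮P⟩ := Ideal.exists_minimalPrimes_le hIP
    have : 𝔮.IsPrime := h𝔮.1.1
    rw [← hmin 𝔮 h𝔮]
    exact CodepthOpen.height_map_le R I 𝔮 P h𝔮.1.2 h𝔮P
  · exact CodepthOpen.le_height_map_of_forall R I P c (fun 𝔮 h𝔮 _ => (hmin 𝔮 h𝔮).ge)

/-- Minimal primes of an intersection are minimal primes of one of the two ideals. -/
theorem mem_minimalPrimes_of_mem_minimalPrimes_inf (I₁ I₂ 𝔮 : Ideal R)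
    (h𝔮 : 𝔮 ∈ (I₁ ⊓ I₂).minimalPrimes) : 𝔮 ∈ I₁.minimalPrimes ∨ 𝔮 ∈ I₂.minimalPrimes := by
  have hprime : 𝔮.IsPrime := h𝔮.1.1
  rcases (Ideal.IsPrime.inf_le hprime).mp h𝔮.1.2 with h1 | h2
  · left
    obtain ⟨𝔮', h𝔮', hle⟩ := Ideal.exists_minimalPrimes_le h1
    have h3 : 𝔮 ≤ 𝔮' := h𝔮.2 ⟨h𝔮'.1.1, inf_le_left.trans h𝔮'.1.2⟩ hle
    rw [le_antisymm h3 hle]
    exact h𝔮'
  · right
    obtain ⟨𝔮', h𝔮', hle⟩ := Ideal.exists_minimalPrimes_le h2
    have h3 : 𝔮 ≤ 𝔮' := h𝔮.2 ⟨h𝔮'.1.1, inf_le_right.trans h𝔮'.1.2⟩ hle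
    rw [le_antisymm h3 hle]
    exact h𝔮'

/-- Primes containing two unmixed ideals of height `c` without common component have height at
least `c + 1`. -/
theorem add_one_le_height_of_disjoint [IsNoetherianRing R] (I₁ I₂ : Ideal R) (c : ℕ)
    (hmin₁ : ∀ 𝔮 ∈ I₁.minimalPrimes, 𝔮.height = c)
    (hmin₂ : ∀ 𝔮 ∈ I₂.minimalPrimes, 𝔮.height = c)
    (hdisj : Disjoint I₁.minimalPrimes I₂.minimalPrimes) (𝔮 : Ideal R) [𝔮.IsPrime]
    (h𝔮 : I₁ ⊔ I₂ ≤ 𝔮) : ((c + 1 : ℕ) : ℕ∞) ≤ 𝔮.height := by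
  obtain ⟨𝔮₁, h𝔮₁, hle₁⟩ := Ideal.exists_minimalPrimes_le (le_sup_left.trans h𝔮)
  obtain ⟨𝔮₂, h𝔮₂, hle₂⟩ := Ideal.exists_minimalPrimes_le (le_sup_right.trans h𝔮)
  have hp₁ : 𝔮₁.IsPrime := h𝔮₁.1.1
  have hp₂ : 𝔮₂.IsPrime := h𝔮₂.1.1
  have hne : 𝔮₁ ≠ 𝔮₂ := fun h => Set.disjoint_left.mp hdisj h𝔮₁ (h ▸ h𝔮₂)
  have hlt : 𝔮₁ < 𝔮 ∨ 𝔮₂ < 𝔮 := by
    by_contra hcon
    push Not at hcon
    have h1 : 𝔮₁ = 𝔮 := by
      by_contra hne1
      exact hcon.1 (lt_of_le_of_ne hle₁ hne1)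
    have h2 : 𝔮₂ = 𝔮 := by
      by_contra hne2
      exact hcon.2 (lt_of_le_of_ne hle₂ hne2)
    exact hne (h1.trans h2.symm)
  rcases hlt with hlt | hlt
  · have h1 := Ideal.height_strict_mono_of_isPrime hlt
    rw [hmin₁ 𝔮₁ h𝔮₁] at h1
    push_cast
    exact Order.add_one_le_of_lt h1
  · have h1 := Ideal.height_strict_mono_of_isPrime hlt
    rw [hmin₂ 𝔮₂ h𝔮₂] at h1
    push_cast
    exact Order.add_one_le_of_lt h1

end Global

section LocalCM

/-- Depth of a Cohen–Macaulay quotient of a Cohen–Macaulay local ring. -/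
theorem depth_quotient_of_isCM (T : Type u) [CommRing T] [hT : LocCoh.IsCohenMacaulayLocalRing T]
    (𝔞 : Ideal T) (h𝔞 : 𝔞 ≤ maximalIdeal T) (hcm : LocCoh.IsCohenMacaulayLocalRing (T ⧸ 𝔞))
    (c N : ℕ) (hht : 𝔞.height = c) (hN : ringKrullDim T = N) :
    ∃ d : ℕ, d + c = N ∧ LocCoh.depth T (T ⧸ 𝔞) = d := by
  have hne : 𝔞 ≠ ⊤ := fun htop =>
    (maximalIdeal.isMaximal T).ne_top (eq_top_iff.2 (htop ▸ h𝔞))
  have hloc : IsLocalRing (T ⧸ 𝔞) := hcm.toIsLocalRing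
  obtain ⟨d, hd⟩ := exists_nat_ringKrullDim (T ⧸ 𝔞)
  have h1 := CodepthOpen.ringKrullDim_eq_quotient_add_height T 𝔞 hne
  rw [hN, hd, hht] at h1
  have h2 : N = d + c := by exact_mod_cast h1
  refine ⟨d, h2.symm, ?_⟩
  have hlh : IsLocalHom (algebraMap T (T ⧸ 𝔞)) :=
    IsLocalHom.of_surjective _ Ideal.Quotient.mk_surjective
  have h3 := hcm.supportDim_eq_depth
  rw [Module.supportDim_self_eq_ringKrullDim, hd,
    ← DepthFinite.depth_eq_of_isLocalHom T (T ⧸ 𝔞) (T ⧸ 𝔞)] at h3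
  have h4 : ((d : ℕ∞) : WithBot ℕ∞) = ((LocCoh.depth T (T ⧸ 𝔞) : ℕ∞) : WithBot ℕ∞) := by
    exact_mod_cast h3
  exact (WithBot.coe_injective h4).symm

/-- Local form with heights: `I ∩ J = 𝔯` in a Cohen–Macaulay local ring, all three of height `c`,
`A/I`, `A/J` Cohen–Macaulay, `A/𝔯` Gorenstein, `ht (I + J) ≥ c + 1`. -/
theorem gorenstein_quotient_sup_of_height (A : Type u) [CommRing A]
    [hA : LocCoh.IsCohenMacaulayLocalRing A] (I J 𝔯 : Ideal A) (h : I ⊓ J = 𝔯)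
    (hIJ : I ⊔ J ≤ maximalIdeal A) (hcmI : LocCoh.IsCohenMacaulayLocalRing (A ⧸ I))
    (hcmJ : LocCoh.IsCohenMacaulayLocalRing (A ⧸ J))
    (hgor : LocCoh.IsGorensteinLocalRing (A ⧸ 𝔯)) (c : ℕ) (hhtI : I.height = c)
    (hhtJ : J.height = c) (hht𝔯 : 𝔯.height = c)
    (hhtC : ((c + 1 : ℕ) : ℕ∞) ≤ (I ⊔ J).height) :
    LocCoh.IsGorensteinLocalRing (A ⧸ (I ⊔ J)) ∧ (I ⊔ J).height = ((c + 1 : ℕ) : ℕ∞) := by
  have h𝔯I : 𝔯 ≤ I := h ▸ inf_le_left
  have hIm : I ≤ maximalIdeal A := le_sup_left.trans hIJ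
  have hJm : J ≤ maximalIdeal A := le_sup_right.trans hIJ
  have h𝔯m : 𝔯 ≤ maximalIdeal A := h𝔯I.trans hIm
  obtain ⟨N, hN⟩ := exists_nat_ringKrullDim A
  have hcm𝔯 : LocCoh.IsCohenMacaulayLocalRing (A ⧸ 𝔯) := Groth.Agent.S0341.result (A ⧸ 𝔯)
  obtain ⟨dI, hdIN, hdI⟩ := depth_quotient_of_isCM A I hIm hcmI c N hhtI hN
  obtain ⟨dJ, hdJN, hdJ⟩ := depth_quotient_of_isCM A J hJm hcmJ c N hhtJ hN
  obtain ⟨d𝔯, hd𝔯N, hd𝔯⟩ := depth_quotient_of_isCM A 𝔯 h𝔯m hcm𝔯 c N hht𝔯 hN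
  have e1 : dJ = dI := by omega
  have e2 : d𝔯 = dI := by omega
  rw [e1] at hdJ
  rw [e2] at hd𝔯
  have hlocC := isLocalRing_quotient_of_le hIJ
  obtain ⟨dC, hdC⟩ := exists_nat_ringKrullDim (A ⧸ (I ⊔ J))
  have hneC : I ⊔ J ≠ ⊤ := fun htop =>
    (maximalIdeal.isMaximal A).ne_top (eq_top_iff.2 (htop ▸ hIJ))
  have h5 := CodepthOpen.ringKrullDim_eq_quotient_add_height A (I ⊔ J) hneC
  rw [hN, hdC] at h5
  have hfin : (I ⊔ J).height ≠ ⊤ := by
    intro htop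
    rw [htop] at h5
    have h6 : ((N : ℕ∞) : WithBot ℕ∞) = (((dC : ℕ∞) + ⊤ : ℕ∞) : WithBot ℕ∞) := by
      exact_mod_cast h5
    have h7 := WithBot.coe_injective h6
    rw [add_top] at h7
    exact ENat.natCast_ne_top N h7
  obtain ⟨hC, hhC⟩ := ENat.ne_top_iff_exists.mp hfin
  rw [← hhC] at h5 hhtC
  have h6 : N = dC + hC := by exact_mod_cast h5
  have h7 : c + 1 ≤ hC := by exact_mod_cast hhtC
  have hdim : ringKrullDim (A ⧸ (I ⊔ J)) + 1 ≤ (dI : WithBot ℕ∞) := by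
    rw [hdC]
    have : dC + 1 ≤ dI := by omega
    exact_mod_cast this
  obtain ⟨hg, hdimeq⟩ := gorenstein_quotient_sup_aux dI I J 𝔯 h hgor hdI hdJ hd𝔯 hIJ hdim
  rw [hdC] at hdimeq
  have h8 : dC + 1 = dI := by exact_mod_cast hdimeq
  refine ⟨hg, ?_⟩
  rw [← hhC]
  have : hC = c + 1 := by omega
  rw [this]

end LocalCM

section Main

variable {R : Type u} [CommRing R] [LocCoh.IsCohenMacaulayRing R]

theorem gorenstein_localization_quotient_sup (I₁ I₂ : Ideal R) (c : ℕ)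
    (hmin₁ : ∀ 𝔮 ∈ I₁.minimalPrimes, 𝔮.height = c)
    (hmin₂ : ∀ 𝔮 ∈ I₂.minimalPrimes, 𝔮.height = c)
    (hdisj : Disjoint I₁.minimalPrimes I₂.minimalPrimes)
    [LocCoh.IsCohenMacaulayRing (R ⧸ I₁)] [LocCoh.IsCohenMacaulayRing (R ⧸ I₂)]
    [LocCoh.IsGorensteinRing (R ⧸ (I₁ ⊓ I₂))] (P : Ideal R) [P.IsPrime] (hP : I₁ ⊔ I₂ ≤ P) :
    LocCoh.IsGorensteinLocalRing
        (Localization.AtPrime P ⧸ (I₁ ⊔ I₂).map (algebraMap R (Localization.AtPrime P))) ∧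
      ((I₁ ⊔ I₂).map (algebraMap R (Localization.AtPrime P))).height = ((c + 1 : ℕ) : ℕ∞) := by
  have hAcm : LocCoh.IsCohenMacaulayLocalRing (Localization.AtPrime P) :=
    LocCoh.IsCohenMacaulayRing.isCohenMacaulayLocalRing_localization P
  have hI₁P : I₁ ≤ P := le_sup_left.trans hP
  have hI₂P : I₂ ≤ P := le_sup_right.trans hP
  have h𝔠P : I₁ ⊓ I₂ ≤ P := inf_le_left.trans hI₁P
  have hmax : P.map (algebraMap R (Localization.AtPrime P)) =
      maximalIdeal (Localization.AtPrime P) := Localization.AtPrime.map_eq_maximalIdeal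
  have hmin𝔠 : ∀ 𝔮 ∈ (I₁ ⊓ I₂).minimalPrimes, 𝔮.height = c := fun 𝔮 h𝔮 =>
    (mem_minimalPrimes_of_mem_minimalPrimes_inf I₁ I₂ 𝔮 h𝔮).elim (hmin₁ 𝔮) (hmin₂ 𝔮)
  have key := gorenstein_quotient_sup_of_height (Localization.AtPrime P)
    (I₁.map (algebraMap R (Localization.AtPrime P)))
    (I₂.map (algebraMap R (Localization.AtPrime P)))
    ((I₁ ⊓ I₂).map (algebraMap R (Localization.AtPrime P)))
    (IsLocalization.map_inf P.primeCompl (Localization.AtPrime P) I₁ I₂).symm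
    (by rw [← Ideal.map_sup, ← hmax]; exact Ideal.map_mono hP)
    (cm_localization_quotient I₁ P hI₁P) (cm_localization_quotient I₂ P hI₂P)
    (gorenstein_localization_quotient (I₁ ⊓ I₂) P h𝔠P) c
    (height_map_eq_of_forall I₁ P hI₁P c hmin₁) (height_map_eq_of_forall I₂ P hI₂P c hmin₂)
    (height_map_eq_of_forall (I₁ ⊓ I₂) P h𝔠P c hmin𝔠)
    (by
      rw [← Ideal.map_sup]
      exact CodepthOpen.le_height_map_of_forall R (I₁ ⊔ I₂) P _ (fun 𝔮 h𝔮 _ => by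
        have : 𝔮.IsPrime := h𝔮.1.1
        exact add_one_le_height_of_disjoint I₁ I₂ c hmin₁ hmin₂ hdisj 𝔮 h𝔮.1.2))
  rw [← Ideal.map_sup] at key
  exact key

end Main

end Groth.Agent.Lib.Helper29.Linkage
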