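import Groth.Agent.Lib.Helper29.MatFac
import Mathlib.RingTheory.Flat.Basic
import Mathlib.LinearAlgebra.TensorProduct.RightExactness

/-!
# Tor-vanishing from a 2-periodic resolution

Given `Rᵃ --γ--> Rᵇ --λ--> Rᵃ --p--> M → 0` exact with `γλ = 0`, an ideal `I` killing `M`, an ideal `J`
killing `X`, and `z ∈ I + J` regular on `X`, the map `ker p ⊗ X → Rᵃ ⊗ X` is injective
(i.e. `Tor₁(M, X) = 0`).
-/

set_option autoImplicit false
universe u

namespace Groth.Agent.Lib.Helper29.MatFac

open TensorProduct

section TorPart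

variable {R : Type u} [CommRing R]

theorem smul_tensor_eq_zero {X : Type u} [AddCommGroup X] [Module R X] {j : R}
    (hj : j ∈ Module.annihilator R X) (F : Type u) [AddCommGroup F] [Module R F]
    (w : F ⊗[R] X) : j • w = 0 := by
  induction w using TensorProduct.induction_on with
  | zero => simp
  | tmul r ξ => rw [← TensorProduct.tmul_smul, Module.mem_annihilator.1 hj ξ, tmul_zero]
  | add w₁ w₂ h₁ h₂ => rw [smul_add, h₁, h₂, add_zero]

theorem isSMulRegular_tensor {X : Type u} [AddCommGroup X] [Module R X] {z : R}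
    (hz : IsSMulRegular X z) (F : Type u) [AddCommGroup F] [Module R F] [Module.Flat R F] :
    IsSMulRegular (F ⊗[R] X) z := by
  have hinj : Function.Injective (z • (LinearMap.id : X →ₗ[R] X)) := by
    intro x y hxy
    exact hz (by simpa using hxy)
  have := Module.Flat.lTensor_preserves_injective_linearMap (M := F)
    (z • (LinearMap.id : X →ₗ[R] X)) hinj
  intro u v huv
  apply this
  rw [LinearMap.lTensor_smul, LinearMap.lTensor_id]
  simpa using huv

theorem injective_rTensor_ker (M X : Type u) [AddCommGroup M] [Module R M] [AddCommGroup X]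
    [Module R X] {a b : ℕ} (lam : (Fin b → R) →ₗ[R] (Fin a → R))
    (gam : (Fin a → R) →ₗ[R] (Fin b → R))
    (p : (Fin a → R) →ₗ[R] M)
    (hplam : LinearMap.ker p = LinearMap.range lam)
    (hlg : LinearMap.ker lam = LinearMap.range gam)
    (hgl : gam ∘ₗ lam = 0)
    (i j : R) (hi : i ∈ Module.annihilator R M) (hj : j ∈ Module.annihilator R X)
    (hz : IsSMulRegular X (i + j)) :
    Function.Injective ((LinearMap.ker p).subtype.rTensor X) := by
  -- `θ` with `λ θ = i`
  obtain ⟨θ, hθ⟩ : ∃ θ : (Fin a → R) →ₗ[R] (Fin b → R), lam ∘ₗ θ = i • LinearMap.id := by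
    have hmem : ∀ v : Fin a → R, (i • LinearMap.id : (Fin a → R) →ₗ[R] (Fin a → R)) v ∈
        LinearMap.range lam := by
      intro v
      rw [← hplam, LinearMap.mem_ker]
      change p (i • v) = 0
      rw [map_smul, Module.mem_annihilator.1 hi]
    obtain ⟨θ, hθ⟩ := Module.projective_lifting_property lam.rangeRestrict
      (LinearMap.codRestrict (LinearMap.range lam) (i • LinearMap.id) hmem)
      lam.surjective_rangeRestrict
    refine ⟨θ, LinearMap.ext fun v => ?_⟩
    have := congrArg Subtype.val (LinearMap.congr_fun hθ v)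
    exact this
  -- `ξ` with `γ ξ = θ λ - i`
  obtain ⟨ξ, hξ⟩ : ∃ ξ : (Fin b → R) →ₗ[R] (Fin a → R),
      gam ∘ₗ ξ = θ ∘ₗ lam - i • LinearMap.id := by
    have hmem : ∀ v : Fin b → R, (θ ∘ₗ lam - i • LinearMap.id : (Fin b → R) →ₗ[R] (Fin b → R)) v ∈
        LinearMap.range gam := by
      intro v
      rw [← hlg, LinearMap.mem_ker]
      have h1 := LinearMap.congr_fun hθ (lam v)
      simp only [LinearMap.comp_apply, LinearMap.smul_apply, LinearMap.id_apply] at h1
      simp only [LinearMap.sub_apply, LinearMap.comp_apply, LinearMap.smul_apply,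
        LinearMap.id_apply, map_sub, map_smul, h1, sub_self]
    obtain ⟨ξ, hξ⟩ := Module.projective_lifting_property gam.rangeRestrict
      (LinearMap.codRestrict (LinearMap.range gam) (θ ∘ₗ lam - i • LinearMap.id) hmem)
      gam.surjective_rangeRestrict
    refine ⟨ξ, LinearMap.ext fun v => ?_⟩
    have := congrArg Subtype.val (LinearMap.congr_fun hξ v)
    exact this
  have hregb : IsSMulRegular ((Fin b → R) ⊗[R] X) (i + j) := isSMulRegular_tensor hz _
  -- Claim 1: `γ ⊗ X = 0`
  have hc1 : ∀ w : (Fin a → R) ⊗[R] X, gam.rTensor X w = 0 := by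
    intro w
    apply hregb
    change (i + j) • (gam.rTensor X) w = (i + j) • (0 : (Fin b → R) ⊗[R] X)
    rw [smul_zero, add_smul, smul_tensor_eq_zero hj, add_zero, ← map_smul]
    have h1 : i • w = (lam.rTensor X) ((θ.rTensor X) w) := by
      rw [← LinearMap.comp_apply, ← LinearMap.rTensor_comp, hθ, LinearMap.rTensor_smul,
        LinearMap.rTensor_id]
      rfl
    rw [h1, ← LinearMap.comp_apply, ← LinearMap.rTensor_comp, hgl, LinearMap.rTensor_zero]
    rfl
  -- Claim 2: `λ ⊗ X` injective
  have hc2 : ∀ u : (Fin b → R) ⊗[R] X, lam.rTensor X u = 0 → u = 0 := by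
    intro u hu
    apply hregb
    change (i + j) • u = (i + j) • (0 : (Fin b → R) ⊗[R] X)
    rw [smul_zero, add_smul, smul_tensor_eq_zero hj, add_zero]
    have h1 : (gam.rTensor X) ((ξ.rTensor X) u) = (θ.rTensor X) ((lam.rTensor X) u) - i • u := by
      rw [← LinearMap.comp_apply, ← LinearMap.rTensor_comp, hξ, LinearMap.rTensor_sub,
        LinearMap.rTensor_comp, LinearMap.rTensor_smul, LinearMap.rTensor_id]
      rfl
    rw [hc1, hu, map_zero, zero_sub] at h1
    exact neg_eq_zero.1 h1.symm
  -- Claim 3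
  let q : (Fin b → R) →ₗ[R] LinearMap.ker p :=
    LinearMap.codRestrict _ lam (fun v => by rw [hplam]; exact LinearMap.mem_range_self _ v)
  have hqsurj : Function.Surjective q := by
    rintro ⟨w, hw⟩
    rw [hplam] at hw
    obtain ⟨v, rfl⟩ := hw
    exact ⟨v, Subtype.ext rfl⟩
  have hfac : (LinearMap.ker p).subtype ∘ₗ q = lam := rfl
  rw [injective_iff_map_eq_zero]
  intro t ht
  obtain ⟨u, rfl⟩ := LinearMap.rTensor_surjective X hqsurj t
  rw [← LinearMap.comp_apply, ← LinearMap.rTensor_comp, hfac] at ht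
  rw [hc2 u ht, map_zero]

end TorPart

end Groth.Agent.Lib.Helper29.MatFac
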