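import Groth.Agent.Lib.Helper29.ExtRegSeq
import Groth.Agent.Lib.Helper33.ChangeOfRings

/-!
# Rees lemma: `Ext^n_{A/x}(X, M/xM) ≅ Ext^{n+1}_A(X, M)` for `x` regular on `A` and `M`
-/

set_option autoImplicit false
universe u

namespace Groth.Agent.Lib.Helper29.Rees

open CategoryTheory Abelian Pointwise Limits

variable {A : Type u} [CommRing A] (x : A)

/-- Restriction of scalars along `A → A/(x)`. -/
noncomputable abbrev res : ModuleCat.{u} (A ⧸ Ideal.span {x}) ⥤ ModuleCat.{u} A :=
  ModuleCat.restrictScalars (Ideal.Quotient.mk (Ideal.span {x}))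

noncomputable instance : PreservesFiniteLimits (res x) := inferInstance
noncomputable instance : PreservesFiniteColimits (res x) := inferInstance

theorem res_smul (X : ModuleCat.{u} (A ⧸ Ideal.span {x})) (a : A) (z : (res x).obj X) :
    a • z = (Ideal.Quotient.mk (Ideal.span {x}) a) • (show X from z) := rfl

theorem mem_annihilator_res (X : ModuleCat.{u} (A ⧸ Ideal.span {x})) :
    x ∈ Module.annihilator A ((res x).obj X) := by
  rw [Module.mem_annihilator]
  intro z
  rw [res_smul, Ideal.Quotient.eq_zero_iff_mem.2 (Ideal.mem_span_singleton_self x), zero_smul]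
  rfl

/-- The restriction functor is full. -/
theorem res_map_surjective (X Y : ModuleCat.{u} (A ⧸ Ideal.span {x}))
    (g : (res x).obj X ⟶ (res x).obj Y) : ∃ f : X ⟶ Y, (res x).map f = g := by
  refine ⟨ModuleCat.ofHom
    { toFun := fun z => g.hom z
      map_add' := fun a b => g.hom.map_add a b
      map_smul' := ?_ }, ?_⟩
  · intro s z
    obtain ⟨a, rfl⟩ := Ideal.Quotient.mk_surjective s
    exact g.hom.map_smul a z
  · ext z
    rfl

variable (M : Type u) [AddCommGroup M] [Module A M]

/-- `M/xM` as a module over `A/(x)`. -/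
noncomputable abbrev Mbar : ModuleCat.{u} (A ⧸ Ideal.span {x}) :=
  ModuleCat.of (A ⧸ Ideal.span {x}) (QuotSMulTop x M)

/-- The quotient map `M → M/xM`, with target the restricted module. -/
noncomputable def quotHom : ModuleCat.of A M ⟶ (res x).obj (Mbar x M) :=
  ModuleCat.ofHom (X := ModuleCat.of A M) (Y := (res x).obj (Mbar x M))
    { toFun := fun m => (Submodule.Quotient.mk m : QuotSMulTop x M)
      map_add' := fun _ _ => rfl
      map_smul' := fun _ _ => rfl }

/-- The short complex `0 → M → M → M/xM → 0` over `A`, with third term the restricted module. -/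
noncomputable abbrev sc : ShortComplex (ModuleCat.{u} A) where
  X₁ := ModuleCat.of A M
  X₂ := ModuleCat.of A M
  X₃ := (res x).obj (Mbar x M)
  f := ((ModuleCat.of A M).smulShortComplex x).f
  g := quotHom x M
  zero := by
    ext m
    change (Submodule.Quotient.mk (x • m) : QuotSMulTop x M) = 0
    exact (Submodule.Quotient.mk_eq_zero _).2
      (Submodule.smul_mem_pointwise_smul _ _ _ Submodule.mem_top)

variable {M} in
theorem sc_shortExact (hreg : IsSMulRegular M x) : (sc x M).ShortExact where
  exact := by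
    rw [ShortComplex.ShortExact.moduleCat_exact_iff_function_exact]
    intro (m : M)
    constructor
    · intro hm
      have hm' : (Submodule.Quotient.mk m : QuotSMulTop x M) = 0 := hm
      rw [Submodule.Quotient.mk_eq_zero] at hm'
      obtain ⟨m', -, rfl⟩ := hm'
      exact ⟨m', rfl⟩
    · rintro ⟨m', rfl⟩
      change (Submodule.Quotient.mk (x • m') : QuotSMulTop x M) = 0
      exact (Submodule.Quotient.mk_eq_zero _).2
        (Submodule.smul_mem_pointwise_smul _ _ _ Submodule.mem_top)
  mono_f := (ModuleCat.mono_iff_injective _).2 hreg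
  epi_g := (ModuleCat.epi_iff_surjective _).2 (Submodule.Quotient.mk_surjective _)

variable {M}

/-- The Rees map `Ext^n_{A/x}(X, M/xM) → Ext^{n+1}_A(X, M)`. -/
noncomputable def Φ (hreg : IsSMulRegular M x) (X : ModuleCat.{u} (A ⧸ Ideal.span {x})) (n : ℕ) :
    Ext X (Mbar x M) n →+ Ext ((res x).obj X) (ModuleCat.of A M) (n + 1) :=
  ((sc_shortExact x hreg).extClass.postcomp ((res x).obj X) (rfl : n + 1 = n + 1)).comp
    ((res x).mapExtAddHom X (Mbar x M) n)

theorem Φ_apply (hreg : IsSMulRegular M x) (X : ModuleCat.{u} (A ⧸ Ideal.span {x})) (n : ℕ)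
    (e : Ext X (Mbar x M) n) :
    Φ x hreg X n e = (e.mapExactFunctor (res x)).comp (sc_shortExact x hreg).extClass rfl := rfl

/-- Composition with the class of `0 → M → M → M/xM → 0` is bijective from `Hom(Z, M/xM)` to
`Ext^1(Z, M)` when `x` kills `Z`. -/
theorem postcomp_extClass_bijective (hreg : IsSMulRegular M x) (Z : ModuleCat.{u} A)
    (hZ : x ∈ Module.annihilator A Z) :
    Function.Bijective ((sc_shortExact x hreg).extClass.postcomp Z (rfl : 0 + 1 = 0 + 1)) := by
  constructor
  · rw [injective_iff_map_eq_zero]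
    intro e he
    obtain ⟨e₂, rfl⟩ := Ext.covariant_sequence_exact₃ Z (sc_shortExact x hreg) e rfl he
    obtain ⟨φ, rfl⟩ := (Ext.mk₀_bijective Z (ModuleCat.of A M)).2 e₂
    have hφ : φ = 0 := by
      ext z
      have h1 : x • (φ.hom z) = 0 := by
        rw [← map_smul, Module.mem_annihilator.1 hZ z, map_zero]
      apply hreg
      change x • (φ.hom z) = x • ((0 : Z ⟶ ModuleCat.of A M).hom z)
      rw [h1]
      simp
    rw [hφ, Ext.mk₀_zero, Ext.zero_comp]
  · intro y
    obtain ⟨e, he⟩ := Ext.covariant_sequence_exact₁ Z (sc_shortExact x hreg) y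
      (ExtRegSeq.comp_smul_eq_zero Z hZ _ y) (n₀ := 0) rfl
    exact ⟨e, he⟩

/-- The Rees map is bijective in degree `0`. -/
theorem Φ_zero_bijective (hreg : IsSMulRegular M x) (X : ModuleCat.{u} (A ⧸ Ideal.span {x})) :
    Function.Bijective (Φ x hreg X 0) := by
  have h1 : Function.Bijective ((res x).mapExtAddHom X (Mbar x M) 0) := by
    rw [Functor.mapExtAddHom_coe, Ext.mapExactFunctor₀]
    refine Ext.homEquiv₀.symm.bijective.comp (Function.Bijective.comp ?_ Ext.homEquiv₀.bijective)
    constructor
    · exact (res x).map_injective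
    · intro g
      exact res_map_surjective x X (Mbar x M) g
  exact (postcomp_extClass_bijective x hreg _ (mem_annihilator_res x X)).comp h1


/-- `(res x).obj (of Q) ≅ of Q` for a module `Q` over both rings compatibly. -/
noncomputable def resIso (Q : Type u) [AddCommGroup Q] [Module A Q] [Module (A ⧸ Ideal.span {x}) Q]
    [IsScalarTower A (A ⧸ Ideal.span {x}) Q] :
    (res x).obj (ModuleCat.of (A ⧸ Ideal.span {x}) Q) ≅ ModuleCat.of A Q where
  hom := ModuleCat.ofHom (X := (res x).obj (ModuleCat.of (A ⧸ Ideal.span {x}) Q))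
    (Y := ModuleCat.of A Q)
    { toFun := fun q => q
      map_add' := fun _ _ => rfl
      map_smul' := fun a q => algebraMap_smul (A ⧸ Ideal.span {x}) a (show Q from q) }
  inv := ModuleCat.ofHom (X := ModuleCat.of A Q)
    (Y := (res x).obj (ModuleCat.of (A ⧸ Ideal.span {x}) Q))
    { toFun := fun q => q
      map_add' := fun _ _ => rfl
      map_smul' := fun a q => (algebraMap_smul (A ⧸ Ideal.span {x}) a (show Q from q)).symm }
  hom_inv_id := by ext q; rfl
  inv_hom_id := by ext q; rfl

theorem isSMulRegular_finsupp (hA : IsSMulRegular A x) (ι : Type u) : IsSMulRegular (ι →₀ A) x := by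
  intro f g hfg
  ext i
  have := DFunLike.congr_fun hfg i
  simp only [Finsupp.smul_apply] at this
  exact hA this

/-- A presentation over `A/(x)` by a projective module of projective dimension `≤ 1` over `A`. -/
theorem exists_presentation (hA : IsSMulRegular A x) (X : ModuleCat.{u} (A ⧸ Ideal.span {x})) :
    ∃ (P : ModuleCat.{u} (A ⧸ Ideal.span {x})) (π : P ⟶ X), Epi π ∧ Projective P ∧
      HasProjectiveDimensionLT ((res x).obj P) 2 := by
  let lin : (X →₀ A) →ₗ[A] (res x).obj X :=
    Finsupp.linearCombination A (fun z : X => (z : (res x).obj X))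
  have hker : x • (⊤ : Submodule A (X →₀ A)) ≤ LinearMap.ker lin := by
    rintro _ ⟨f, -, rfl⟩
    rw [LinearMap.mem_ker]
    change lin (x • f) = 0
    rw [map_smul]
    exact Module.mem_annihilator.1 (mem_annihilator_res x X) _
  let lin' : QuotSMulTop x (X →₀ A) →ₗ[A] (res x).obj X := Submodule.liftQ _ lin hker
  have hsurj : Function.Surjective lin' := by
    intro z
    refine ⟨Submodule.Quotient.mk (Finsupp.single (show X from z) 1), ?_⟩
    have h := Finsupp.linearCombination_single A (M := (res x).obj X)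
      (v := fun z : X => (z : (res x).obj X)) (1 : A) (show X from z)
    exact h.trans (one_smul A (z : (res x).obj X))
  let π : ModuleCat.of (A ⧸ Ideal.span {x}) (QuotSMulTop x (X →₀ A)) ⟶ X :=
    ModuleCat.ofHom
      { toFun := fun q => lin' q
        map_add' := fun a b => lin'.map_add a b
        map_smul' := by
          intro s q
          obtain ⟨a, rfl⟩ := Ideal.Quotient.mk_surjective s
          have h1 : (Ideal.Quotient.mk (Ideal.span {x}) a) • q = a • q :=
            algebraMap_smul (A ⧸ Ideal.span {x}) a q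
          rw [h1]
          exact lin'.map_smul a q }
  refine ⟨_, π, (ModuleCat.epi_iff_surjective _).2 hsurj, ?_, ?_⟩
  · have := Groth.Agent.Lib.Helper33.projective_quotSMulTop A x (X →₀ A)
    exact (IsProjective.iff_projective (R := A ⧸ Ideal.span {x})
      (P := QuotSMulTop x (X →₀ A))).mp this
  · have hS : (ModuleCat.smulShortComplex (ModuleCat.of A (X →₀ A)) x).ShortExact :=
      IsSMulRegular.smulShortComplex_shortExact (M := ModuleCat.of A (X →₀ A))
        (isSMulRegular_finsupp x hA X)
    have hproj : Projective (ModuleCat.of A (X →₀ A)) :=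
      (IsProjective.iff_projective (R := A) (P := (X →₀ A))).mp inferInstance
    have h1 : HasProjectiveDimensionLT (ModuleCat.of A (X →₀ A)) 1 := inferInstance
    have h2 : HasProjectiveDimensionLT (ModuleCat.of A (X →₀ A)) 2 :=
      hasProjectiveDimensionLT_of_ge _ 1 2 (by omega)
    have h3 : HasProjectiveDimensionLT (ModuleCat.of A (QuotSMulTop x (X →₀ A))) 2 :=
      hS.hasProjectiveDimensionLT_X₃ 1 h1 h2
    exact hasProjectiveDimensionLT_of_iso (resIso x (QuotSMulTop x (X →₀ A))).symm 2


/-- **Rees' lemma**: for `x` regular on `A` and on `M`, the map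
`Ext^n_{A/x}(X, M/xM) → Ext^{n+1}_A(X, M)` is bijective for every `A/x`-module `X`. -/
theorem Φ_bijective (hA : IsSMulRegular A x) (hreg : IsSMulRegular M x) (n : ℕ) :
    ∀ X : ModuleCat.{u} (A ⧸ Ideal.span {x}), Function.Bijective (Φ x hreg X n) := by
  induction n with
  | zero => exact Φ_zero_bijective x hreg
  | succ n ih =>
    intro X
    obtain ⟨P, π, hπ, hproj, hpd⟩ := exists_presentation x hA X
    let S := ShortComplex.mk _ _ (kernel.condition π)
    have hS : S.ShortExact := { exact := ShortComplex.exact_kernel π }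
    have hS' : (S.map (res x)).ShortExact := hS.map_of_exact (res x)
    have hprojS : Projective S.X₂ := hproj
    have hpdS : HasProjectiveDimensionLT (S.map (res x)).X₂ 2 := hpd
    have nat1 : ∀ e : Ext S.X₂ (Mbar x M) n,
        Φ x hreg S.X₁ n ((Ext.mk₀ S.f).comp e (zero_add n)) =
          (Ext.mk₀ (S.map (res x)).f).comp (Φ x hreg S.X₂ n e) (zero_add (n + 1)) := by
      intro e
      rw [Φ_apply, Φ_apply, Ext.mapExactFunctor_comp, Ext.mapExactFunctor_mk₀]
      exact Ext.comp_assoc _ _ _ (zero_add n) rfl (by omega)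
    have nat2 : ∀ e : Ext S.X₁ (Mbar x M) n,
        Φ x hreg S.X₃ (n + 1) (hS.extClass.comp e (add_comm 1 n)) =
          hS'.extClass.comp (Φ x hreg S.X₁ n e) (add_comm 1 (n + 1)) := by
      intro e
      rw [Φ_apply, Φ_apply, Ext.mapExactFunctor_comp, Ext.mapExactFunctor_extClass]
      exact Ext.comp_assoc _ _ _ (add_comm 1 n) rfl (by omega)
    constructor
    · rw [injective_iff_map_eq_zero]
      intro z hz
      obtain ⟨w, rfl⟩ := Ext.contravariant_sequence_exact₃ hS (Mbar x M) z
        (Ext.eq_zero_of_projective _) (add_comm 1 n)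
      rw [nat2] at hz
      obtain ⟨v, hv⟩ := Ext.contravariant_sequence_exact₁ hS' (ModuleCat.of A M)
        (Φ x hreg S.X₁ n w) (add_comm 1 (n + 1)) hz
      obtain ⟨v', rfl⟩ := (ih S.X₂).2 v
      rw [← nat1] at hv
      have hw := (ih S.X₁).1 hv
      rw [← hw]
      exact hS.extClass_comp_assoc v'
    · intro y
      obtain ⟨y₁, rfl⟩ := Ext.contravariant_sequence_exact₃ hS' (ModuleCat.of A M) y
        (Ext.eq_zero_of_hasProjectiveDimensionLT _ 2 (by omega)) (add_comm 1 (n + 1))
      obtain ⟨w, rfl⟩ := (ih S.X₁).2 y₁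
      exact ⟨hS.extClass.comp w (add_comm 1 n), nat2 w⟩


end Groth.Agent.Lib.Helper29.Rees
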