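import Groth.Agent.Lib.Helper29.RegIdeal2
import Groth.Agent.Lib.Helper29.DepthFinite
import Groth.Agent.Lib.Helper29.AssDepth

/-!
# Minimal generators of an ideal whose initial segment is a regular sequence
-/

set_option autoImplicit false
universe u

namespace Groth.Agent.Lib.Helper29.RegPrefix

open IsLocalRing RingTheory.Sequence

/-- If `grade J ≥ 1`, there is a regular element of `J` outside `𝔪 J`. -/
theorem exists_regular_not_mem_smul {T : Type u} [CommRing T] [IsLocalRing T] [IsNoetherianRing T]
    (J : Ideal T) (hJ : J ≠ ⊤) (h : 1 ≤ LocCoh.idealDepth J T) :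
    ∃ t ∈ J, IsSMulRegular T t ∧ t ∉ maximalIdeal T • J := by
  classical
  have hJT : J • (⊤ : Submodule T T) ≠ ⊤ := by
    rw [smul_eq_mul, Ideal.mul_top]; exact hJ
  by_contra hcon
  have hcon' : ∀ t ∈ J, t ∉ maximalIdeal T • J → ¬ IsSMulRegular T t := by
    intro t ht hnot hreg
    exact hcon ⟨t, ht, hreg, hnot⟩
  have hsub : ((J : Ideal T) : Set T) ⊆
      ⋃ p ∈ insert (maximalIdeal T • J) (associatedPrimes T T), (p : Set T) := by
    intro x hx
    by_cases hxm : x ∈ maximalIdeal T • J
    · exact Set.mem_biUnion (Set.mem_insert _ _) hxm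
    · have := (not_isSMulRegular_iff_mem_biUnion_ass T T x).mp (hcon' x hx hxm)
      obtain ⟨p, hp, hxp⟩ := Set.mem_iUnion₂.1 this
      exact Set.mem_biUnion (Set.mem_insert_of_mem _ hp) hxp
  have hfin : (associatedPrimes T T).Finite := associatedPrimes.finite T T
  have hsub' : ((J : Ideal T) : Set T) ⊆
      ⋃ p ∈ (((insert (maximalIdeal T • J) hfin.toFinset : Finset (Ideal T))) : Set (Ideal T)),
        ((id p : Ideal T) : Set T) := by
    simpa using hsub
  rw [Ideal.subset_union_prime (f := id) (maximalIdeal T • J) (maximalIdeal T • J)] at hsub'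
  · obtain ⟨p, hp, hle⟩ := hsub'
    have hzero : LocCoh.idealDepth J T = 0 := by
      rw [DepthFinite.idealDepth_eq_zero_iff_forall_not_isSMulRegular J T hJT]
      rw [Finset.mem_insert] at hp
      rcases hp with rfl | hp
      · -- Nakayama : J = ⊥
        have hbot : J = ⊥ := Submodule.eq_bot_of_le_smul_of_le_jacobson_bot _ _
          J.fg_of_isNoetherianRing hle (maximalIdeal_le_jacobson _)
        intro x hx hreg
        rw [hbot, Ideal.mem_bot] at hx
        subst hx
        have := hreg (show (0 : T) • (1 : T) = (0 : T) • (0 : T) by simp)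
        exact one_ne_zero this
      · have hp' : p ∈ associatedPrimes T T := by simpa using hp
        intro x hx
        rw [not_isSMulRegular_iff_mem_biUnion_ass]
        exact Set.mem_biUnion hp' (hle hx)
    rw [hzero] at h
    simp at h
  · intro p hp h1 _
    rw [Finset.mem_insert] at hp
    rcases hp with rfl | hp
    · exact absurd rfl h1
    · have hp' : p ∈ associatedPrimes T T := by simpa using hp
      exact hp'.isPrime

open Pointwise in
/-- Regular sequences on `T/tT` as a `T/(t)`-module and on the ring `T/(t)` agree. -/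
theorem isRegular_quotSMulTop_iff {T : Type u} [CommRing T] (t : T)
    (rs : List (T ⧸ Ideal.span {t})) :
    IsRegular (QuotSMulTop t T) rs ↔ IsRegular (T ⧸ Ideal.span {t}) rs := by
  have hI : (t • (⊤ : Submodule T T)) = Ideal.span {t} := by
    rw [← Submodule.ideal_span_singleton_smul]; simp
  let e : QuotSMulTop t T ≃ₗ[T] (T ⧸ Ideal.span {t}) := Submodule.quotEquivOfEq _ _ hI
  refine e.toAddEquiv.isRegular_congr ?_
  rw [List.forall₂_same]
  intro s _ x
  obtain ⟨a, rfl⟩ := Ideal.Quotient.mk_surjective s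
  have h1 : (Ideal.Quotient.mk (Ideal.span {t}) a) • x = a • x := by
    rw [← Ideal.Quotient.algebraMap_eq, algebraMap_smul]
  have h2 : (Ideal.Quotient.mk (Ideal.span {t}) a) • (e x) = a • (e x) := by
    rw [← Ideal.Quotient.algebraMap_eq, algebraMap_smul]
  change e (_ • x) = _ • e x
  rw [h1, h2, map_smul]

open Pointwise in
/-- The grade drops by one modulo a regular element of `J` (ring version). -/
theorem idealDepth_map_quotient_add_one {T : Type u} [CommRing T] [IsNoetherianRing T]
    (J : Ideal T) (hJ : J ≠ ⊤) {t : T} (ht : t ∈ J) (hreg : IsSMulRegular T t) :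
    LocCoh.idealDepth (J.map (Ideal.Quotient.mk (Ideal.span {t}))) (T ⧸ Ideal.span {t}) + 1 =
      LocCoh.idealDepth J T := by
  have hJT : J • (⊤ : Submodule T T) ≠ ⊤ := by
    rw [smul_eq_mul, Ideal.mul_top]; exact hJ
  have h1 := DepthLib.idealDepth_quotSMulTop_add_one J T hJT ht hreg
  have hI : (t • (⊤ : Submodule T T)) = Ideal.span {t} := by
    rw [← Submodule.ideal_span_singleton_smul]; simp
  let e : QuotSMulTop t T ≃ₗ[T] (T ⧸ Ideal.span {t}) := Submodule.quotEquivOfEq _ _ hI
  have h2 := CMLib.idealDepth_congr J e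
  have h3 := DepthFinite.idealDepth_map_eq (A := T) (B := T ⧸ Ideal.span {t}) J
    (T ⧸ Ideal.span {t})
  rw [← h1, h2, h3]
  rfl

/-- Main theorem (no Cohen–Macaulay hypothesis needed): if `j ≤ grade J`, then `j ≤ μ(J)` and `J`
has a minimal system of generators whose first `j` members form a regular sequence. -/
theorem exists_generators_regular_prefix (j : ℕ) : ∀ (T : Type u) [CommRing T] [IsLocalRing T]
    [IsNoetherianRing T] (J : Ideal T), J ≠ ⊤ → (j : ℕ∞) ≤ LocCoh.idealDepth J T →
    j ≤ J.spanFinrank ∧ ∃ ts : List T, ts.length = J.spanFinrank ∧ Ideal.ofList ts = J ∧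
      IsRegular T (ts.take j) := by
  classical
  induction j with
  | zero =>
    intro T _ _ _ J hJ _
    refine ⟨Nat.zero_le _, ?_⟩
    obtain ⟨s, hcard, hspan⟩ :=
      Submodule.FG.exists_span_finset_card_eq_spanFinrank (J.fg_of_isNoetherianRing)
    refine ⟨s.toList, by rw [Finset.length_toList, hcard], ?_, ?_⟩
    · rw [RegIdeal.ofList_toList]; exact hspan
    · rw [List.take_zero]
      refine ⟨IsWeaklyRegular.nil T T, ?_⟩
      rw [Ideal.ofList_nil, Submodule.bot_smul]
      exact top_ne_bot
  | succ j ih =>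
    intro T _ _ _ J hJ hj
    have h1 : 1 ≤ LocCoh.idealDepth J T := by
      refine le_trans ?_ hj
      exact_mod_cast Nat.succ_le_succ (Nat.zero_le j)
    obtain ⟨t, htJ, hreg, htm⟩ := exists_regular_not_mem_smul J hJ h1
    set π := Ideal.Quotient.mk (Ideal.span ({t} : Set T)) with hπ
    have hker : Ideal.span ({t} : Set T) ≤ J := (Ideal.span_singleton_le_iff_mem _).2 htJ
    have hJ' : J.map π ≠ ⊤ := by
      intro h
      have h1 : (1 : T ⧸ Ideal.span ({t} : Set T)) ∈ J.map π := by rw [h]; trivial
      obtain ⟨z, hz, hz1⟩ := (Ideal.mem_map_iff_of_surjective π Ideal.Quotient.mk_surjective).1 h1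
      have h2 : z - 1 ∈ Ideal.span ({t} : Set T) := by
        rw [← Ideal.Quotient.eq_zero_iff_mem, map_sub, map_one, ← hπ, hz1, sub_self]
      have h3 : (1 : T) ∈ J := by
        have : (1 : T) = z - (z - 1) := by ring
        rw [this]
        exact J.sub_mem hz (hker h2)
      exact hJ ((Ideal.eq_top_iff_one J).2 h3)
    have hne : Ideal.span ({t} : Set T) ≠ ⊤ := fun h => hJ (top_le_iff.1 (h ▸ hker))
    have : Nontrivial (T ⧸ Ideal.span ({t} : Set T)) := Ideal.Quotient.nontrivial_iff.2 hne
    have : IsLocalRing (T ⧸ Ideal.span ({t} : Set T)) :=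
      IsLocalRing.of_surjective' π Ideal.Quotient.mk_surjective
    have hd := idealDepth_map_quotient_add_one J hJ htJ hreg
    have hj' : (j : ℕ∞) ≤ LocCoh.idealDepth (J.map π) (T ⧸ Ideal.span ({t} : Set T)) := by
      rw [← hd] at hj
      have : ((j : ℕ∞) + 1) ≤
          LocCoh.idealDepth (J.map π) (T ⧸ Ideal.span ({t} : Set T)) + 1 := by
        exact_mod_cast hj
      exact (ENat.add_le_add_iff_right ENat.one_ne_top).1 this
    obtain ⟨hle, ts', hlen', hofl', hreg'⟩ :=
      ih (T ⧸ Ideal.span ({t} : Set T)) (J.map π) hJ' hj'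
    have hμ1 := RegIdeal.spanFinrank_map_quot_span_singleton_add_one_le J t htJ htm
    have hμ2 := Groth.Agent.Lib.Helper83.RegQuot.spanFinrank_le_of_map_quot_span_singleton J t htJ
    rw [← hπ] at hμ1 hμ2
    refine ⟨by omega, ?_⟩
    -- lift the list
    have hlift : ∀ y : T ⧸ Ideal.span ({t} : Set T), ∃ z : T, y ∈ J.map π → (z ∈ J ∧ π z = y) := by
      intro y
      by_cases hy : y ∈ J.map π
      · obtain ⟨z, hz, hzy⟩ :=
          (Ideal.mem_map_iff_of_surjective π Ideal.Quotient.mk_surjective).1 hy
        exact ⟨z, fun _ => ⟨hz, hzy⟩⟩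
      · exact ⟨0, fun h => absurd h hy⟩
    choose g hg using hlift
    have hmem' : ∀ y ∈ ts', y ∈ J.map π := by
      intro y hy
      rw [← hofl']
      exact Submodule.subset_span hy
    set ls : List T := ts'.map g with hls
    have hlsmap : ls.map π = ts' := by
      rw [hls, List.map_map]
      conv_rhs => rw [← List.map_id ts']
      refine List.map_congr_left fun y hy => ?_
      exact (hg y (hmem' y hy)).2
    have hlsJ : ∀ l ∈ ls, l ∈ J := by
      intro l hl
      rw [hls, List.mem_map] at hl
      obtain ⟨y, hy, rfl⟩ := hl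
      exact (hg y (hmem' y hy)).1
    refine ⟨t :: ls, ?_, ?_, ?_⟩
    · rw [List.length_cons, hls, List.length_map, hlen']; omega
    · rw [Ideal.ofList_cons]
      apply le_antisymm
      · exact sup_le hker (CMLib.ofList_le_of_forall_mem T hlsJ)
      · intro y hy
        have h2 : π y ∈ (Ideal.ofList ls).map π := by
          rw [Ideal.map_ofList, hlsmap, hofl']
          exact Ideal.mem_map_of_mem _ hy
        obtain ⟨z, hz, hzy⟩ :=
          (Ideal.mem_map_iff_of_surjective π Ideal.Quotient.mk_surjective).1 h2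
        have h3 : y - z ∈ Ideal.span ({t} : Set T) := by
          rw [← Ideal.Quotient.eq_zero_iff_mem, map_sub, ← hπ, hzy, sub_self]
        have : y = (y - z) + z := by ring
        rw [this]
        exact Submodule.add_mem_sup h3 hz
    · rw [List.take_succ_cons, isRegular_cons_iff']
      refine ⟨hreg, ?_⟩
      rw [isRegular_quotSMulTop_iff, ← hπ, List.map_take, hlsmap]
      exact hreg'

end Groth.Agent.Lib.Helper29.RegPrefix
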