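import Mathlib
import Groth.Agent.Lib.Helper29.FlatRegular
import Groth.Agent.Lib.Helper83.RegQuot

/-!
# A retraction ideal of a flat local algebra with regular closed fibre is generated by a regular
sequence (helper29)

`R → T` flat local homomorphism of local rings, `T` Noetherian, `I` an ideal of `T` with
`R → T/I` bijective, closed fibre `T/𝔪_R T` regular local of dimension `≤ n`.  Then `I` is generated
by a `T`-regular sequence of length `≤ n`, and `T/I` has projective dimension `≤ n` over `T`.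
-/

set_option autoImplicit false
universe u

namespace Groth.Agent.Lib.Helper29.SecReg

open CategoryTheory RingTheory.Sequence IsLocalRing Pointwise

section PD

variable {T : Type u} [CommRing T]

/-- quotient by a weakly regular sequence raises the projective dimension by at most the length -/
theorem hasProjectiveDimensionLT_quot : ∀ (xs : List T) (M : Type u) [AddCommGroup M] [Module T M]
    (m : ℕ), HasProjectiveDimensionLT (ModuleCat.of T M) m → IsWeaklyRegular M xs →
    HasProjectiveDimensionLT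
      (ModuleCat.of T (M ⧸ (Ideal.ofList xs • (⊤ : Submodule T M)))) (m + xs.length) := by
  intro xs
  induction xs with
  | nil =>
    intro M _ _ m hM _
    have e1 : (M ⧸ (Ideal.ofList ([] : List T) • (⊤ : Submodule T M))) ≃ₗ[T] M :=
      Submodule.quotEquivOfEqBot _ (by rw [Ideal.ofList_nil, Submodule.bot_smul])
    have := hasProjectiveDimensionLT_of_iso e1.symm.toModuleIso m
    simpa using this
  | cons x xs ih =>
    intro M _ _ m hM hreg
    rw [isWeaklyRegular_cons_iff] at hreg
    have hS : (ModuleCat.smulShortComplex (ModuleCat.of T M) x).ShortExact :=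
      IsSMulRegular.smulShortComplex_shortExact (M := ModuleCat.of T M) hreg.1
    have hM' : HasProjectiveDimensionLT (ModuleCat.of T M) (m + 1) := by
      haveI : HasProjectiveDimensionLT (ModuleCat.of T M) m := hM
      exact hasProjectiveDimensionLT_of_ge (ModuleCat.of T M) m (m + 1) (by omega)
    have h1 : HasProjectiveDimensionLT (ModuleCat.of T (QuotSMulTop x M)) (m + 1) :=
      hS.hasProjectiveDimensionLT_X₃ m hM hM'
    have h2 := ih (QuotSMulTop x M) (m + 1) h1 hreg.2
    have e := Submodule.quotOfListConsSMulTopEquivQuotSMulTopInner M x xs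
    have h3 := hasProjectiveDimensionLT_of_iso e.symm.toModuleIso (m + 1 + xs.length)
    have h4 : m + (x :: xs).length = m + 1 + xs.length := by simp; omega
    rw [h4]
    exact h3

/-- the quotient of the ring by a weakly regular sequence of length `d` has projective dimension
`≤ d`. -/
theorem hasProjectiveDimensionLT_quot_ofList (xs : List T) (h : IsWeaklyRegular T xs) :
    HasProjectiveDimensionLT (ModuleCat.of T (T ⧸ Ideal.ofList xs)) (xs.length + 1) := by
  have h0 : HasProjectiveDimensionLT (ModuleCat.of T T) 1 := by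
    have : Module.Projective T T := inferInstance
    have : Projective (ModuleCat.of T T) := ModuleCat.projective_of_categoryTheory_projective _
    infer_instance
  have h1 := hasProjectiveDimensionLT_quot xs T 1 h0 h
  have heq : (Ideal.ofList xs • (⊤ : Submodule T T)) = Ideal.ofList xs := by
    rw [smul_eq_mul, Ideal.mul_top]
  have e : (T ⧸ (Ideal.ofList xs • (⊤ : Submodule T T))) ≃ₗ[T] (T ⧸ Ideal.ofList xs) :=
    Submodule.quotEquivOfEq _ _ heq
  have h2 := hasProjectiveDimensionLT_of_iso e.toModuleIso (1 + xs.length)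
  rw [add_comm]
  exact h2

end PD

section Core

theorem exists_list_map {α β : Type*} (f : α → β) (P : α → Prop) :
    ∀ (l : List β), (∀ b ∈ l, ∃ a, P a ∧ f a = b) →
      ∃ l' : List α, (∀ a ∈ l', P a) ∧ l'.map f = l := by
  intro l
  induction l with
  | nil => intro _; exact ⟨[], by simp, rfl⟩
  | cons b l ih =>
    intro h
    obtain ⟨a, ha, hab⟩ := h b List.mem_cons_self
    obtain ⟨l', hl', hl'm⟩ := ih (fun b' hb' => h b' (List.mem_cons_of_mem _ hb'))
    refine ⟨a :: l', ?_, by simp [hab, hl'm]⟩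
    intro a' ha'
    rcases List.mem_cons.1 ha' with rfl | h'
    · exact ha
    · exact hl' a' h'

variable {R T : Type u} [CommRing R] [CommRing T] [IsLocalRing R] [IsLocalRing T]
  [IsNoetherianRing T] [Algebra R T] [IsLocalHom (algebraMap R T)]

local notation "𝔪T" => Ideal.map (algebraMap R T) (maximalIdeal R)

variable (I : Ideal T) (hbij : Function.Bijective ((Ideal.Quotient.mk I).comp (algebraMap R T)))

include hbij

omit [IsNoetherianRing T] [IsLocalHom (algebraMap R T)] in
theorem le_maximalIdeal : I ≤ maximalIdeal T := by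
  apply IsLocalRing.le_maximalIdeal
  intro h
  have : Subsingleton (T ⧸ I) := Ideal.Quotient.subsingleton_iff.2 h
  have h01 := hbij.1 (Subsingleton.elim ((Ideal.Quotient.mk I).comp (algebraMap R T) 0)
    ((Ideal.Quotient.mk I).comp (algebraMap R T) 1))
  exact zero_ne_one h01

omit [IsLocalRing R] [IsLocalRing T] [IsNoetherianRing T] [IsLocalHom (algebraMap R T)] in
theorem exists_sub_mem (t : T) : ∃ r : R, t - algebraMap R T r ∈ I := by
  obtain ⟨r, hr⟩ := hbij.2 (Ideal.Quotient.mk I t)
  refine ⟨r, ?_⟩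
  rw [← Ideal.Quotient.eq]
  exact hr.symm

omit [IsNoetherianRing T] [IsLocalHom (algebraMap R T)] in
theorem maximalIdeal_le : maximalIdeal T ≤ I ⊔ 𝔪T := by
  intro t ht
  obtain ⟨r, hr⟩ := exists_sub_mem I hbij t
  have hrm : r ∈ maximalIdeal R := by
    by_contra hru
    have hu : IsUnit r := by
      rw [mem_maximalIdeal, mem_nonunits_iff, not_not] at hru
      exact hru
    have hu' : IsUnit (algebraMap R T r) := hu.map _
    have h1 : t - algebraMap R T r ∈ maximalIdeal T := le_maximalIdeal I hbij hr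
    have h2 : algebraMap R T r ∈ maximalIdeal T := by
      have := (maximalIdeal T).sub_mem ht h1
      simpa using this
    exact h2 hu'
  have : t = (t - algebraMap R T r) + algebraMap R T r := by ring
  rw [this]
  exact Ideal.add_mem _ (Ideal.mem_sup_left hr)
    (Ideal.mem_sup_right (Ideal.mem_map_of_mem _ hrm))

omit [IsLocalRing T] [IsNoetherianRing T] [IsLocalHom (algebraMap R T)] in
theorem exists_sub_mem_mul (m : T) (hm : m ∈ 𝔪T) :
    ∃ c ∈ maximalIdeal R, m - algebraMap R T c ∈ 𝔪T * I := by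
  change m ∈ Ideal.span _ at hm
  refine Submodule.span_induction
    (p := fun m _ => ∃ c ∈ maximalIdeal R, m - algebraMap R T c ∈ 𝔪T * I) ?_ ?_ ?_ ?_ hm
  · rintro _ ⟨c, hc, rfl⟩
    exact ⟨c, hc, by simp⟩
  · exact ⟨0, zero_mem _, by simp⟩
  · rintro x y _ _ ⟨c, hc, hx⟩ ⟨d, hd, hy⟩
    refine ⟨c + d, add_mem hc hd, ?_⟩
    have : x + y - algebraMap R T (c + d) =
        (x - algebraMap R T c) + (y - algebraMap R T d) := by
      rw [map_add]; ring
    rw [this]
    exact add_mem hx hy
  · rintro t x hx ⟨c, hc, hxc⟩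
    obtain ⟨r, hr⟩ := exists_sub_mem I hbij t
    refine ⟨r * c, Ideal.mul_mem_left _ _ hc, ?_⟩
    have : t • x - algebraMap R T (r * c) =
        t * (x - algebraMap R T c) + algebraMap R T c * (t - algebraMap R T r) := by
      rw [map_mul, smul_eq_mul]; ring
    rw [this]
    exact add_mem (Ideal.mul_mem_left _ _ hxc)
      (Ideal.mul_mem_mul (Ideal.mem_map_of_mem _ hc) hr)

omit [IsLocalRing T] [IsNoetherianRing T] [IsLocalHom (algebraMap R T)] in
theorem inf_le_mul : I ⊓ 𝔪T ≤ 𝔪T * I := by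
  rintro m ⟨hmI, hm⟩
  obtain ⟨c, hc, hmc⟩ := exists_sub_mem_mul I hbij m hm
  have h0 : m - algebraMap R T c ∈ I := (Ideal.mul_le_right : 𝔪T * I ≤ I) hmc
  have h1 : algebraMap R T c ∈ I := by
    have h00 : algebraMap R T c = m - (m - algebraMap R T c) := by ring
    rw [h00]
    exact I.sub_mem hmI h0
  have h2 : c = 0 := by
    apply hbij.1
    change Ideal.Quotient.mk I (algebraMap R T c) = Ideal.Quotient.mk I (algebraMap R T 0)
    rw [map_zero, map_zero]
    exact Ideal.Quotient.eq_zero_iff_mem.2 h1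
  rw [h2, map_zero, sub_zero] at hmc
  exact hmc

/-- the retraction ideal is generated by a regular sequence of length the dimension of the closed
fibre -/
theorem exists_regular [Module.Flat R T] [IsRegularLocalRing (T ⧸ 𝔪T)] :
    ∃ xs : List T, IsWeaklyRegular T xs ∧ Ideal.ofList xs = I ∧
      ((xs.length : ℕ) : WithBot ℕ∞) = ringKrullDim (T ⧸ 𝔪T) := by
  let π : T →+* T ⧸ 𝔪T := Ideal.Quotient.mk _
  have hπ : Function.Surjective π := Ideal.Quotient.mk_surjective
  have hmap : (maximalIdeal T).map π = maximalIdeal (T ⧸ 𝔪T) :=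
    IsLocalRing.map_maximalIdeal_of_surjective π hπ
  have hImap : I.map π = maximalIdeal (T ⧸ 𝔪T) := by
    apply le_antisymm
    · rw [← hmap]
      exact Ideal.map_mono (le_maximalIdeal I hbij)
    · rw [← hmap]
      calc (maximalIdeal T).map π ≤ (I ⊔ 𝔪T).map π := Ideal.map_mono (maximalIdeal_le I hbij)
        _ = I.map π ⊔ (𝔪T).map π := Ideal.map_sup _ _ _
        _ = I.map π := by rw [Ideal.map_quotient_self, sup_bot_eq]
  have hfield : IsField ((T ⧸ 𝔪T) ⧸ maximalIdeal (T ⧸ 𝔪T)) :=
    (Ideal.Quotient.maximal_ideal_iff_isField_quotient _).mp inferInstance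
  haveI : IsRegularLocalRing ((T ⧸ 𝔪T) ⧸ maximalIdeal (T ⧸ 𝔪T)) :=
    IsRegularLocalRing.of_ringEquiv
      (RingEquiv.refl _ : ResidueField (T ⧸ 𝔪T) ≃+* (T ⧸ 𝔪T) ⧸ maximalIdeal (T ⧸ 𝔪T))
  have h0 : (maximalIdeal ((T ⧸ 𝔪T) ⧸ maximalIdeal (T ⧸ 𝔪T))).spanFinrank = 0 := by
    rw [IsLocalRing.isField_iff_maximalIdeal_eq.mp hfield]
    exact Submodule.spanFinrank_bot
  obtain ⟨rs, hrs, hofList, hlen⟩ := Groth.Agent.Lib.Helper83.RegQuot.exists_isRegular_aux
    (maximalIdeal (T ⧸ 𝔪T)).spanFinrank (T ⧸ 𝔪T) (maximalIdeal (T ⧸ 𝔪T))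
    (by rw [h0, zero_add])
  have hlift : ∀ b ∈ rs, ∃ a, a ∈ I ∧ π a = b := by
    intro b hb
    have hb' : b ∈ I.map π := by
      rw [hImap, ← hofList]
      exact Ideal.subset_span hb
    obtain ⟨a, ha, hab⟩ := (Ideal.mem_map_iff_of_surjective π hπ).1 hb'
    exact ⟨a, ha, hab⟩
  obtain ⟨xs, hxsI, hxs⟩ := exists_list_map π (· ∈ I) rs hlift
  have hw1 : IsWeaklyRegular (T ⧸ 𝔪T) (xs.map (algebraMap T (T ⧸ 𝔪T))) := by
    have : xs.map (algebraMap T (T ⧸ 𝔪T)) = rs := hxs
    rw [this]
    exact hrs.toIsWeaklyRegular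
  have hw2 : IsWeaklyRegular (T ⧸ 𝔪T) xs :=
    (isWeaklyRegular_map_algebraMap_iff (S := T ⧸ 𝔪T) (M := T ⧸ 𝔪T) xs).1 hw1
  have heq : (𝔪T • (⊤ : Submodule T T)) = 𝔪T := by rw [smul_eq_mul, Ideal.mul_top]
  have e : (T ⧸ (𝔪T • (⊤ : Submodule T T))) ≃ₗ[T] (T ⧸ 𝔪T) := Submodule.quotEquivOfEq _ _ heq
  have hw3 : IsWeaklyRegular (T ⧸ (𝔪T • (⊤ : Submodule T T))) xs :=
    (e.isWeaklyRegular_congr xs).2 hw2
  obtain ⟨hreg, -⟩ :=
    Groth.Agent.Lib.Helper29.FlatRegular.isWeaklyRegular_and_flat_of_fibre R T xs T hw3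
  have hle1 : Ideal.ofList xs ≤ I := Ideal.span_le.2 (fun x hx => hxsI x hx)
  have hle2 : I ≤ Ideal.ofList xs := by
    apply Submodule.le_of_le_smul_of_le_jacobson_bot (I := 𝔪T) (IsNoetherian.noetherian I)
    · rw [IsLocalRing.jacobson_eq_maximalIdeal ⊥ bot_ne_top]
      exact IsLocalRing.map_maximalIdeal_le (algebraMap R T)
    · intro t ht
      have h1 : π t ∈ (Ideal.ofList xs).map π := by
        rw [Ideal.map_ofList, hxs, hofList, ← hImap]
        exact Ideal.mem_map_of_mem π ht
      have h2 : t ∈ (Ideal.ofList xs) ⊔ 𝔪T := by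
        have h3 : t ∈ ((Ideal.ofList xs).map π).comap π := Ideal.mem_comap.2 h1
        rw [Ideal.comap_map_of_surjective π hπ, ← RingHom.ker_eq_comap_bot, Ideal.mk_ker] at h3
        exact h3
      obtain ⟨a, ha, m, hm, rfl⟩ := Submodule.mem_sup.1 h2
      have hmI : m ∈ I := by
        have := I.sub_mem ht (hle1 ha)
        simpa using this
      have h4 := inf_le_mul I hbij ⟨hmI, hm⟩
      exact Submodule.add_mem_sup ha (by rwa [smul_eq_mul])
  refine ⟨xs, hreg, le_antisymm hle1 hle2, ?_⟩
  have hl : xs.length = (maximalIdeal (T ⧸ 𝔪T)).spanFinrank := by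
    rw [← hlen, ← hxs, List.length_map]
  rw [hl]
  exact IsRegularLocalRing.spanFinrank_maximalIdeal

/-- `T ⧸ I` has projective dimension `≤ n` over `T`. -/
theorem hasProjectiveDimensionLT_quotient [Module.Flat R T] [IsRegularLocalRing (T ⧸ 𝔪T)]
    (n : ℕ) (hn : ringKrullDim (T ⧸ 𝔪T) ≤ n) :
    HasProjectiveDimensionLT (ModuleCat.of T (T ⧸ I)) (n + 1) := by
  obtain ⟨xs, hreg, hxs, hlen⟩ := exists_regular I hbij
  have h1 := hasProjectiveDimensionLT_quot_ofList xs hreg
  rw [hxs] at h1
  have h2 : xs.length ≤ n := by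
    rw [← hlen] at hn
    exact_mod_cast hn
  exact hasProjectiveDimensionLT_of_ge _ (xs.length + 1) (n + 1) (by omega)

end Core

end Groth.Agent.Lib.Helper29.SecReg
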