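import Mathlib
import Groth.Agent.Lib.Helper62.SmoothReg7
import Groth.Agent.S11311

/-!
# The closed fibre of a formally smooth, essentially finite type local algebra with trivial residue
field extension is regular of dimension at most the number of generators of the differentials
(helper29)
-/

set_option autoImplicit false
universe u

namespace Groth.Agent.Lib.Helper29.SecReg

open IsLocalRing TensorProduct KaehlerDifferential

section FieldCase

variable (k A : Type u) [Field k] [CommRing A] [IsLocalRing A] [Algebra k A]
  [Algebra.EssFiniteType k A]

/-- a local ring essentially of finite type and formally smooth over a field is regular -/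
theorem isRegularLocalRing_of_formallySmooth_field [Algebra.FormallySmooth k A] :
    IsRegularLocalRing A := by
  obtain ⟨n, Q, hQ, π, hπ⟩ :=
    Groth.Agent.Lib.Helper62.SmoothReg.exists_surjective_algHom_localization k A
  let T := Localization.AtPrime Q
  algebraize [π.toRingHom]
  have : IsScalarTower k T A := IsScalarTower.of_algebraMap_eq fun x => (π.commutes x).symm
  have : Algebra.FormallyEtale (MvPolynomial (Fin n) k) T := .of_isLocalization Q.primeCompl
  have : Algebra.FormallySmooth k T := .comp _ (MvPolynomial (Fin n) k) _
  have : Module.Free T Ω[T⁄k] :=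
    .of_equiv (KaehlerDifferential.tensorKaehlerEquivOfFormallyEtale k (MvPolynomial (Fin n) k) T)
  exact Groth.Agent.Lib.Helper62.SmoothReg.isRegularLocalRing_of_formallySmooth_of_surjective
    (k := k) T A hπ

/-- if the residue field is the base field, the embedding dimension is at most the number of
generators of the differentials -/
theorem spanFinrank_maximalIdeal_le
    (hres : Function.Bijective (algebraMap k (ResidueField A)))
    (n : ℕ) (ω : Fin n → Ω[A⁄k]) (hω : Submodule.span A (Set.range ω) = ⊤) :
    (maximalIdeal A).spanFinrank ≤ n := by
  haveI : IsNoetherianRing A := Algebra.EssFiniteType.isNoetherianRing k A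
  have hI : RingHom.ker (algebraMap A (ResidueField A)) = maximalIdeal A := IsLocalRing.ker_residue
  have hbij := Groth.Agent.S11311.bijective_kerCotangentToTensor k A hres
  have hspan : Submodule.span (ResidueField A)
      (Set.range fun i => (1 : ResidueField A) ⊗ₜ[A] ω i) = ⊤ := by
    have h1 := Submodule.baseChange_span (R := A) (A := ResidueField A) (Set.range ω)
    rw [hω, Submodule.baseChange_top] at h1
    rw [h1]
    congr 1
    ext x
    simp
  haveI : Module.Finite (ResidueField A) (ResidueField A ⊗[A] Ω[A⁄k]) := inferInstance
  have h1 := Groth.Agent.S11311.spanFinrank_le_of_injective _ hI (ResidueField A ⊗[A] Ω[A⁄k])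
    (kerCotangentToTensor k A (ResidueField A)) hbij.injective
  have h2 := finrank_le_of_span_eq_top (R := ResidueField A) hspan
  rw [Fintype.card_fin] at h2
  exact h1.trans h2

end FieldCase

section Fibre

variable {R T : Type u} [CommRing R] [CommRing T] [IsLocalRing R] [IsLocalRing T]
  [Algebra R T] [IsLocalHom (algebraMap R T)] [Algebra.FormallySmooth R T]
  [Algebra.EssFiniteType R T]

local notation "𝔪T" => Ideal.map (algebraMap R T) (maximalIdeal R)
local notation "T'" => ResidueField R ⊗[R] T

/-- the closed fibre is regular of dimension at most the number of generators of `Ω[T⁄R]`,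
provided the residue field extension is trivial -/
theorem fibre_regular (n : ℕ) (ω : Fin n → Ω[T⁄R]) (hω : Submodule.span T (Set.range ω) = ⊤)
    (hres : Function.Surjective ((IsLocalRing.residue T).comp (algebraMap R T))) :
    IsRegularLocalRing (T ⧸ 𝔪T) ∧ ringKrullDim (T ⧸ 𝔪T) ≤ n := by
  letI : Algebra T T' := Algebra.TensorProduct.rightAlgebra
  have hsurj : Function.Surjective (algebraMap T T') :=
    Algebra.TensorProduct.includeRight_surjective T (residue_surjective (R := R))
  haveI hreg : IsRegularLocalRing T' := isRegularLocalRing_of_formallySmooth_field (ResidueField R) T'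
  haveI : IsLocalHom (algebraMap T T') := IsLocalHom.of_surjective _ hsurj
  have hres' : Function.Bijective (algebraMap (ResidueField R) (ResidueField T')) := by
    refine ⟨(algebraMap (ResidueField R) (ResidueField T')).injective, ?_⟩
    intro y
    obtain ⟨t', rfl⟩ := residue_surjective y
    obtain ⟨t, rfl⟩ := hsurj t'
    obtain ⟨r, hr⟩ := hres (residue T t)
    refine ⟨residue R r, ?_⟩
    have h1 : algebraMap (ResidueField R) (ResidueField T') (residue R r) =
        residue T' (algebraMap T T' (algebraMap R T r)) := by
      rw [IsScalarTower.algebraMap_apply (ResidueField R) T' (ResidueField T'),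
        ← IsScalarTower.algebraMap_apply R T T']
      change residue T' (algebraMap (ResidueField R) T' (algebraMap R (ResidueField R) r)) = _
      rw [← IsScalarTower.algebraMap_apply R (ResidueField R) T']
    rw [h1]
    have h2 : algebraMap R T r - t ∈ maximalIdeal T := by
      rw [← residue_eq_zero_iff, map_sub, sub_eq_zero]
      exact hr
    have h3 := map_nonunit (algebraMap T T') _ h2
    rw [← residue_eq_zero_iff, map_sub, map_sub, sub_eq_zero] at h3
    exact h3
  let ω' : Fin n → Ω[T'⁄ResidueField R] := fun i => KaehlerDifferential.map R (ResidueField R) T T' (ω i)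
  have hω' : Submodule.span T' (Set.range ω') = ⊤ := by
    rw [eq_top_iff]
    intro x _
    obtain ⟨y, rfl⟩ :=
      KaehlerDifferential.map_surjective_of_surjective R (ResidueField R) T T' hsurj x
    have hy : y ∈ Submodule.span T (Set.range ω) := hω ▸ Submodule.mem_top
    refine Submodule.span_induction (p := fun y _ =>
      KaehlerDifferential.map R (ResidueField R) T T' y ∈ Submodule.span T' (Set.range ω'))
      ?_ ?_ ?_ ?_ hy
    · rintro _ ⟨i, rfl⟩
      exact Submodule.subset_span ⟨i, rfl⟩
    · simp
    · intro a b _ _ ha hb
      rw [map_add]
      exact add_mem ha hb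
    · intro t a _ ha
      rw [map_smul, ← algebraMap_smul T' t]
      exact Submodule.smul_mem _ _ ha
  have hle := spanFinrank_maximalIdeal_le (ResidueField R) T' hres' n ω' hω'
  let eSp : T' ≃+* T ⧸ 𝔪T :=
    (Algebra.TensorProduct.comm R (ResidueField R) T).toRingEquiv.trans
      (Algebra.TensorProduct.quotIdealMapEquivTensorQuot T (maximalIdeal R)).symm.toRingEquiv
  haveI : IsRegularLocalRing (T ⧸ 𝔪T) := IsRegularLocalRing.of_ringEquiv eSp
  refine ⟨inferInstance, ?_⟩
  rw [← ringKrullDim_eq_of_ringEquiv eSp,
    ← IsRegularLocalRing.spanFinrank_maximalIdeal]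
  exact_mod_cast hle

end Fibre

end Groth.Agent.Lib.Helper29.SecReg
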