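import Mathlib
import Groth.Agent.Lib.Helper29.SecReg1
import Groth.Agent.Lib.Helper29.SecReg2

/-!
# Sections of smooth local algebras have projective dimension at most the relative dimension
(helper29)
-/

set_option autoImplicit false
universe u

namespace Groth.Agent.Lib.Helper29.SecReg

open CategoryTheory IsLocalRing TensorProduct KaehlerDifferential

section Local

variable {R T : Type u} [CommRing R] [CommRing T] [IsLocalRing R] [IsLocalRing T]
  [IsNoetherianRing R] [Algebra R T] [IsLocalHom (algebraMap R T)] [Module.Flat R T]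
  [Algebra.FormallySmooth R T] [Algebra.EssFiniteType R T]

/-- local form: `R → T` flat, formally smooth, essentially of finite type local homomorphism with
`Ω[T⁄R]` generated by `n` elements; `I` an ideal with `R → T/I` bijective.  Then `pd_T (T/I) ≤ n`. -/
theorem main_local (n : ℕ) (ω : Fin n → Ω[T⁄R]) (hω : Submodule.span T (Set.range ω) = ⊤)
    (I : Ideal T) (hbij : Function.Bijective ((Ideal.Quotient.mk I).comp (algebraMap R T))) :
    HasProjectiveDimensionLT (ModuleCat.of T (T ⧸ I)) (n + 1) := by
  haveI : IsNoetherianRing T := Algebra.EssFiniteType.isNoetherianRing R T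
  have hres : Function.Surjective ((IsLocalRing.residue T).comp (algebraMap R T)) := by
    intro y
    obtain ⟨t, rfl⟩ := residue_surjective y
    obtain ⟨r, hr⟩ := exists_sub_mem I hbij t
    refine ⟨r, ?_⟩
    have h1 : t - algebraMap R T r ∈ maximalIdeal T := le_maximalIdeal I hbij hr
    rw [← residue_eq_zero_iff, map_sub, sub_eq_zero] at h1
    exact h1.symm
  obtain ⟨hreg, hdim⟩ := fibre_regular n ω hω hres
  exact hasProjectiveDimensionLT_quotient I hbij n hdim

end Local

section Global

variable {A B R T : Type u} [CommRing A] [CommRing B] [CommRing R] [CommRing T]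
  [Algebra A B] [Algebra A R] [Algebra B T] [Algebra A T] [Algebra R T]
  [IsScalarTower A R T] [IsScalarTower A B T]
  (𝔭 : Ideal A) [𝔭.IsPrime] (𝔮 : Ideal B) [𝔮.IsPrime]
  [IsLocalization.AtPrime R 𝔭] [IsLocalization.AtPrime T 𝔮]
  [IsLocalRing R] [IsLocalRing T] [IsLocalHom (algebraMap R T)] [IsNoetherianRing R]

include 𝔭 𝔮 in
/-- `A → B` standard smooth of relative dimension `n`, `R = A_𝔭`, `T = B_𝔮` with a local
homomorphism `R → T`; `I` an ideal of `T` with `R → T/I` bijective.  Then `pd_T (T/I) ≤ n`. -/
theorem main_of_standardSmooth (n : ℕ) [Algebra.IsStandardSmoothOfRelativeDimension n A B]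
    (I : Ideal T) (hbij : Function.Bijective ((Ideal.Quotient.mk I).comp (algebraMap R T))) :
    HasProjectiveDimensionLT (ModuleCat.of T (T ⧸ I)) (n + 1) := by
  haveI : Algebra.IsStandardSmooth A B :=
    Algebra.IsStandardSmoothOfRelativeDimension.isStandardSmooth n
  haveI : Algebra.Smooth A B := inferInstance
  haveI : Algebra.FormallyEtale B T := .of_isLocalization 𝔮.primeCompl
  haveI : Algebra.FormallySmooth A T := .comp A B T
  haveI : Algebra.FormallySmooth R T := Algebra.FormallySmooth.localization_base 𝔭.primeCompl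
  haveI : Algebra.EssFiniteType B T := Algebra.EssFiniteType.of_isLocalization T 𝔮.primeCompl
  haveI : Algebra.EssFiniteType A T := Algebra.EssFiniteType.comp A B T
  haveI : Algebra.EssFiniteType R T := Algebra.EssFiniteType.of_comp A R T
  haveI : Module.Flat B T := IsLocalization.flat T 𝔮.primeCompl
  haveI : Module.Flat A T := Module.Flat.trans A B T
  haveI : Module.Flat R T := (Module.flat_iff_of_isLocalization R 𝔭.primeCompl T).2 inferInstance
  haveI : Nontrivial B := by
    have : Nontrivial T := inferInstance
    exact (algebraMap B T).domain_nontrivial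
  have hrank := Algebra.IsStandardSmoothOfRelativeDimension.rank_kaehlerDifferential (R := A) (S := B) n
  haveI : Module.Finite B Ω[B⁄A] := Module.finite_of_rank_eq_nat hrank
  have hfin : Module.finrank B Ω[B⁄A] = n := Module.finrank_eq_of_rank_eq hrank
  let b : Module.Basis (Fin n) B Ω[B⁄A] := Module.finBasisOfFinrankEq B Ω[B⁄A] hfin
  let bT : Module.Basis (Fin n) T (T ⊗[B] Ω[B⁄A]) := b.baseChange T
  let e : T ⊗[B] Ω[B⁄A] ≃ₗ[T] Ω[T⁄A] := KaehlerDifferential.tensorKaehlerEquivOfFormallyEtale A B T
  let f : T ⊗[B] Ω[B⁄A] →ₗ[T] Ω[T⁄R] := (KaehlerDifferential.map A R T T) ∘ₗ e.toLinearMap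
  have hf : Function.Surjective f :=
    (KaehlerDifferential.map_surjective A R T).comp e.surjective
  let ω : Fin n → Ω[T⁄R] := fun i => f (bT i)
  have hω : Submodule.span T (Set.range ω) = ⊤ := by
    have h1 : Set.range ω = f '' Set.range bT := by
      rw [← Set.range_comp]; rfl
    rw [h1, ← Submodule.map_span, bT.span_eq, Submodule.map_top, LinearMap.range_eq_top]
    exact hf
  exact main_local n ω hω I hbij

include 𝔭 𝔮 in
/-- the same with the retraction as an algebra `C` over `T`: if `R → T → C` is bijective then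
`pd_T C ≤ n`. -/
theorem main_section (n : ℕ) [Algebra.IsStandardSmoothOfRelativeDimension n A B]
    {C : Type u} [CommRing C] [Algebra T C]
    (hcomp : Function.Bijective ((algebraMap T C).comp (algebraMap R T))) :
    HasProjectiveDimensionLT (ModuleCat.of T C) (n + 1) := by
  have hsurj : Function.Surjective (Algebra.ofId T C) := by
    intro c
    obtain ⟨r, hr⟩ := hcomp.2 c
    exact ⟨algebraMap R T r, hr⟩
  let I : Ideal T := RingHom.ker (Algebra.ofId T C)
  have hI : ∀ t : T, t ∈ I ↔ algebraMap T C t = 0 := fun t => by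
    change Algebra.ofId T C t = 0 ↔ _
    rfl
  have hbij : Function.Bijective ((Ideal.Quotient.mk I).comp (algebraMap R T)) := by
    constructor
    · intro r r' h
      apply hcomp.1
      have h1 : algebraMap R T r - algebraMap R T r' ∈ I := Ideal.Quotient.eq.1 h
      rw [hI, map_sub, sub_eq_zero] at h1
      exact h1
    · intro y
      obtain ⟨t, rfl⟩ := Ideal.Quotient.mk_surjective y
      obtain ⟨r, hr⟩ := hcomp.2 (algebraMap T C t)
      refine ⟨r, ?_⟩
      apply Ideal.Quotient.eq.2
      rw [hI, map_sub, sub_eq_zero]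
      exact hr
  have h1 := main_of_standardSmooth (A := A) (B := B) 𝔭 𝔮 n I hbij
  let e : (T ⧸ I) ≃ₗ[T] C :=
    (Ideal.quotientKerAlgEquivOfSurjective (f := Algebra.ofId T C) hsurj).toLinearEquiv
  exact hasProjectiveDimensionLT_of_iso e.toModuleIso (n + 1)

end Global

end Groth.Agent.Lib.Helper29.SecReg
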