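import Mathlib
import Groth.Prelude.Def_DerSch
import Groth.Agent.Lib.Helper99.SStalk1
import Groth.Agent.Lib.Helper36.TorAmpGlDim
import Groth.Agent.Lib.Helper36.HasLeftDerived
import Groth.Agent.Lib.Helper29.SecReg3

/-!
# Tor amplitude of flat morphisms and of sections of smooth morphisms (helper29)
-/

set_option autoImplicit false
universe u

open CategoryTheory Limits AlgebraicGeometry DerSch

attribute [local instance] HasDerivedCategory.standard

namespace Groth.Agent.Lib.Helper29.SecReg

open Groth.Agent.Lib.Helper12 Groth.Agent.Lib.Helper36 Groth.Agent.Lib.Helper99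

variable {X W Y : Scheme.{u}}

/-- a flat morphism has tor amplitude `[0, 0]` at every point -/
theorem hasTorAmplitudeAt_of_flat (g : W ⟶ Y) [Flat g] (w : W) :
    HasTorAmplitudeAt g 0 0 (unitCx W) w := by
  letI : Algebra (Y.presheaf.stalk (g.base w)) (W.presheaf.stalk w) :=
    (g.stalkMap w).hom.toAlgebra
  haveI : Module.Flat (Y.presheaf.stalk (g.base w)) (W.presheaf.stalk w) := Flat.stalkMap g w
  exact hasTorAmplitudeIn_of_iso (SStalk.toDStalkUnitIso g w).symm
    (TorAmpExt.hasTorAmplitudeIn_single_of_flat (ModuleCat.of _ (W.presheaf.stalk w)))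

/-- a section of a smooth morphism of relative dimension `n` (to a locally Noetherian scheme) has
tor amplitude `[-n, 0]` at every point -/
theorem hasTorAmplitudeAt_of_section [IsLocallyNoetherian X] (π : W ⟶ X) (n : ℕ)
    [SmoothOfRelativeDimension n π] (σ : X ⟶ W) (hσ : σ ≫ π = 𝟙 X) (x : X) :
    HasTorAmplitudeAt σ (-(n : ℤ)) 0 (unitCx X) x := by
  obtain ⟨U, hU, V, hV, hwV, e, hstd⟩ :=
    SmoothOfRelativeDimension.exists_isStandardSmoothOfRelativeDimension (n := n) (f := π)
      (σ.base x)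
  have hxU : π.base (σ.base x) ∈ U := e hwV
  letI : Algebra Γ(X, U) Γ(W, V) := (π.appLE U V e).hom.toAlgebra
  haveI : Algebra.IsStandardSmoothOfRelativeDimension n Γ(X, U) Γ(W, V) := hstd.toAlgebra
  letI : Algebra Γ(X, U) (X.presheaf.stalk (π.base (σ.base x))) :=
    X.presheaf.algebra_section_stalk ⟨π.base (σ.base x), hxU⟩
  haveI := hU.isLocalization_stalk ⟨π.base (σ.base x), hxU⟩
  letI : Algebra Γ(W, V) (W.presheaf.stalk (σ.base x)) :=
    W.presheaf.algebra_section_stalk ⟨σ.base x, hwV⟩
  haveI := hV.isLocalization_stalk ⟨σ.base x, hwV⟩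
  letI : Algebra (X.presheaf.stalk (π.base (σ.base x))) (W.presheaf.stalk (σ.base x)) :=
    (π.stalkMap (σ.base x)).hom.toAlgebra
  letI : Algebra Γ(X, U) (W.presheaf.stalk (σ.base x)) :=
    ((algebraMap Γ(W, V) (W.presheaf.stalk (σ.base x))).comp
      (algebraMap Γ(X, U) Γ(W, V))).toAlgebra
  haveI : IsScalarTower Γ(X, U) Γ(W, V) (W.presheaf.stalk (σ.base x)) :=
    IsScalarTower.of_algebraMap_eq' rfl
  haveI : IsScalarTower Γ(X, U) (X.presheaf.stalk (π.base (σ.base x)))
      (W.presheaf.stalk (σ.base x)) := by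
    have hcat : X.presheaf.germ U (π.base (σ.base x)) hxU ≫ π.stalkMap (σ.base x) =
        π.appLE U V e ≫ W.presheaf.germ V (σ.base x) hwV := by
      rw [Scheme.Hom.germ_stalkMap π U (σ.base x) hxU, Scheme.Hom.appLE, Category.assoc,
        TopCat.Presheaf.germ_res]
    refine IsScalarTower.of_algebraMap_eq fun a => ?_
    change (π.appLE U V e ≫ W.presheaf.germ V (σ.base x) hwV).hom a =
      (X.presheaf.germ U (π.base (σ.base x)) hxU ≫ π.stalkMap (σ.base x)).hom a
    rw [hcat]
  haveI : IsLocalHom (algebraMap (X.presheaf.stalk (π.base (σ.base x)))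
      (W.presheaf.stalk (σ.base x))) :=
    inferInstanceAs (IsLocalHom (π.stalkMap (σ.base x)).hom)
  letI : Algebra (W.presheaf.stalk (σ.base x)) (X.presheaf.stalk x) :=
    (σ.stalkMap x).hom.toAlgebra
  have hcomp : Function.Bijective
      ((algebraMap (W.presheaf.stalk (σ.base x)) (X.presheaf.stalk x)).comp
        (algebraMap (X.presheaf.stalk (π.base (σ.base x))) (W.presheaf.stalk (σ.base x)))) := by
    have : IsOpenImmersion (σ ≫ π) := by rw [hσ]; infer_instance
    have h1 : IsIso ((σ ≫ π).stalkMap x) := inferInstance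
    rw [Scheme.Hom.stalkMap_comp] at h1
    exact (ConcreteCategory.isIso_iff_bijective _).1 h1
  have hpd := main_section (A := Γ(X, U)) (B := Γ(W, V))
    (R := X.presheaf.stalk (π.base (σ.base x))) (T := W.presheaf.stalk (σ.base x))
    (hU.primeIdealOf ⟨π.base (σ.base x), hxU⟩).asIdeal
    (hV.primeIdealOf ⟨σ.base x, hwV⟩).asIdeal n (C := X.presheaf.stalk x) hcomp
  haveI : ∀ M : ModuleCat.{u} (W.presheaf.stalk (σ.base x)),
      DRing.HasLTensor (W.presheaf.stalk (σ.base x)) M := fun M => LT.hasLTensor _ M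
  exact hasTorAmplitudeIn_of_iso (SStalk.toDStalkUnitIso σ x).symm
    (TorAmpExt.hasTorAmplitudeIn_single_of_projDim n (ModuleCat.of _ (X.presheaf.stalk x)) hpd)

end Groth.Agent.Lib.Helper29.SecReg
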