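import Mathlib
import Groth.Agent.Lib.Helper29.SecReg3

/-!
# Local data of a standard smooth algebra; retractions onto arbitrary algebras (helper29)
-/

set_option autoImplicit false
universe u

namespace Groth.Agent.Lib.Helper29.SecReg

open CategoryTheory IsLocalRing TensorProduct KaehlerDifferential

section Local

variable {R T : Type u} [CommRing R] [CommRing T] [IsLocalRing R] [IsLocalRing T]
  [IsNoetherianRing R] [Algebra R T] [IsLocalHom (algebraMap R T)] [Module.Flat R T]
  [Algebra.FormallySmooth R T] [Algebra.EssFiniteType R T]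

/-- local form with the retraction given as an algebra `C` over `T` -/
theorem main_local_section (n : ℕ) (ω : Fin n → Ω[T⁄R]) (hω : Submodule.span T (Set.range ω) = ⊤)
    {C : Type u} [CommRing C] [Algebra T C]
    (hcomp : Function.Bijective ((algebraMap T C).comp (algebraMap R T))) :
    HasProjectiveDimensionLT (ModuleCat.of T C) (n + 1) := by
  have hsurj : Function.Surjective (Algebra.ofId T C) := by
    intro c
    obtain ⟨r, hr⟩ := hcomp.2 c
    exact ⟨algebraMap R T r, hr⟩
  let I : Ideal T := RingHom.ker (Algebra.ofId T C)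
  have hI : ∀ t : T, t ∈ I ↔ algebraMap T C t = 0 := fun t => by
    change Algebra.ofId T C t = 0 ↔ _
    rfl
  have hbij : Function.Bijective ((Ideal.Quotient.mk I).comp (algebraMap R T)) := by
    constructor
    · intro r r' h
      apply hcomp.1
      have h1 : algebraMap R T r - algebraMap R T r' ∈ I := Ideal.Quotient.eq.1 h
      rw [hI, map_sub, sub_eq_zero] at h1
      exact h1
    · intro y
      obtain ⟨t, rfl⟩ := Ideal.Quotient.mk_surjective y
      obtain ⟨r, hr⟩ := hcomp.2 (algebraMap T C t)
      refine ⟨r, ?_⟩
      apply Ideal.Quotient.eq.2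
      rw [hI, map_sub, sub_eq_zero]
      exact hr
  have h1 := main_local n ω hω I hbij
  let e : (T ⧸ I) ≃ₗ[T] C :=
    (Ideal.quotientKerAlgEquivOfSurjective (f := Algebra.ofId T C) hsurj).toLinearEquiv
  exact hasProjectiveDimensionLT_of_iso e.toModuleIso (n + 1)

end Local

section Span

/-- a spanning family stays spanning after base change -/
theorem span_baseChange {R : Type u} [CommRing R] (S : Type u) [CommRing S] [Algebra R S]
    {M : Type u} [AddCommGroup M] [Module R M] {n : ℕ} (ω : Fin n → M)
    (hω : Submodule.span R (Set.range ω) = ⊤) :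
    Submodule.span S (Set.range fun i => (1 : S) ⊗ₜ[R] ω i) = ⊤ := by
  have h1 := Submodule.baseChange_span (R := R) (A := S) (Set.range ω)
  rw [hω, Submodule.baseChange_top] at h1
  rw [h1]
  congr 1
  ext x
  simp

/-- a spanning family stays spanning under a surjective linear map -/
theorem span_map_of_surjective {R : Type u} [CommRing R] {M N : Type u} [AddCommGroup M]
    [Module R M] [AddCommGroup N] [Module R N] {n : ℕ} (ω : Fin n → M)
    (hω : Submodule.span R (Set.range ω) = ⊤) (f : M →ₗ[R] N) (hf : Function.Surjective f) :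
    Submodule.span R (Set.range fun i => f (ω i)) = ⊤ := by
  have h1 : (Set.range fun i => f (ω i)) = f '' Set.range ω := by
    rw [← Set.range_comp]; rfl
  rw [h1, ← Submodule.map_span, hω, Submodule.map_top, LinearMap.range_eq_top]
  exact hf

end Span

section Global

variable {A B R T : Type u} [CommRing A] [CommRing B] [CommRing R] [CommRing T]
  [Algebra A B] [Algebra A R] [Algebra B T] [Algebra A T] [Algebra R T]
  [IsScalarTower A R T] [IsScalarTower A B T]
  (𝔭 : Ideal A) [𝔭.IsPrime] (𝔮 : Ideal B) [𝔮.IsPrime]
  [IsLocalization.AtPrime R 𝔭] [IsLocalization.AtPrime T 𝔮]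

include 𝔭 𝔮 in
/-- the local data of a standard smooth algebra of relative dimension `n` at a pair of primes -/
theorem local_data (n : ℕ) [Algebra.IsStandardSmoothOfRelativeDimension n A B] [Nontrivial T] :
    Algebra.FormallySmooth R T ∧ Algebra.EssFiniteType R T ∧ Module.Flat R T ∧
      ∃ ω : Fin n → Ω[T⁄R], Submodule.span T (Set.range ω) = ⊤ := by
  haveI : Algebra.IsStandardSmooth A B :=
    Algebra.IsStandardSmoothOfRelativeDimension.isStandardSmooth n
  haveI : Algebra.Smooth A B := inferInstance
  haveI : Algebra.FormallyEtale B T := .of_isLocalization 𝔮.primeCompl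
  haveI : Algebra.FormallySmooth A T := .comp A B T
  haveI : Algebra.FormallySmooth R T := Algebra.FormallySmooth.localization_base 𝔭.primeCompl
  haveI : Algebra.EssFiniteType B T := Algebra.EssFiniteType.of_isLocalization T 𝔮.primeCompl
  haveI : Algebra.EssFiniteType A T := Algebra.EssFiniteType.comp A B T
  haveI : Algebra.EssFiniteType R T := Algebra.EssFiniteType.of_comp A R T
  haveI : Module.Flat B T := IsLocalization.flat T 𝔮.primeCompl
  haveI : Module.Flat A T := Module.Flat.trans A B T
  haveI : Module.Flat R T := (Module.flat_iff_of_isLocalization R 𝔭.primeCompl T).2 inferInstance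
  haveI : Nontrivial B := (algebraMap B T).domain_nontrivial
  have hrank := Algebra.IsStandardSmoothOfRelativeDimension.rank_kaehlerDifferential
    (R := A) (S := B) n
  haveI : Module.Finite B Ω[B⁄A] := Module.finite_of_rank_eq_nat hrank
  have hfin : Module.finrank B Ω[B⁄A] = n := Module.finrank_eq_of_rank_eq hrank
  let b : Module.Basis (Fin n) B Ω[B⁄A] := Module.finBasisOfFinrankEq B Ω[B⁄A] hfin
  let bT : Module.Basis (Fin n) T (T ⊗[B] Ω[B⁄A]) := b.baseChange T
  let e : T ⊗[B] Ω[B⁄A] ≃ₗ[T] Ω[T⁄A] := KaehlerDifferential.tensorKaehlerEquivOfFormallyEtale A B T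
  let f : T ⊗[B] Ω[B⁄A] →ₗ[T] Ω[T⁄R] := (KaehlerDifferential.map A R T T) ∘ₗ e.toLinearMap
  have hf : Function.Surjective f :=
    (KaehlerDifferential.map_surjective A R T).comp e.surjective
  refine ⟨inferInstance, inferInstance, inferInstance, fun i => f (bT i), ?_⟩
  exact span_map_of_surjective (fun i => bT i) bT.span_eq f hf

end Global

end Groth.Agent.Lib.Helper29.SecReg
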