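import Mathlib
import Groth.Agent.Lib.Helper29.SecReg5
import Groth.Agent.Lib.Helper12.TorAmpRestrict
import Groth.Agent.Lib.Helper12.FlatExtendScalars
import Groth.Agent.Lib.Helper36.TorAmpGlDim
import Groth.Agent.Lib.Helper36.HasLeftDerived

/-!
# Tor amplitude over a smooth algebra from tor amplitude over the base (helper29)

`A' → P'` flat, formally smooth, essentially of finite type with `Ω[P'⁄A']` generated by `n`
elements; `C` a Noetherian local `P'`-algebra with tor amplitude `[-d, 0]` over `A'`.  Then `C` has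
tor amplitude `[-n-d, 0]` over `P'` (graph trick on `(C ⊗ P')` localised at the graph prime).
-/

set_option autoImplicit false
universe u

open CategoryTheory IsLocalRing TensorProduct KaehlerDifferential DRing

attribute [local instance] HasDerivedCategory.standard

namespace Groth.Agent.Lib.Helper29.SecReg

open Groth.Agent.Lib.Helper12 Groth.Agent.Lib.Helper36

/-- `inD` respects linear equivalences -/
theorem hasTorAmplitudeIn_inD_of_linearEquiv {A : Type u} [CommRing A] {M N : Type u}
    [AddCommGroup M] [Module A M] [AddCommGroup N] [Module A N] (e : M ≃ₗ[A] N) {a b : ℤ}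
    (h : HasTorAmplitudeIn A a b (Dual.inD A M)) : HasTorAmplitudeIn A a b (Dual.inD A N) :=
  hasTorAmplitudeIn_of_iso
    ((DerivedCategory.singleFunctor (ModuleCat.{u} A) 0).mapIso e.toModuleIso) h

section Graph

variable {A' P' C : Type u} [CommRing A'] [CommRing P'] [CommRing C]
  [Algebra A' P'] [Algebra A' C] (ψ : P' →ₐ[A'] C)

attribute [local instance] Algebra.TensorProduct.rightAlgebra

/-- the graph retraction `C ⊗ P' → C` -/
noncomputable def mu : C ⊗[A'] P' →ₐ[C] C :=
  Algebra.TensorProduct.lift (AlgHom.id C C) ψ (fun _ _ => Commute.all _ _)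

theorem mu_tmul (c : C) (p : P') : mu ψ (c ⊗ₜ[A'] p) = c * ψ p := by
  simp [mu]

variable [IsLocalRing C]

/-- the graph prime -/
noncomputable def rr : Ideal (C ⊗[A'] P') := (maximalIdeal C).comap (mu ψ).toRingHom

instance : (rr ψ).IsPrime := Ideal.comap_isPrime _ _

theorem isUnit_mu (y : (rr ψ).primeCompl) : IsUnit ((mu ψ).toRingHom y) := by
  have h : (mu ψ).toRingHom y ∉ maximalIdeal C := y.2
  rw [mem_maximalIdeal, mem_nonunits_iff, not_not] at h
  exact h

/-- the retraction of the localisation at the graph prime -/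
noncomputable def rho : Localization.AtPrime (rr ψ) →+* C :=
  IsLocalization.lift (isUnit_mu ψ)

theorem rho_algebraMap (s : C ⊗[A'] P') :
    rho ψ (algebraMap (C ⊗[A'] P') (Localization.AtPrime (rr ψ)) s) = mu ψ s :=
  IsLocalization.lift_eq (isUnit_mu ψ) s

theorem rho_algebraMap_left (c : C) :
    rho ψ (algebraMap C (Localization.AtPrime (rr ψ)) c) = c := by
  rw [IsScalarTower.algebraMap_apply C (C ⊗[A'] P') (Localization.AtPrime (rr ψ)),
    rho_algebraMap]
  change mu ψ (c ⊗ₜ[A'] 1) = c
  rw [mu_tmul, map_one, mul_one]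

theorem rho_algebraMap_right (p : P') :
    rho ψ (algebraMap P' (Localization.AtPrime (rr ψ)) p) = ψ p := by
  rw [IsScalarTower.algebraMap_apply P' (C ⊗[A'] P') (Localization.AtPrime (rr ψ)),
    rho_algebraMap]
  change mu ψ (1 ⊗ₜ[A'] p) = _
  rw [mu_tmul, one_mul]

variable [IsNoetherianRing C] [Module.Flat A' P'] [Algebra.FormallySmooth A' P']
  [Algebra.EssFiniteType A' P']

local notation "S'" => C ⊗[A'] P'
local notation "TT" => Localization.AtPrime (rr ψ)

/-- `C` has projective dimension `≤ n` over the localisation of `C ⊗ P'` at the graph prime -/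
theorem pd_graph (n : ℕ) (ω : Fin n → Ω[P'⁄A']) (hω : Submodule.span P' (Set.range ω) = ⊤) :
    letI : Algebra TT C := (rho ψ).toAlgebra
    HasProjectiveDimensionLT (ModuleCat.of TT C) (n + 1) := by
  letI : Algebra TT C := (rho ψ).toAlgebra
  have hcomp : Function.Bijective ((algebraMap TT C).comp (algebraMap C TT)) := by
    have : (algebraMap TT C).comp (algebraMap C TT) = RingHom.id C := by
      ext c
      exact rho_algebraMap_left ψ c
    rw [this]
    exact Function.bijective_id
  haveI : IsLocalHom (algebraMap C TT) := by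
    refine ⟨fun c hc => ?_⟩
    have h1 := hc.map (rho ψ)
    rwa [rho_algebraMap_left] at h1
  haveI : Module.Flat S' TT := IsLocalization.flat TT (rr ψ).primeCompl
  haveI : Module.Flat C TT := Module.Flat.trans C S' TT
  haveI : Algebra.FormallySmooth C TT := inferInstance
  haveI : Algebra.EssFiniteType S' TT :=
    Algebra.EssFiniteType.of_isLocalization TT (rr ψ).primeCompl
  haveI : Algebra.EssFiniteType C TT := Algebra.EssFiniteType.comp C S' TT
  -- generators of the differentials
  let e₁ := KaehlerDifferential.tensorKaehlerEquiv A' C P' S'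
  have h1 := span_baseChange S' ω hω
  have h2 := span_map_of_surjective _ h1 e₁.toLinearMap e₁.surjective
  haveI : Algebra.FormallyEtale S' TT := .of_isLocalization (rr ψ).primeCompl
  let e₂ := KaehlerDifferential.tensorKaehlerEquivOfFormallyEtale C S' TT
  have h3 := span_baseChange TT _ h2
  have h4 := span_map_of_surjective (R := TT) (M := TT ⊗[S'] Ω[S'⁄C]) (N := Ω[TT⁄C]) _ h3
    (e₂ : TT ⊗[S'] Ω[S'⁄C] →ₗ[TT] Ω[TT⁄C]) e₂.surjective
  exact main_local_section (R := C) (T := TT) n _ h4 (C := C) hcomp

/-- main ring-level theorem, for an algebra homomorphism `ψ : P' → C` -/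
theorem torAmp_graph (n : ℕ) (ω : Fin n → Ω[P'⁄A']) (hω : Submodule.span P' (Set.range ω) = ⊤)
    (d : ℕ) (hC : HasTorAmplitudeIn A' (-(d : ℤ)) 0 (Dual.inD A' C)) :
    letI : Algebra P' C := ψ.toRingHom.toAlgebra
    HasTorAmplitudeIn P' (-(n : ℤ) - d) 0 (Dual.inD P' C) := by
  -- Step 1: flat base change
  have h1 : HasTorAmplitudeIn P' (-(d : ℤ)) 0 (Dual.inD P' (P' ⊗[A'] C)) :=
    hasTorAmplitudeIn_of_iso (extScD_inD (A := A') (B := P') C)
      (hasTorAmplitudeIn_extScD (-(d : ℤ)) 0 _ hC)
  let ec : (P' ⊗[A'] C) ≃ₗ[P'] S' :=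
    { (TensorProduct.comm A' P' C) with
      map_smul' := by
        intro p x
        induction x using TensorProduct.induction_on with
        | zero => simp
        | tmul q c =>
          change (TensorProduct.comm A' P' C) (p • (q ⊗ₜ[A'] c)) =
            p • (TensorProduct.comm A' P' C) (q ⊗ₜ[A'] c)
          rw [TensorProduct.smul_tmul', TensorProduct.comm_tmul, TensorProduct.comm_tmul,
            Algebra.smul_def]
          change c ⊗ₜ[A'] (p • q) = ((1 : C) ⊗ₜ[A'] p) * (c ⊗ₜ[A'] q)
          rw [Algebra.TensorProduct.tmul_mul_tmul, one_mul, smul_eq_mul]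
        | add x y hx hy =>
          change (TensorProduct.comm A' P' C) (p • (x + y)) =
            p • (TensorProduct.comm A' P' C) (x + y)
          change (TensorProduct.comm A' P' C) (p • x) = p • (TensorProduct.comm A' P' C) x at hx
          change (TensorProduct.comm A' P' C) (p • y) = p • (TensorProduct.comm A' P' C) y at hy
          rw [smul_add, map_add, map_add, smul_add, hx, hy] }
  have hS' : HasTorAmplitudeIn P' (-(d : ℤ)) 0 (Dual.inD P' S') :=
    hasTorAmplitudeIn_inD_of_linearEquiv ec h1
  -- Step 2: the graph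
  have hpd := pd_graph ψ n ω hω
  haveI : ∀ M : ModuleCat.{u} TT, HasLTensor TT M := fun M => LT.hasLTensor _ M
  have hCT : (letI : Algebra TT C := (rho ψ).toAlgebra
      HasTorAmplitudeIn TT (-(n : ℤ)) 0 (Dual.inD TT C)) := by
    letI : Algebra TT C := (rho ψ).toAlgebra
    exact TorAmpExt.hasTorAmplitudeIn_single_of_projDim n (ModuleCat.of TT C) hpd
  haveI : Module.Flat S' TT := IsLocalization.flat TT (rr ψ).primeCompl
  have hT0 := hasTorAmplitudeIn_restrictScalars_of_flat d hS' (ModuleCat.of S' TT)
  let eT : ((ModuleCat.restrictScalars (algebraMap P' S')).obj (ModuleCat.of S' TT)) ≃ₗ[P'] TT :=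
    { toFun := fun x => x
      invFun := fun x => x
      map_add' := fun _ _ => rfl
      map_smul' := fun p x => algebraMap_smul S' p (show TT from x)
      left_inv := fun _ => rfl
      right_inv := fun _ => rfl }
  have hT : HasTorAmplitudeIn P' (-(d : ℤ)) 0 (Dual.inD P' TT) :=
    hasTorAmplitudeIn_inD_of_linearEquiv eT hT0
  letI : Algebra TT C := (rho ψ).toAlgebra
  have key := hasTorAmplitudeIn_restrictD d hT (Dual.inD TT C) (-(n : ℤ)) 0 hCT
  letI : Algebra P' C := ψ.toRingHom.toAlgebra
  let eC : ((ModuleCat.restrictScalars (algebraMap P' TT)).obj (ModuleCat.of TT C)) ≃ₗ[P'] C :=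
    { toFun := fun x => x
      invFun := fun x => x
      map_add' := fun _ _ => rfl
      map_smul' := fun p x => by
        change (algebraMap P' TT p) • (show C from x) = p • (show C from x)
        rw [Algebra.smul_def, Algebra.smul_def]
        change rho ψ (algebraMap P' TT p) * _ = ψ p * _
        rw [rho_algebraMap_right]
      left_inv := fun _ => rfl
      right_inv := fun _ => rfl }
  exact hasTorAmplitudeIn_of_iso
    (((ModuleCat.restrictScalars (algebraMap P' TT)).mapDerivedCategorySingleFunctor 0).app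
        (ModuleCat.of TT C) ≪≫
      (DerivedCategory.singleFunctor (ModuleCat.{u} P') 0).mapIso eC.toModuleIso) key

end Graph

section Final

variable {A' P' C : Type u} [CommRing A'] [CommRing P'] [CommRing C]
  [Algebra A' P'] [Algebra P' C] [Algebra A' C] [IsScalarTower A' P' C]
  [IsLocalRing C] [IsNoetherianRing C] [Module.Flat A' P'] [Algebra.FormallySmooth A' P']
  [Algebra.EssFiniteType A' P']

/-- **Tor amplitude over a smooth algebra.**  `A' → P'` flat, formally smooth, essentially of finite
type with `Ω[P'⁄A']` generated by `n` elements, `C` a Noetherian local `P'`-algebra of tor amplitude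
`[-d, 0]` over `A'`: then `C` has tor amplitude `[-n-d, 0]` over `P'`. -/
theorem torAmp_of_smooth (n : ℕ) (ω : Fin n → Ω[P'⁄A']) (hω : Submodule.span P' (Set.range ω) = ⊤)
    (d : ℕ) (hC : HasTorAmplitudeIn A' (-(d : ℤ)) 0 (Dual.inD A' C)) :
    HasTorAmplitudeIn P' (-(n : ℤ) - d) 0 (Dual.inD P' C) := by
  have h := torAmp_graph (IsScalarTower.toAlgHom A' P' C) n ω hω d hC
  have heq : (IsScalarTower.toAlgHom A' P' C).toRingHom.toAlgebra = (inferInstance : Algebra P' C) :=
    Algebra.algebra_ext _ _ (fun r => rfl)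
  rw [heq] at h
  exact h

end Final

end Groth.Agent.Lib.Helper29.SecReg
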