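import Mathlib
import Groth.Prelude.Def_DerSch
import Groth.Agent.Lib.Helper99.SStalk1
import Groth.Agent.Lib.Helper12.DRingTruncRep
import Groth.Agent.Lib.Helper12.DRingTorAmpClosure
import Groth.Agent.Lib.Helper12.TorBridge
import Groth.Agent.Lib.Helper67.AffSmoothDim
import Groth.Agent.Lib.Helper29.SecReg4
import Groth.Agent.Lib.Helper29.SecReg6

/-!
# Finite tor dimension and smooth factorisations (helper29)
-/

set_option autoImplicit false
set_option linter.style.haveILetI false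
universe u

open CategoryTheory Limits AlgebraicGeometry DerSch KaehlerDifferential

attribute [local instance] HasDerivedCategory.standard

namespace Groth.Agent.Lib.Helper29.SecReg

open Groth.Agent.Lib.Helper12 Groth.Agent.Lib.Helper36 Groth.Agent.Lib.Helper99

/-- normalisation of the tor amplitude of a module placed in degree `0` -/
theorem hasTorAmplitudeIn_inD_normalise {A : Type u} [CommRing A] (M : Type u) [AddCommGroup M]
    [Module A M] {a b : ℤ} (h : DRing.HasTorAmplitudeIn A a b (Dual.inD A M)) :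
    DRing.HasTorAmplitudeIn A (-((-a).toNat : ℤ)) 0 (Dual.inD A M) := by
  have h1 : DRing.HasTorAmplitudeIn A (-((-a).toNat : ℤ)) (max b 0) (Dual.inD A M) :=
    hasTorAmplitudeIn_mono' h (by omega) (le_max_left _ _)
  obtain ⟨E, hE, hfl, ⟨e⟩⟩ := h1
  obtain ⟨E', hE', hfl', ⟨e'⟩⟩ := exists_truncLE_rep (flatP A) flatP_kerClosed E _ _ 0 hE
    (fun i => hfl i)
    (fun i hi => (isZero_HF_single_zero _ i (by omega)).of_iso ((HF A i).mapIso e))
  exact ⟨E', hE', fun i => hfl' i, ⟨e' ≪≫ e⟩⟩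

variable {X W Y : Scheme.{u}}

/-- the local data of a smooth morphism of relative dimension `n` at a point -/
theorem stalk_local_data (π : W ⟶ Y) (n : ℕ) [SmoothOfRelativeDimension n π] (w : W) :
    letI : Algebra (Y.presheaf.stalk (π.base w)) (W.presheaf.stalk w) :=
      (π.stalkMap w).hom.toAlgebra
    Algebra.FormallySmooth (Y.presheaf.stalk (π.base w)) (W.presheaf.stalk w) ∧
      Algebra.EssFiniteType (Y.presheaf.stalk (π.base w)) (W.presheaf.stalk w) ∧
      Module.Flat (Y.presheaf.stalk (π.base w)) (W.presheaf.stalk w) ∧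
      ∃ ω : Fin n → Ω[W.presheaf.stalk w⁄Y.presheaf.stalk (π.base w)],
        Submodule.span (W.presheaf.stalk w) (Set.range ω) = ⊤ := by
  obtain ⟨U, hU, V, hV, hwV, e, hstd⟩ :=
    SmoothOfRelativeDimension.exists_isStandardSmoothOfRelativeDimension (n := n) (f := π) w
  have hxU : π.base w ∈ U := e hwV
  letI : Algebra Γ(Y, U) Γ(W, V) := (π.appLE U V e).hom.toAlgebra
  haveI : Algebra.IsStandardSmoothOfRelativeDimension n Γ(Y, U) Γ(W, V) := hstd.toAlgebra
  letI : Algebra Γ(Y, U) (Y.presheaf.stalk (π.base w)) :=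
    Y.presheaf.algebra_section_stalk ⟨π.base w, hxU⟩
  haveI := hU.isLocalization_stalk ⟨π.base w, hxU⟩
  letI : Algebra Γ(W, V) (W.presheaf.stalk w) :=
    W.presheaf.algebra_section_stalk ⟨w, hwV⟩
  haveI := hV.isLocalization_stalk ⟨w, hwV⟩
  letI : Algebra (Y.presheaf.stalk (π.base w)) (W.presheaf.stalk w) :=
    (π.stalkMap w).hom.toAlgebra
  letI : Algebra Γ(Y, U) (W.presheaf.stalk w) :=
    ((algebraMap Γ(W, V) (W.presheaf.stalk w)).comp
      (algebraMap Γ(Y, U) Γ(W, V))).toAlgebra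
  haveI : IsScalarTower Γ(Y, U) Γ(W, V) (W.presheaf.stalk w) :=
    IsScalarTower.of_algebraMap_eq' rfl
  haveI : IsScalarTower Γ(Y, U) (Y.presheaf.stalk (π.base w))
      (W.presheaf.stalk w) := by
    have hcat : Y.presheaf.germ U (π.base w) hxU ≫ π.stalkMap w =
        π.appLE U V e ≫ W.presheaf.germ V w hwV := by
      rw [Scheme.Hom.germ_stalkMap π U w hxU, Scheme.Hom.appLE, Category.assoc,
        TopCat.Presheaf.germ_res]
    refine IsScalarTower.of_algebraMap_eq fun a => ?_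
    change (π.appLE U V e ≫ W.presheaf.germ V w hwV).hom a =
      (Y.presheaf.germ U (π.base w) hxU ≫ π.stalkMap w).hom a
    rw [hcat]
  exact local_data (A := Γ(Y, U)) (B := Γ(W, V))
    (R := Y.presheaf.stalk (π.base w)) (T := W.presheaf.stalk w)
    (hU.primeIdealOf ⟨π.base w, hxU⟩).asIdeal
    (hV.primeIdealOf ⟨w, hwV⟩).asIdeal n

/-- if `g ≫ π` has tor amplitude `[-d, 0]` at `u` and `π` is smooth of relative dimension `n`, then
`g` has tor amplitude `[-n-d, 0]` at `u` -/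
theorem hasTorAmplitudeAt_of_comp_smooth [IsLocallyNoetherian X] (g : X ⟶ W) (π : W ⟶ Y) (n : ℕ)
    [SmoothOfRelativeDimension n π] (d : ℕ) (u : X)
    (hgπ : HasTorAmplitudeAt (g ≫ π) (-(d : ℤ)) 0 (unitCx X) u) :
    HasTorAmplitudeAt g (-(n : ℤ) - d) 0 (unitCx X) u := by
  obtain ⟨hsm, heft, hflat, ω, hω⟩ := stalk_local_data π n (g.base u)
  letI : Algebra (Y.presheaf.stalk (π.base (g.base u))) (W.presheaf.stalk (g.base u)) :=
    (π.stalkMap (g.base u)).hom.toAlgebra
  letI : Algebra (W.presheaf.stalk (g.base u)) (X.presheaf.stalk u) :=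
    (g.stalkMap u).hom.toAlgebra
  letI : Algebra (Y.presheaf.stalk (π.base (g.base u))) (X.presheaf.stalk u) :=
    ((g ≫ π).stalkMap u).hom.toAlgebra
  haveI : IsScalarTower (Y.presheaf.stalk (π.base (g.base u))) (W.presheaf.stalk (g.base u))
      (X.presheaf.stalk u) := by
    refine IsScalarTower.of_algebraMap_eq fun a => ?_
    change ((g ≫ π).stalkMap u).hom a = (π.stalkMap (g.base u) ≫ g.stalkMap u).hom a
    rw [Scheme.Hom.stalkMap_comp]
    rfl
  have hC : DRing.HasTorAmplitudeIn (Y.presheaf.stalk (π.base (g.base u))) (-(d : ℤ)) 0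
      (Dual.inD (Y.presheaf.stalk (π.base (g.base u))) (X.presheaf.stalk u)) :=
    hasTorAmplitudeIn_of_iso (SStalk.toDStalkUnitIso (g ≫ π) u) hgπ
  have key := torAmp_of_smooth (A' := Y.presheaf.stalk (π.base (g.base u)))
    (P' := W.presheaf.stalk (g.base u)) (C := X.presheaf.stalk u) n ω hω d hC
  exact hasTorAmplitudeIn_of_iso (SStalk.toDStalkUnitIso g u).symm key

/-- affine space over an affine scheme is smooth of relative dimension `n` -/
theorem smoothOfRelativeDimension_Spec_mvPolynomial (A : CommRingCat.{u}) (n : ℕ) :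
    SmoothOfRelativeDimension n
      (Spec.map (CommRingCat.ofHom (algebraMap A (MvPolynomial (Fin n) A)))) := by
  rw [HasRingHomProperty.Spec_iff (P := @SmoothOfRelativeDimension n)]
  apply RingHom.locally_of RingHom.isStandardSmoothOfRelativeDimension_respectsIso
  have hsm : Algebra.IsStandardSmoothOfRelativeDimension n A (MvPolynomial (Fin n) A) :=
    Groth.Agent.Lib.Helper67.AffSmoothDim.isStandardSmooth_mvPolynomial _ _ n (by simp)
  rw [RingHom.IsStandardSmoothOfRelativeDimension]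
  convert! hsm
  exact Algebra.algebra_ext _ _ fun _ ↦ rfl

/-- **S17643** -/
theorem factorisation {X Y : Scheme.{u}} [IsNoetherian X] [IsNoetherian Y] (f : X ⟶ Y)
    [LocallyOfFiniteType f] (hf : HasFiniteTorDim f) (U : X.Opens) (hU : IsAffineOpen U)
    (V : Y.Opens) (hV : IsAffineOpen V) (hUV : U ≤ f ⁻¹ᵁ V) :
    ∃ (W : Scheme.{u}) (g : (U : Scheme.{u}) ⟶ W) (h : W ⟶ Y),
      IsClosedImmersion g ∧ HasFiniteTorDim g ∧ Smooth h ∧ g ≫ h = U.ι ≫ f := by
  have hft : (f.appLE V U hUV).hom.FiniteType :=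
    HasRingHomProperty.appLE (P := @LocallyOfFiniteType) f inferInstance ⟨V, hV⟩ ⟨U, hU⟩ hUV
  letI : Algebra Γ(Y, V) Γ(X, U) := (f.appLE V U hUV).hom.toAlgebra
  haveI : Algebra.FiniteType Γ(Y, V) Γ(X, U) := hft
  obtain ⟨n, φ, hφ⟩ := Algebra.FiniteType.iff_quotient_mvPolynomial''.1
    (inferInstance : Algebra.FiniteType Γ(Y, V) Γ(X, U))
  let h₀ : Spec (CommRingCat.of (MvPolynomial (Fin n) Γ(Y, V))) ⟶ Spec Γ(Y, V) :=
    Spec.map (CommRingCat.ofHom (algebraMap Γ(Y, V) (MvPolynomial (Fin n) Γ(Y, V))))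
  let g₀ : Spec Γ(X, U) ⟶ Spec (CommRingCat.of (MvPolynomial (Fin n) Γ(Y, V))) :=
    Spec.map (CommRingCat.ofHom φ.toRingHom)
  haveI : SmoothOfRelativeDimension n h₀ := smoothOfRelativeDimension_Spec_mvPolynomial _ n
  haveI : SmoothOfRelativeDimension (n + 0) (h₀ ≫ hV.fromSpec) := inferInstance
  haveI : SmoothOfRelativeDimension n (h₀ ≫ hV.fromSpec) := by simpa using this
  haveI : IsClosedImmersion g₀ := IsClosedImmersion.spec_of_surjective _ hφ
  have hcomm : (hU.isoSpec.hom ≫ g₀) ≫ (h₀ ≫ hV.fromSpec) = U.ι ≫ f := by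
    have h1 : g₀ ≫ h₀ = Spec.map (f.appLE V U hUV) := by
      rw [← Spec.map_comp]
      congr 1
      ext a
      exact φ.commutes a
    rw [Category.assoc, ← Category.assoc g₀, h1, IsAffineOpen.SpecMap_appLE_fromSpec f hV hU hUV,
      ← Category.assoc, IsAffineOpen.isoSpec_hom_fromSpec]
  refine ⟨_, hU.isoSpec.hom ≫ g₀, h₀ ≫ hV.fromSpec, inferInstance, ?_,
    SmoothOfRelativeDimension.smooth (n := n) _, hcomm⟩
  obtain ⟨a, b, hab⟩ := hf
  have hfd : ∀ x : X, HasTorAmplitudeAt f (-(((-a).toNat : ℕ) : ℤ)) 0 (unitCx X) x := by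
    intro x
    letI : Algebra (Y.presheaf.stalk (f.base x)) (X.presheaf.stalk x) :=
      (f.stalkMap x).hom.toAlgebra
    exact hasTorAmplitudeIn_of_iso (SStalk.toDStalkUnitIso f x).symm
      (hasTorAmplitudeIn_inD_normalise _
        (hasTorAmplitudeIn_of_iso (SStalk.toDStalkUnitIso f x) (hab x)))
  refine ⟨-(n : ℤ) - ((-a).toNat : ℕ), 0, fun u => ?_⟩
  have h1 : HasTorAmplitudeAt (U.ι ≫ f) (0 - (((-a).toNat : ℕ) : ℤ)) 0 (unitCx U) u :=
    SStalk.hasTorAmplitudeAt_comp U.ι f (-a).toNat u (hfd _) (unitCx U) 0 0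
      (hasTorAmplitudeAt_of_flat U.ι u)
  have h2 : HasTorAmplitudeAt ((hU.isoSpec.hom ≫ g₀) ≫ (h₀ ≫ hV.fromSpec))
      (-(((-a).toNat : ℕ) : ℤ)) 0 (unitCx U) u := by
    rw [hcomm, ← zero_sub]
    exact h1
  exact hasTorAmplitudeAt_of_comp_smooth _ _ n _ u h2

end Groth.Agent.Lib.Helper29.SecReg
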