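import Groth.Agent.Lib.Helper29.Spread2
import Groth.Agent.Lib.Helper29.DimTheory
import Groth.Agent.Lib.Helper49.Serre

/-!
# `(S_k)` and embedded primes of quotients by regular sequences (EGA IV 5.7.5-ish)
-/

set_option autoImplicit false
set_option linter.unusedSectionVars false
universe u

namespace Groth.Agent.Lib.Helper29.SkEmb

open RingTheory.Sequence IsLocalRing
open Groth.Agent.Lib.Helper29 Groth.Agent.Lib.Helper29.Spread Groth.Agent.Lib.Helper49

variable {A : Type u} [CommRing A] [IsNoetherianRing A] (M : Type u) [AddCommGroup M] [Module A M]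
  [Module.Finite A M]

theorem disjoint_powers_of_notMem {g : A} {q : Ideal A} [q.IsPrime] (hg : g ∉ q) :
    Disjoint (Submonoid.powers g : Set A) (q : Set A) := by
  rw [Set.disjoint_left]
  rintro _ ⟨n, rfl⟩ h
  exact hg (Ideal.IsPrime.mem_of_pow_mem inferInstance n h)

theorem powers_le_primeCompl {g : A} {q : Ideal A} [q.IsPrime] (hg : g ∉ q) :
    Submonoid.powers g ≤ q.primeCompl := by
  rintro _ ⟨n, rfl⟩ h
  exact hg (Ideal.IsPrime.mem_of_pow_mem inferInstance n h)

/-- `(S_k)` implies that quotients of localizations by short regular sequences have no embedded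
primes. -/
theorem noEmbedded_of_hasSk (k : ℕ) (hM : LocCoh.HasSk k A M) (g : A)
    (rs : List (Localization.Away g)) (hlen : rs.length < k)
    (hreg : IsWeaklyRegular (LocalizedModule (Submonoid.powers g) M) rs) :
    ∀ P ∈ associatedPrimes (Localization.Away g) (LocalizedModule (Submonoid.powers g) M ⧸
        (Ideal.ofList rs • (⊤ : Submodule (Localization.Away g)
          (LocalizedModule (Submonoid.powers g) M)))),
      ∀ Q ∈ associatedPrimes (Localization.Away g) (LocalizedModule (Submonoid.powers g) M ⧸
        (Ideal.ofList rs • (⊤ : Submodule (Localization.Away g)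
          (LocalizedModule (Submonoid.powers g) M)))), P ≤ Q → P = Q := by
  obtain ⟨rs₀, -, hlen2, hfor⟩ := exists_lift_list (Submonoid.powers g) ⊤ rs (by
    intro r _
    rw [Ideal.map_top]
    exact Submodule.mem_top)
  have hreg₀ := isWeaklyRegular_of_forall₂_unit hfor (LocalizedModule (Submonoid.powers g) M) hreg
  have hof := ofList_eq_of_forall₂_unit hfor
  let e1 : (LocalizedModule (Submonoid.powers g) M ⧸
        (Ideal.ofList rs • (⊤ : Submodule (Localization.Away g)
          (LocalizedModule (Submonoid.powers g) M)))) ≃ₗ[Localization.Away g]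
      LocalizedModule (Submonoid.powers g) (M ⧸ (Ideal.ofList rs₀ • (⊤ : Submodule A M))) :=
    (Submodule.quotEquivOfEq _ _ (by rw [hof])).trans (locQuotEquiv (Submonoid.powers g) M rs₀)
  rw [LinearEquiv.AssociatedPrimes.eq e1]
  intro P hP Q hQ hPQ
  have hPp : P.IsPrime := hP.isPrime
  have hQp : Q.IsPrime := hQ.isPrime
  have hp := Module.associatedPrimes.comap_mem_associatedPrimes_of_mem_associatedPrimes_of_isLocalizedModule_of_fg
    (Submonoid.powers g) (LocalizedModule.mkLinearMap (Submonoid.powers g)
      (M ⧸ (Ideal.ofList rs₀ • (⊤ : Submodule A M)))) P hP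
    ((isNoetherianRing_iff_ideal_fg A).mp inferInstance _)
  have hq := Module.associatedPrimes.comap_mem_associatedPrimes_of_mem_associatedPrimes_of_isLocalizedModule_of_fg
    (Submonoid.powers g) (LocalizedModule.mkLinearMap (Submonoid.powers g)
      (M ⧸ (Ideal.ofList rs₀ • (⊤ : Submodule A M)))) Q hQ
    ((isNoetherianRing_iff_ideal_fg A).mp inferInstance _)
  set p := P.comap (algebraMap A (Localization.Away g)) with hpdef
  set q := Q.comap (algebraMap A (Localization.Away g)) with hqdef
  have hpprime : p.IsPrime := hp.isPrime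
  have hqprime : q.IsPrime := hq.isPrime
  have hgq : g ∉ q := by
    intro hg
    have h1 : algebraMap A (Localization.Away g) g ∈ Q := hg
    exact hQp.ne_top (Ideal.eq_top_of_isUnit_mem _ h1
      (IsLocalization.map_units (M := Submonoid.powers g) _ ⟨g, Submonoid.mem_powers g⟩))
  have hpq : p ≤ q := Ideal.comap_mono hPQ
  have hregq : IsWeaklyRegular (LocalizedModule q.primeCompl M)
      (rs₀.map (algebraMap A (Localization.AtPrime q))) :=
    isWeaklyRegular_localizedModule_of_le (powers_le_primeCompl hgq) rs₀ M hreg₀
  have hq0 := (Serre.depth_localizedModule_eq_zero_iff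
    (M ⧸ (Ideal.ofList rs₀ • (⊤ : Submodule A M))) q).2 hq
  have hnt : Nontrivial (LocalizedModule q.primeCompl
      (M ⧸ (Ideal.ofList rs₀ • (⊤ : Submodule A M)))) :=
    Serre.mem_support_of_mem_associatedPrimes _ q hq
  obtain ⟨hdepth, hdim⟩ := depth_dim_of_isWeaklyRegular_localizedModule M q rs₀ hregq hnt
  rw [hq0, zero_add] at hdepth
  have hS := hM q
  rw [← hdepth, ← hdim] at hS
  obtain ⟨D, hD⟩ := DimTheory.exists_nat_supportDim (Localization.AtPrime q)
    (LocalizedModule q.primeCompl (M ⧸ (Ideal.ofList rs₀ • (⊤ : Submodule A M))))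
  rw [hD] at hS
  have hD0 : D = 0 := by
    rw [min_le_iff] at hS
    rcases hS with hS | hS
    · have : k ≤ rs₀.length := by exact_mod_cast hS
      omega
    · have : D + rs₀.length ≤ rs₀.length := by exact_mod_cast hS
      omega
  have hle0 : Module.supportDim (Localization.AtPrime q)
      (LocalizedModule q.primeCompl (M ⧸ (Ideal.ofList rs₀ • (⊤ : Submodule A M)))) ≤ 0 := by
    rw [hD, hD0]
    simp
  have hpeq : p = q := (Serre.supportDim_localizedModule_le_zero_iff _ q).1 hle0 ⟨p, hpprime⟩
    (Serre.mem_support_of_mem_associatedPrimes _ p hp) hpq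
  rw [← IsLocalization.map_under (Submonoid.powers g) (Localization.Away g) P,
    ← IsLocalization.map_under (Submonoid.powers g) (Localization.Away g) Q]
  change Ideal.map _ p = Ideal.map _ q
  rw [hpeq]

/-- Conversely, absence of embedded primes in quotients of localizations by regular sequences of
length `< k` implies `(S_k)`. -/
theorem hasSk_of_noEmbedded (k : ℕ)
    (h : ∀ (g : A) (rs : List (Localization.Away g)), rs.length < k →
      IsWeaklyRegular (LocalizedModule (Submonoid.powers g) M) rs →
      ∀ P ∈ associatedPrimes (Localization.Away g) (LocalizedModule (Submonoid.powers g) M ⧸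
          (Ideal.ofList rs • (⊤ : Submodule (Localization.Away g)
            (LocalizedModule (Submonoid.powers g) M)))),
        ∀ Q ∈ associatedPrimes (Localization.Away g) (LocalizedModule (Submonoid.powers g) M ⧸
          (Ideal.ofList rs • (⊤ : Submodule (Localization.Away g)
            (LocalizedModule (Submonoid.powers g) M)))), P ≤ Q → P = Q) :
    LocCoh.HasSk k A M := by
  intro p _
  rcases subsingleton_or_nontrivial (LocalizedModule p.primeCompl M) with hsub | hnt
  · rw [DepthLoc.depth_eq_top_of_subsingleton]
    exact le_top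
  have hIM := maximalIdeal_smul_top_ne_top (Localization.AtPrime p) (LocalizedModule p.primeCompl M)
  obtain ⟨rs', hreg', hmem', -, hlen⟩ := DepthLib.exists_maximal_regular
    (maximalIdeal (Localization.AtPrime p)) (LocalizedModule p.primeCompl M) hIM
  change (rs'.length : ℕ∞) = LocCoh.depth (Localization.AtPrime p) (LocalizedModule p.primeCompl M)
    at hlen
  by_cases hk : k ≤ rs'.length
  · rw [← hlen]
    refine le_trans (min_le_left _ _) ?_
    exact_mod_cast hk
  have hmem'' : ∀ r' ∈ rs', r' ∈ p.map (algebraMap A (Localization p.primeCompl)) := by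
    intro r' hr'
    have := hmem' r' hr'
    rw [← Localization.AtPrime.map_eq_maximalIdeal] at this
    exact this
  obtain ⟨rs₀, hrs₀p, hlen2, hfor⟩ := exists_lift_list p.primeCompl p rs' hmem''
  have hreg₀ := isWeaklyRegular_of_forall₂_unit hfor (LocalizedModule p.primeCompl M) hreg'
  obtain ⟨g, hgp, hg⟩ := exists_spread p rs₀ M hreg₀
  have hregg := hg (Submonoid.powers g)
    (IsLocalization.map_units (M := Submonoid.powers g) _ ⟨g, Submonoid.mem_powers g⟩)
  have hh := h g (rs₀.map (algebraMap A (Localization.Away g)))
    (by rw [List.length_map, hlen2]; omega) hregg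
  rw [LinearEquiv.AssociatedPrimes.eq (locQuotEquiv (Submonoid.powers g) M rs₀)] at hh
  -- the quotient localized at `p` is nontrivial
  have hnt₀ : Nontrivial (LocalizedModule p.primeCompl
      (M ⧸ (Ideal.ofList rs₀ • (⊤ : Submodule A M)))) := by
    have hle : Ideal.ofList (rs₀.map (algebraMap A (Localization.AtPrime p))) ≤
        maximalIdeal (Localization.AtPrime p) := by
      rw [Ideal.ofList, Ideal.span_le]
      intro r hr
      obtain ⟨a, ha, rfl⟩ := List.mem_map.1 hr
      exact (IsLocalization.AtPrime.to_map_mem_maximal_iff (Localization.AtPrime p) p a).2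
        (hrs₀p a ha)
    have hne : Ideal.ofList (rs₀.map (algebraMap A (Localization.AtPrime p))) •
        (⊤ : Submodule (Localization.AtPrime p) (LocalizedModule p.primeCompl M)) ≠ ⊤ := by
      intro htop
      apply hIM
      have hmono : Ideal.ofList (rs₀.map (algebraMap A (Localization.AtPrime p))) •
          (⊤ : Submodule (Localization.AtPrime p) (LocalizedModule p.primeCompl M)) ≤
          maximalIdeal (Localization.AtPrime p) •
            (⊤ : Submodule (Localization.AtPrime p) (LocalizedModule p.primeCompl M)) :=
        Submodule.smul_mono_left hle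
      rw [htop] at hmono
      exact eq_top_iff.2 hmono
    have hq : Nontrivial (LocalizedModule p.primeCompl M ⧸
        (Ideal.ofList (rs₀.map (algebraMap A (Localization.AtPrime p))) •
          (⊤ : Submodule (Localization.AtPrime p) (LocalizedModule p.primeCompl M)))) :=
      Submodule.Quotient.nontrivial_iff.2 hne
    exact (locQuotEquiv p.primeCompl M rs₀).toEquiv.nontrivial_congr.1 hq
  obtain ⟨hdepth, hdim⟩ := depth_dim_of_isWeaklyRegular_localizedModule M p rs₀ hreg₀ hnt₀
  rw [← hlen, ← hlen2] at hdepth
  have hd0 : LocCoh.depth (Localization.AtPrime p) (LocalizedModule p.primeCompl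
      (M ⧸ (Ideal.ofList rs₀ • (⊤ : Submodule A M)))) = 0 := by
    generalize LocCoh.depth (Localization.AtPrime p) (LocalizedModule p.primeCompl
      (M ⧸ (Ideal.ofList rs₀ • (⊤ : Submodule A M)))) = d at hdepth
    rcases eq_or_ne d ⊤ with rfl | hdt
    · simp at hdepth
    obtain ⟨dn, rfl⟩ := ENat.ne_top_iff_exists.1 hdt
    have : dn + rs₀.length = rs₀.length := by exact_mod_cast hdepth
    have : dn = 0 := by omega
    rw [this]
    rfl
  have hpass := (Serre.depth_localizedModule_eq_zero_iff
    (M ⧸ (Ideal.ofList rs₀ • (⊤ : Submodule A M))) p).1 hd0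
  have hle0 : Module.supportDim (Localization.AtPrime p)
      (LocalizedModule p.primeCompl (M ⧸ (Ideal.ofList rs₀ • (⊤ : Submodule A M)))) ≤ 0 := by
    rw [Serre.supportDim_localizedModule_le_zero_iff]
    intro q' hq' hq'p
    rw [Module.mem_support_iff_of_finite] at hq'
    obtain ⟨q'', hq''min, hq''le⟩ := Ideal.exists_minimalPrimes_le hq'
    have hq''ass : q'' ∈ associatedPrimes A (M ⧸ (Ideal.ofList rs₀ • (⊤ : Submodule A M))) :=
      Module.associatedPrimes.minimalPrimes_annihilator_subset_associatedPrimes A _ hq''min
    have hq''prime : q''.IsPrime := hq''ass.isPrime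
    have hq''p : q'' ≤ p := le_trans hq''le hq'p
    have hgq'' : g ∉ q'' := fun hg => hgp (hq''p hg)
    have hc'' := IsLocalization.under_map_of_isPrime_disjoint (Submonoid.powers g)
      (Localization.Away g) hq''prime (disjoint_powers_of_notMem hgq'')
    have hc := IsLocalization.under_map_of_isPrime_disjoint (Submonoid.powers g)
      (Localization.Away g) (inferInstance : p.IsPrime) (disjoint_powers_of_notMem hgp)
    have hP'' := Module.associatedPrimes.mem_associatedPrimes_of_comap_mem_associatedPrimes_of_isLocalizedModule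
      (Submonoid.powers g) (LocalizedModule.mkLinearMap (Submonoid.powers g)
        (M ⧸ (Ideal.ofList rs₀ • (⊤ : Submodule A M))))
      (q''.map (algebraMap A (Localization.Away g))) (by
        change (Ideal.map _ q'').under A ∈ _
        rw [hc'']
        exact hq''ass)
    have hP := Module.associatedPrimes.mem_associatedPrimes_of_comap_mem_associatedPrimes_of_isLocalizedModule
      (Submonoid.powers g) (LocalizedModule.mkLinearMap (Submonoid.powers g)
        (M ⧸ (Ideal.ofList rs₀ • (⊤ : Submodule A M))))
      (p.map (algebraMap A (Localization.Away g))) (by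
        change (Ideal.map _ p).under A ∈ _
        rw [hc]
        exact hpass)
    have heq := hh _ hP'' _ hP (Ideal.map_mono hq''p)
    have heq' : q'' = p := by
      rw [← hc'', ← hc, heq]
    rw [heq'] at hq''le
    exact le_antisymm hq'p hq''le
  rw [← hlen, ← hdim, ← hlen2]
  refine le_trans (min_le_right _ _) ?_
  calc Module.supportDim (Localization.AtPrime p)
        (LocalizedModule p.primeCompl (M ⧸ (Ideal.ofList rs₀ • (⊤ : Submodule A M)))) + rs₀.length
      ≤ 0 + rs₀.length := add_le_add hle0 le_rfl
    _ = ((rs₀.length : ℕ∞) : WithBot ℕ∞) := by rw [zero_add]; rfl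

end Groth.Agent.Lib.Helper29.SkEmb
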