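import Groth.Agent.Lib.Helper29.DepthLoc
import Groth.Agent.Lib.Helper29.Depth

/-!
# Spreading out regular sequences from a localization at a prime

If the images of `rs : List A` form a weakly regular sequence on `M_p`, then there is `g ∉ p` such that
the images of `rs` form a weakly regular sequence on every localization `S⁻¹M` in which `g` becomes
a unit (e.g. `M_g`, or `M_q` for `g ∉ q`).  Also: weak regularity is insensitive to multiplying the
terms of a sequence by units, so that sequences in `A_p` can be replaced by sequences from `A`.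
-/

set_option autoImplicit false
universe u

namespace Groth.Agent.Lib.Helper29.Spread

open RingTheory.Sequence IsLocalRing Pointwise

section Unit

variable {R : Type*} [CommRing R]

theorem smul_top_eq_of_unit {u r : R} (hu : IsUnit u) (M : Type*) [AddCommGroup M] [Module R M] :
    ((u * r) • (⊤ : Submodule R M)) = r • (⊤ : Submodule R M) := by
  rw [← Submodule.ideal_span_singleton_smul, ← Submodule.ideal_span_singleton_smul,
    Ideal.span_singleton_mul_left_unit hu]

/-- Weak regularity is insensitive to multiplying the terms by units. -/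
theorem isWeaklyRegular_of_forall₂_unit {rs rs' : List R}
    (h : List.Forall₂ (fun r r' => ∃ u : R, IsUnit u ∧ r' = u * r) rs rs') :
    ∀ (M : Type u) [AddCommGroup M] [Module R M], IsWeaklyRegular M rs → IsWeaklyRegular M rs' := by
  induction h with
  | nil => intro M _ _ h; exact h
  | cons hr _ ih =>
    intro M _ _ hreg
    obtain ⟨u, hu, rfl⟩ := hr
    rw [isWeaklyRegular_cons_iff] at hreg ⊢
    refine ⟨(hu.isSMulRegular M).mul hreg.1, ?_⟩
    exact ((Submodule.quotEquivOfEq _ _ (smul_top_eq_of_unit hu M)).isWeaklyRegular_congr _).2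
      (ih _ hreg.2)

end Unit

section Regular

variable {A : Type u} [CommRing A] (M : Type u) [AddCommGroup M] [Module A M]

theorem mk_eq_zero_iff' (S : Submonoid A) (m : M) (s : S) :
    LocalizedModule.mk m s = 0 ↔ ∃ u : S, u • m = 0 := by
  rw [← LocalizedModule.zero_mk (1 : S), LocalizedModule.mk_eq]
  constructor
  · rintro ⟨u, hu⟩
    refine ⟨u, ?_⟩
    rw [one_smul, smul_zero, smul_zero] at hu
    exact hu
  · rintro ⟨u, hu⟩
    exact ⟨u, by rw [one_smul, smul_zero, smul_zero, hu]⟩

/-- If `g` kills the `x`-torsion of `M` and becomes a unit in `S⁻¹A`, then `x` is regular on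
`S⁻¹M`. -/
theorem isSMulRegular_localizedModule_of_smul_ker (x g : A)
    (hg : ∀ k : M, x • k = 0 → g • k = 0) (S : Submonoid A)
    (hu : IsUnit (algebraMap A (Localization S) g)) :
    IsSMulRegular (LocalizedModule S M) (algebraMap A (Localization S) x) := by
  rw [isSMulRegular_iff_right_eq_zero_of_smul]
  intro y hy
  induction y using LocalizedModule.induction_on with
  | h m s =>
    rw [algebraMap_smul, LocalizedModule.smul'_mk, mk_eq_zero_iff'] at hy
    obtain ⟨t, ht⟩ := hy
    have h1 : x • ((t : A) • m) = 0 := by
      rw [smul_comm]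
      exact ht
    have h2 : g • ((t : A) • m) = 0 := hg _ h1
    have h3 : (algebraMap A (Localization S) g) • (LocalizedModule.mk m s) = 0 := by
      rw [algebraMap_smul, LocalizedModule.smul'_mk, mk_eq_zero_iff']
      refine ⟨t, ?_⟩
      rw [smul_comm] at h2
      exact h2
    obtain ⟨v, hv⟩ := hu
    have h4 : (↑v⁻¹ : Localization S) • ((algebraMap A (Localization S) g) •
        (LocalizedModule.mk m s)) = 0 := by rw [h3, smul_zero]
    rw [← hv, smul_smul, Units.inv_mul, one_smul] at h4
    exact h4

end Regular

section Ker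

variable {A : Type u} [CommRing A] [IsNoetherianRing A] (M : Type u) [AddCommGroup M] [Module A M]
  [Module.Finite A M]

/-- If `x` is regular on `M_p`, some `g ∉ p` kills the `x`-torsion of `M`. -/
theorem exists_notMem_smul_ker (p : Ideal A) [p.IsPrime] (x : A)
    (hx : IsSMulRegular (LocalizedModule p.primeCompl M)
      (algebraMap A (Localization.AtPrime p) x)) :
    ∃ g : A, g ∉ p ∧ ∀ k : M, x • k = 0 → g • k = 0 := by
  let K : Submodule A M := LinearMap.ker (LinearMap.lsmul A M x)
  have hnot : (⟨p, inferInstance⟩ : PrimeSpectrum A) ∉ Module.support A K := by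
    rw [Module.notMem_support_iff']
    rintro ⟨k, hk⟩
    have hk' : x • k = 0 := hk
    have h1 : (algebraMap A (Localization.AtPrime p) x) •
        (LocalizedModule.mk k (1 : p.primeCompl)) = 0 := by
      rw [algebraMap_smul, LocalizedModule.smul'_mk, hk', LocalizedModule.zero_mk]
    have h2 := (isSMulRegular_iff_right_eq_zero_of_smul.1 hx) _ h1
    rw [mk_eq_zero_iff'] at h2
    obtain ⟨u, hu⟩ := h2
    refine ⟨(u : A), u.2, ?_⟩
    ext
    exact hu
  rw [Module.mem_support_iff_of_finite] at hnot
  obtain ⟨g, hgK, hgp⟩ := SetLike.not_le_iff_exists.1 hnot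
  refine ⟨g, hgp, fun k hk => ?_⟩
  have := Module.mem_annihilator.1 hgK ⟨k, hk⟩
  exact congrArg Subtype.val this

end Ker

section Main

variable {A : Type u} [CommRing A] [IsNoetherianRing A]

/-- **Spreading out**: a sequence of elements of `A` which is weakly regular on `M_p` is weakly
regular on `S⁻¹M` as soon as some fixed `g ∉ p` becomes a unit in `S⁻¹A`. -/
theorem exists_spread (p : Ideal A) [p.IsPrime] (rs : List A) :
    ∀ (M : Type u) [AddCommGroup M] [Module A M] [Module.Finite A M],
      IsWeaklyRegular (LocalizedModule p.primeCompl M)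
        (rs.map (algebraMap A (Localization.AtPrime p))) →
      ∃ g : A, g ∉ p ∧ ∀ (S : Submonoid A), IsUnit (algebraMap A (Localization S) g) →
        IsWeaklyRegular (LocalizedModule S M) (rs.map (algebraMap A (Localization S))) := by
  induction rs with
  | nil =>
    intro M _ _ _ _
    exact ⟨1, fun h => (inferInstance : p.IsPrime).ne_top ((Ideal.eq_top_iff_one p).2 h),
      fun S _ => IsWeaklyRegular.nil _ _⟩
  | cons x xs ih =>
    intro M _ _ _ hreg
    rw [List.map_cons, isWeaklyRegular_cons_iff] at hreg
    obtain ⟨hx, hxs⟩ := hreg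
    have hxs' : IsWeaklyRegular (LocalizedModule p.primeCompl (QuotSMulTop x M))
        (xs.map (algebraMap A (Localization.AtPrime p))) :=
      ((DepthLoc.quotSMulTopLocEquiv p.primeCompl M x).isWeaklyRegular_congr _).1 hxs
    obtain ⟨g₂, hg₂p, hg₂⟩ := ih (QuotSMulTop x M) hxs'
    obtain ⟨g₁, hg₁p, hg₁⟩ := exists_notMem_smul_ker M p x hx
    refine ⟨g₁ * g₂, fun h => ?_, fun S hS => ?_⟩
    · rcases (inferInstance : p.IsPrime).mem_or_mem h with h | h
      · exact hg₁p h
      · exact hg₂p h
    · rw [map_mul] at hS
      have hu₁ : IsUnit (algebraMap A (Localization S) g₁) := isUnit_of_mul_isUnit_left hS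
      have hu₂ : IsUnit (algebraMap A (Localization S) g₂) := isUnit_of_mul_isUnit_right hS
      rw [List.map_cons, isWeaklyRegular_cons_iff]
      refine ⟨isSMulRegular_localizedModule_of_smul_ker M x g₁ hg₁ S hu₁, ?_⟩
      exact ((DepthLoc.quotSMulTopLocEquiv S M x).isWeaklyRegular_congr _).2 (hg₂ S hu₂)

end Main

section Lift

variable {A : Type u} [CommRing A]

/-- Lists in `I A_p` can be replaced, up to units, by lists coming from `I`. -/
theorem exists_lift_list (S : Submonoid A) (I : Ideal A) (rs' : List (Localization S))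
    (hmem : ∀ r' ∈ rs', r' ∈ I.map (algebraMap A (Localization S))) :
    ∃ rs : List A, (∀ r ∈ rs, r ∈ I) ∧ rs.length = rs'.length ∧
      List.Forall₂ (fun r' r'' => ∃ u : Localization S, IsUnit u ∧ r'' = u * r') rs'
        (rs.map (algebraMap A (Localization S))) := by
  induction rs' with
  | nil => exact ⟨[], by simp, rfl, List.Forall₂.nil⟩
  | cons r' rs' ih =>
    obtain ⟨rs, h1, h2, h3⟩ := ih (fun y hy => hmem y (List.mem_cons_of_mem _ hy))
    obtain ⟨⟨a, s⟩, has⟩ := (IsLocalization.mem_map_algebraMap_iff S (Localization S)).1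
      (hmem r' List.mem_cons_self)
    refine ⟨(a : A) :: rs, ?_, by simp [h2], ?_⟩
    · intro r hr
      rcases List.mem_cons.1 hr with rfl | hr
      · exact a.2
      · exact h1 r hr
    · rw [List.map_cons]
      refine List.Forall₂.cons ⟨algebraMap A (Localization S) s, IsLocalization.map_units _ s, ?_⟩ h3
      rw [← has, mul_comm]

end Lift

end Groth.Agent.Lib.Helper29.Spread
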