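import Groth.Agent.Lib.Helper29.Spread
import Groth.Agent.Lib.Helper29.CMRing

/-!
# More on regular sequences and localization

* `isSMulRegular_localizedModule_iff`: `x/1` is regular on `S⁻¹M` iff every `x`-torsion element of
  `M` is killed by an element of `S`;
* `isWeaklyRegular_localizedModule_of_le`: a sequence from `A` weakly regular on `S⁻¹M` is weakly
  regular on `T⁻¹M` for `S ≤ T`;
* `ofList_eq_of_forall₂_unit`: unit multiples generate the same ideal;
* `locQuotEquiv`: `S⁻¹M/(rs)S⁻¹M ≃ S⁻¹(M/(rs)M)`.
-/

set_option autoImplicit false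
universe u

namespace Groth.Agent.Lib.Helper29.Spread

open RingTheory.Sequence IsLocalRing Pointwise

section Criterion

variable {A : Type u} [CommRing A] (M : Type u) [AddCommGroup M] [Module A M]

theorem isSMulRegular_localizedModule_iff (S : Submonoid A) (x : A) :
    IsSMulRegular (LocalizedModule S M) (algebraMap A (Localization S) x) ↔
      ∀ k : M, x • k = 0 → ∃ s : S, s • k = 0 := by
  rw [isSMulRegular_iff_right_eq_zero_of_smul]
  constructor
  · intro h k hk
    have h1 : (algebraMap A (Localization S) x) • (LocalizedModule.mk k (1 : S)) = 0 := by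
      rw [algebraMap_smul, LocalizedModule.smul'_mk, hk, LocalizedModule.zero_mk]
    have h2 := h _ h1
    rwa [mk_eq_zero_iff'] at h2
  · intro h y hy
    induction y using LocalizedModule.induction_on with
    | h m s =>
      rw [algebraMap_smul, LocalizedModule.smul'_mk, mk_eq_zero_iff'] at hy
      obtain ⟨t, ht⟩ := hy
      have h1 : x • ((t : A) • m) = 0 := by
        rw [smul_comm]
        exact ht
      obtain ⟨s', hs'⟩ := h _ h1
      rw [mk_eq_zero_iff']
      refine ⟨s' * t, ?_⟩
      rw [Submonoid.smul_def, Submonoid.coe_mul, mul_smul]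
      exact hs'

/-- Weak regularity passes to further localizations. -/
theorem isWeaklyRegular_localizedModule_of_le {S T : Submonoid A} (hST : S ≤ T) (rs : List A) :
    ∀ (M : Type u) [AddCommGroup M] [Module A M],
      IsWeaklyRegular (LocalizedModule S M) (rs.map (algebraMap A (Localization S))) →
      IsWeaklyRegular (LocalizedModule T M) (rs.map (algebraMap A (Localization T))) := by
  induction rs with
  | nil => intro M _ _ _; exact IsWeaklyRegular.nil _ _
  | cons x xs ih =>
    intro M _ _ hreg
    rw [List.map_cons, isWeaklyRegular_cons_iff] at hreg ⊢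
    obtain ⟨hx, hxs⟩ := hreg
    refine ⟨?_, ?_⟩
    · rw [isSMulRegular_localizedModule_iff] at hx ⊢
      intro k hk
      obtain ⟨s, hs⟩ := hx k hk
      exact ⟨⟨s, hST s.2⟩, hs⟩
    · have hxs' := ((DepthLoc.quotSMulTopLocEquiv S M x).isWeaklyRegular_congr _).1 hxs
      exact ((DepthLoc.quotSMulTopLocEquiv T M x).isWeaklyRegular_congr _).2
        (ih (QuotSMulTop x M) hxs')

end Criterion

section OfList

variable {R : Type*} [CommRing R]

theorem ofList_eq_of_forall₂_unit {rs rs' : List R}
    (h : List.Forall₂ (fun r r' => ∃ u : R, IsUnit u ∧ r' = u * r) rs rs') :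
    Ideal.ofList rs = Ideal.ofList rs' := by
  induction h with
  | nil => rfl
  | cons hr _ ih =>
    obtain ⟨u, hu, rfl⟩ := hr
    rw [Ideal.ofList_cons, Ideal.ofList_cons, ih, Ideal.span_singleton_mul_left_unit hu]

end OfList

section LocQuot

variable {A : Type u} [CommRing A] (S : Submonoid A) (M : Type u) [AddCommGroup M] [Module A M]

/-- `S⁻¹M/(rs)S⁻¹M ≃ S⁻¹(M/(rs)M)`. -/
noncomputable def locQuotEquiv (rs : List A) :
    (LocalizedModule S M ⧸ (Ideal.ofList (rs.map (algebraMap A (Localization S))) •
      (⊤ : Submodule (Localization S) (LocalizedModule S M)))) ≃ₗ[Localization S]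
      LocalizedModule S (M ⧸ (Ideal.ofList rs • (⊤ : Submodule A M))) :=
  (Submodule.quotEquivOfEq _ _ (by
    rw [Submodule.localized, CMRing.localized'_smul_top S (LocalizedModule.mkLinearMap S M),
      Ideal.map_ofList])).trans
    (localizedQuotientEquiv S (Ideal.ofList rs • (⊤ : Submodule A M)))

end LocQuot

section DepthDim

variable {A : Type u} [CommRing A] [IsNoetherianRing A] (M : Type u) [AddCommGroup M] [Module A M]
  [Module.Finite A M]

/-- Depth and dimension of `(M/(rs)M)_q` for `rs` weakly regular on `M_q`. -/
theorem depth_dim_of_isWeaklyRegular_localizedModule (q : Ideal A) [q.IsPrime] (rs : List A)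
    (hreg : IsWeaklyRegular (LocalizedModule q.primeCompl M)
      (rs.map (algebraMap A (Localization.AtPrime q))))
    (hnt : Nontrivial (LocalizedModule q.primeCompl (M ⧸ (Ideal.ofList rs • (⊤ : Submodule A M))))) :
    LocCoh.depth (Localization.AtPrime q)
        (LocalizedModule q.primeCompl (M ⧸ (Ideal.ofList rs • (⊤ : Submodule A M)))) + rs.length =
      LocCoh.depth (Localization.AtPrime q) (LocalizedModule q.primeCompl M) ∧
    Module.supportDim (Localization.AtPrime q)
        (LocalizedModule q.primeCompl (M ⧸ (Ideal.ofList rs • (⊤ : Submodule A M)))) + rs.length =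
      Module.supportDim (Localization.AtPrime q) (LocalizedModule q.primeCompl M) := by
  let e := locQuotEquiv q.primeCompl M rs
  have hnt' : Nontrivial (LocalizedModule q.primeCompl M ⧸
      (Ideal.ofList (rs.map (algebraMap A (Localization.AtPrime q))) •
        (⊤ : Submodule (Localization.AtPrime q) (LocalizedModule q.primeCompl M)))) :=
    e.toEquiv.nontrivial
  rw [← Module.supportDim_eq_of_equiv e, ← CMLib.depth_congr e]
  have hne : Ideal.ofList (rs.map (algebraMap A (Localization.AtPrime q))) •
      (⊤ : Submodule (Localization.AtPrime q) (LocalizedModule q.primeCompl M)) ≠ ⊤ := by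
    intro htop
    have : Subsingleton (LocalizedModule q.primeCompl M ⧸
      (Ideal.ofList (rs.map (algebraMap A (Localization.AtPrime q))) •
        (⊤ : Submodule (Localization.AtPrime q) (LocalizedModule q.primeCompl M)))) := by
      rw [htop]
      infer_instance
    exact not_subsingleton _ this
  have hmem' : ∀ r ∈ rs.map (algebraMap A (Localization.AtPrime q)),
      r ∈ maximalIdeal (Localization.AtPrime q) := by
    intro r hr
    by_contra hrm
    apply hne
    have hunit : IsUnit r := by
      by_contra hnu
      exact hrm ((mem_maximalIdeal r).2 (mem_nonunits_iff.2 hnu))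
    have : Ideal.ofList (rs.map (algebraMap A (Localization.AtPrime q))) = ⊤ :=
      Ideal.eq_top_of_isUnit_mem _ (Ideal.subset_span hr) hunit
    rw [this, Submodule.top_smul]
  have hMpnt : Nontrivial (LocalizedModule q.primeCompl M) := by
    by_contra hcon
    rw [not_nontrivial_iff_subsingleton] at hcon
    exact not_subsingleton _ (inferInstance : Subsingleton (LocalizedModule q.primeCompl M ⧸
      (Ideal.ofList (rs.map (algebraMap A (Localization.AtPrime q))) •
        (⊤ : Submodule (Localization.AtPrime q) (LocalizedModule q.primeCompl M)))))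
  have hReg : IsRegular (LocalizedModule q.primeCompl M)
      (rs.map (algebraMap A (Localization.AtPrime q))) := ⟨hreg, hne.symm⟩
  have hdim := Module.supportDim_add_length_eq_supportDim_of_isRegular _ hReg
  have hdepth := CMRing.idealDepth_quotient_ofList_add_length
    (maximalIdeal (Localization.AtPrime q))
    (rs.map (algebraMap A (Localization.AtPrime q))) (LocalizedModule q.primeCompl M)
    (maximalIdeal_smul_top_ne_top _ _) hreg hmem'
  rw [List.length_map] at hdim hdepth
  exact ⟨hdepth, hdim⟩

end DepthDim

end Groth.Agent.Lib.Helper29.Spread
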