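import Mathlib
import Groth.Agent.Lib.Helper12.TorBridge
import Groth.Agent.Lib.Helper12.TorAmpRestrict
import Groth.Agent.Lib.Helper12.FlatExtendScalars
import Groth.Agent.Lib.Helper12.DRingTorAmpRep
import Groth.Agent.Lib.Helper36.TorAmpGlDim
import Groth.Agent.Lib.Helper36.HasLeftDerived

/-!
# Tor dimension of modules: basic permanence properties (helper29)

`TD R M d`: `Tor_p^R(M, N) = 0` for all `N` and `p > d`.
-/

set_option autoImplicit false
set_option linter.style.haveILetI false
universe u

open CategoryTheory TensorProduct DRing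

attribute [local instance] HasDerivedCategory.standard

namespace Groth.Agent.Lib.Helper29.TorDim

open Groth.Agent.Lib.Helper12 Groth.Agent.Lib.Helper36

/-- tor dimension `≤ d` -/
def TD (R : Type u) [CommRing R] (M : Type u) [AddCommGroup M] [Module R M] (d : ℕ) : Prop :=
  ∀ (N : ModuleCat.{u} R) (p : ℕ), d < p → Limits.IsZero (TorM p (ModuleCat.of R M) N)

section Basic

variable {R : Type u} [CommRing R] {M M' : Type u} [AddCommGroup M] [Module R M]
  [AddCommGroup M'] [Module R M'] {d : ℕ}

theorem td_iff_amp : TD R M d ↔ HasTorAmplitudeIn R (-(d : ℤ)) 0 (Dual.inD R M) :=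
  ⟨fun h => hasTorAmplitudeIn_of_isZero_TorM (ModuleCat.of R M) d h,
    fun h N p hp => isZero_TorM_of_hasTorAmplitudeIn (ModuleCat.of R M) d h N p hp⟩

theorem TD.mono {d' : ℕ} (h : TD R M d) (hd : d ≤ d') : TD R M d' :=
  fun N p hp => h N p (by omega)

theorem TD.of_retract (i : M →ₗ[R] M') (r : M' →ₗ[R] M) (hri : r ∘ₗ i = LinearMap.id)
    (h : TD R M' d) : TD R M d := by
  intro N p hp
  have h0 := h N p hp
  rw [Limits.IsZero.iff_id_eq_zero]
  have hcat : ModuleCat.ofHom i ≫ ModuleCat.ofHom r = 𝟙 (ModuleCat.of R M) := by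
    rw [← ModuleCat.ofHom_comp, hri]
    rfl
  have h1 : ((Tor (ModuleCat.{u} R) p).map (ModuleCat.ofHom i)).app N ≫
      ((Tor (ModuleCat.{u} R) p).map (ModuleCat.ofHom r)).app N = 𝟙 _ := by
    rw [← NatTrans.comp_app, ← CategoryTheory.Functor.map_comp, hcat,
      CategoryTheory.Functor.map_id]
    rfl
  rw [← h1, h0.eq_of_tgt (((Tor (ModuleCat.{u} R) p).map (ModuleCat.ofHom i)).app N) 0,
    Limits.zero_comp]

theorem TD.of_linearEquiv (e : M ≃ₗ[R] M') (h : TD R M d) : TD R M' d :=
  TD.of_retract e.symm.toLinearMap e.toLinearMap (by ext; simp) h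

theorem TD.of_exact {M₁ M₂ M₃ : Type u} [AddCommGroup M₁] [Module R M₁] [AddCommGroup M₂]
    [Module R M₂] [AddCommGroup M₃] [Module R M₃] (f : M₁ →ₗ[R] M₂) (g : M₂ →ₗ[R] M₃)
    (hf : Function.Injective f) (hg : Function.Surjective g) (hex : Function.Exact f g)
    (h₁ : TD R M₁ d) (h₂ : TD R M₂ d) : TD R M₃ (d + 1) := by
  intro N p hp
  obtain ⟨n, rfl⟩ : ∃ n, p = n + 1 := ⟨p - 1, by omega⟩
  let S : ShortComplex (ModuleCat.{u} R) :=
    ShortComplex.mk (ModuleCat.ofHom f) (ModuleCat.ofHom g) (by
      ext x
      exact hex.apply_apply_eq_zero x)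
  have hS : S.ShortExact := by
    refine ShortComplex.ShortExact.mk' ?_ ?_ ?_
    · rw [ShortComplex.ShortExact.moduleCat_exact_iff_function_exact]
      exact hex
    · exact (ModuleCat.mono_iff_injective _).2 hf
    · exact (ModuleCat.epi_iff_surjective _).2 hg
  exact isZero_TorM_right S hS N n (h₂ N (n + 1) (by omega)) (h₁ N n (by omega))

end Basic

section Change

variable {R S : Type u} [CommRing R] [CommRing S] [Algebra R S] {d : ℕ}

/-- flat base change -/
theorem TD.baseChange [Module.Flat R S] {M : Type u} [AddCommGroup M] [Module R M]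
    (h : TD R M d) : TD S (S ⊗[R] M) d := by
  rw [td_iff_amp] at h ⊢
  exact hasTorAmplitudeIn_of_iso (extScD_inD (A := R) (B := S) M)
    (hasTorAmplitudeIn_extScD (-(d : ℤ)) 0 _ h)

/-- restriction of scalars along a flat ring map -/
theorem TD.restrictScalars_of_flat [Module.Flat R S] {M : Type u} [AddCommGroup M] [Module R M]
    [Module S M] [IsScalarTower R S M] (h : TD S M d) : TD R M d := by
  rw [td_iff_amp] at h ⊢
  haveI : ∀ M : ModuleCat.{u} R, HasLTensor R M := fun M => LT.hasLTensor _ M
  have hS : HasTorAmplitudeIn R (-((0 : ℕ) : ℤ)) 0 (Dual.inD R S) := by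
    simpa using TorAmpExt.hasTorAmplitudeIn_single_of_flat (ModuleCat.of R S)
  have key := hasTorAmplitudeIn_restrictD 0 hS (Dual.inD S M) (-(d : ℤ)) 0 h
  let eM : ((ModuleCat.restrictScalars (algebraMap R S)).obj (ModuleCat.of S M)) ≃ₗ[R] M :=
    { toFun := fun x => x
      invFun := fun x => x
      map_add' := fun _ _ => rfl
      map_smul' := fun r x => algebraMap_smul S r (show M from x)
      left_inv := fun _ => rfl
      right_inv := fun _ => rfl }
  have key' := hasTorAmplitudeIn_of_iso
    (((ModuleCat.restrictScalars (algebraMap R S)).mapDerivedCategorySingleFunctor 0).app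
        (ModuleCat.of S M) ≪≫
      (DerivedCategory.singleFunctor (ModuleCat.{u} R) 0).mapIso eM.toModuleIso) key
  simpa using key'

/-- a module over a localisation has the same tor dimension over the localisation -/
theorem TD.of_isLocalization (Mon : Submonoid R) [IsLocalization Mon S] {M : Type u}
    [AddCommGroup M] [Module R M] [Module S M] [IsScalarTower R S M] (h : TD R M d) :
    TD S M d := by
  haveI : Module.Flat R S := IsLocalization.flat S Mon
  haveI := isLocalizedModule_id Mon M S
  exact TD.of_linearEquiv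
    (IsLocalizedModule.isBaseChange Mon S (LinearMap.id : M →ₗ[R] M)).equiv h.baseChange

/-- transfer along a bijective ring map -/
theorem TD.of_bijective (hb : Function.Bijective (algebraMap R S)) {M : Type u}
    [AddCommGroup M] [Module R M] [Module S M] [IsScalarTower R S M] (h : TD R M d) :
    TD S M d := by
  haveI : IsLocalization (⊥ : Submonoid R) S := by
    refine IsLocalization.of_le_isUnit_of_bijective ?_ hb
    rintro _ ⟨x, hx, rfl⟩
    have hx' : x = 1 := by simpa [Submonoid.mem_bot] using hx
    rw [hx', map_one]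
    exact isUnit_one
  exact TD.of_isLocalization (⊥ : Submonoid R) h

end Change

end Groth.Agent.Lib.Helper29.TorDim
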