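import Mathlib
import Groth.Agent.Lib.Helper29.TD1

/-!
# Tor dimension over polynomial rings (helper29)

The characteristic sequence `0 → R[X] ⊗ M → R[X] ⊗ M → M → 0` of an `R[X]`-module `M`.
-/

set_option autoImplicit false
set_option linter.style.haveILetI false
universe u

open TensorProduct Polynomial

namespace Groth.Agent.Lib.Helper29.TorDim

section CharSeq

variable {R : Type u} [CommRing R] {M : Type u} [AddCommGroup M] [Module R M] [Module R[X] M]
  [IsScalarTower R R[X] M]

variable (R M) in
/-- multiplication by `X` on `M`, as an `R`-linear map -/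
noncomputable def theta : M →ₗ[R] M :=
  (LinearMap.lsmul R[X] M (X : R[X])).restrictScalars R

theorem theta_apply (m : M) : theta R M m = (X : R[X]) • m := rfl

variable (R M) in
/-- the map `X ⊗ 1 - 1 ⊗ X` -/
noncomputable def Phi : R[X] ⊗[R] M →ₗ[R[X]] R[X] ⊗[R] M :=
  LinearMap.lsmul R[X] (R[X] ⊗[R] M) (X : R[X]) - (theta R M).baseChange R[X]

theorem Phi_tmul (p : R[X]) (m : M) :
    Phi R M (p ⊗ₜ[R] m) = (X * p) ⊗ₜ[R] m - p ⊗ₜ[R] ((X : R[X]) • m) := by
  simp [Phi, theta_apply, TensorProduct.smul_tmul']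

variable (R M) in
/-- the action map -/
noncomputable def piM : R[X] ⊗[R] M →ₗ[R[X]] M :=
  LinearMap.liftBaseChange R[X] (LinearMap.id : M →ₗ[R] M)

theorem piM_tmul (p : R[X]) (m : M) : piM R M (p ⊗ₜ[R] m) = p • m := by
  simp [piM]

theorem piM_surjective : Function.Surjective (piM R M) := fun m =>
  ⟨1 ⊗ₜ[R] m, by rw [piM_tmul, one_smul]⟩

theorem piM_comp_Phi (z : R[X] ⊗[R] M) : piM R M (Phi R M z) = 0 := by
  induction z using TensorProduct.induction_on with
  | zero => simp
  | tmul p m => rw [Phi_tmul, map_sub, piM_tmul, piM_tmul, mul_smul, smul_comm, sub_self]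
  | add x y hx hy => rw [map_add, map_add, hx, hy, add_zero]

theorem X_pow_mem (n : ℕ) (m : M) :
    ((X : R[X]) ^ n) ⊗ₜ[R] m - (1 : R[X]) ⊗ₜ[R] (((X : R[X]) ^ n) • m) ∈
      LinearMap.range (Phi R M) := by
  induction n generalizing m with
  | zero => simp
  | succ n ih =>
    have h1 : ((X : R[X]) ^ (n + 1)) ⊗ₜ[R] m - (1 : R[X]) ⊗ₜ[R] (((X : R[X]) ^ (n + 1)) • m) =
        (X : R[X]) • (((X : R[X]) ^ n) ⊗ₜ[R] m - (1 : R[X]) ⊗ₜ[R] (((X : R[X]) ^ n) • m)) +
          Phi R M ((1 : R[X]) ⊗ₜ[R] (((X : R[X]) ^ n) • m)) := by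
      rw [Phi_tmul, smul_sub, TensorProduct.smul_tmul', TensorProduct.smul_tmul', smul_eq_mul,
        smul_eq_mul, mul_one, ← pow_succ', pow_succ', mul_smul]
      abel
    rw [h1]
    exact Submodule.add_mem _ (Submodule.smul_mem _ _ (ih m)) ⟨_, rfl⟩

theorem tmul_sub_mem (p : R[X]) (m : M) :
    p ⊗ₜ[R] m - (1 : R[X]) ⊗ₜ[R] (p • m) ∈ LinearMap.range (Phi R M) := by
  induction p using Polynomial.induction_on' generalizing m with
  | add p q hp hq =>
    have : (p + q) ⊗ₜ[R] m - (1 : R[X]) ⊗ₜ[R] ((p + q) • m) =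
        (p ⊗ₜ[R] m - (1 : R[X]) ⊗ₜ[R] (p • m)) + (q ⊗ₜ[R] m - (1 : R[X]) ⊗ₜ[R] (q • m)) := by
      rw [TensorProduct.add_tmul, add_smul, TensorProduct.tmul_add]
      abel
    rw [this]
    exact Submodule.add_mem _ (hp m) (hq m)
  | monomial n a =>
    have h1 : (monomial n a : R[X]) = a • (X : R[X]) ^ n := by
      rw [← Polynomial.C_mul_X_pow_eq_monomial, Polynomial.smul_eq_C_mul]
    have h2 : (monomial n a : R[X]) ⊗ₜ[R] m - (1 : R[X]) ⊗ₜ[R] ((monomial n a : R[X]) • m) =
        ((X : R[X]) ^ n) ⊗ₜ[R] (a • m) - (1 : R[X]) ⊗ₜ[R] (((X : R[X]) ^ n) • (a • m)) := by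
      rw [h1, TensorProduct.smul_tmul, smul_assoc, smul_comm]
    rw [h2]
    exact X_pow_mem n (a • m)

theorem exact_Phi_piM : Function.Exact (Phi R M) (piM R M) := by
  intro z
  constructor
  · intro hz
    have key : ∀ w : R[X] ⊗[R] M, w - (1 : R[X]) ⊗ₜ[R] (piM R M w) ∈ LinearMap.range (Phi R M) := by
      intro w
      induction w using TensorProduct.induction_on with
      | zero => simp
      | tmul p m => rw [piM_tmul]; exact tmul_sub_mem p m
      | add x y hx hy =>
        have : x + y - (1 : R[X]) ⊗ₜ[R] (piM R M (x + y)) =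
            (x - (1 : R[X]) ⊗ₜ[R] (piM R M x)) + (y - (1 : R[X]) ⊗ₜ[R] (piM R M y)) := by
          rw [map_add, TensorProduct.tmul_add]
          abel
        rw [this]
        exact Submodule.add_mem _ hx hy
    have := key z
    rw [hz, TensorProduct.tmul_zero, sub_zero] at this
    exact this
  · rintro ⟨w, rfl⟩
    exact piM_comp_Phi w

end CharSeq


section CharSeq2

variable {R : Type u} [CommRing R] {M : Type u} [AddCommGroup M] [Module R M] [Module R[X] M]
  [IsScalarTower R R[X] M]

theorem E_tmul (p : R[X]) (m : M) :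
    PolynomialModule.polynomialTensorProductLEquivPolynomialModule R M (p ⊗ₜ[R] m) =
      p • PolynomialModule.lsingle R 0 m := by
  simp [PolynomialModule.polynomialTensorProductLEquivPolynomialModule]

theorem E_Phi (z : R[X] ⊗[R] M) :
    PolynomialModule.polynomialTensorProductLEquivPolynomialModule R M (Phi R M z) =
      (X : R[X]) • PolynomialModule.polynomialTensorProductLEquivPolynomialModule R M z -
        PolynomialModule.map R (theta R M)
          (PolynomialModule.polynomialTensorProductLEquivPolynomialModule R M z) := by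
  induction z using TensorProduct.induction_on with
  | zero => simp
  | tmul p m =>
    rw [Phi_tmul, map_sub, E_tmul, E_tmul, E_tmul, PolynomialModule.map_smul,
      PolynomialModule.map_lsingle, mul_smul, theta_apply]
    simp
  | add x y hx hy =>
    rw [map_add, map_add, hx, hy, map_add, smul_add, map_add]
    abel

theorem Phi_injective : Function.Injective (Phi R M) := by
  rw [injective_iff_map_eq_zero]
  intro z hz
  set E := PolynomialModule.polynomialTensorProductLEquivPolynomialModule R M with hE
  have h1 := E_Phi (R := R) (M := M) z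
  rw [hz, map_zero] at h1
  set u := E z with hu
  have hcoef : ∀ k, u.coeff k = theta R M (u.coeff (k + 1)) := by
    intro k
    have h2 : ((X : R[X]) • u).coeff (k + 1) = (PolynomialModule.map R (theta R M) u).coeff (k + 1) := by
      rw [← sub_eq_zero.mp h1.symm]
    rw [← Polynomial.monomial_one_one_eq_X, PolynomialModule.monomial_smul_apply] at h2
    simp only [le_add_iff_nonneg_left, zero_le, if_true, one_smul, add_tsub_cancel_right] at h2
    rw [h2]
    simp [PolynomialModule.map]
  have hzero : ∀ k, u.coeff k = 0 := by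
    obtain ⟨N, hN⟩ : ∃ N, ∀ k, N ≤ k → u.coeff k = 0 := by
      refine ⟨u.coeff.support.sup id + 1, fun k hk => ?_⟩
      by_contra hne
      have : k ∈ u.coeff.support := Finsupp.mem_support_iff.mpr hne
      have := Finset.le_sup (f := id) this
      simp only [id] at this
      omega
    have : ∀ j k, N ≤ k + j → u.coeff k = 0 := by
      intro j
      induction j with
      | zero => intro k hk; exact hN k (by omega)
      | succ j ih =>
        intro k hk
        rw [hcoef k, ih (k + 1) (by omega), map_zero]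
    intro k
    exact this N k (by omega)
  have hu0 : u = 0 := by
    rw [← PolynomialModule.coeff_eq_zero]
    ext k
    exact hzero k
  exact E.map_eq_zero_iff.mp hu0

/-- tor dimension over a polynomial ring grows by at most one -/
theorem TD.polynomial {d : ℕ} (h : TD R M d) : TD R[X] M (d + 1) :=
  TD.of_exact (Phi R M) (piM R M) Phi_injective piM_surjective exact_Phi_piM
    h.baseChange h.baseChange

end CharSeq2

section MvPoly

theorem TD.mvPolynomial (n : ℕ) : ∀ (R : Type u) [CommRing R] (M : Type u) [AddCommGroup M]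
    [Module R M] [Module (MvPolynomial (Fin n) R) M] [IsScalarTower R (MvPolynomial (Fin n) R) M]
    (d : ℕ), TD R M d → TD (MvPolynomial (Fin n) R) M (d + n) := by
  induction n with
  | zero =>
    intro R _ M _ _ _ _ d h
    refine TD.of_bijective ?_ h
    exact (MvPolynomial.isEmptyAlgEquiv R (Fin 0)).symm.bijective
  | succ n ih =>
    intro R _ M _ _ _ _ d h
    let Q := MvPolynomial (Fin n) R
    let e : MvPolynomial (Fin (n + 1)) R ≃ₐ[R] Q[X] := MvPolynomial.finSuccEquiv R n
    letI mQX : Module Q[X] M := Module.compHom M (e.symm : Q[X] →+* MvPolynomial (Fin (n + 1)) R)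
    letI mQ : Module Q M := Module.compHom M (Polynomial.C : Q →+* Q[X])
    have smulQX : ∀ (p : Q[X]) (m : M), p • m = (e.symm p) • m := fun _ _ => rfl
    have smulQ : ∀ (q : Q) (m : M), q • m = (Polynomial.C q : Q[X]) • m := fun _ _ => rfl
    haveI : IsScalarTower Q Q[X] M := by
      refine ⟨fun q p m => ?_⟩
      rw [smulQ, ← mul_smul, Polynomial.smul_eq_C_mul]
    haveI : IsScalarTower R Q M := by
      refine ⟨fun r q m => ?_⟩
      rw [smulQ, smulQ, smulQX, smulQX, Algebra.smul_def, map_mul, map_mul, mul_smul]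
      have : (e.symm (Polynomial.C ((algebraMap R Q) r))) = algebraMap R _ r := by
        have h1 : (Polynomial.C ((algebraMap R Q) r) : Q[X]) = algebraMap R Q[X] r := rfl
        rw [h1]
        exact e.symm.commutes r
      rw [this, algebraMap_smul]
    have h1 : TD Q M (d + n) := ih R M d h
    have h2 : TD Q[X] M (d + n + 1) := TD.polynomial h1
    letI : Algebra Q[X] (MvPolynomial (Fin (n + 1)) R) := (e.symm : Q[X] →+* _).toAlgebra
    haveI : IsScalarTower Q[X] (MvPolynomial (Fin (n + 1)) R) M := by
      refine ⟨fun p a m => ?_⟩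
      rw [smulQX, Algebra.smul_def, mul_smul]
      rfl
    have h3 : TD (MvPolynomial (Fin (n + 1)) R) M (d + n + 1) :=
      TD.of_bijective (R := Q[X]) e.symm.bijective h2
    exact h3

end MvPoly

end Groth.Agent.Lib.Helper29.TorDim
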