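import Mathlib
import Groth.Agent.Lib.Helper29.TD2

/-!
# Tor dimension descends along étale ring maps (helper29)

For `Q → B` étale and a `B`-module `M`, `M` is a `B`-linear retract of `B ⊗[Q] M` (using the
separability idempotent), so `TD Q M d → TD B M d`.
-/

set_option autoImplicit false
set_option linter.style.haveILetI false
universe u

open TensorProduct

namespace Groth.Agent.Lib.Helper29.TorDim

section Etale

variable {Q B : Type u} [CommRing Q] [CommRing B] [Algebra Q B]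
  {M : Type u} [AddCommGroup M] [Module Q M] [Module B M] [IsScalarTower Q B M]

variable (Q B M) in
/-- the action map `B ⊗[Q] M → M` -/
noncomputable def rr : B ⊗[Q] M →ₗ[B] M :=
  LinearMap.liftBaseChange B (LinearMap.id : M →ₗ[Q] M)

theorem rr_tmul (b : B) (m : M) : rr Q B M (b ⊗ₜ[Q] m) = b • m := by
  simp [rr]

variable (Q B M) in
/-- `(b₁ ⊗ b₂) ⊗ m ↦ b₁ ⊗ b₂ m` -/
noncomputable def Psi : (B ⊗[Q] B) ⊗[Q] M →ₗ[Q] B ⊗[Q] M :=
  ((rr Q B M).restrictScalars Q).lTensor B ∘ₗ (TensorProduct.assoc Q B B M).toLinearMap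

theorem Psi_tmul (b₁ b₂ : B) (m : M) :
    Psi Q B M ((b₁ ⊗ₜ[Q] b₂) ⊗ₜ[Q] m) = b₁ ⊗ₜ[Q] (b₂ • m) := by
  simp [Psi, rr_tmul]

theorem Psi_mul_right (ε : B ⊗[Q] B) (b : B) (m : M) :
    Psi Q B M ((ε * ((1 : B) ⊗ₜ[Q] b)) ⊗ₜ[Q] m) = Psi Q B M (ε ⊗ₜ[Q] (b • m)) := by
  induction ε using TensorProduct.induction_on with
  | zero => simp
  | tmul b₁ b₂ =>
    rw [Algebra.TensorProduct.tmul_mul_tmul, mul_one, Psi_tmul, Psi_tmul, mul_smul]
  | add x y hx hy =>
    rw [add_mul, TensorProduct.add_tmul, map_add, hx, hy, TensorProduct.add_tmul, map_add]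

theorem Psi_mul_left (ε : B ⊗[Q] B) (b : B) (m : M) :
    Psi Q B M ((ε * (b ⊗ₜ[Q] (1 : B))) ⊗ₜ[Q] m) = b • Psi Q B M (ε ⊗ₜ[Q] m) := by
  induction ε using TensorProduct.induction_on with
  | zero => simp
  | tmul b₁ b₂ =>
    rw [Algebra.TensorProduct.tmul_mul_tmul, mul_one, Psi_tmul, Psi_tmul,
      TensorProduct.smul_tmul', smul_eq_mul, mul_comm]
  | add x y hx hy =>
    rw [add_mul, TensorProduct.add_tmul, map_add, hx, hy, TensorProduct.add_tmul, map_add,
      smul_add]

theorem rr_Psi (ε : B ⊗[Q] B) (m : M) :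
    rr Q B M (Psi Q B M (ε ⊗ₜ[Q] m)) = (Algebra.TensorProduct.lmul' Q ε : B) • m := by
  induction ε using TensorProduct.induction_on with
  | zero => simp
  | tmul b₁ b₂ =>
    rw [Psi_tmul, rr_tmul, Algebra.TensorProduct.lmul'_apply_tmul, mul_smul]
  | add x y hx hy =>
    rw [TensorProduct.add_tmul, map_add, map_add, hx, hy, map_add, add_smul]

variable [Algebra.Etale Q B]

variable (Q B M) in
/-- the section of the action map given by the separability idempotent -/
noncomputable def ii : M →ₗ[B] B ⊗[Q] M where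
  toFun m := Psi Q B M (Algebra.FormallyUnramified.elem Q B ⊗ₜ[Q] m)
  map_add' m m' := by rw [TensorProduct.tmul_add, map_add]
  map_smul' b m := by
    rw [RingHom.id_apply, ← Psi_mul_right, mul_comm, Algebra.FormallyUnramified.one_tmul_mul_elem,
      mul_comm, Psi_mul_left]

theorem rr_comp_ii : rr Q B M ∘ₗ ii Q B M = LinearMap.id := by
  ext m
  change rr Q B M (Psi Q B M (Algebra.FormallyUnramified.elem Q B ⊗ₜ[Q] m)) = m
  rw [rr_Psi, Algebra.FormallyUnramified.lmul_elem, one_smul]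

/-- tor dimension descends along an étale map -/
theorem TD.of_etale {d : ℕ} (h : TD Q M d) : TD B M d :=
  TD.of_retract (ii Q B M) (rr Q B M) rr_comp_ii h.baseChange

end Etale

end Groth.Agent.Lib.Helper29.TorDim
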