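import Mathlib
import Groth.Prelude.Def_DerSch
import Groth.Agent.Lib.Helper99.SStalk1
import Groth.Agent.Lib.Helper29.SecReg7
import Groth.Agent.Lib.Helper29.TD3

/-!
# Finite tor dimension over the source of a smooth morphism (helper29)
-/

set_option autoImplicit false
set_option linter.style.haveILetI false
universe u

open CategoryTheory Limits AlgebraicGeometry DerSch TensorProduct

attribute [local instance] HasDerivedCategory.standard

namespace Groth.Agent.Lib.Helper29.TorDim

open Groth.Agent.Lib.Helper12 Groth.Agent.Lib.Helper36 Groth.Agent.Lib.Helper99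

section Ring

/-- finite tor dimension passes from a flat localisation of the base of a standard smooth ring map
to a localisation of its target -/
theorem TD.of_standardSmooth {A₁ B₁ A' P' : Type u} [CommRing A₁] [CommRing B₁] [CommRing A']
    [CommRing P'] [Algebra A₁ B₁] [Algebra A₁ A'] [Algebra B₁ P'] [Algebra A' P'] [Algebra A₁ P']
    [IsScalarTower A₁ A' P'] [IsScalarTower A₁ B₁ P']
    (hsm : (algebraMap A₁ B₁).IsStandardSmooth) [Module.Flat A₁ A'] (Mon : Submonoid B₁)
    [IsLocalization Mon P'] {M : Type u} [AddCommGroup M] [Module P' M] [Module A' M]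
    [IsScalarTower A' P' M] {d : ℕ} (h : TD A' M d) : ∃ d', TD P' M d' := by
  obtain ⟨n, g, hg, hget⟩ := hsm.exists_etale_mvPolynomial
  let Q := MvPolynomial (Fin n) A₁
  letI : Algebra Q B₁ := g.toAlgebra
  haveI : Algebra.Etale Q B₁ := hget
  letI mB : Module B₁ M := Module.compHom M (algebraMap B₁ P')
  haveI : IsScalarTower B₁ P' M := by
    refine ⟨fun b p m => ?_⟩
    change (b • p) • m = (algebraMap B₁ P' b) • (p • m)
    rw [Algebra.smul_def, mul_smul]
  letI mQ : Module Q M := Module.compHom M (g : Q →+* B₁)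
  haveI : IsScalarTower Q B₁ M := by
    refine ⟨fun q b m => ?_⟩
    change (q • b) • m = (g q) • (b • m)
    rw [Algebra.smul_def, mul_smul]
    rfl
  letI mA : Module A₁ M := Module.compHom M (algebraMap A₁ A')
  haveI : IsScalarTower A₁ A' M := by
    refine ⟨fun a a' m => ?_⟩
    change (a • a') • m = (algebraMap A₁ A' a) • (a' • m)
    rw [Algebra.smul_def, mul_smul]
  have hAsmul : ∀ (a : A₁) (m : M), a • m = (algebraMap A₁ P' a) • m := by
    intro a m
    change (algebraMap A₁ A' a) • m = _
    rw [IsScalarTower.algebraMap_apply A₁ A' P']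
    exact (algebraMap_smul P' _ m).symm
  haveI : IsScalarTower A₁ Q M := by
    refine ⟨fun a q m => ?_⟩
    change (g (a • q)) • m = a • ((g q) • m)
    rw [hAsmul, Algebra.smul_def, map_mul, mul_smul]
    have h1 : g (algebraMap A₁ Q a) = algebraMap A₁ B₁ a := by
      rw [← hg]
      rfl
    rw [h1]
    change (algebraMap B₁ P' (algebraMap A₁ B₁ a)) • ((g q) • m) = _
    rw [← IsScalarTower.algebraMap_apply A₁ B₁ P']
  have h1 : TD A₁ M d := TD.restrictScalars_of_flat (S := A') h
  have h2 : TD Q M (d + n) := TD.mvPolynomial n A₁ M d h1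
  have h3 : TD B₁ M (d + n) := TD.of_etale h2
  exact ⟨d + n, TD.of_isLocalization Mon h3⟩

end Ring

section Scheme

variable {X B S : Scheme.{u}}

/-- the complex of stalks of a module placed in degree `0` -/
noncomputable def toDStalkSingleIso {X Y : Scheme.{u}} (g : X ⟶ Y) (x : X) (F : X.Modules) :
    DRing.toD ((stalkCxOver g x).obj
      ((HomologicalComplex.single X.Modules (ComplexShape.up ℤ) 0).obj F)) ≅
      (DerivedCategory.singleFunctor (ModuleCat.{u} (Y.presheaf.stalk (g.base x))) 0).obj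
        ((stalkOver g x).obj F) :=
  DerivedCategory.Q.mapIso
    ((HomologicalComplex.singleMapHomologicalComplex (stalkOver g x) (ComplexShape.up ℤ) 0).app F) ≪≫
    toDSingleIso' 0 _

/-- **S14074** at one point: finite tor dimension over the base of a smooth morphism gives finite
tor dimension over its source -/
theorem finiteTorDim_of_comp_smooth (h : B ⟶ S) [Smooth h] (φ : X ⟶ B) (F : X.Modules) (x : X)
    (hS : ∃ a b : ℤ, HasTorAmplitudeAt (φ ≫ h) a b
      ((HomologicalComplex.single X.Modules (ComplexShape.up ℤ) 0).obj F) x) :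
    ∃ a b : ℤ, HasTorAmplitudeAt φ a b
      ((HomologicalComplex.single X.Modules (ComplexShape.up ℤ) 0).obj F) x := by
  obtain ⟨a, b, hab⟩ := hS
  obtain ⟨U, hU, V, hV, hbV, e, hstd⟩ := Smooth.exists_isStandardSmooth h (φ.base x)
  have hsU : h.base (φ.base x) ∈ U := e hbV
  letI : Algebra Γ(S, U) Γ(B, V) := (h.appLE U V e).hom.toAlgebra
  letI : Algebra Γ(S, U) (S.presheaf.stalk (h.base (φ.base x))) :=
    S.presheaf.algebra_section_stalk ⟨h.base (φ.base x), hsU⟩
  haveI := hU.isLocalization_stalk ⟨h.base (φ.base x), hsU⟩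
  letI : Algebra Γ(B, V) (B.presheaf.stalk (φ.base x)) :=
    B.presheaf.algebra_section_stalk ⟨φ.base x, hbV⟩
  haveI := hV.isLocalization_stalk ⟨φ.base x, hbV⟩
  letI : Algebra (S.presheaf.stalk (h.base (φ.base x))) (B.presheaf.stalk (φ.base x)) :=
    (h.stalkMap (φ.base x)).hom.toAlgebra
  letI : Algebra Γ(S, U) (B.presheaf.stalk (φ.base x)) :=
    ((algebraMap Γ(B, V) (B.presheaf.stalk (φ.base x))).comp
      (algebraMap Γ(S, U) Γ(B, V))).toAlgebra
  haveI : IsScalarTower Γ(S, U) Γ(B, V) (B.presheaf.stalk (φ.base x)) :=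
    IsScalarTower.of_algebraMap_eq' rfl
  haveI : IsScalarTower Γ(S, U) (S.presheaf.stalk (h.base (φ.base x)))
      (B.presheaf.stalk (φ.base x)) := by
    have hcat : S.presheaf.germ U (h.base (φ.base x)) hsU ≫ h.stalkMap (φ.base x) =
        h.appLE U V e ≫ B.presheaf.germ V (φ.base x) hbV := by
      rw [Scheme.Hom.germ_stalkMap h U (φ.base x) hsU, Scheme.Hom.appLE, Category.assoc,
        TopCat.Presheaf.germ_res]
    refine IsScalarTower.of_algebraMap_eq fun a => ?_
    change (h.appLE U V e ≫ B.presheaf.germ V (φ.base x) hbV).hom a =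
      (S.presheaf.germ U (h.base (φ.base x)) hsU ≫ h.stalkMap (φ.base x)).hom a
    rw [hcat]
  haveI : Module.Flat Γ(S, U) (S.presheaf.stalk (h.base (φ.base x))) :=
    IsLocalization.flat _ (hU.primeIdealOf ⟨h.base (φ.base x), hsU⟩).asIdeal.primeCompl
  have hsm : (algebraMap Γ(S, U) Γ(B, V)).IsStandardSmooth := hstd
  let N : ModuleCat.{u} (B.presheaf.stalk (φ.base x)) := (stalkOver φ x).obj F
  letI mN : Module (S.presheaf.stalk (h.base (φ.base x))) N :=
    Module.compHom N (h.stalkMap (φ.base x)).hom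
  haveI : IsScalarTower (S.presheaf.stalk (h.base (φ.base x))) (B.presheaf.stalk (φ.base x)) N := by
    refine ⟨fun a p m => ?_⟩
    change (a • p) • m = ((h.stalkMap (φ.base x)).hom a) • (p • m)
    rw [Algebra.smul_def, mul_smul]
    rfl
  let eM : ((ModuleCat.restrictScalars (h.stalkMap (φ.base x)).hom).obj N) ≃ₗ[
      S.presheaf.stalk (h.base (φ.base x))] N :=
    { toFun := fun m => m
      invFun := fun m => m
      map_add' := fun _ _ => rfl
      map_smul' := fun _ _ => rfl
      left_inv := fun _ => rfl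
      right_inv := fun _ => rfl }
  have e1 : DRing.toD ((stalkCxOver (φ ≫ h) x).obj
      ((HomologicalComplex.single X.Modules (ComplexShape.up ℤ) 0).obj F)) ≅
      Dual.inD (S.presheaf.stalk (h.base (φ.base x))) N :=
    toDStalkSingleIso (φ ≫ h) x F ≪≫
      (DerivedCategory.singleFunctor _ 0).mapIso
        ((SStalk.stalkOverCompIso φ h x).app F ≪≫ eM.toModuleIso)
  have h1 : DRing.HasTorAmplitudeIn (S.presheaf.stalk (h.base (φ.base x))) a b
      (Dual.inD (S.presheaf.stalk (h.base (φ.base x))) N) :=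
    hasTorAmplitudeIn_of_iso e1 hab
  have h2 := SecReg.hasTorAmplitudeIn_inD_normalise _ h1
  have h3 : TD (S.presheaf.stalk (h.base (φ.base x))) N (-a).toNat := td_iff_amp.2 h2
  obtain ⟨d', h4⟩ := TD.of_standardSmooth (A₁ := Γ(S, U)) (B₁ := Γ(B, V))
    (A' := S.presheaf.stalk (h.base (φ.base x))) (P' := B.presheaf.stalk (φ.base x)) hsm
    (hV.primeIdealOf ⟨φ.base x, hbV⟩).asIdeal.primeCompl h3
  have h5 := td_iff_amp.1 h4
  refine ⟨-(d' : ℤ), 0, ?_⟩
  have e2 : DRing.toD ((stalkCxOver φ x).obj
      ((HomologicalComplex.single X.Modules (ComplexShape.up ℤ) 0).obj F)) ≅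
      Dual.inD (B.presheaf.stalk (φ.base x)) N :=
    toDStalkSingleIso φ x F ≪≫
      (DerivedCategory.singleFunctor _ 0).mapIso (Iso.refl N)
  exact hasTorAmplitudeIn_of_iso e2.symm h5

end Scheme

end Groth.Agent.Lib.Helper29.TorDim
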