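import Groth.Agent.Lib.Helper29.TorProZero7

/-!
# Linear maps inducing zero on all `Tor_p(-, N)` (helper29)

`TorZeroMap g N`: `Tor_p(g, N) = 0` for all `p`.  Additivity of `Tor` in the first variable, the
chase along a morphism of short exact sequences, and the case of a principal ideal.
-/

set_option autoImplicit false
set_option backward.isDefEq.respectTransparency false
set_option backward.defeqAttrib.useBackward true

namespace Groth.Agent.Lib.Helper29.TorAR

open CategoryTheory CategoryTheory.Limits MonoidalCategory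
open Groth.Agent.Lib.Helper46 Groth.Agent.Lib.Helper46.TorShift Groth.Agent.Lib.Helper29.TorKill
open Groth.Agent.Lib.Helper29.TorProZero

universe u

variable {A : Type u} [CommRing A]

/-- first-variable additivity of `Tor` -/
lemma tor_map_add {B B' : ModuleCat.{u} A} (g h : B ⟶ B') (N : ModuleCat.{u} A) (n : ℕ) :
    ((Tor (ModuleCat.{u} A) n).map (g + h)).app N =
      ((Tor (ModuleCat.{u} A) n).map g).app N + ((Tor (ModuleCat.{u} A) n).map h).app N := by
  let P : ProjectiveResolution N := projectiveResolution N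
  change (NatTrans.leftDerived ((tensoringLeft _).map (g + h)) n).app N =
    (NatTrans.leftDerived ((tensoringLeft _).map g) n).app N +
      (NatTrans.leftDerived ((tensoringLeft _).map h) n).app N
  rw [P.leftDerived_app_eq, P.leftDerived_app_eq, P.leftDerived_app_eq]
  have hh : (NatTrans.mapHomologicalComplex ((tensoringLeft (ModuleCat.{u} A)).map (g + h))
      (ComplexShape.down ℕ)).app P.complex =
      (NatTrans.mapHomologicalComplex ((tensoringLeft (ModuleCat.{u} A)).map g)
        (ComplexShape.down ℕ)).app P.complex +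
      (NatTrans.mapHomologicalComplex ((tensoringLeft (ModuleCat.{u} A)).map h)
        (ComplexShape.down ℕ)).app P.complex := by
    ext i : 1
    change (g + h) ▷ (P.complex.X i) = g ▷ (P.complex.X i) + h ▷ (P.complex.X i)
    exact MonoidalPreadditive.add_whiskerRight _ _
  rw [hh, Functor.map_add, Preadditive.add_comp, Preadditive.comp_add]

/-- first-variable: the zero map induces zero -/
lemma tor_map_zero (B B' N : ModuleCat.{u} A) (n : ℕ) :
    ((Tor (ModuleCat.{u} A) n).map (0 : B ⟶ B')).app N = 0 := by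
  have h : (0 : B ⟶ B') = ((0 : A) • 𝟙 B) ≫ (0 : B ⟶ B') := by simp
  rw [h, Functor.map_comp, NatTrans.comp_app, TorLinear.tor_map_smul_id_app, zero_smul,
    Limits.zero_comp]

section Def

variable {X Y Z : Type u} [AddCommGroup X] [Module A X] [AddCommGroup Y] [Module A Y]
  [AddCommGroup Z] [Module A Z]

/-- `g` induces zero on every `Tor_p(-, N)` -/
def TorZeroMap (g : X →ₗ[A] Y) (N : Type u) [AddCommGroup N] [Module A N] : Prop :=
  ∀ p : ℕ, ((Tor (ModuleCat.{u} A) p).map (ModuleCat.ofHom g)).app (ModuleCat.of A N) = 0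

variable (N : Type u) [AddCommGroup N] [Module A N]

lemma TorZeroMap.comp_right {g : Y →ₗ[A] Z} (hg : TorZeroMap g N) (h : X →ₗ[A] Y) :
    TorZeroMap (g ∘ₗ h) N := by
  intro p
  rw [ModuleCat.ofHom_comp, Functor.map_comp, NatTrans.comp_app, hg p, Limits.comp_zero]

lemma TorZeroMap.comp_left {g : X →ₗ[A] Y} (hg : TorZeroMap g N) (h : Y →ₗ[A] Z) :
    TorZeroMap (h ∘ₗ g) N := by
  intro p
  rw [ModuleCat.ofHom_comp, Functor.map_comp, NatTrans.comp_app, hg p, Limits.zero_comp]

lemma torZeroMap_zero : TorZeroMap (0 : X →ₗ[A] Y) N := by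
  intro p
  have : ModuleCat.ofHom (0 : X →ₗ[A] Y) = 0 := rfl
  rw [this, tor_map_zero]

lemma TorZeroMap.add {g h : X →ₗ[A] Y} (hg : TorZeroMap g N) (hh : TorZeroMap h N) :
    TorZeroMap (g + h) N := by
  intro p
  have : ModuleCat.ofHom (g + h) = ModuleCat.ofHom g + ModuleCat.ofHom h := rfl
  rw [this, tor_map_add, hg p, hh p, add_zero]

/-- if `r` kills `N` then `r • id` induces zero on `Tor(-, N)` -/
lemma torZeroMap_smul_id (r : A) (hr : ∀ y : N, r • y = 0) :
    TorZeroMap (r • (LinearMap.id : X →ₗ[A] X)) N := by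
  intro p
  have h1 : ModuleCat.ofHom (r • (LinearMap.id : X →ₗ[A] X)) = r • 𝟙 (ModuleCat.of A X) := by
    ext x
    rfl
  rw [h1, TorLinear.tor_map_smul_id_app]
  ext y
  exact smul_tor_eq_zero_of_right r (ModuleCat.of A X) (ModuleCat.of A N) p hr y

end Def

end Groth.Agent.Lib.Helper29.TorAR
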