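import Groth.Agent.Lib.Helper29.TorAR1
import Mathlib.RingTheory.Noetherian.Basic
import Mathlib.Order.OrderIsoNat

/-!
# The chase along a morphism of short exact sequences, and principal ideals (helper29)
-/

set_option autoImplicit false
set_option backward.isDefEq.respectTransparency false
set_option backward.defeqAttrib.useBackward true

namespace Groth.Agent.Lib.Helper29.TorAR

open CategoryTheory CategoryTheory.Limits MonoidalCategory
open Groth.Agent.Lib.Helper46 Groth.Agent.Lib.Helper46.TorShift Groth.Agent.Lib.Helper29.TorKill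
open Groth.Agent.Lib.Helper29.TorProZero

universe u

variable {A : Type u} [CommRing A]

section Chase

variable {K₁ E₁ S₁ K₂ E₂ S₂ M : Type u}
  [AddCommGroup K₁] [Module A K₁] [AddCommGroup E₁] [Module A E₁] [AddCommGroup S₁] [Module A S₁]
  [AddCommGroup K₂] [Module A K₂] [AddCommGroup E₂] [Module A E₂] [AddCommGroup S₂] [Module A S₂]
  [AddCommGroup M] [Module A M]
  (i₁ : K₁ →ₗ[A] E₁) (q₁ : E₁ →ₗ[A] S₁) (i₂ : K₂ →ₗ[A] E₂) (q₂ : E₂ →ₗ[A] S₂)
  (hi₁ : Function.Injective i₁) (hex₁ : Function.Exact i₁ q₁) (hq₁ : Function.Surjective q₁)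
  (hi₂ : Function.Injective i₂) (hex₂ : Function.Exact i₂ q₂) (hq₂ : Function.Surjective q₂)
  (κ : K₂ →ₗ[A] K₁) (ε : E₂ →ₗ[A] E₁) (σ : S₂ →ₗ[A] S₁)
  (c₁ : i₁ ∘ₗ κ = ε ∘ₗ i₂) (c₂ : q₁ ∘ₗ ε = σ ∘ₗ q₂)
  (m : S₁ →ₗ[A] M) (N : Type u) [AddCommGroup N] [Module A N]

include hi₁ hex₁ hq₁ hi₂ hex₂ hq₂ c₁ c₂ in
theorem torZeroMap_of_ses (ha : TorZeroMap (m ∘ₗ q₁) N) (hb : TorZeroMap κ N) :
    TorZeroMap (m ∘ₗ σ) N := by
  have hS₁ := sesSC_shortExact i₁ q₁ hi₁ hex₁ hq₁
  have hS₂ := sesSC_shortExact i₂ q₂ hi₂ hex₂ hq₂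
  intro p
  rcases p with _ | p
  · have := TorLES.epi_map_g_zero (sesSC i₂ q₂ hex₂) hS₂ (ModuleCat.of A N)
    rw [← cancel_epi (((Tor (ModuleCat.{u} A) 0).map (sesSC i₂ q₂ hex₂).g).app (ModuleCat.of A N)),
      Limits.comp_zero, ← NatTrans.comp_app, ← Functor.map_comp]
    have h1 : (sesSC i₂ q₂ hex₂).g ≫ ModuleCat.ofHom (m ∘ₗ σ) =
        ModuleCat.ofHom ε ≫ ModuleCat.ofHom (m ∘ₗ q₁) := by
      change ModuleCat.ofHom q₂ ≫ ModuleCat.ofHom (m ∘ₗ σ) = _
      rw [← ModuleCat.ofHom_comp, ← ModuleCat.ofHom_comp, LinearMap.comp_assoc, ← c₂,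
        LinearMap.comp_assoc]
    rw [h1, Functor.map_comp, NatTrans.comp_app, ha 0, Limits.comp_zero]
  · let ψ : sesSC i₂ q₂ hex₂ ⟶ sesSC i₁ q₁ hex₁ :=
      ShortComplex.homMk (ModuleCat.ofHom κ) (ModuleCat.ofHom ε) (ModuleCat.ofHom σ)
        (by
          change ModuleCat.ofHom κ ≫ ModuleCat.ofHom i₁ = ModuleCat.ofHom i₂ ≫ ModuleCat.ofHom ε
          rw [← ModuleCat.ofHom_comp, ← ModuleCat.ofHom_comp, c₁])
        (by
          change ModuleCat.ofHom ε ≫ ModuleCat.ofHom q₁ = ModuleCat.ofHom q₂ ≫ ModuleCat.ofHom σ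
          rw [← ModuleCat.ofHom_comp, ← ModuleCat.ofHom_comp, c₂])
    have hnat := TorNatural.δ_naturality_app hS₂ hS₁ ψ p (ModuleCat.of A N)
    have hκ : ((Tor (ModuleCat.{u} A) p).map ψ.τ₁).app (ModuleCat.of A N) = 0 := hb p
    rw [hκ, Limits.comp_zero] at hnat
    have hex3 := TorLES.exact₃ (sesSC i₁ q₁ hex₁) hS₁ (ModuleCat.of A N) p
    ext x
    have h0 : ((TorLES.δ (sesSC i₁ q₁ hex₁) hS₁ p).app (ModuleCat.of A N)).hom
        ((((Tor (ModuleCat.{u} A) (p + 1)).map ψ.τ₃).app (ModuleCat.of A N)).hom x) = 0 := by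
      rw [← LinearMap.comp_apply, ← ModuleCat.hom_comp, ← hnat]
      rfl
    obtain ⟨e, he⟩ := (ShortComplex.moduleCat_exact_iff _).mp hex3 _ h0
    have he' : (((Tor (ModuleCat.{u} A) (p + 1)).map (ModuleCat.ofHom q₁)).app
        (ModuleCat.of A N)).hom e =
        (((Tor (ModuleCat.{u} A) (p + 1)).map (ModuleCat.ofHom σ)).app (ModuleCat.of A N)).hom x :=
      he
    rw [ModuleCat.ofHom_comp, Functor.map_comp, NatTrans.comp_app, ModuleCat.hom_comp,
      LinearMap.comp_apply, ← he', ← LinearMap.comp_apply, ← ModuleCat.hom_comp, ← NatTrans.comp_app,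
      ← Functor.map_comp, ← ModuleCat.ofHom_comp, ha (p + 1)]
    rfl

end Chase

section Principal

variable (M : Type u) [AddCommGroup M] [Module A M] [IsNoetherian A M] (f : A)

lemma exists_pow_torsion_stab :
    ∃ k : ℕ, 0 < k ∧ ∀ (x : M) (j : ℕ), f ^ j • x = 0 → f ^ k • x = 0 := by
  let g : ℕ →o Submodule A M :=
    ⟨fun n => LinearMap.ker ((f ^ n) • (LinearMap.id : M →ₗ[A] M)), by
      intro a b hab x hx
      rw [LinearMap.mem_ker, LinearMap.smul_apply, LinearMap.id_apply] at hx ⊢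
      obtain ⟨d, rfl⟩ := Nat.exists_eq_add_of_le hab
      rw [pow_add, mul_comm, mul_smul, hx, smul_zero]⟩
  obtain ⟨n, hn⟩ := monotone_stabilizes_iff_noetherian.mpr (inferInstance : IsNoetherian A M) g
  refine ⟨n + 1, Nat.succ_pos n, fun x j hj => ?_⟩
  have hx : x ∈ g j := by
    change x ∈ LinearMap.ker ((f ^ j) • (LinearMap.id : M →ₗ[A] M))
    rw [LinearMap.mem_ker, LinearMap.smul_apply, LinearMap.id_apply, hj]
  have hx' : x ∈ g (n + 1) := by
    rcases le_total j (n + 1) with h | h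
    · exact g.monotone h hx
    · rw [← hn (n + 1) (Nat.le_succ n), hn j (le_trans (Nat.le_succ n) h)]
      exact hx
  have := hx'
  change x ∈ LinearMap.ker ((f ^ (n + 1)) • (LinearMap.id : M →ₗ[A] M)) at this
  rwa [LinearMap.mem_ker, LinearMap.smul_apply, LinearMap.id_apply] at this

/-- the submodule `f^b M` -/
abbrev powRange (b : ℕ) : Submodule A M := LinearMap.range ((f ^ b) • (LinearMap.id : M →ₗ[A] M))

theorem exists_torZeroMap_powRange :
    ∃ b : ℕ, 0 < b ∧ ∀ (N : Type u) [AddCommGroup N] [Module A N], (∀ y : N, f • y = 0) →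
      TorZeroMap (powRange M f b).subtype N := by
  obtain ⟨k, hk0, hk⟩ := exists_pow_torsion_stab M f
  refine ⟨k + k, by omega, fun N _ _ hN => ?_⟩
  have hle : powRange M f (k + k) ≤ powRange M f k := by
    rintro _ ⟨x, rfl⟩
    exact ⟨f ^ k • x, by simp [pow_add, mul_smul]⟩
  -- σ : f^k M → f^{2k} M, multiplication by f^k
  let σ₀ : powRange M f k →ₗ[A] powRange M f (k + k) :=
    LinearMap.codRestrict _ ((f ^ k) • (powRange M f k).subtype) (by
      rintro ⟨_, x, rfl⟩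
      exact ⟨x, by simp [pow_add, mul_smul]⟩)
  have hσinj : Function.Injective σ₀ := by
    rw [← LinearMap.ker_eq_bot, LinearMap.ker_eq_bot']
    rintro ⟨_, x, rfl⟩ hx
    have h1 : f ^ k • (f ^ k • x) = 0 := congrArg Subtype.val hx
    rw [← mul_smul, ← pow_add] at h1
    have h2 := hk x (k + k) h1
    apply Subtype.ext
    simpa using h2
  have hσsurj : Function.Surjective σ₀ := by
    rintro ⟨_, x, rfl⟩
    refine ⟨⟨f ^ k • x, ⟨x, by simp⟩⟩, ?_⟩
    apply Subtype.ext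
    simp [σ₀, pow_add, mul_smul]
  let σ : powRange M f k ≃ₗ[A] powRange M f (k + k) := LinearEquiv.ofBijective σ₀ ⟨hσinj, hσsurj⟩
  have hj : Submodule.inclusion hle =
      ((f ^ k) • (LinearMap.id : powRange M f k →ₗ[A] powRange M f k)) ∘ₗ σ.symm.toLinearMap := by
    apply LinearMap.ext
    intro y
    obtain ⟨z, rfl⟩ := σ.surjective y
    apply Subtype.ext
    simp [σ, σ₀]
  have hkN : ∀ y : N, f ^ k • y = 0 := by
    intro y
    obtain ⟨k', rfl⟩ : ∃ k', k = k' + 1 := ⟨k - 1, by omega⟩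
    rw [pow_succ, mul_smul, hN, smul_zero]
  have h1 : TorZeroMap (Submodule.inclusion hle) N := by
    rw [hj]
    exact (torZeroMap_smul_id N (f ^ k) hkN).comp_right N _
  have h2 : (powRange M f (k + k)).subtype = (powRange M f k).subtype ∘ₗ Submodule.inclusion hle := by
    ext y
    rfl
  rw [h2]
  exact h1.comp_left N _

end Principal

end Groth.Agent.Lib.Helper29.TorAR
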