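import Groth.Agent.Lib.Helper29.TorAR2
import Mathlib.RingTheory.Filtration
import Mathlib.RingTheory.Ideal.Operations

/-!
# Uniform Artin–Rees for `Tor`: `Tor_p(IⁿM, N) → Tor_p(M, N)` is zero for all `p` (helper29)
-/

set_option autoImplicit false
set_option backward.isDefEq.respectTransparency false
set_option backward.defeqAttrib.useBackward true

namespace Groth.Agent.Lib.Helper29.TorAR

open CategoryTheory CategoryTheory.Limits
open Groth.Agent.Lib.Helper46 Groth.Agent.Lib.Helper46.TorShift

universe u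

variable {A : Type u} [CommRing A]

section SupSES

variable {M : Type u} [AddCommGroup M] [Module A M] (U V : Submodule A M)

/-- `U ⊓ V → U × V`, `x ↦ (x, -x)` -/
def infToProd : ↥(U ⊓ V) →ₗ[A] ↥U × ↥V :=
  LinearMap.prod (Submodule.inclusion inf_le_left) (-(Submodule.inclusion inf_le_right))

/-- `U × V → U ⊔ V`, `(u, v) ↦ u + v` -/
def prodToSup : ↥U × ↥V →ₗ[A] ↥(U ⊔ V) :=
  LinearMap.coprod (Submodule.inclusion le_sup_left) (Submodule.inclusion le_sup_right)

lemma infToProd_injective : Function.Injective (infToProd U V) := by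
  intro x y hxy
  have := congrArg (fun z => (z.1 : M)) hxy
  exact Subtype.ext this

lemma prodToSup_surjective : Function.Surjective (prodToSup U V) := by
  rintro ⟨z, hz⟩
  obtain ⟨u, hu, v, hv, rfl⟩ := Submodule.mem_sup.mp hz
  exact ⟨(⟨u, hu⟩, ⟨v, hv⟩), Subtype.ext rfl⟩

lemma infToProd_prodToSup_exact : Function.Exact (infToProd U V) (prodToSup U V) := by
  rintro ⟨⟨u, hu⟩, ⟨v, hv⟩⟩
  constructor
  · intro h
    have h1 : u + v = 0 := congrArg Subtype.val h
    have hv' : v = -u := eq_neg_of_add_eq_zero_right h1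
    refine ⟨⟨u, ⟨hu, ?_⟩⟩, ?_⟩
    · have : u = -v := by rw [hv', neg_neg]
      rw [this]
      exact V.neg_mem hv
    · apply Prod.ext
      · rfl
      · apply Subtype.ext
        change -u = v
        rw [hv']
  · rintro ⟨⟨x, hx⟩, hxe⟩
    have h1 : x = u := congrArg (fun z => (z.1 : M)) hxe
    have h2 : -x = v := congrArg (fun z => (z.2 : M)) hxe
    apply Subtype.ext
    change u + v = 0
    rw [← h1, ← h2, add_neg_cancel]

lemma subtype_comp_prodToSup :
    (U ⊔ V).subtype ∘ₗ prodToSup U V =
      U.subtype ∘ₗ LinearMap.fst A ↥U ↥V + V.subtype ∘ₗ LinearMap.snd A ↥U ↥V := by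
  apply LinearMap.ext
  rintro ⟨u, v⟩
  rfl

end SupSES

section Step

variable {M : Type u} [AddCommGroup M] [Module A M]

/-- the chase for `U₂ ⊔ V ≤ U₁ ⊔ V` -/
theorem torZeroMap_sup (U₁ U₂ V : Submodule A M) (h : U₂ ≤ U₁) (N : Type u) [AddCommGroup N]
    [Module A N] (hU : TorZeroMap U₁.subtype N) (hV : TorZeroMap V.subtype N)
    (hκ : TorZeroMap (Submodule.inclusion (inf_le_inf_right V h)) N) :
    TorZeroMap (U₂ ⊔ V).subtype N := by
  have key := torZeroMap_of_ses (infToProd U₁ V) (prodToSup U₁ V) (infToProd U₂ V) (prodToSup U₂ V)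
    (infToProd_injective U₁ V) (infToProd_prodToSup_exact U₁ V) (prodToSup_surjective U₁ V)
    (infToProd_injective U₂ V) (infToProd_prodToSup_exact U₂ V) (prodToSup_surjective U₂ V)
    (Submodule.inclusion (inf_le_inf_right V h))
    (LinearMap.prodMap (Submodule.inclusion h) LinearMap.id)
    (Submodule.inclusion (sup_le_sup_right h V))
    (by
      apply LinearMap.ext
      rintro ⟨x, hx⟩
      rfl)
    (by
      apply LinearMap.ext
      rintro ⟨u, v⟩
      rfl)
    (U₁ ⊔ V).subtype N
    (by
      rw [subtype_comp_prodToSup]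
      exact (hU.comp_right N _).add N (hV.comp_right N _))
    hκ
  have : (U₂ ⊔ V).subtype = (U₁ ⊔ V).subtype ∘ₗ Submodule.inclusion (sup_le_sup_right h V) := by
    apply LinearMap.ext
    intro x
    rfl
  rw [this]
  exact key

end Step

section Main

variable [IsNoetherianRing A]

theorem exists_torZeroMap_pow_smul (s : Finset A) :
    ∀ (M : Type u) [AddCommGroup M] [Module A M] [Module.Finite A M],
      ∃ n : ℕ, 0 < n ∧ ∀ (N : Type u) [AddCommGroup N] [Module A N],
        (∀ a ∈ Ideal.span (s : Set A), ∀ y : N, a • y = 0) →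
        TorZeroMap ((Ideal.span (s : Set A)) ^ n • (⊤ : Submodule A M)).subtype N := by
  classical
  induction s using Finset.induction_on with
  | empty =>
    intro M _ _ _
    refine ⟨1, Nat.one_pos, fun N _ _ _ => ?_⟩
    have h0 : (Ideal.span ((∅ : Finset A) : Set A)) ^ 1 • (⊤ : Submodule A M) = ⊥ := by
      simp
    have h1 : ((Ideal.span ((∅ : Finset A) : Set A)) ^ 1 • (⊤ : Submodule A M)).subtype = 0 := by
      apply LinearMap.ext
      intro x
      have hx := h0.le x.2
      exact (Submodule.mem_bot A).mp hx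
    rw [h1]
    exact torZeroMap_zero N
  | insert f s' hf IH =>
    intro M _ _ _
    have : IsNoetherian A M := isNoetherian_of_isNoetherianRing_of_finite A M
    set I' : Ideal A := Ideal.span (s' : Set A) with hI'
    have hI : Ideal.span ((insert f s' : Finset A) : Set A) = Ideal.span {f} ⊔ I' := by
      rw [Finset.coe_insert, Ideal.span_insert]
    obtain ⟨b, hb0, hb⟩ := exists_torZeroMap_powRange M f
    set V : Submodule A M := powRange M f b with hV
    obtain ⟨a₁, ha₁0, ha₁⟩ := IH M
    set U₁ : Submodule A M := I' ^ a₁ • ⊤ with hU₁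
    set T : Submodule A M := U₁ ⊓ V with hT
    obtain ⟨a₃, _, ha₃⟩ := IH ↥T
    obtain ⟨c, hc⟩ := Ideal.exists_pow_inf_eq_pow_smul I' V
    set a₂ : ℕ := a₁ + a₃ + c with ha₂
    set U₂ : Submodule A M := I' ^ a₂ • ⊤ with hU₂
    have hU21 : U₂ ≤ U₁ :=
      Submodule.smul_mono_left (Ideal.pow_le_pow_right (by omega))
    refine ⟨a₂ + b, by omega, fun N _ _ hN => ?_⟩
    rw [hI] at hN
    have hN' : ∀ a ∈ I', ∀ y : N, a • y = 0 := fun a ha y =>
      hN a (Ideal.mem_sup_right ha) y
    have hNf : ∀ y : N, f • y = 0 := fun y =>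
      hN f (Ideal.mem_sup_left (Ideal.subset_span rfl)) y
    -- the key inclusion `U₂ ⊓ V ≤ I'^a₃ • T`
    have hsub : U₂ ⊓ V ≤ I' ^ a₃ • T := by
      rw [hU₂, hc a₂ (by omega)]
      have e : a₂ - c = a₃ + a₁ := by omega
      rw [e, pow_add, Submodule.mul_smul]
      apply Submodule.smul_mono le_rfl
      rw [hT]
      apply le_inf
      · exact Submodule.smul_mono le_rfl le_top
      · exact le_trans Submodule.smul_le_right inf_le_right
    have hκ : TorZeroMap (Submodule.inclusion (inf_le_inf_right V hU21)) N := by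
      have hmem : ∀ x : ↥(U₂ ⊓ V), Submodule.inclusion (inf_le_inf_right V hU21) x ∈
          I' ^ a₃ • (⊤ : Submodule A ↥T) := by
        rintro ⟨x, hx⟩
        have h1 : x ∈ I' ^ a₃ • T := hsub hx
        have h2 : I' ^ a₃ • T = Submodule.map T.subtype (I' ^ a₃ • (⊤ : Submodule A ↥T)) := by
          rw [Submodule.map_smul'', Submodule.map_subtype_top]
        rw [h2] at h1
        obtain ⟨y, hy, hyx⟩ := h1
        have : Submodule.inclusion (inf_le_inf_right V hU21) ⟨x, hx⟩ = y := by
          apply Subtype.ext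
          exact hyx.symm
        rw [this]
        exact hy
      have hfac : Submodule.inclusion (inf_le_inf_right V hU21) =
          (I' ^ a₃ • (⊤ : Submodule A ↥T)).subtype ∘ₗ
            LinearMap.codRestrict _ (Submodule.inclusion (inf_le_inf_right V hU21)) hmem := by
        apply LinearMap.ext
        intro x
        rfl
      rw [hfac]
      exact (ha₃ N hN').comp_right N _
    have hmain := torZeroMap_sup U₁ U₂ V hU21 N (ha₁ N hN') (hb N hNf) hκ
    -- `I^n M ≤ U₂ ⊔ V`
    have hle : (Ideal.span ((insert f s' : Finset A) : Set A)) ^ (a₂ + b) • (⊤ : Submodule A M) ≤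
        U₂ ⊔ V := by
      rw [hI, sup_comm]
      refine le_trans (Submodule.smul_mono_left Ideal.sup_pow_add_le_pow_sup_pow) ?_
      rw [Submodule.sup_smul]
      apply sup_le_sup le_rfl
      rw [Ideal.span_singleton_pow]
      apply Submodule.smul_le.mpr
      intro r hr m _
      obtain ⟨d, rfl⟩ := Ideal.mem_span_singleton'.mp hr
      refine ⟨d • m, ?_⟩
      change f ^ b • (d • m) = (d * f ^ b) • m
      rw [mul_smul, smul_comm]
    have hfin : ((Ideal.span ((insert f s' : Finset A) : Set A)) ^ (a₂ + b) •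
        (⊤ : Submodule A M)).subtype = (U₂ ⊔ V).subtype ∘ₗ Submodule.inclusion hle := by
      apply LinearMap.ext
      intro x
      rfl
    rw [hfin]
    exact hmain.comp_right N _

end Main

end Groth.Agent.Lib.Helper29.TorAR
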