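import Groth.Agent.Lib.Helper29.TorKill
import Mathlib.RingTheory.Polynomial.Basic
import Mathlib.RingTheory.Noetherian.Basic

/-!
# Tor of `C[X]/(aX - b)` up to powers of `a` (helper29)
-/

set_option autoImplicit false
set_option backward.isDefEq.respectTransparency false
set_option backward.defeqAttrib.useBackward true

namespace Groth.Agent.Lib.Helper29.TorBlowup

open CategoryTheory
open Groth.Agent.Lib.Helper46 Groth.Agent.Lib.Helper46.TorShift Groth.Agent.Lib.Helper29.TorKill
open Polynomial

universe u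

section PolyTorsion

variable {C : Type*} [CommRing C]

lemma coeff_mul_lin (a b : C) (g : C[X]) (k : ℕ) :
    (g * (Polynomial.C a * X - Polynomial.C b)).coeff (k + 1) = g.coeff k * a - g.coeff (k + 1) * b := by
  rw [mul_sub, ← mul_assoc, coeff_sub, coeff_mul_X, coeff_mul_C, coeff_mul_C]

lemma pow_mul_eq_zero_of_mul_eq_zero (a b : C) :
    ∀ (n : ℕ) (g : C[X]), g.natDegree ≤ n → g * (Polynomial.C a * X - Polynomial.C b) = 0 →
      Polynomial.C a ^ (n + 1) * g = 0 := by
  intro n
  induction n with
  | zero =>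
    intro g hg h
    have h1 := coeff_mul_lin a b g 0
    have hz : g.coeff (0 + 1) = 0 := coeff_eq_zero_of_natDegree_lt (by omega)
    rw [h, coeff_zero, hz, zero_mul, sub_zero] at h1
    rw [eq_C_of_natDegree_le_zero hg, zero_add, pow_one, ← C_mul, mul_comm, ← h1, C_0]
  | succ n ih =>
    intro g hg h
    have h1 := coeff_mul_lin a b g (n + 1)
    have hz : g.coeff (n + 1 + 1) = 0 := coeff_eq_zero_of_natDegree_lt (by omega)
    rw [h, coeff_zero, hz, zero_mul, sub_zero] at h1
    have h2 : (Polynomial.C a * g).natDegree ≤ n := by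
      rw [natDegree_le_iff_coeff_eq_zero]
      intro N hN
      rw [coeff_C_mul]
      rcases Nat.lt_or_ge (n + 1) N with h3 | h3
      · rw [coeff_eq_zero_of_natDegree_lt (by omega), mul_zero]
      · have : N = n + 1 := by omega
        rw [this, mul_comm, ← h1]
    have h3 := ih (Polynomial.C a * g) h2 (by rw [mul_assoc, h, mul_zero])
    rw [pow_succ, mul_assoc]
    exact h3

lemma exists_pow_forall_of_noetherian {R : Type*} [CommRing R] [IsNoetherianRing R] (a : R) :
    ∃ n : ℕ, ∀ x : R, (∃ m : ℕ, a ^ m * x = 0) → a ^ n * x = 0 := by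
  let f : ℕ →o Ideal R :=
    ⟨fun m => LinearMap.ker (LinearMap.mulLeft R (a ^ m)), by
      intro m k hmk x hx
      rw [LinearMap.mem_ker, LinearMap.mulLeft_apply] at hx ⊢
      obtain ⟨l, rfl⟩ := Nat.exists_eq_add_of_le hmk
      rw [pow_add, mul_comm (a ^ m), mul_assoc, hx, mul_zero]⟩
  obtain ⟨n, hn⟩ := monotone_stabilizes_iff_noetherian.mpr (inferInstance : IsNoetherian R R) f
  refine ⟨n, fun x ⟨m, hm⟩ => ?_⟩
  rcases le_total m n with h | h
  · have : x ∈ f n := f.monotone h (by
      change x ∈ LinearMap.ker (LinearMap.mulLeft R (a ^ m))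
      rw [LinearMap.mem_ker, LinearMap.mulLeft_apply, hm])
    simpa [f] using this
  · have : x ∈ f n := by
      rw [hn m h]
      change x ∈ LinearMap.ker (LinearMap.mulLeft R (a ^ m))
      rw [LinearMap.mem_ker, LinearMap.mulLeft_apply, hm]
    simpa [f] using this

end PolyTorsion

end Groth.Agent.Lib.Helper29.TorBlowup
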