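import Groth.Agent.Lib.Helper29.TorBlowup1

/-!
# Tor of `C[X]/(aX - b)` up to powers of `a`: the inductive step (helper29)
-/

set_option autoImplicit false
set_option backward.isDefEq.respectTransparency false
set_option backward.defeqAttrib.useBackward true

namespace Groth.Agent.Lib.Helper29.TorBlowup

open CategoryTheory
open Groth.Agent.Lib.Helper46 Groth.Agent.Lib.Helper46.TorShift Groth.Agent.Lib.Helper29.TorKill
open Polynomial

universe u

variable {A : Type u} [CommRing A]

/-- the linear polynomial `aX - b` over an `A`-algebra `C` -/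
noncomputable def lin (C : Type u) [CommRing C] [Algebra A C] (a b : A) : C[X] :=
  Polynomial.C (algebraMap A C a) * X - Polynomial.C (algebraMap A C b)

section Step

variable (C : Type u) [CommRing C] [Algebra A C] [IsNoetherianRing C] (a b : A)

lemma exists_pow_smul_ker :
    ∃ c : ℕ, ∀ g ∈ LinearMap.ker (LinearMap.mulLeft A (lin C a b)), a ^ c • g = 0 := by
  obtain ⟨c, hc⟩ := exists_pow_forall_of_noetherian (R := C[X]) (Polynomial.C (algebraMap A C a))
  refine ⟨c, fun g hg => ?_⟩
  rw [LinearMap.mem_ker, LinearMap.mulLeft_apply] at hg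
  have h1 := pow_mul_eq_zero_of_mul_eq_zero (algebraMap A C a) (algebraMap A C b) g.natDegree g
    le_rfl (by rw [mul_comm]; exact hg)
  have h2 := hc g ⟨_, h1⟩
  rw [Algebra.smul_def, map_pow, Polynomial.algebraMap_apply]
  exact h2

theorem kills_step (d : ℕ) (r : A)
    (h : ∀ (N : Type u) [AddCommGroup N] [Module A N] (i : ℕ), d < i → KillsAt r i C N) :
    ∃ c : ℕ, ∀ (N : Type u) [AddCommGroup N] [Module A N] (i : ℕ), d + 1 < i →
      KillsAt (r * (r * a ^ c)) i (C[X] ⧸ Ideal.span {lin C a b}) N := by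
  obtain ⟨c, hc⟩ := exists_pow_smul_ker C a b
  refine ⟨c, fun N _ _ i hi => ?_⟩
  obtain ⟨i, rfl⟩ : ∃ i'', i = i'' + 1 + 1 := ⟨i - 2, by omega⟩
  set μ : C[X] →ₗ[A] C[X] := LinearMap.mulLeft A (lin C a b) with hμ
  have hpoly : ∀ k, d < k → KillsAt r k C[X] N := fun k hk => killsAt_poly C N (h N k hk)
  -- first sequence: 0 → ker μ → C[X] → range μ → 0
  have hK : ∀ x : LinearMap.ker μ, a ^ c • x = 0 := fun x => Subtype.ext (hc x.1 x.2)
  have hex₁ : Function.Exact (LinearMap.ker μ).subtype μ.rangeRestrict := by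
    intro y
    constructor
    · intro hy
      refine ⟨⟨y, ?_⟩, rfl⟩
      rw [LinearMap.mem_ker]
      exact congrArg Subtype.val hy
    · rintro ⟨x, rfl⟩
      exact Subtype.ext x.2
  have step1 : KillsAt (r * a ^ c) (i + 1) (LinearMap.range μ) N :=
    killsAt_right (LinearMap.ker μ).subtype μ.rangeRestrict (Submodule.subtype_injective _) hex₁
      μ.surjective_rangeRestrict i r (a ^ c) (hpoly (i + 1) (by omega))
      (killsAt_of_smul_eq_zero _ N (a ^ c) hK i)
  -- second sequence: 0 → range μ → C[X] → C[X]/(f) → 0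
  have hex₂ : Function.Exact (LinearMap.range μ).subtype
      (Ideal.Quotient.mkₐ A (Ideal.span {lin C a b})).toLinearMap := by
    intro y
    rw [AlgHom.toLinearMap_apply, Ideal.Quotient.mkₐ_eq_mk, Ideal.Quotient.eq_zero_iff_mem,
      Ideal.mem_span_singleton']
    constructor
    · rintro ⟨g, hg⟩
      exact ⟨⟨y, ⟨g, by rw [hμ, LinearMap.mulLeft_apply, mul_comm]; exact hg⟩⟩, rfl⟩
    · rintro ⟨⟨_, ⟨g, rfl⟩⟩, rfl⟩
      exact ⟨g, by
        change g * lin C a b = lin C a b * g
        rw [mul_comm]⟩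
  exact killsAt_right (LinearMap.range μ).subtype
    (Ideal.Quotient.mkₐ A (Ideal.span {lin C a b})).toLinearMap (Submodule.subtype_injective _) hex₂
    (Ideal.Quotient.mkₐ_surjective A _) (i + 1) r (r * a ^ c) (hpoly (i + 1 + 1) (by omega)) step1

end Step

end Groth.Agent.Lib.Helper29.TorBlowup
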