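import Groth.Agent.Lib.Helper29.TorBlowup2
import Mathlib.RingTheory.Localization.Away.Basic

/-!
# Models `C[X]/(aX - b) → A_a` of affine blow-up algebras (helper29)
-/

set_option autoImplicit false
set_option backward.isDefEq.respectTransparency false
set_option backward.defeqAttrib.useBackward true

namespace Groth.Agent.Lib.Helper29.TorBlowup

open Polynomial

universe u

variable {A : Type u} [CommRing A]

section Model

variable (C : Type u) [CommRing C] [Algebra A C] (a0 bj : A)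
variable {L : Type u} [CommRing L] [Algebra A L] (ψ : C →ₐ[A] L) (β : L)

/-- evaluation `C[X] → L` at `β` over `ψ` -/
noncomputable def Phi : C[X] →ₐ[A] L := Polynomial.eval₂AlgHom ψ β (fun _ => Commute.all _ _)

lemma Phi_apply (g : C[X]) : Phi C ψ β g = eval₂ (ψ : C →+* L) β g := rfl

lemma Phi_C (c : C) : Phi C ψ β (Polynomial.C c) = ψ c := by
  rw [Phi_apply, eval₂_C]; rfl

lemma Phi_X : Phi C ψ β X = β := by
  rw [Phi_apply, eval₂_X]

variable (hβ : algebraMap A L a0 * β = algebraMap A L bj)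

include hβ in
lemma Phi_lin : Phi C ψ β (lin C a0 bj) = 0 := by
  rw [lin, map_sub, map_mul, Phi_C, Phi_C, Phi_X, AlgHom.commutes, AlgHom.commutes, hβ, sub_self]

/-- induced map on the quotient `C[X]/(a0 X - bj) → L` -/
noncomputable def psi' : (C[X] ⧸ Ideal.span {lin C a0 bj}) →ₐ[A] L :=
  Ideal.Quotient.liftₐ _ (Phi C ψ β) (by
    intro x hx
    obtain ⟨g, rfl⟩ := Ideal.mem_span_singleton'.mp hx
    rw [map_mul, Phi_lin C a0 bj ψ β hβ, mul_zero])

lemma psi'_mk (g : C[X]) : psi' C a0 bj ψ β hβ (Ideal.Quotient.mk _ g) = Phi C ψ β g := rfl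

include hβ in
lemma ker_aux (g : C[X]) : ∃ (m : ℕ) (e : C),
    a0 ^ m • (Ideal.Quotient.mkₐ A (Ideal.span {lin C a0 bj}) g) =
      Ideal.Quotient.mkₐ A (Ideal.span {lin C a0 bj}) (Polynomial.C e) ∧
    ψ e = a0 ^ m • Phi C ψ β g := by
  induction g using Polynomial.induction_on with
  | C c => exact ⟨0, c, by rw [pow_zero, one_smul], by rw [pow_zero, one_smul, Phi_C]⟩
  | add p q hp hq =>
    obtain ⟨m1, e1, h1, h1'⟩ := hp
    obtain ⟨m2, e2, h2, h2'⟩ := hq
    refine ⟨m1 + m2, a0 ^ m2 • e1 + a0 ^ m1 • e2, ?_, ?_⟩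
    · have e1' : a0 ^ (m1 + m2) • (Ideal.Quotient.mkₐ A (Ideal.span {lin C a0 bj}) p) =
          Ideal.Quotient.mkₐ A (Ideal.span {lin C a0 bj}) (Polynomial.C (a0 ^ m2 • e1)) := by
        rw [pow_add, mul_comm, mul_smul, h1, ← map_smul, Polynomial.smul_C]
      have e2' : a0 ^ (m1 + m2) • (Ideal.Quotient.mkₐ A (Ideal.span {lin C a0 bj}) q) =
          Ideal.Quotient.mkₐ A (Ideal.span {lin C a0 bj}) (Polynomial.C (a0 ^ m1 • e2)) := by
        rw [pow_add, mul_smul, h2, ← map_smul, Polynomial.smul_C]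
      rw [map_add, smul_add, e1', e2', ← map_add, ← C_add]
    · rw [map_add ψ, map_smul, map_smul, h1', h2', map_add, smul_add, smul_smul, smul_smul,
        ← pow_add, ← pow_add, add_comm m2 m1]
  | monomial n c ih =>
    obtain ⟨m, e, h1, h2⟩ := ih
    refine ⟨m + 1, e * algebraMap A C bj, ?_, ?_⟩
    · have hX : a0 • (Ideal.Quotient.mkₐ A (Ideal.span {lin C a0 bj}) X) =
          Ideal.Quotient.mkₐ A (Ideal.span {lin C a0 bj}) (Polynomial.C (algebraMap A C bj)) := by
        rw [← map_smul, ← sub_eq_zero, ← map_sub, Ideal.Quotient.mkₐ_eq_mk,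
          Ideal.Quotient.eq_zero_iff_mem]
        have : a0 • (X : C[X]) - Polynomial.C (algebraMap A C bj) = lin C a0 bj := by
          rw [lin, Algebra.smul_def, Polynomial.algebraMap_apply]
        rw [this]
        exact Ideal.mem_span_singleton_self _
      have hm : Ideal.Quotient.mkₐ A (Ideal.span {lin C a0 bj}) (Polynomial.C c * X ^ (n + 1)) =
          Ideal.Quotient.mkₐ A (Ideal.span {lin C a0 bj}) (Polynomial.C c * X ^ n) *
            Ideal.Quotient.mkₐ A (Ideal.span {lin C a0 bj}) X := by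
        rw [← map_mul, pow_succ, mul_assoc]
      rw [hm, pow_succ, ← smul_mul_smul_comm, h1, hX, ← map_mul, ← C_mul]
    · have hm : Phi C ψ β (Polynomial.C c * X ^ (n + 1)) = Phi C ψ β (Polynomial.C c * X ^ n) * β := by
        rw [pow_succ, ← mul_assoc, map_mul, Phi_X]
      rw [hm, map_mul ψ, h2, AlgHom.commutes, ← hβ, pow_succ, Algebra.smul_def, Algebra.smul_def,
        map_mul]
      simp only [map_mul]
      ring

include hβ in
lemma psi'_ker (hψ : ∀ x, ψ x = 0 → ∃ n : ℕ, a0 ^ n • x = 0)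
    (x : C[X] ⧸ Ideal.span {lin C a0 bj}) (hx : psi' C a0 bj ψ β hβ x = 0) :
    ∃ n : ℕ, a0 ^ n • x = 0 := by
  obtain ⟨g, rfl⟩ := Ideal.Quotient.mk_surjective x
  obtain ⟨m, e, h1, h2⟩ := ker_aux C a0 bj ψ β hβ g
  have h3 : Phi C ψ β g = 0 := hx
  rw [h3, smul_zero] at h2
  obtain ⟨n, hn⟩ := hψ e h2
  refine ⟨n + m, ?_⟩
  rw [pow_add, mul_smul]
  have h1' : a0 ^ m • (Ideal.Quotient.mk (Ideal.span {lin C a0 bj}) g) =
      Ideal.Quotient.mkₐ A (Ideal.span {lin C a0 bj}) (Polynomial.C e) := h1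
  rw [h1', ← map_smul, Polynomial.smul_C, hn, C_0, map_zero]

lemma psi'_range (S : Set L) (hS : ψ.range = Algebra.adjoin A S) :
    (psi' C a0 bj ψ β hβ).range = Algebra.adjoin A (insert β S) := by
  apply le_antisymm
  · rintro _ ⟨x, rfl⟩
    obtain ⟨g, rfl⟩ := Ideal.Quotient.mk_surjective x
    change Phi C ψ β g ∈ _
    rw [Phi_apply, eval₂_eq_sum_range]
    refine Subalgebra.sum_mem _ (fun k _ => Subalgebra.mul_mem _ ?_
      (Subalgebra.pow_mem _ (Algebra.subset_adjoin (Set.mem_insert _ _)) _))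
    have : ψ (g.coeff k) ∈ Algebra.adjoin A S := hS ▸ ⟨_, rfl⟩
    exact Algebra.adjoin_mono (Set.subset_insert _ _) this
  · apply Algebra.adjoin_le
    rintro q (rfl | hq)
    · exact ⟨Ideal.Quotient.mk _ X, Phi_X C ψ q⟩
    · have : q ∈ ψ.range := hS ▸ Algebra.subset_adjoin hq
      obtain ⟨c, rfl⟩ := this
      exact ⟨Ideal.Quotient.mk _ (Polynomial.C c), Phi_C C ψ β c⟩

end Model

end Groth.Agent.Lib.Helper29.TorBlowup
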