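import Groth.Agent.Lib.Helper29.TorBlowup3
import Groth.Prelude.Def_BlowUp2
import Groth.Prelude.Def_DRing2

/-!
# `I^c` kills `Tor_i(A[I/a], M)` for `i > t` (helper29)
-/

set_option autoImplicit false
set_option backward.isDefEq.respectTransparency false
set_option backward.defeqAttrib.useBackward true

namespace Groth.Agent.Lib.Helper29.TorBlowup

open CategoryTheory
open Groth.Agent.Lib.Helper46 Groth.Agent.Lib.Helper46.TorShift Groth.Agent.Lib.Helper29.TorKill
open Polynomial

universe u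

variable (A : Type u) [CommRing A]

section Induction

variable (a0 : A) (b : ℕ → A)

/-- the fractions `b_l / a0` -/
noncomputable def frac (l : ℕ) : Localization.Away a0 :=
  IsLocalization.mk' (Localization.Away a0) (b l)
    (⟨a0, Submonoid.mem_powers a0⟩ : Submonoid.powers a0)

lemma frac_spec (l : ℕ) :
    algebraMap A (Localization.Away a0) a0 * frac A a0 b l =
      algebraMap A (Localization.Away a0) (b l) :=
  IsLocalization.mk'_spec' (Localization.Away a0) (b l)
    (⟨a0, Submonoid.mem_powers a0⟩ : Submonoid.powers a0)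

theorem exists_model [IsNoetherianRing A] (j : ℕ) :
    ∃ (C : Type u) (_ : CommRing C) (_ : Algebra A C) (_ : IsNoetherianRing C)
      (ψ : C →ₐ[A] Localization.Away a0),
      (∀ x, ψ x = 0 → ∃ n : ℕ, a0 ^ n • x = 0) ∧
      ψ.range = Algebra.adjoin A {q | ∃ l < j, q = frac A a0 b l} ∧
      ∃ c : ℕ, ∀ (N : Type u) [AddCommGroup N] [Module A N] (i : ℕ), j < i →
        KillsAt (a0 ^ c) i C N := by
  induction j with
  | zero =>
    refine ⟨A, inferInstance, inferInstance, inferInstance, Algebra.ofId A _, ?_, ?_, 0, ?_⟩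
    · intro x hx
      obtain ⟨⟨_, n, rfl⟩, hm⟩ :=
        (IsLocalization.map_eq_zero_iff (Submonoid.powers a0) (Localization.Away a0) x).mp hx
      exact ⟨n, hm⟩
    · rw [Algebra.range_ofId]
      have : {q | ∃ l < 0, q = frac A a0 b l} = ∅ := by
        ext q; simp
      rw [this, Algebra.adjoin_empty]
    · intro N _ _ i hi
      obtain ⟨i, rfl⟩ : ∃ k, i = k + 1 := ⟨i - 1, by omega⟩
      exact killsAt_self N _ i
  | succ j ih =>
    obtain ⟨C, _, _, _, ψ, hker, hrange, c, hkill⟩ := ih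
    obtain ⟨c', hc'⟩ := kills_step C a0 (b j) j (a0 ^ c) hkill
    refine ⟨C[X] ⧸ Ideal.span {lin C a0 (b j)}, inferInstance, inferInstance, inferInstance,
      psi' C a0 (b j) ψ (frac A a0 b j) (frac_spec A a0 b j),
      psi'_ker C a0 (b j) ψ (frac A a0 b j) (frac_spec A a0 b j) hker, ?_, c + (c + c'), ?_⟩
    · rw [psi'_range C a0 (b j) ψ _ _ _ hrange]
      congr 1
      ext q
      constructor
      · rintro (rfl | ⟨l, hl, rfl⟩)
        · exact ⟨j, Nat.lt_succ_self j, rfl⟩
        · exact ⟨l, Nat.lt_succ_of_lt hl, rfl⟩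
      · rintro ⟨l, hl, rfl⟩
        rcases Nat.lt_succ_iff_lt_or_eq.mp hl with h | rfl
        · exact Or.inr ⟨l, h, rfl⟩
        · exact Or.inl rfl
    · intro N _ _ i hi
      have := hc' N i hi
      rwa [← pow_add, ← pow_add] at this

end Induction

section Main

lemma exists_eq_mul (I : Ideal A) (a0 : A) (c : ℕ) (x : A) (hx : x ∈ I ^ c) :
    ∃ β ∈ BlowUp.affineAlgebra A I a0,
      algebraMap A (Localization.Away a0) x = algebraMap A (Localization.Away a0) (a0 ^ c) * β := by
  induction c generalizing x with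
  | zero =>
    exact ⟨algebraMap A _ x, Subalgebra.algebraMap_mem _ x, by rw [pow_zero, map_one, one_mul]⟩
  | succ c ih =>
    rw [pow_succ] at hx
    refine Submodule.mul_induction_on hx ?_ ?_
    · intro u hu v hv
      obtain ⟨β, hβ, h⟩ := ih u hu
      refine ⟨β * IsLocalization.mk' (Localization.Away a0) v
        (⟨a0, Submonoid.mem_powers a0⟩ : Submonoid.powers a0),
        Subalgebra.mul_mem _ hβ (Algebra.subset_adjoin ⟨v, hv, rfl⟩), ?_⟩
      have hv' := IsLocalization.mk'_spec' (Localization.Away a0) v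
        (⟨a0, Submonoid.mem_powers a0⟩ : Submonoid.powers a0)
      rw [map_mul, h, pow_succ, map_mul, ← hv']
      ring
    · rintro x1 x2 ⟨β1, h1, e1⟩ ⟨β2, h2, e2⟩
      exact ⟨β1 + β2, Subalgebra.add_mem _ h1 h2, by rw [map_add, e1, e2, mul_add]⟩

lemma adjoin_frac_eq (t : ℕ) (a : Fin (t + 1) → A) :
    Algebra.adjoin A {q | ∃ l < t, q = frac A (a 0)
      (fun l => if h : l + 1 < t + 1 then a ⟨l + 1, h⟩ else 0) l} =
      BlowUp.affineAlgebra A (Ideal.span (Set.range a)) (a 0) := by
  apply le_antisymm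
  · apply Algebra.adjoin_mono
    rintro q ⟨l, hl, rfl⟩
    refine ⟨a ⟨l + 1, by omega⟩, Ideal.subset_span ⟨_, rfl⟩, ?_⟩
    rw [frac, dif_pos (by omega)]
  · apply Algebra.adjoin_le
    rintro q ⟨x, hx, rfl⟩
    rw [IsLocalization.mk'_eq_mul_mk'_one]
    refine Submodule.span_induction (p := fun x _ => algebraMap A (Localization.Away (a 0)) x *
      IsLocalization.mk' (Localization.Away (a 0)) 1
        (⟨a 0, Submonoid.mem_powers (a 0)⟩ : Submonoid.powers (a 0)) ∈ Algebra.adjoin A _)
      ?_ ?_ ?_ ?_ hx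
    · rintro _ ⟨k, rfl⟩
      rw [← IsLocalization.mk'_eq_mul_mk'_one]
      obtain ⟨k, hk⟩ := k
      rcases Nat.eq_zero_or_pos k with rfl | hpos
      · have : IsLocalization.mk' (Localization.Away (a 0)) (a ⟨0, hk⟩)
            (⟨a 0, Submonoid.mem_powers (a 0)⟩ : Submonoid.powers (a 0)) = 1 :=
          IsLocalization.mk'_self _ _
        rw [this]
        exact Subalgebra.one_mem _
      · apply Algebra.subset_adjoin
        refine ⟨k - 1, by omega, ?_⟩
        rw [frac, dif_pos (by omega)]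
        congr 2
        apply Fin.ext
        simp only
        omega
    · rw [map_zero, zero_mul]
      exact Subalgebra.zero_mem _
    · intro x y _ _ hx hy
      rw [map_add, add_mul]
      exact Subalgebra.add_mem _ hx hy
    · intro c x _ hx
      rw [smul_eq_mul, map_mul, mul_assoc]
      exact Subalgebra.mul_mem _ (Subalgebra.algebraMap_mem _ c) hx

theorem main [IsNoetherianRing A] (t : ℕ) (a : Fin (t + 1) → A) :
    ∃ c : ℕ, ∀ (M : Type u) [AddCommGroup M] [Module A M] (i : ℕ), t + 1 ≤ i →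
      ∀ x ∈ Ideal.span (Set.range a) ^ c,
      ∀ y : T A i (BlowUp.affineAlgebra A (Ideal.span (Set.range a)) (a 0)) M, x • y = 0 := by
  obtain ⟨C, _, _, _, ψ, hker, hrange, c0, hkill⟩ := exists_model A (a 0)
    (fun l => if h : l + 1 < t + 1 then a ⟨l + 1, h⟩ else 0) t
  rw [adjoin_frac_eq] at hrange
  obtain ⟨n, hn⟩ := exists_pow_forall_of_noetherian (R := C) (algebraMap A C (a 0))
  let π : C →ₗ[A] BlowUp.affineAlgebra A (Ideal.span (Set.range a)) (a 0) :=
    (ψ.codRestrict (BlowUp.affineAlgebra A (Ideal.span (Set.range a)) (a 0)) (fun c => by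
      rw [← hrange]; exact ⟨c, rfl⟩)).toLinearMap
  have hπ : Function.Surjective π := by
    rintro ⟨q, hq⟩
    rw [← hrange] at hq
    obtain ⟨c, rfl⟩ := hq
    exact ⟨c, rfl⟩
  have hkerπ : ∀ x : LinearMap.ker π, (a 0) ^ n • x = 0 := by
    rintro ⟨x, hx⟩
    apply Subtype.ext
    have h1 : ψ x = 0 := congrArg Subtype.val (LinearMap.mem_ker.mp hx)
    obtain ⟨m, hm⟩ := hker x h1
    have h2 := hn x ⟨m, by rw [← map_pow, ← Algebra.smul_def]; exact hm⟩
    change (a 0) ^ n • x = 0
    rw [Algebra.smul_def, map_pow]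
    exact h2
  have hB : ∀ (M : Type u) [AddCommGroup M] [Module A M] (i : ℕ), t < i →
      KillsAt ((a 0) ^ (c0 + n)) i (BlowUp.affineAlgebra A (Ideal.span (Set.range a)) (a 0)) M := by
    intro M _ _ i hi
    obtain ⟨i, rfl⟩ : ∃ k, i = k + 1 := ⟨i - 1, by omega⟩
    rw [pow_add]
    exact killsAt_right (LinearMap.ker π).subtype π (Submodule.subtype_injective _)
      (LinearMap.exact_subtype_ker_map π) hπ i _ _ (hkill M (i + 1) hi)
      (killsAt_of_smul_eq_zero _ M _ hkerπ i)
  refine ⟨c0 + n, fun M _ _ i hi x hx => ?_⟩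
  obtain ⟨β, hβmem, hβ⟩ := exists_eq_mul A (Ideal.span (Set.range a)) (a 0) (c0 + n) x hx
  refine KillsAt.of_factor _ M
    (ModuleCat.ofHom (LinearMap.mulLeft A (⟨β, hβmem⟩ :
      BlowUp.affineAlgebra A (Ideal.span (Set.range a)) (a 0)))) ?_ (hB M i (by omega))
  ext z
  change x • (z : Localization.Away (a 0)) = β * ((a 0) ^ (c0 + n) • (z : Localization.Away (a 0)))
  rw [Algebra.smul_def, Algebra.smul_def, hβ]
  ring

end Main

end Groth.Agent.Lib.Helper29.TorBlowup
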