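import Groth.Agent.Lib.Helper2.LDCM
import Groth.Agent.Lib.Helper46.TorShift

/-!
# `Tor_i(E, M) ≃ Hom(Ext^i(M, R), E)` for `E` injective and `M` finite over a Noetherian ring
(helper29; mirrors helper2's local duality `LD.duality_ext`, with `Tor_i(E, -)` in place of
local cohomology, on top of helper46's Tor long exact sequences)
-/

set_option autoImplicit false
set_option backward.isDefEq.respectTransparency false
set_option backward.defeqAttrib.useBackward true

universe u

open Function CategoryTheory MonoidalCategory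

namespace Groth.Agent.Lib.Helper29.TorExtDual

open Groth.Agent.Lib.Helper2 Groth.Agent.Lib.Helper2.LD Groth.Agent.Lib.Helper46
open Groth.Agent.Lib.Helper46.TorShift
open scoped TensorProduct

variable {R : Type u} [CommRing R] (E : Type u) [AddCommGroup E] [Module R E]

section Tau

variable (M N : Type u) [AddCommGroup M] [Module R M] [AddCommGroup N] [Module R N]

/-- `E ⊗ M → Hom(Hom(M,R),E)`, `e ⊗ m ↦ (φ ↦ φ m • e)`. -/
noncomputable def tau : E ⊗[R] M →ₗ[R] ((M →ₗ[R] R) →ₗ[R] E) :=
  TensorProduct.lift
    (LinearMap.mk₂ R (fun (e : E) (m : M) =>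
        ((LinearMap.applyₗ (R := R) (M₂ := R) m : (M →ₗ[R] R) →ₗ[R] R).smulRight e))
      (fun e e' m => by
        ext φ
        simp only [LinearMap.smulRight_apply, LinearMap.add_apply, smul_add])
      (fun r e m => by
        ext φ
        simp only [LinearMap.smulRight_apply, LinearMap.smul_apply, smul_comm r])
      (fun e m m' => by
        ext φ
        simp only [LinearMap.smulRight_apply, LinearMap.add_apply, map_add, add_smul,
          LinearMap.applyₗ_apply_apply])
      (fun r e m => by
        ext φ
        simp only [LinearMap.smulRight_apply, LinearMap.smul_apply, map_smul, smul_eq_mul,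
          mul_smul, LinearMap.applyₗ_apply_apply]))

@[simp]
theorem tau_tmul (e : E) (m : M) (φ : M →ₗ[R] R) : tau E M (e ⊗ₜ m) φ = φ m • e := rfl

variable {M N} in
theorem tau_naturality (g : M →ₗ[R] N) (x : E ⊗[R] M) :
    tau E N (LinearMap.lTensor E g x) = ddMap R E g (tau E M x) := by
  induction x using TensorProduct.induction_on with
  | zero => simp
  | tmul e m =>
    ext φ
    simp
  | add a b ha hb => rw [map_add, map_add, ha, hb, map_add, map_add]

/-- `E ≃ Hom(Hom(R,R),E)`. -/
noncomputable def cE : E ≃ₗ[R] ((R →ₗ[R] R) →ₗ[R] E) :=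
  (LinearMap.ringLmapEquivSelf R R E).symm.trans
    (LinearEquiv.congrLeft E R (LinearMap.ringLmapEquivSelf R R R).symm)

theorem cE_apply (e : E) (ψ : R →ₗ[R] R) : cE E e ψ = ψ 1 • e := by
  simp [cE, LinearEquiv.congrLeft]

variable [IsNoetherianRing R] (hE : Module.Injective R E) [Module.Finite R M]

include hE in
theorem tau_bijective : Bijective (tau (R := R) E M) := by
  have h : (tau (R := R) E M : E ⊗[R] M → _) =
      (EW.ewEquiv (ddFunctor_rightExact R E hE) M) ∘
        (TensorProduct.congr (LinearEquiv.refl R M) (cE E)) ∘ (TensorProduct.comm R E M) := by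
    funext x
    induction x using TensorProduct.induction_on with
    | zero => simp
    | tmul e m =>
      apply LinearMap.ext
      intro φ
      simp only [Function.comp_apply, TensorProduct.comm_tmul, TensorProduct.congr_tmul,
        LinearEquiv.refl_apply, EW.ewEquiv_apply, EW.ewMap_tmul, tau_tmul]
      change φ m • e = (ddMap R E (LinearMap.toSpanSingleton R M m) (cE E e)) φ
      rw [ddMap_apply, cE_apply]
      simp
    | add a b ha hb =>
      simp only [Function.comp_apply, map_add] at ha hb ⊢
      rw [ha, hb]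
  rw [h]
  exact (EW.ewEquiv _ M).bijective.comp
    ((TensorProduct.congr (LinearEquiv.refl R M) (cE E)).bijective.comp
      (TensorProduct.comm R E M).bijective)

end Tau

section Zero

variable (M N : Type u) [AddCommGroup M] [Module R M] [AddCommGroup N] [Module R N]

/-- `Tor_0(E, M) ≃ E ⊗ M`. -/
noncomputable def z0 : T R 0 E M ≃ₗ[R] E ⊗[R] M :=
  ((TorLES.torZeroIso (ModuleCat.of R E)).app (ModuleCat.of R M)).toLinearEquiv

variable {M N} in
theorem z0_naturality (g : M →ₗ[R] N) (x : T R 0 E M) :
    z0 E N ((((Tor (ModuleCat.{u} R) 0).obj (ModuleCat.of R E)).map (ModuleCat.ofHom g)).hom x) =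
      LinearMap.lTensor E g (z0 E M x) := by
  have h := (TorLES.torZeroIso (ModuleCat.of R E)).hom.naturality (ModuleCat.ofHom g)
  have h' := congrArg (fun f => f.hom x) h
  exact h'

variable [IsNoetherianRing R] (hE : Module.Injective R E) [Module.Finite R M] [Module.Finite R N]

/-- `Tor_0(E, M) ≃ Hom(Hom(M,R),E)` on finite modules. -/
noncomputable def zeroEquiv : T R 0 E M ≃ₗ[R] ((M →ₗ[R] R) →ₗ[R] E) :=
  (z0 E M).trans (LinearEquiv.ofBijective (tau E M) (tau_bijective E M hE))

variable {M N} in
theorem zeroEquiv_naturality (g : M →ₗ[R] N) (x : T R 0 E M) :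
    zeroEquiv E N hE
        ((((Tor (ModuleCat.{u} R) 0).obj (ModuleCat.of R E)).map (ModuleCat.ofHom g)).hom x) =
      ddMap R E g (zeroEquiv E M hE x) := by
  change tau E N (z0 E N _) = ddMap R E g (tau E M (z0 E M x))
  rw [z0_naturality, tau_naturality]

end Zero

section Main

open CategoryTheory.Abelian

variable [IsNoetherianRing R] (hE : Module.Injective R E)

theorem eq_zero_of_isZero {X : ModuleCat.{u} R} (h : Limits.IsZero X) (x : X) : x = 0 := by
  have : Subsingleton X := ModuleCat.subsingleton_of_isZero h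
  exact Subsingleton.elim _ _

include hE in
/-- **Tor–Ext duality**: `Tor_i(E, M) ≃ Hom(Ext^i(M, R), E)` for `E` injective, `M` finite. -/
theorem tor_ext_dual : ∀ (i : ℕ) (M : Type u) [AddCommGroup M] [Module R M] [Module.Finite R M],
    Nonempty (T R i E M ≃ₗ[R] (Ext.{u} (ModuleCat.of R M) (ModuleCat.of R R) i →ₗ[R] E)) := by
  intro i
  induction i with
  | zero =>
    intro M _ _ _
    exact ⟨(zeroEquiv E M hE).trans (LinearEquiv.congrLeft E R (e0 M R))⟩
  | succ i ih =>
    intro M _ _ _
    obtain ⟨b, π, hπ⟩ := Module.Finite.exists_fin' R M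
    let M' : Submodule R (Fin b → R) := LinearMap.ker π
    haveI : Module.Finite R M' := Module.IsNoetherian.finite R M'
    have hfg : Function.Exact M'.subtype π := LinearMap.exact_subtype_ker_map π
    let S : ShortComplex (ModuleCat.{u} R) :=
      ModuleCat.shortComplexOfCompEqZero M'.subtype π hfg.linearMap_comp_eq_zero
    have hS : S.ShortExact :=
      { exact := ModuleCat.shortComplex_exact _ hfg
        mono_f := (ModuleCat.mono_iff_injective _).mpr M'.injective_subtype
        epi_g := (ModuleCat.epi_iff_surjective _).mpr hπ }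
    have hTorF : ∀ j : ℕ, Limits.IsZero (T R (j + 1) E (Fin b → R)) :=
      fun j => isZero_of_flat_right E (Fin b → R) j
    have hExtF : ∀ j : ℕ, Subsingleton
        (Ext.{u} (ModuleCat.of R (Fin b → R)) (ModuleCat.of R R) (j + 1)) :=
      fun j => Ext.subsingleton_of_projective _ _ j
    rcases i with _ | i
    · -- the case `i + 1 = 1`
      let d : T R (0 + 1) E M →ₗ[R] T R 0 E M' :=
        (TorLES2.δ₂ (ModuleCat.of R E) S hS 0).hom
      let a : T R 0 E M' →ₗ[R] T R 0 E (Fin b → R) :=
        (((Tor (ModuleCat.{u} R) 0).obj (ModuleCat.of R E)).map (ModuleCat.ofHom M'.subtype)).hom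
      have hd : Injective d := by
        rw [injective_iff_map_eq_zero]
        intro x hx
        obtain ⟨x₂, rfl⟩ := (ShortComplex.moduleCat_exact_iff _).mp
          (TorLES2.exact₃₂ (ModuleCat.of R E) S hS 0) x hx
        have hx₂ : x₂ = 0 := eq_zero_of_isZero (hTorF 0) x₂
        rw [hx₂]
        exact map_zero _
      have hda : Function.Exact d a := by
        intro y
        constructor
        · intro hy
          exact (ShortComplex.moduleCat_exact_iff _).mp
            (TorLES2.exact₁₂ (ModuleCat.of R E) S hS 0) y hy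
        · rintro ⟨x, rfl⟩
          have h := TorLES2.δ₂_map_f (ModuleCat.of R E) S hS 0
          exact congrArg (fun f => f.hom x) h
      let e1 := equivKerOfExact d a hd hda
      let e2 : LinearMap.ker a ≃ₗ[R] LinearMap.ker (ddMap R E M'.subtype) :=
        kerEquivOfComm (zeroEquiv E M' hE) (zeroEquiv E (Fin b → R) hE)
          a (ddMap R E M'.subtype)
          (fun x => zeroEquiv_naturality E hE M'.subtype x)
      -- the Ext side
      let p : (M' →ₗ[R] R) →ₗ[R] Ext.{u} (ModuleCat.of R M) (ModuleCat.of R R) (0 + 1) :=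
        (extδ hS (ModuleCat.of R R) 0 (0 + 1) (by omega)) ∘ₗ (e0 M' R).toLinearMap
      have hp : Surjective p := by
        refine (extδ_surjective hS (ModuleCat.of R R) 0 (0 + 1) (by omega) (hExtF 0)).comp ?_
        exact (e0 M' R).surjective
      have hbp : Function.Exact (LinearMap.lcomp R R M'.subtype) p := by
        intro χ
        constructor
        · intro hχ
          obtain ⟨x₂, hx₂⟩ := (extδ_exact hS (ModuleCat.of R R) 0 (0 + 1) (by omega) _).mp hχ
          obtain ⟨φ, rfl⟩ := (e0 (Fin b → R) R).surjective x₂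
          refine ⟨φ, ?_⟩
          apply (e0 M' R).injective
          have hx₂' : (e0 M' R) χ = extf S (ModuleCat.of R R) 0 (e0 (Fin b → R) R φ) := hx₂.symm
          rw [hx₂', extf_apply, e0_apply, e0_apply, Ext.mk₀_comp_mk₀]
          rfl
        · rintro ⟨φ, rfl⟩
          show extδ hS (ModuleCat.of R R) 0 (0 + 1) (by omega) (e0 M' R (φ ∘ₗ M'.subtype)) = 0
          apply (extδ_exact hS (ModuleCat.of R R) 0 (0 + 1) (by omega) _).mpr
          refine ⟨e0 (Fin b → R) R φ, ?_⟩
          rw [extf_apply, e0_apply, e0_apply, Ext.mk₀_comp_mk₀]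
          rfl
      let e3 : (Ext.{u} (ModuleCat.of R M) (ModuleCat.of R R) (0 + 1) →ₗ[R] E) ≃ₗ[R]
          LinearMap.ker (LinearMap.lcomp R E (LinearMap.lcomp R R M'.subtype)) :=
        homEquivKerOfExact _ p hp hbp
      exact ⟨e1.trans (e2.trans e3.symm)⟩
    · -- the case `i + 2`
      let d : T R (i + 1 + 1) E M →ₗ[R] T R (i + 1) E M' :=
        (TorLES2.δ₂ (ModuleCat.of R E) S hS (i + 1)).hom
      have hd : Bijective d := by
        constructor
        · rw [injective_iff_map_eq_zero]
          intro x hx
          obtain ⟨x₂, rfl⟩ := (ShortComplex.moduleCat_exact_iff _).mp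
            (TorLES2.exact₃₂ (ModuleCat.of R E) S hS (i + 1)) x hx
          have hx₂ : x₂ = 0 := eq_zero_of_isZero (hTorF (i + 1)) x₂
          rw [hx₂]
          exact map_zero _
        · intro y
          exact (ShortComplex.moduleCat_exact_iff _).mp
            (TorLES2.exact₁₂ (ModuleCat.of R E) S hS (i + 1)) y
            (eq_zero_of_isZero (hTorF i) _)
      obtain ⟨eih⟩ := ih M'
      have hδ : Bijective (extδ hS (ModuleCat.of R R) (i + 1) (i + 1 + 1) (by omega)) :=
        extδ_bijective hS _ _ _ _ (hExtF (i + 1)) (hExtF i)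
      exact ⟨(LinearEquiv.ofBijective d hd).trans (eih.trans
        (LinearEquiv.congrLeft E R (LinearEquiv.ofBijective _ hδ)))⟩

end Main

end Groth.Agent.Lib.Helper29.TorExtDual
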