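import Groth.Agent.Lib.Helper29.TorExtDual
import Groth.Agent.Lib.Helper41.GorDual
import Groth.Agent.Lib.Helper2.GorHull
import Groth.Agent.Lib.Helper2.Matlis1
import Groth.Agent.Lib.Helper29.GorCM2
import Groth.Agent.Lib.Helper29.ExtRegSeq
import Groth.Agent.S5170
import Groth.Agent.S11665

/-!
# `Tor_i(E, k)` over a Gorenstein local ring (helper29)
-/

set_option autoImplicit false
set_option backward.isDefEq.respectTransparency false
set_option backward.defeqAttrib.useBackward true

universe u

open Function CategoryTheory CategoryTheory.Abelian IsLocalRing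

namespace Groth.Agent.Lib.Helper29.TorHullGor

open Groth.Agent.Lib.Helper29 Groth.Agent.Lib.Helper2 Groth.Agent.Lib.Helper46.TorShift

variable (A : Type u) [CommRing A]

lemma length_residueField [IsLocalRing A] : Module.length A (ResidueField A) = 1 := by
  rw [Module.length_eq_one_iff]
  change IsSimpleModule A (A ⧸ maximalIdeal A)
  rw [isSimpleModule_iff_isCoatom]
  exact Ideal.isMaximal_def.mp inferInstance

lemma nonempty_equiv_residueField_of_length_eq_one [IsLocalRing A] (T : Type u) [AddCommGroup T]
    [Module A T] (h : Module.length A T = 1) : Nonempty (T ≃ₗ[A] ResidueField A) := by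
  have hs : IsSimpleModule A T := Module.length_eq_one_iff.mp h
  obtain ⟨I, hI, ⟨e⟩⟩ := isSimpleModule_iff_quot_maximal.mp hs
  have : I = maximalIdeal A := IsLocalRing.eq_maximalIdeal hI
  subst this
  exact ⟨e⟩

lemma mem_annihilator_residueField [IsLocalRing A] {x : A} (hx : x ∈ maximalIdeal A) :
    x ∈ Module.annihilator A (ResidueField A) := by
  rw [Module.mem_annihilator]
  intro c
  obtain ⟨a, rfl⟩ := residue_surjective c
  rw [Algebra.smul_def]
  change residue A x * residue A a = 0
  rw [(residue_eq_zero_iff x).mpr hx, zero_mul]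

lemma isPowerTorsion_residueField [IsLocalRing A] :
    LocCoh.IsPowerTorsion (maximalIdeal A) (ResidueField A) := by
  intro c
  refine ⟨1, fun a ha => ?_⟩
  rw [pow_one] at ha
  exact Module.mem_annihilator.mp (mem_annihilator_residueField A ha) c

variable [LocCoh.IsGorensteinLocalRing A] (d : ℕ) (hd : ringKrullDim A = d)

include hd in
theorem top_ext_data :
    (∀ i, i ≠ d → Subsingleton
      (Ext.{u} (ModuleCat.of A (ResidueField A)) (ModuleCat.of A A) i)) ∧
    ¬ Subsingleton (Ext.{u} (ModuleCat.of A (ResidueField A)) (ModuleCat.of A A) d) := by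
  obtain ⟨n₀, h⟩ := LocCoh.IsGorensteinLocalRing.exists_hasInjectiveDimensionLT (A := A)
  obtain ⟨r, hr, hne, hdim, hdepth⟩ := GorCM.exists_top_ext n₀ h
  have hrd : r = d := by
    rw [hd] at hdim
    exact_mod_cast hdim.symm
  subst hrd
  refine ⟨fun i hi => ?_, hne⟩
  rcases Nat.lt_or_gt_of_ne hi with hlt | hgt
  · have hIM : maximalIdeal A • (⊤ : Submodule A A) ≠ ⊤ := by
      rw [smul_eq_mul, Ideal.mul_top]
      exact (maximalIdeal.isMaximal A).ne_top
    have hdepth' : ((r : ℕ) : ℕ∞) ≤ LocCoh.idealDepth (maximalIdeal A) A := by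
      unfold LocCoh.depth at hdepth
      rw [hdepth]
    obtain ⟨rs, hreg, hmem, hlen⟩ :=
      Groth.Agent.Lib.Helper93.ReflexiveDepth.exists_regular_of_le_idealDepth (maximalIdeal A) A r
        hdepth' hIM
    have hv := ExtRegSeq.ext_vanish (ModuleCat.of A (ResidueField A)) rs A
      (fun x hx => mem_annihilator_residueField A (hmem x hx)) hreg i (lt_of_lt_of_le hlt hlen)
    exact ⟨fun a b => by rw [hv a, hv b]⟩
  · exact hr i hgt

variable (E : Type u) [AddCommGroup E] [Module A E] (f : ResidueField A →ₗ[A] E)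
  (hf : InjHull.IsInjectiveHull f)

include hd hf in
theorem isZero_tor (i : ℕ) (hi : i ≠ d) : Limits.IsZero (T A i E (ResidueField A)) := by
  obtain ⟨e⟩ := TorExtDual.tor_ext_dual E hf.isInjective i (ResidueField A)
  haveI := (top_ext_data A d hd).1 i hi
  haveI : Subsingleton (T A i E (ResidueField A)) := e.toEquiv.subsingleton
  exact ModuleCat.isZero_of_subsingleton _

include hd in
theorem length_top_ext :
    Module.length A (Ext.{u} (ModuleCat.of A (ResidueField A)) (ModuleCat.of A A) d) = 1 := by
  obtain ⟨g, hg⟩ := Groth.Agent.S11665.result A d hd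
  have hdepth : (d : ℕ∞) ≤ LocCoh.depth A A :=
    (Groth.Agent.Lib.Helper41.GorDual.depth_eq_of_gorenstein A d hd).ge
  let eK : (A →ₗ[A] LocCoh.H (maximalIdeal A) d A) ≃ₗ[A] LocCoh.H (maximalIdeal A) d A :=
    LinearMap.ringLmapEquivSelf A A _
  obtain ⟨e'⟩ := LD.duality_ext (maximalIdeal A) d hd.le
    (LD.subsingleton_localCohomology_of_lt_depth d hdepth) hg.isInjective eK d le_rfl
    (ResidueField A)
  rw [Nat.sub_self] at e'
  have hbij := toMod_bijective_of_isPowerTorsion (maximalIdeal A) (ResidueField A)
    (isPowerTorsion_residueField A)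
  have h0 : Module.length A ((localCohomology (maximalIdeal A) 0).obj
      (ModuleCat.of A (ResidueField A))) = 1 := by
    rw [(LinearEquiv.ofBijective _ hbij).length_eq]
    exact length_residueField A
  set V := Ext.{u} (ModuleCat.of A (ResidueField A)) (ModuleCat.of A A) d with hV
  have L1 : Module.length A (V →ₗ[A] LocCoh.H (maximalIdeal A) d A) = 1 := by
    rw [← e'.length_eq]; exact h0
  have hfin1 : IsFiniteLength A (V →ₗ[A] LocCoh.H (maximalIdeal A) d A) :=
    Module.length_ne_top_iff.mp (by rw [L1]; exact ENat.one_ne_top)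
  have L2 : Module.length A ((V →ₗ[A] LocCoh.H (maximalIdeal A) d A) →ₗ[A]
      LocCoh.H (maximalIdeal A) d A) = 1 := by
    rw [Groth.Agent.S5170.result A _ g hg _ hfin1, L1]
  have hinj := applyₗ_injective g hg V
  have hle : Module.length A V ≤ 1 := by
    rw [← L2]
    exact Module.length_le_of_injective _ hinj
  have hnt : Nontrivial V := not_subsingleton_iff_nontrivial.mp (top_ext_data A d hd).2
  have hpos : 0 < Module.length A V := Module.length_pos
  exact le_antisymm hle (Order.one_le_iff_pos.mpr hpos)

include hd hf in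
theorem nonempty_tor_iso :
    Nonempty (T A d E (ResidueField A) ≅ ModuleCat.of A (ResidueField A)) := by
  obtain ⟨e⟩ := TorExtDual.tor_ext_dual E hf.isInjective d (ResidueField A)
  have hV := length_top_ext A d hd
  have hfin : IsFiniteLength A (Ext.{u} (ModuleCat.of A (ResidueField A)) (ModuleCat.of A A) d) :=
    Module.length_ne_top_iff.mp (by rw [hV]; exact ENat.one_ne_top)
  have h1 : Module.length A (T A d E (ResidueField A)) = 1 := by
    rw [e.length_eq, Groth.Agent.S5170.result A E f hf _ hfin, hV]
  obtain ⟨e2⟩ := nonempty_equiv_residueField_of_length_eq_one A _ h1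
  exact ⟨e2.toModuleIso⟩

end Groth.Agent.Lib.Helper29.TorHullGor
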