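import Groth.Agent.Lib.Helper46.TorFlatTensor
import Groth.Agent.Lib.Helper46.TorLinear
import Mathlib.RingTheory.PolynomialAlgebra

/-!
# Elements killing `Tor` modules (helper29)

`KillsAt r i X N`: the scalar `r` kills `Tor_i(X, N)`.  Behaviour along short exact sequences in
the first variable, for modules killed by `r`, and under `A[X] ⊗ -`.
-/

set_option autoImplicit false
set_option backward.isDefEq.respectTransparency false
set_option backward.defeqAttrib.useBackward true

namespace Groth.Agent.Lib.Helper29.TorKill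

open CategoryTheory Limits MonoidalCategory
open Groth.Agent.Lib.Helper46 Groth.Agent.Lib.Helper46.TorShift
open scoped TensorProduct Polynomial

universe u

variable {A : Type u} [CommRing A]

lemma smul_eq_zero_of_exact {S : ShortComplex (ModuleCat.{u} A)} (hS : S.Exact) (r s : A)
    (h1 : ∀ y : S.X₁, r • y = 0) (h3 : ∀ y : S.X₃, s • y = 0) (y : S.X₂) : (r * s) • y = 0 := by
  have h : S.g.hom (s • y) = 0 := by rw [map_smul, h3]
  obtain ⟨x, hx⟩ := (ShortComplex.moduleCat_exact_iff S).mp hS _ h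
  have hx' : S.f.hom x = s • y := hx
  rw [mul_smul, ← hx', ← map_smul, h1, map_zero]

/-- `r` kills `Tor_i(X, N)`. -/
def KillsAt (r : A) (i : ℕ) (X N : Type u) [AddCommGroup X] [Module A X] [AddCommGroup N]
    [Module A N] : Prop :=
  ∀ y : T A i X N, r • y = 0

section SES

variable {X Y Z N : Type u} [AddCommGroup X] [Module A X] [AddCommGroup Y] [Module A Y]
  [AddCommGroup Z] [Module A Z] [AddCommGroup N] [Module A N]
variable (ι : X →ₗ[A] Y) (π : Y →ₗ[A] Z) (hι : Function.Injective ι)
    (hex : Function.Exact ι π) (hπ : Function.Surjective π)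
include hι hex hπ

theorem killsAt_mid (i : ℕ) (r s : A) (hX : KillsAt r i X N) (hZ : KillsAt s i Z N) :
    KillsAt (r * s) i Y N :=
  smul_eq_zero_of_exact (TorLES.exact₂ _ (sesSC_shortExact ι π hι hex hπ) (ModuleCat.of A N) i)
    r s hX hZ

theorem killsAt_right (i : ℕ) (r s : A) (hY : KillsAt r (i + 1) Y N) (hX : KillsAt s i X N) :
    KillsAt (r * s) (i + 1) Z N :=
  smul_eq_zero_of_exact (TorLES.exact₃ _ (sesSC_shortExact ι π hι hex hπ) (ModuleCat.of A N) i)
    r s hY hX

end SES

section Basic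

variable (X X' N : Type u) [AddCommGroup X] [Module A X] [AddCommGroup X'] [Module A X']
  [AddCommGroup N] [Module A N]

lemma killsAt_of_smul_eq_zero (r : A) (hX : ∀ x : X, r • x = 0) (i : ℕ) : KillsAt r i X N := by
  intro y
  have h0 : r • 𝟙 (ModuleCat.of A X) = (0 : A) • 𝟙 (ModuleCat.of A X) := by
    ext x
    change r • x = (0 : A) • x
    rw [hX, zero_smul]
  have h1 := TorLinear.tor_map_smul_id_app r (ModuleCat.of A X) (ModuleCat.of A N) i
  have h2 := TorLinear.tor_map_smul_id_app (0 : A) (ModuleCat.of A X) (ModuleCat.of A N) i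
  rw [h0, h2] at h1
  have h3 : r • y = (r • 𝟙 (T A i X N)).hom y := rfl
  rw [h3, ← h1]
  change (0 : A) • y = 0
  rw [zero_smul]

variable {X X'} in
lemma KillsAt.congr {r : A} {i : ℕ} (e : X ≃ₗ[A] X') (h : KillsAt r i X N) : KillsAt r i X' N := by
  intro y
  let φ := torCongr e (LinearEquiv.refl A N) i
  have h1 : y = φ.hom.hom (φ.inv.hom y) := by
    change y = (φ.inv ≫ φ.hom).hom y
    rw [Iso.inv_hom_id]; rfl
  rw [h1, ← map_smul, h (φ.inv.hom y), map_zero]

lemma KillsAt.of_factor {r s : A} {i : ℕ} (g : ModuleCat.of A X ⟶ ModuleCat.of A X)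
    (hg : s • 𝟙 (ModuleCat.of A X) = (r • 𝟙 (ModuleCat.of A X)) ≫ g) (h : KillsAt r i X N) :
    KillsAt s i X N := by
  intro y
  have h1 := TorLinear.tor_map_smul_id_app s (ModuleCat.of A X) (ModuleCat.of A N) i
  have h2 := TorLinear.tor_map_smul_id_app r (ModuleCat.of A X) (ModuleCat.of A N) i
  rw [hg, Functor.map_comp, NatTrans.comp_app, h2] at h1
  have h3 : s • y = (s • 𝟙 (T A i X N)).hom y := rfl
  rw [h3, ← h1]
  change (((Tor (ModuleCat.{u} A) i).map g).app (ModuleCat.of A N)).hom (r • y) = 0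
  rw [h y, map_zero]

lemma killsAt_of_isZero {i : ℕ} (h : IsZero (T A i X N)) (r : A) : KillsAt r i X N := by
  intro y
  have : Subsingleton (T A i X N) := ModuleCat.subsingleton_of_isZero h
  exact Subsingleton.elim _ _

lemma killsAt_self (r : A) (i : ℕ) : KillsAt r (i + 1) A N :=
  killsAt_of_isZero A N (isZero_of_flat_left A N i) r

end Basic

section Poly

variable (C N : Type u) [CommRing C] [Algebra A C] [AddCommGroup N] [Module A N]

lemma killsAt_tensor_poly {r : A} {i : ℕ} (h : KillsAt r i C N) :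
    KillsAt r i (A[X] ⊗[A] C) N := by
  intro y
  have : Module.Flat A (ModuleCat.of A A[X]) := inferInstanceAs (Module.Flat A A[X])
  let φ := (TorFlatTensor.torTensorFlatIso (ModuleCat.of A A[X]) (ModuleCat.of A C) i).app
    (ModuleCat.of A N)
  have h1 : y = φ.inv.hom (φ.hom.hom y) := by
    change y = (φ.hom ≫ φ.inv).hom y
    rw [Iso.hom_inv_id]; rfl
  have h2 : ∀ z : A[X] ⊗[A] (T A i C N), r • z = 0 := by
    intro z
    induction z using TensorProduct.induction_on with
    | zero => simp
    | tmul p t => rw [TensorProduct.smul_tmul', TensorProduct.smul_tmul, h t, TensorProduct.tmul_zero]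
    | add a b ha hb => rw [smul_add, ha, hb, add_zero]
  have h3 : r • (φ.hom.hom y) = 0 := h2 _
  have h4 : φ.inv.hom (r • φ.hom.hom y) = r • φ.inv.hom (φ.hom.hom y) :=
    (φ.inv.hom).map_smul r _
  rw [h3, map_zero] at h4
  rw [h1]
  exact h4.symm

lemma killsAt_poly {r : A} {i : ℕ} (h : KillsAt r i C N) : KillsAt r i C[X] N := by
  have e : (A[X] ⊗[A] C) ≃ₗ[A] C[X] :=
    (TensorProduct.comm A A[X] C) ≪≫ₗ (polyEquivTensor A C).symm.toLinearEquiv
  exact (killsAt_tensor_poly C N h).congr N e

end Poly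

end Groth.Agent.Lib.Helper29.TorKill
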