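import Groth.Agent.Lib.Helper29.TorBlowup3
import Mathlib.RingTheory.Polynomial.Basic
import Mathlib.RingTheory.Ideal.Quotient.Noetherian

/-!
# Killing `Tor` of a finitely generated subalgebra `A[b_1/a, …, b_t/a]` of a general algebra (helper29)

A variant of `TorBlowup.main` in which the ambient algebra `L` is arbitrary (not necessarily
`Localization.Away a`).
-/

set_option autoImplicit false
set_option backward.isDefEq.respectTransparency false
set_option backward.defeqAttrib.useBackward true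

namespace Groth.Agent.Lib.Helper29.TorProZero

open CategoryTheory
open Groth.Agent.Lib.Helper46 Groth.Agent.Lib.Helper46.TorShift Groth.Agent.Lib.Helper29.TorKill
open Groth.Agent.Lib.Helper29.TorBlowup
open Polynomial

universe u

variable (A : Type u) [CommRing A]
variable (L : Type u) [CommRing L] [Algebra A L] (a0 : A) (b : ℕ → A) (β : ℕ → L)

theorem exists_model' [IsNoetherianRing A]
    (hβ : ∀ l, algebraMap A L a0 * β l = algebraMap A L (b l))
    (h0 : ∀ x : A, algebraMap A L x = 0 → ∃ n : ℕ, a0 ^ n • x = 0) (j : ℕ) :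
    ∃ (C : Type u) (_ : CommRing C) (_ : Algebra A C) (_ : IsNoetherianRing C)
      (ψ : C →ₐ[A] L),
      (∀ x, ψ x = 0 → ∃ n : ℕ, a0 ^ n • x = 0) ∧
      ψ.range = Algebra.adjoin A {q | ∃ l < j, q = β l} ∧
      ∃ c : ℕ, ∀ (N : Type u) [AddCommGroup N] [Module A N] (i : ℕ), j < i →
        KillsAt (a0 ^ c) i C N := by
  induction j with
  | zero =>
    refine ⟨A, inferInstance, inferInstance, inferInstance, Algebra.ofId A _, ?_, ?_, 0, ?_⟩
    · intro x hx
      exact h0 x hx
    · rw [Algebra.range_ofId]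
      have : {q | ∃ l < 0, q = β l} = ∅ := by
        ext q; simp
      rw [this, Algebra.adjoin_empty]
    · intro N _ _ i hi
      obtain ⟨i, rfl⟩ : ∃ k, i = k + 1 := ⟨i - 1, by omega⟩
      exact killsAt_self N _ i
  | succ j ih =>
    obtain ⟨C, _, _, _, ψ, hker, hrange, c, hkill⟩ := ih
    obtain ⟨c', hc'⟩ := kills_step C a0 (b j) j (a0 ^ c) hkill
    refine ⟨C[X] ⧸ Ideal.span {lin C a0 (b j)}, inferInstance, inferInstance, inferInstance,
      psi' C a0 (b j) ψ (β j) (hβ j),
      psi'_ker C a0 (b j) ψ (β j) (hβ j) hker, ?_, c + (c + c'), ?_⟩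
    · rw [psi'_range C a0 (b j) ψ _ _ _ hrange]
      congr 1
      ext q
      constructor
      · rintro (rfl | ⟨l, hl, rfl⟩)
        · exact ⟨j, Nat.lt_succ_self j, rfl⟩
        · exact ⟨l, Nat.lt_succ_of_lt hl, rfl⟩
      · rintro ⟨l, hl, rfl⟩
        rcases Nat.lt_succ_iff_lt_or_eq.mp hl with h | rfl
        · exact Or.inr ⟨l, h, rfl⟩
        · exact Or.inl rfl
    · intro N _ _ i hi
      have := hc' N i hi
      rwa [← pow_add, ← pow_add] at this

theorem kills_adjoin [IsNoetherianRing A]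
    (hβ : ∀ l, algebraMap A L a0 * β l = algebraMap A L (b l))
    (h0 : ∀ x : A, algebraMap A L x = 0 → ∃ n : ℕ, a0 ^ n • x = 0) (t : ℕ) :
    ∃ c : ℕ, ∀ (N : Type u) [AddCommGroup N] [Module A N] (i : ℕ), t < i →
      KillsAt (a0 ^ c) i (Algebra.adjoin A {q | ∃ l < t, q = β l}) N := by
  obtain ⟨C, _, _, _, ψ, hker, hrange, c0, hkill⟩ := exists_model' A L a0 b β hβ h0 t
  obtain ⟨n, hn⟩ := exists_pow_forall_of_noetherian (R := C) (algebraMap A C a0)
  let π : C →ₗ[A] Algebra.adjoin A {q | ∃ l < t, q = β l} :=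
    (ψ.codRestrict (Algebra.adjoin A {q | ∃ l < t, q = β l}) (fun c => by
      rw [← hrange]; exact ⟨c, rfl⟩)).toLinearMap
  have hπ : Function.Surjective π := by
    rintro ⟨q, hq⟩
    rw [← hrange] at hq
    obtain ⟨c, rfl⟩ := hq
    exact ⟨c, rfl⟩
  have hkerπ : ∀ x : LinearMap.ker π, a0 ^ n • x = 0 := by
    rintro ⟨x, hx⟩
    apply Subtype.ext
    have h1 : ψ x = 0 := congrArg Subtype.val (LinearMap.mem_ker.mp hx)
    obtain ⟨m, hm⟩ := hker x h1
    have h2 := hn x ⟨m, by rw [← map_pow, ← Algebra.smul_def]; exact hm⟩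
    change a0 ^ n • x = 0
    rw [Algebra.smul_def, map_pow]
    exact h2
  refine ⟨c0 + n, fun M _ _ i hi => ?_⟩
  obtain ⟨i, rfl⟩ : ∃ k, i = k + 1 := ⟨i - 1, by omega⟩
  rw [pow_add]
  exact killsAt_right (LinearMap.ker π).subtype π (Submodule.subtype_injective _)
    (LinearMap.exact_subtype_ker_map π) hπ i _ _ (hkill M (i + 1) hi)
    (killsAt_of_smul_eq_zero _ M _ hkerπ i)

end Groth.Agent.Lib.Helper29.TorProZero
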