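import Mathlib.Algebra.Polynomial.Laurent
import Mathlib.RingTheory.Ideal.Operations
import Mathlib.RingTheory.Adjoin.Basic
import Mathlib.LinearAlgebra.Quotient.Basic
import Mathlib.RingTheory.Flat.Localization

/-!
# The extended Rees algebra inside the Laurent polynomials (helper29)

For `I = (f_0, …, f_{t-1})` the extended Rees algebra `A[X][f_l / X] ⊆ A[T;T⁻¹]`, and the
`A[X]`-module `D = A[T;T⁻¹] / Rees = ⨁_{n ≥ 1} A/Iⁿ` with the `A`-linear maps
`A/Iⁿ → D → A/Iᵐ`; multiplication by `X` on `D` induces the transition maps.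
-/

set_option autoImplicit false

namespace Groth.Agent.Lib.Helper29.TorProZero

open Polynomial LaurentPolynomial

universe u

variable {A : Type u} [CommRing A]

instance instTowerLaurent : IsScalarTower A A[X] A[T;T⁻¹] :=
  IsScalarTower.of_algebraMap_eq (fun a => by
    rw [LaurentPolynomial.algebraMap_eq_toLaurent, Polynomial.algebraMap_apply,
      Algebra.algebraMap_self_apply, Polynomial.toLaurent_C, LaurentPolynomial.C_eq_algebraMap])

instance instFlatLaurent : Module.Flat A[X] A[T;T⁻¹] :=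
  IsLocalization.flat _ (Submonoid.powers (X : A[X]))

lemma coeff_C_mul_T (a : A) (n k : ℤ) :
    (LaurentPolynomial.C a * T n : A[T;T⁻¹]).coeff k = if n = k then a else 0 := by
  rw [← single_eq_C_mul_T, AddMonoidAlgebra.coeff_single, Finsupp.single_apply]

lemma coeff_toLaurent_neg (p : A[X]) (k : ℤ) (hk : k < 0) : (toLaurent p).coeff k = 0 := by
  rw [coeff_toLaurent, Finsupp.mapDomain_of_notMem_range]
  rintro ⟨n, hn⟩
  simp at hn
  omega

/-- the generators `f_l T⁻¹` -/
noncomputable def beta (f : ℕ → A) (l : ℕ) : A[T;T⁻¹] := LaurentPolynomial.C (f l) * T (-1)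

lemma X_mul_beta (f : ℕ → A) (l : ℕ) :
    algebraMap A[X] A[T;T⁻¹] X * beta f l = algebraMap A[X] A[T;T⁻¹] (Polynomial.C (f l)) := by
  rw [LaurentPolynomial.algebraMap_eq_toLaurent, LaurentPolynomial.algebraMap_eq_toLaurent,
    Polynomial.toLaurent_X, Polynomial.toLaurent_C, beta, mul_comm, mul_assoc, ← T_add]
  simp

/-- the ideal `(f_0, …, f_{t-1})` -/
def idealOf (f : ℕ → A) (t : ℕ) : Ideal A := Ideal.span {a | ∃ l < t, a = f l}

/-- the extended Rees algebra -/
noncomputable def rees (f : ℕ → A) (t : ℕ) : Subalgebra A[X] A[T;T⁻¹] :=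
  Algebra.adjoin A[X] {q | ∃ l < t, q = beta f l}

/-- Laurent polynomials whose coefficient of `T⁻ᵐ` lies in `Iᵐ` -/
def coeffSub (I : Ideal A) : Subalgebra A[X] A[T;T⁻¹] where
  carrier := {q | ∀ k : ℤ, q.coeff k ∈ I ^ (-k).toNat}
  mul_mem' := by
    intro x y hx hy k
    rw [AddMonoidAlgebra.coeff_mul_apply_left]
    refine Submodule.sum_mem _ (fun h _ => ?_)
    have h1 := Ideal.mul_mem_mul (hx h) (hy (-h + k))
    rw [← pow_add] at h1
    exact Ideal.pow_le_pow_right (by omega) h1
  add_mem' := by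
    intro x y hx hy k
    rw [AddMonoidAlgebra.coeff_add, Finsupp.add_apply]
    exact Ideal.add_mem _ (hx k) (hy k)
  algebraMap_mem' := by
    intro p k
    rw [LaurentPolynomial.algebraMap_eq_toLaurent]
    rcases lt_or_ge k 0 with hk | hk
    · rw [coeff_toLaurent_neg p k hk]
      exact Ideal.zero_mem _
    · have : (-k).toNat = 0 := by omega
      rw [this, pow_zero, Ideal.one_eq_top]
      exact Submodule.mem_top

lemma mem_coeffSub {I : Ideal A} {q : A[T;T⁻¹]} :
    q ∈ coeffSub I ↔ ∀ k : ℤ, q.coeff k ∈ I ^ (-k).toNat := Iff.rfl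

lemma rees_le_coeffSub (f : ℕ → A) (t : ℕ) : rees f t ≤ coeffSub (idealOf f t) := by
  apply Algebra.adjoin_le
  rintro q ⟨l, hl, rfl⟩ k
  rw [beta, coeff_C_mul_T]
  split_ifs with h
  · subst h
    have : (-(-1 : ℤ)).toNat = 1 := by decide
    rw [this, pow_one]
    exact Ideal.subset_span ⟨l, hl, rfl⟩
  · exact Ideal.zero_mem _

lemma C_mem_rees (f : ℕ → A) (t : ℕ) (a : A) : LaurentPolynomial.C a ∈ rees f t := by
  have := Subalgebra.algebraMap_mem (rees f t) (Polynomial.C a)
  rwa [LaurentPolynomial.algebraMap_eq_toLaurent, Polynomial.toLaurent_C] at this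

lemma C_mul_T_neg_one_mem_rees (f : ℕ → A) (t : ℕ) (y : A) (hy : y ∈ idealOf f t) :
    LaurentPolynomial.C y * T (-1) ∈ rees f t := by
  refine Submodule.span_induction (p := fun y _ => LaurentPolynomial.C y * T (-1) ∈ rees f t)
    ?_ ?_ ?_ ?_ hy
  · rintro _ ⟨l, hl, rfl⟩
    exact Algebra.subset_adjoin ⟨l, hl, rfl⟩
  · rw [map_zero, zero_mul]
    exact Subalgebra.zero_mem _
  · intro x y _ _ hx hy
    rw [map_add, add_mul]
    exact Subalgebra.add_mem _ hx hy
  · intro r x _ hx
    rw [smul_eq_mul, map_mul, mul_assoc]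
    exact Subalgebra.mul_mem _ (C_mem_rees f t r) hx

lemma C_mul_T_mem_rees (f : ℕ → A) (t : ℕ) (n : ℕ) (a : A) (ha : a ∈ idealOf f t ^ n) :
    LaurentPolynomial.C a * T (-(n : ℤ)) ∈ rees f t := by
  induction n generalizing a with
  | zero =>
    simp only [Nat.cast_zero, neg_zero, T_zero, mul_one]
    exact C_mem_rees f t a
  | succ n ih =>
    rw [pow_succ] at ha
    refine Submodule.mul_induction_on ha ?_ ?_
    · intro x hx y hy
      have h1 := Subalgebra.mul_mem _ (ih x hx) (C_mul_T_neg_one_mem_rees f t y hy)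
      have h2 : LaurentPolynomial.C (x * y) * T (-((n + 1 : ℕ) : ℤ)) =
          LaurentPolynomial.C x * T (-(n : ℤ)) * (LaurentPolynomial.C y * T (-1) : A[T;T⁻¹]) := by
        have : (-((n + 1 : ℕ) : ℤ)) = -(n : ℤ) + -1 := by push_cast; ring
        rw [this, T_add, map_mul]
        ring
      rw [h2]
      exact h1
    · intro x y hx hy
      rw [map_add, add_mul]
      exact Subalgebra.add_mem _ hx hy

end Groth.Agent.Lib.Helper29.TorProZero
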