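import Groth.Agent.Lib.Helper29.TorProZero2

/-!
# The module `D = A[T;T⁻¹] / Rees` and the maps `A/Iⁿ → D → A/Iᵐ` (helper29)
-/

set_option autoImplicit false

namespace Groth.Agent.Lib.Helper29.TorProZero

open Polynomial LaurentPolynomial

universe u

variable {A : Type u} [CommRing A] (f : ℕ → A) (t : ℕ)

/-- `D = A[T;T⁻¹] / Rees`, an `A[X]`-module -/
abbrev DMod : Type u := A[T;T⁻¹] ⧸ Subalgebra.toSubmodule (rees f t)

/-- the coefficient of `Tᵏ` -/
noncomputable def coeffL (k : ℤ) : A[T;T⁻¹] →ₗ[A] A where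
  toFun q := q.coeff k
  map_add' x y := by rw [AddMonoidAlgebra.coeff_add, Finsupp.add_apply]
  map_smul' a x := by rw [AddMonoidAlgebra.coeff_smul, Finsupp.smul_apply]; rfl

/-- `a ↦ a T⁻ⁿ` -/
noncomputable def monoL (n : ℕ) : A →ₗ[A] A[T;T⁻¹] where
  toFun a := LaurentPolynomial.C a * T (-(n : ℤ))
  map_add' x y := by rw [map_add, add_mul]
  map_smul' a x := by
    rw [smul_eq_mul, map_mul, mul_assoc, RingHom.id_apply, LaurentPolynomial.smul_eq_C_mul]

/-- `A/Iⁿ → D`, `a ↦ a T⁻ⁿ` -/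
noncomputable def iotaD (n : ℕ) :=
  Submodule.liftQ (idealOf f t ^ n)
    (((Subalgebra.toSubmodule (rees f t)).mkQ.restrictScalars A) ∘ₗ monoL n) (by
      intro a ha
      rw [LinearMap.mem_ker, LinearMap.comp_apply]
      exact (Submodule.Quotient.mk_eq_zero _).mpr (C_mul_T_mem_rees f t n a ha))

lemma iotaD_mk (n : ℕ) (a : A) :
    iotaD f t n (Submodule.Quotient.mk a) =
      (Submodule.Quotient.mk (LaurentPolynomial.C a * T (-(n : ℤ))) : DMod f t) := rfl

/-- `D → A/Iᵐ`, the coefficient of `T⁻ᵐ` -/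
noncomputable def piD (m : ℕ) :=
  (Submodule.liftQ ((Subalgebra.toSubmodule (rees f t)).restrictScalars A)
    ((idealOf f t ^ m).mkQ ∘ₗ coeffL (-(m : ℤ))) (by
      intro q hq
      rw [LinearMap.mem_ker, LinearMap.comp_apply]
      have h1 : q ∈ rees f t := hq
      have h2 := rees_le_coeffSub f t h1 (-(m : ℤ))
      have h3 : (-(-(m : ℤ))).toNat = m := by omega
      rw [h3] at h2
      exact (Submodule.Quotient.mk_eq_zero _).mpr h2)) ∘ₗ
  (Submodule.Quotient.restrictScalarsEquiv A (Subalgebra.toSubmodule (rees f t))).symm.toLinearMap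

lemma piD_mk (m : ℕ) (q : A[T;T⁻¹]) :
    piD f t m (Submodule.Quotient.mk q : DMod f t) =
      Submodule.Quotient.mk (q.coeff (-(m : ℤ))) := rfl

lemma X_pow_smul_mk (k : ℕ) (q : A[T;T⁻¹]) :
    ((X : A[X]) ^ k) • (Submodule.Quotient.mk q : DMod f t) =
      Submodule.Quotient.mk (T (k : ℤ) * q) := by
  rw [← Submodule.Quotient.mk_smul, Algebra.smul_def, LaurentPolynomial.algebraMap_X_pow]

lemma piD_smul_iotaD (n c : ℕ) (hc : c ≤ n) (x : A ⧸ (idealOf f t ^ n : Submodule A A)) :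
    piD f t (n - c) (((X : A[X]) ^ c) • iotaD f t n x) =
      Submodule.mapQ (idealOf f t ^ n) (idealOf f t ^ (n - c)) LinearMap.id
        (Ideal.pow_le_pow_right (Nat.sub_le n c)) x := by
  obtain ⟨a, rfl⟩ := Submodule.Quotient.mk_surjective _ x
  rw [iotaD_mk, X_pow_smul_mk, piD_mk, Submodule.mapQ_apply, LinearMap.id_apply]
  congr 1
  rw [mul_comm, mul_assoc, ← T_add, coeff_C_mul_T, if_pos]
  omega

lemma X_pow_smul_iotaD (n : ℕ) (x : A ⧸ (idealOf f t ^ n : Submodule A A)) :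
    ((X : A[X]) ^ n) • iotaD f t n x = 0 := by
  obtain ⟨a, rfl⟩ := Submodule.Quotient.mk_surjective _ x
  rw [iotaD_mk, X_pow_smul_mk, Submodule.Quotient.mk_eq_zero, mul_comm, mul_assoc, ← T_add]
  simp only [neg_add_cancel, T_zero, mul_one]
  exact C_mem_rees f t a

end Groth.Agent.Lib.Helper29.TorProZero
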