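import Groth.Agent.Lib.Helper29.TorProZero1
import Groth.Agent.Lib.Helper29.TorProZero3
import Groth.Agent.Lib.Helper46.TorNatural

/-!
# `X^c` kills the `X`-power torsion of `Tor_j^{A[X]}(N, D)` for `j > t`, `N` `X`-regular (helper29)
-/

set_option autoImplicit false
set_option backward.isDefEq.respectTransparency false
set_option backward.defeqAttrib.useBackward true

namespace Groth.Agent.Lib.Helper29.TorProZero

open CategoryTheory
open Groth.Agent.Lib.Helper46 Groth.Agent.Lib.Helper46.TorShift Groth.Agent.Lib.Helper29.TorKill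
open Polynomial LaurentPolynomial

universe u

section General

variable {R : Type u} [CommRing R]

/-- symmetry for `KillsAt` -/
lemma KillsAt.symm {r : R} {i : ℕ} {X N : Type u} [AddCommGroup X] [Module R X] [AddCommGroup N]
    [Module R N] (h : KillsAt r i X N) : KillsAt r i N X := by
  intro y
  let φ := TorPrime.torSymm (ModuleCat.of R N) (ModuleCat.of R X) i
  have h1 : y = φ.inv.hom (φ.hom.hom y) := by
    change y = (φ.hom ≫ φ.inv).hom y
    rw [Iso.hom_inv_id]; rfl
  rw [h1, ← map_smul, h (φ.hom.hom y), map_zero]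

/-- second-variable linearity of `Tor` -/
lemma tor_obj_map_smul_id (r : R) (X M : ModuleCat.{u} R) (i : ℕ) :
    ((Tor (ModuleCat.{u} R) i).obj X).map (r • 𝟙 M) = r • 𝟙 _ := by
  have h := TorNatural.torSymm_naturality_right (r • 𝟙 M) X i
  rw [TorLinear.tor_map_smul_id_app] at h
  have h2 : ((Tor (ModuleCat.{u} R) i).obj X).map (r • 𝟙 M) =
      (TorPrime.torSymm X M i).hom ≫ (r • 𝟙 _) ≫ (TorPrime.torSymm X M i).inv := by
    rw [← Category.assoc, ← h, Category.assoc, Iso.hom_inv_id, Category.comp_id]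
  rw [h2, Linear.smul_comp, Linear.comp_smul, Category.id_comp, Iso.hom_inv_id]

lemma tor_obj_map_zero (X M N : ModuleCat.{u} R) (i : ℕ) :
    ((Tor (ModuleCat.{u} R) i).obj X).map (0 : M ⟶ N) = 0 := by
  have h : (0 : M ⟶ N) = ((0 : R) • 𝟙 M) ≫ (0 : M ⟶ N) := by simp
  rw [h, Functor.map_comp, tor_obj_map_smul_id, zero_smul, Limits.zero_comp]

theorem kills_of_regular (u : R) (D : Type u) [AddCommGroup D] [Module R D] (c j : ℕ)
    (hD : ∀ (N : Type u) [AddCommGroup N] [Module R N], KillsAt (u ^ c) (j + 1) D N)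
    (N : Type u) [AddCommGroup N] [Module R N] (hreg : IsSMulRegular N u)
    (w : T R j N D) (k : ℕ) (hw : u ^ k • w = 0) : u ^ c • w = 0 := by
  set ι : N →ₗ[R] N := (u ^ k) • LinearMap.id with hι
  have hιinj : Function.Injective ι := by
    have := hreg.pow k
    intro x y hxy
    exact this hxy
  set π : N →ₗ[R] N ⧸ LinearMap.range ι := (LinearMap.range ι).mkQ with hπ
  have hex : Function.Exact ι π := LinearMap.exact_map_mkQ_range ι
  have hπsurj : Function.Surjective π := Submodule.mkQ_surjective _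
  have hS := sesSC_shortExact ι π hιinj hex hπsurj
  have hex1 := TorLES.exact₁ (sesSC ι π hex) hS (ModuleCat.of R D) j
  have hf : (sesSC ι π hex).f = (u ^ k) • 𝟙 (ModuleCat.of R N) := by
    ext x
    rfl
  have h0 : (((Tor (ModuleCat.{u} R) j).map (sesSC ι π hex).f).app (ModuleCat.of R D)).hom w = 0 := by
    rw [hf, TorLinear.tor_map_smul_id_app]
    exact hw
  obtain ⟨y, hy⟩ := (ShortComplex.moduleCat_exact_iff _).mp hex1 w h0
  have hy' : ((TorLES.δ (sesSC ι π hex) hS j).app (ModuleCat.of R D)).hom y = w := hy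
  have hky : u ^ c • y = 0 := KillsAt.symm (hD (N ⧸ LinearMap.range ι)) y
  rw [← hy', ← map_smul, hky, map_zero]

end General

section Rees

variable {A : Type u} [CommRing A] [IsNoetherianRing A] (f : ℕ → A) (t : ℕ)

theorem exists_kills_rees :
    ∃ c : ℕ, ∀ (N : Type u) [AddCommGroup N] [Module A[X] N] (i : ℕ), t < i →
      KillsAt ((X : A[X]) ^ c) i (rees f t) N := by
  have h0 : ∀ x : A[X], algebraMap A[X] A[T;T⁻¹] x = 0 → ∃ n : ℕ, (X : A[X]) ^ n • x = 0 := by
    intro x hx
    rw [LaurentPolynomial.algebraMap_eq_toLaurent, Polynomial.toLaurent_eq_zero] at hx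
    exact ⟨0, by rw [hx, smul_zero]⟩
  exact kills_adjoin A[X] A[T;T⁻¹] (X : A[X]) (fun l => Polynomial.C (f l)) (beta f)
    (X_mul_beta f) h0 t

theorem exists_kills_D :
    ∃ c : ℕ, ∀ (N : Type u) [AddCommGroup N] [Module A[X] N] (i : ℕ), t + 1 < i →
      KillsAt ((X : A[X]) ^ c) i (DMod f t) N := by
  obtain ⟨c, hc⟩ := exists_kills_rees f t
  refine ⟨c, fun N _ _ i hi => ?_⟩
  obtain ⟨i, rfl⟩ : ∃ k, i = k + 1 := ⟨i - 1, by omega⟩
  have hex : Function.Exact (rees f t).val.toLinearMap (Subalgebra.toSubmodule (rees f t)).mkQ := by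
    intro y
    rw [Submodule.mkQ_apply, Submodule.Quotient.mk_eq_zero]
    constructor
    · intro hy
      exact ⟨⟨y, hy⟩, rfl⟩
    · rintro ⟨⟨z, hz⟩, rfl⟩
      exact hz
  have h := killsAt_right (rees f t).val.toLinearMap (Subalgebra.toSubmodule (rees f t)).mkQ
    Subtype.val_injective hex (Submodule.mkQ_surjective _) i (1 : A[X]) ((X : A[X]) ^ c)
    (killsAt_of_isZero _ N (isZero_of_flat_left A[T;T⁻¹] N i) 1) (hc N i (by omega))
  rwa [one_mul] at h

end Rees

end Groth.Agent.Lib.Helper29.TorProZero
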