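import Groth.Agent.Lib.Helper46.TorBaseChange

/-!
# Naturality of helper46's `torBaseChangeIso` in the `A'`-module variable (helper29)
-/

set_option autoImplicit false
set_option backward.isDefEq.respectTransparency false
set_option backward.defeqAttrib.useBackward true

namespace Groth.Agent.Lib.Helper29.TorProZero

open CategoryTheory Limits MonoidalCategory Category
open Groth.Agent.Lib.Helper46 Groth.Agent.Lib.Helper46.TorBalance
open Groth.Agent.Lib.Helper46.TorBaseChange

universe u

variable (A A' : Type u) [CommRing A] [CommRing A'] [Algebra A A']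
variable (Q₁ Q₂ : Type u) [AddCommGroup Q₁] [Module A' Q₁] [Module A Q₁] [IsScalarTower A A' Q₁]
  [AddCommGroup Q₂] [Module A' Q₂] [Module A Q₂] [IsScalarTower A A' Q₂]
variable (g : Q₁ →ₗ[A'] Q₂)

lemma n2App_naturality_Q (M : ModuleCat.{u} A) :
    (rs A A').map ((bc A A').obj M ◁ ModuleCat.ofHom g) ≫ (n2App A A' Q₂ M).hom =
      (n2App A A' Q₁ M).hom ≫ (M ◁ ModuleCat.ofHom (g.restrictScalars A)) := by
  apply ModuleCat.hom_ext
  apply LinearMap.ext
  intro x
  induction x using TensorProduct.induction_on with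
  | zero => simp
  | tmul y q =>
    induction y using TensorProduct.induction_on with
    | zero => simp
    | tmul a' m =>
      change (m ⊗ₜ[A] (a' • g q) : TensorProduct A M Q₂) = m ⊗ₜ[A] g (a' • q)
      rw [map_smul]
    | add y₁ y₂ h₁ h₂ => rw [TensorProduct.add_tmul, map_add, map_add, h₁, h₂]
  | add x₁ x₂ h₁ h₂ => rw [map_add, map_add, h₁, h₂]


/-- the map of complexes `rs (bc K ⊗ Q₁) ⟶ rs (bc K ⊗ Q₂)` induced by `g` -/
noncomputable def midMap (K : ChainComplex (ModuleCat.{u} A) ℕ) :
    ((bc A A' ⋙ tensorRight (ModuleCat.of A' Q₁) ⋙ rs A A').mapHomologicalComplex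
        (ComplexShape.down ℕ)).obj K ⟶
      ((bc A A' ⋙ tensorRight (ModuleCat.of A' Q₂) ⋙ rs A A').mapHomologicalComplex
        (ComplexShape.down ℕ)).obj K :=
  (NatTrans.mapHomologicalComplex
    (Functor.whiskerLeft (bc A A')
      (Functor.whiskerRight ((tensoringRight _).map (ModuleCat.ofHom g)) (rs A A')))
    (ComplexShape.down ℕ)).app K

lemma midMap_comm (K : ChainComplex (ModuleCat.{u} A) ℕ) :
    midMap A A' Q₁ Q₂ g K ≫
        ((NatIso.mapHomologicalComplex (n2 A A' Q₂) (ComplexShape.down ℕ)).app K).hom =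
      ((NatIso.mapHomologicalComplex (n2 A A' Q₁) (ComplexShape.down ℕ)).app K).hom ≫
        (tensK K).map (ModuleCat.ofHom (g.restrictScalars A)) := by
  ext i : 1
  exact n2App_naturality_Q A A' Q₁ Q₂ g (K.X i)

theorem torBaseChangeIso_naturality (M : ModuleCat.{u} A)
    (hM : ∀ q : ℕ, IsZero (((Tor (ModuleCat.{u} A) (q + 1)).obj M).obj (ModuleCat.of A A')))
    (n : ℕ) :
    ((Tor (ModuleCat.{u} A) n).obj M).map (ModuleCat.ofHom (g.restrictScalars A)) ≫
        (torBaseChangeIso A A' Q₂ M hM n).hom =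
      (torBaseChangeIso A A' Q₁ M hM n).hom ≫
        (rs A A').map (((Tor (ModuleCat.{u} A') n).obj ((bc A A').obj M)).map
          (ModuleCat.ofHom g)) := by
  set K := TorLES2.resK M with hK
  -- step 1
  have h1 : ((Tor (ModuleCat.{u} A) n).obj M).map (ModuleCat.ofHom (g.restrictScalars A)) ≫
      (TorLES2.torIsoHfun M n).hom.app (ModuleCat.of A Q₂) =
      (TorLES2.torIsoHfun M n).hom.app (ModuleCat.of A Q₁) ≫
        (Hfun K n).map (ModuleCat.ofHom (g.restrictScalars A)) :=
    (TorLES2.torIsoHfun M n).hom.naturality _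
  -- step 2
  have h2 : (Hfun K n).map (ModuleCat.ofHom (g.restrictScalars A)) ≫
      (HomologicalComplex.homologyFunctor _ _ n).map
        ((NatIso.mapHomologicalComplex (n2 A A' Q₂) (ComplexShape.down ℕ)).app K).inv =
      (HomologicalComplex.homologyFunctor _ _ n).map
        ((NatIso.mapHomologicalComplex (n2 A A' Q₁) (ComplexShape.down ℕ)).app K).inv ≫
      (HomologicalComplex.homologyFunctor _ _ n).map (midMap A A' Q₁ Q₂ g K) := by
    change (HomologicalComplex.homologyFunctor _ _ n).map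
      ((tensK K).map (ModuleCat.ofHom (g.restrictScalars A))) ≫ _ = _
    rw [← Functor.map_comp, ← Functor.map_comp]
    congr 1
    rw [Iso.comp_inv_eq, assoc, Iso.eq_inv_comp]
    exact (midMap_comm A A' Q₁ Q₂ g K).symm
  -- step 3
  have h3 : (HomologicalComplex.homologyFunctor _ _ n).map (midMap A A' Q₁ Q₂ g K) ≫
      ((((tensK (bcK A A' K)).obj (ModuleCat.of A' Q₂)).sc n).mapHomologyIso (rs A A')).hom =
      ((((tensK (bcK A A' K)).obj (ModuleCat.of A' Q₁)).sc n).mapHomologyIso (rs A A')).hom ≫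
      (rs A A').map ((Hfun (bcK A A' K) n).map (ModuleCat.ofHom g)) :=
    ShortComplex.mapHomologyIso_hom_naturality
      ((HomologicalComplex.shortComplexFunctor _ _ n).map
        ((tensK (bcK A A' K)).map (ModuleCat.ofHom g))) (rs A A')
  -- step 4
  have h4 : (rs A A').map ((Hfun (bcK A A' K) n).map (ModuleCat.ofHom g)) ≫
      (rs A A').map ((torBcIso A A' M hM n).inv.app (ModuleCat.of A' Q₂)) =
      (rs A A').map ((torBcIso A A' M hM n).inv.app (ModuleCat.of A' Q₁)) ≫
      (rs A A').map (((Tor (ModuleCat.{u} A') n).obj ((bc A A').obj M)).map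
          (ModuleCat.ofHom g)) := by
    rw [← Functor.map_comp, ← Functor.map_comp]
    congr 1
    exact (torBcIso A A' M hM n).inv.naturality _
  change _ ≫ ((TorLES2.torIsoHfun M n).hom.app (ModuleCat.of A Q₂) ≫
      (HomologicalComplex.homologyFunctor _ _ n).map
        ((NatIso.mapHomologicalComplex (n2 A A' Q₂) (ComplexShape.down ℕ)).app K).inv ≫
      ((((tensK (bcK A A' K)).obj (ModuleCat.of A' Q₂)).sc n).mapHomologyIso (rs A A')).hom ≫
      (rs A A').map ((torBcIso A A' M hM n).inv.app (ModuleCat.of A' Q₂))) =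
    ((TorLES2.torIsoHfun M n).hom.app (ModuleCat.of A Q₁) ≫
      (HomologicalComplex.homologyFunctor _ _ n).map
        ((NatIso.mapHomologicalComplex (n2 A A' Q₁) (ComplexShape.down ℕ)).app K).inv ≫
      ((((tensK (bcK A A' K)).obj (ModuleCat.of A' Q₁)).sc n).mapHomologyIso (rs A A')).hom ≫
      (rs A A').map ((torBcIso A A' M hM n).inv.app (ModuleCat.of A' Q₁))) ≫ _
  rw [reassoc_of% h1, reassoc_of% h2, reassoc_of% h3, h4]
  simp only [assoc]

end Groth.Agent.Lib.Helper29.TorProZero
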