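import Groth.Agent.Lib.Helper29.TorProZero4
import Groth.Agent.Lib.Helper29.TorProZero5
import Mathlib.Algebra.Polynomial.Inductions

/-!
# Uniform pro-vanishing of `Tor_j(M, A/Iⁿ)` for `j > t` (helper29)

`I = (f_0, …, f_{t-1})` in a Noetherian ring `A`: there is `c` such that for every `A`-module `M`,
every `j > t` and every `n ≥ c` the map `Tor_j(M, A/Iⁿ) → Tor_j(M, A/Iⁿ⁻ᶜ)` is zero.
-/

set_option autoImplicit false
set_option backward.isDefEq.respectTransparency false
set_option backward.defeqAttrib.useBackward true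

namespace Groth.Agent.Lib.Helper29.TorProZero

open CategoryTheory CategoryTheory.Limits
open Groth.Agent.Lib.Helper46 Groth.Agent.Lib.Helper46.TorShift Groth.Agent.Lib.Helper29.TorKill
open Groth.Agent.Lib.Helper46.TorBaseChange
open Polynomial LaurentPolynomial
open scoped TensorProduct

universe u

section Regular

variable (A : Type u) [CommRing A] (M : Type u) [AddCommGroup M] [Module A M]

/-- if multiplication by `u` on an `A`-algebra `A'` has an `A`-linear left inverse, then `u` is
regular on `A' ⊗[A] M` -/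
lemma isSMulRegular_tensor_of_leftInverse (A' : Type u) [CommRing A'] [Algebra A A'] (u : A')
    (d : A' →ₗ[A] A') (hd : ∀ p, d (u * p) = p) : IsSMulRegular (A' ⊗[A] M) u := by
  have h1 : ∀ x : A' ⊗[A] M, u • x = (LinearMap.mulLeft A u).rTensor M x := by
    intro x
    induction x using TensorProduct.induction_on with
    | zero => simp
    | tmul p m => rfl
    | add x y hx hy => rw [smul_add, map_add, hx, hy]
  have h2 : ∀ x : A' ⊗[A] M, d.rTensor M ((LinearMap.mulLeft A u).rTensor M x) = x := by
    intro x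
    rw [← LinearMap.comp_apply, ← LinearMap.rTensor_comp]
    have : d ∘ₗ LinearMap.mulLeft A u = LinearMap.id := by
      ext p : 1
      exact hd p
    rw [this, LinearMap.rTensor_id, LinearMap.id_apply]
  intro x y hxy
  have hxy' : u • x = u • y := hxy
  rw [h1, h1] at hxy'
  rw [← h2 x, ← h2 y, hxy']

/-- `divX` as an `A`-linear map -/
noncomputable def divXL : A[X] →ₗ[A] A[X] where
  toFun := divX
  map_add' _ _ := divX_add
  map_smul' a p := by
    rw [RingHom.id_apply, Polynomial.smul_eq_C_mul, divX_C_mul, Polynomial.smul_eq_C_mul]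

lemma divXL_X_mul (p : A[X]) : divXL A (X * p) = p := by
  ext n
  change (divX (X * p)).coeff n = _
  rw [coeff_divX, coeff_X_mul]

lemma isSMulRegular_X_tensor : IsSMulRegular (A[X] ⊗[A] M) (X : A[X]) :=
  isSMulRegular_tensor_of_leftInverse A M A[X] X (divXL A) (divXL_X_mul A)

end Regular

section Main

variable {A : Type u} [CommRing A] [IsNoetherianRing A] (f : ℕ → A) (t : ℕ)

/-- multiplication by `Xᵏ` on `D`, as an `A[X]`-linear map -/
noncomputable def mulXD (k : ℕ) : DMod f t →ₗ[A[X]] DMod f t := ((X : A[X]) ^ k) • LinearMap.id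

omit [IsNoetherianRing A] in
lemma ofHom_mulXD (k : ℕ) :
    ModuleCat.ofHom (mulXD f t k) = ((X : A[X]) ^ k) • 𝟙 (ModuleCat.of A[X] (DMod f t)) := by
  ext x
  rfl

theorem tor_map_mapQ_eq_zero :
    ∃ c : ℕ, ∀ (M : Type u) [AddCommGroup M] [Module A M] (j : ℕ), t < j → ∀ n : ℕ, c ≤ n →
      ((Tor (ModuleCat.{u} A) j).obj (ModuleCat.of A M)).map
        (ModuleCat.ofHom (Submodule.mapQ (idealOf f t ^ n) (idealOf f t ^ (n - c)) LinearMap.id
          (Ideal.pow_le_pow_right (Nat.sub_le n c)))) = 0 := by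
  obtain ⟨c, hc⟩ := exists_kills_D f t
  refine ⟨c, fun M _ _ j hj n hn => ?_⟩
  have hM : ∀ q : ℕ, IsZero (((Tor (ModuleCat.{u} A) (q + 1)).obj (ModuleCat.of A M)).obj
      (ModuleCat.of A A[X])) := fun q =>
    TorLES.isZero_tor_succ_of_flat_right (ModuleCat.of A A[X]) q (ModuleCat.of A M)
  -- factor the transition map
  have hfac : Submodule.mapQ (idealOf f t ^ n) (idealOf f t ^ (n - c)) LinearMap.id
      (Ideal.pow_le_pow_right (Nat.sub_le n c)) =
      piD f t (n - c) ∘ₗ (mulXD f t c).restrictScalars A ∘ₗ iotaD f t n := by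
    refine LinearMap.ext fun x => ?_
    exact (piD_smul_iotaD f t n c hn x).symm
  have hzero : (mulXD f t n).restrictScalars A ∘ₗ iotaD f t n = 0 := by
    refine LinearMap.ext fun x => ?_
    exact X_pow_smul_iotaD f t n x
  rw [hfac, ModuleCat.ofHom_comp, ModuleCat.ofHom_comp, Functor.map_comp, Functor.map_comp]
  -- naturality of base change with respect to `Xᵏ`
  have hnat : ∀ (k : ℕ) (w : ((Tor (ModuleCat.{u} A) j).obj (ModuleCat.of A M)).obj
      (ModuleCat.of A (DMod f t))),
      (torBaseChangeIso A A[X] (DMod f t) (ModuleCat.of A M) hM j).hom.hom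
        ((((Tor (ModuleCat.{u} A) j).obj (ModuleCat.of A M)).map
          (ModuleCat.ofHom ((mulXD f t k).restrictScalars A))).hom w) =
      (((X : A[X]) ^ k) • ((torBaseChangeIso A A[X] (DMod f t) (ModuleCat.of A M) hM j).hom.hom w :
        ((Tor (ModuleCat.{u} A[X]) j).obj ((bc A A[X]).obj (ModuleCat.of A M))).obj
          (ModuleCat.of A[X] (DMod f t))) :) := by
    intro k w
    have h := torBaseChangeIso_naturality A A[X] (DMod f t) (DMod f t) (mulXD f t k)
      (ModuleCat.of A M) hM j
    have h' := congrArg (fun φ => φ.hom w) h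
    simp only [ModuleCat.hom_comp, LinearMap.comp_apply] at h'
    rw [h', ofHom_mulXD, tor_obj_map_smul_id]
    rfl
  have hD : ∀ (N : Type u) [AddCommGroup N] [Module A[X] N],
      KillsAt ((X : A[X]) ^ c) (j + 1) (DMod f t) N := fun N _ _ => hc N (j + 1) (by omega)
  ext z
  simp only [ModuleCat.hom_comp, LinearMap.comp_apply, ModuleCat.hom_zero, LinearMap.zero_apply]
  set w := (((Tor (ModuleCat.{u} A) j).obj (ModuleCat.of A M)).map
    (ModuleCat.ofHom (iotaD f t n))).hom z with hw
  -- `Xⁿ` kills `w`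
  have hwn : (((Tor (ModuleCat.{u} A) j).obj (ModuleCat.of A M)).map
      (ModuleCat.ofHom ((mulXD f t n).restrictScalars A))).hom w = 0 := by
    have hz : ModuleCat.ofHom (iotaD f t n) ≫
        ModuleCat.ofHom ((mulXD f t n).restrictScalars A) = 0 := by
      rw [← ModuleCat.ofHom_comp, hzero]
      rfl
    rw [hw, ← LinearMap.comp_apply, ← ModuleCat.hom_comp, ← Functor.map_comp, hz, tor_obj_map_zero]
    rfl
  have h1 := hnat n w
  rw [hwn, map_zero] at h1
  have h2 := kills_of_regular (X : A[X]) (DMod f t) c j hD (A[X] ⊗[A] M)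
    (isSMulRegular_X_tensor A M) _ n h1.symm
  have h3 := hnat c w
  rw [h2] at h3
  have h4 : (((Tor (ModuleCat.{u} A) j).obj (ModuleCat.of A M)).map
      (ModuleCat.ofHom ((mulXD f t c).restrictScalars A))).hom w = 0 := by
    have hinj : Function.Injective
        (torBaseChangeIso A A[X] (DMod f t) (ModuleCat.of A M) hM j).hom.hom :=
      (ModuleCat.mono_iff_injective _).mp inferInstance
    apply hinj
    rw [h3, map_zero]
  rw [h4, map_zero]

end Main

section Finset

variable {A : Type u} [CommRing A]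

/-- an ideal spanned by a finset of at most `t` elements is `idealOf f t` for some `f` -/
lemma exists_idealOf_eq (s : Finset A) (t : ℕ) (ht : s.card ≤ t) :
    ∃ f : ℕ → A, Ideal.span (s : Set A) = idealOf f t := by
  classical
  let e := s.equivFin
  refine ⟨fun l => if h : l < s.card then ((e.symm ⟨l, h⟩ : s) : A) else 0, ?_⟩
  apply le_antisymm
  · apply Ideal.span_le.mpr
    intro a ha
    apply Ideal.subset_span
    refine ⟨(e ⟨a, ha⟩ : ℕ), lt_of_lt_of_le (e ⟨a, ha⟩).2 ht, ?_⟩
    dsimp only
    rw [dif_pos (e ⟨a, ha⟩).2]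
    simp
  · apply Ideal.span_le.mpr
    rintro _ ⟨l, _, rfl⟩
    dsimp only
    split_ifs with h
    · exact Ideal.subset_span (e.symm ⟨l, h⟩).2
    · exact Ideal.zero_mem _

end Finset

end Groth.Agent.Lib.Helper29.TorProZero
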