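import Groth.Agent.Lib.Helper29.TorProZero6

/-!
# `I^c` kills `Tor_i(M, A/I^q)` for `i > t`, uniformly (helper29)
-/

set_option autoImplicit false
set_option backward.isDefEq.respectTransparency false
set_option backward.defeqAttrib.useBackward true

namespace Groth.Agent.Lib.Helper29.TorProZero

open CategoryTheory CategoryTheory.Limits
open Groth.Agent.Lib.Helper46 Groth.Agent.Lib.Helper46.TorShift Groth.Agent.Lib.Helper29.TorKill

universe u

section General

variable {R : Type u} [CommRing R]

/-- a scalar killing the second variable kills `Tor` -/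
lemma smul_tor_eq_zero_of_right (r : R) (X M : ModuleCat.{u} R) (i : ℕ)
    (h : ∀ m : M, r • m = 0) (y : ((Tor (ModuleCat.{u} R) i).obj X).obj M) : r • y = 0 := by
  have h0 : r • 𝟙 M = 0 := by
    ext m
    exact h m
  have h1 := tor_obj_map_smul_id r X M i
  rw [h0, tor_obj_map_zero] at h1
  have h2 : r • y = (r • 𝟙 (((Tor (ModuleCat.{u} R) i).obj X).obj M)).hom y := rfl
  rw [h2, ← h1]
  rfl

end General

variable {A : Type u} [CommRing A] [IsNoetherianRing A] (f : ℕ → A) (t : ℕ)

theorem exists_pow_kills_tor :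
    ∃ c : ℕ, ∀ (M : Type u) [AddCommGroup M] [Module A M] (i q : ℕ), t < i →
      ∀ a ∈ idealOf f t ^ c,
      ∀ x : T A i M (A ⧸ (idealOf f t ^ q : Submodule A A)), a • x = 0 := by
  obtain ⟨c, hc⟩ := tor_map_mapQ_eq_zero f t
  refine ⟨c, fun M _ _ i q hi a ha x => ?_⟩
  rcases lt_or_ge q c with hq | hq
  · -- `a` kills `A/I^q`
    apply smul_tor_eq_zero_of_right
    intro m
    obtain ⟨b, rfl⟩ := Submodule.Quotient.mk_surjective _ m
    rw [← Submodule.Quotient.mk_smul, Submodule.Quotient.mk_eq_zero]
    exact Ideal.mul_mem_right _ _ (Ideal.pow_le_pow_right hq.le ha)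
  · set π : (A ⧸ (idealOf f t ^ q : Submodule A A)) →ₗ[A]
        (A ⧸ (idealOf f t ^ (q - c) : Submodule A A)) :=
      Submodule.mapQ (idealOf f t ^ q) (idealOf f t ^ (q - c)) LinearMap.id
        (Ideal.pow_le_pow_right (Nat.sub_le q c)) with hπ
    have hπsurj : Function.Surjective π := by
      intro y
      obtain ⟨b, rfl⟩ := Submodule.Quotient.mk_surjective _ y
      exact ⟨Submodule.Quotient.mk b, rfl⟩
    have hex : Function.Exact (LinearMap.ker π).subtype π := LinearMap.exact_subtype_ker_map π
    have hS := sesSC_shortExact (LinearMap.ker π).subtype π (Submodule.subtype_injective _) hex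
      hπsurj
    have hex2 := TorLES2.exact₂₂ (ModuleCat.of A M) (sesSC (LinearMap.ker π).subtype π hex) hS i
    have h0 : (((Tor (ModuleCat.{u} A) i).obj (ModuleCat.of A M)).map
        (sesSC (LinearMap.ker π).subtype π hex).g).hom x = 0 := by
      have := hc M i hi q hq
      change (((Tor (ModuleCat.{u} A) i).obj (ModuleCat.of A M)).map (ModuleCat.ofHom π)).hom x = 0
      rw [hπ, this]
      rfl
    obtain ⟨y, hy⟩ := (ShortComplex.moduleCat_exact_iff _).mp hex2 x h0
    have hy' : (((Tor (ModuleCat.{u} A) i).obj (ModuleCat.of A M)).map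
        (sesSC (LinearMap.ker π).subtype π hex).f).hom y = x := hy
    have hky : a • y = 0 := by
      apply smul_tor_eq_zero_of_right
      rintro ⟨m, hm⟩
      apply Subtype.ext
      change a • m = 0
      obtain ⟨b, rfl⟩ := Submodule.Quotient.mk_surjective _ m
      rw [LinearMap.mem_ker, hπ, Submodule.mapQ_apply, LinearMap.id_apply,
        Submodule.Quotient.mk_eq_zero] at hm
      rw [← Submodule.Quotient.mk_smul, Submodule.Quotient.mk_eq_zero]
      have h1 : a • b ∈ idealOf f t ^ c * idealOf f t ^ (q - c) := Ideal.mul_mem_mul ha hm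
      rwa [← pow_add, Nat.add_sub_cancel' hq] at h1
    rw [← hy', ← map_smul, hky, map_zero]

end Groth.Agent.Lib.Helper29.TorProZero
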